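import Mathlib
import Cfsg.Agent.Lib.Helper6.ChevLGrade

/-!
# Borel–Tits for the Chevalley groups (S2154): definitions

Kempf–Rousseau style proof.  Real level functions on the coordinates of the adjoint module:
`Lof D lam s = ∑ k, lam k * rch D s k` (`rch` = helper6's positive multiple of the coefficient of the
root `s` at the `k`-th fundamental root), `LvR D L` = its extension by `0` to the Cartan coordinates,
`Sh l l' c A` = every non-zero entry `A a b` has `l' b + c ≤ l a`.
-/

set_option autoImplicit false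

namespace Cfsg.Agent.Helper18.BT

open Cfsg Cfsg.Lie Cfsg.Agent.Lead.Chev Cfsg.Agent.Helper6.ChevL

/-- the real level of the root `s` for the vector `lam` of (scaled) values on the fundamental roots -/
noncomputable def Lof (D : ChevalleyDatum) (lam : Fin D.rank → ℝ) (s : ℕ) : ℝ :=
  ∑ k : Fin D.rank, lam k * (rch D s k.val : ℝ)

/-- the level of a coordinate: `0` on the Cartan part, `L s` on `e_s` -/
def LvR (D : ChevalleyDatum) (L : ℕ → ℝ) : D.Idx → ℝ := Sum.elim (fun _ => 0) (fun s => L s.val)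

/-- every non-zero entry `A a b` satisfies `l' b + c ≤ l a` -/
def Sh {ι : Type*} {K : Type*} [Zero K] (l l' : ι → ℝ) (c : ℝ) (A : Matrix ι ι K) : Prop :=
  ∀ a b, A a b ≠ 0 → l' b + c ≤ l a

/-- every non-zero entry strictly raises the level -/
def SR {ι : Type*} {K : Type*} [Zero K] (l : ι → ℝ) (A : Matrix ι ι K) : Prop :=
  ∀ a b, A a b ≠ 0 → l b < l a

/-- every non-zero entry keeps the level -/
def KP {ι : Type*} {K : Type*} [Zero K] (l : ι → ℝ) (A : Matrix ι ι K) : Prop :=
  ∀ a b, A a b ≠ 0 → l a = l b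

/-- the admissible level functions on the roots: real combinations of the rows of Cartan integers -/
def IsLvl (D : ChevalleyDatum) (L : ℕ → ℝ) : Prop :=
  ∃ mu : Fin D.rank → ℝ, ∀ s < D.nroots, L s = ∑ j : Fin D.rank, mu j * (D.cartan j.val s : ℝ)

/-- the squared norm of a level function -/
noncomputable def nrm (D : ChevalleyDatum) (L : ℕ → ℝ) : ℝ := ∑ s ∈ Finset.range D.nroots, (L s) ^ 2

/-- `g⁻¹ R g` raises the `L`-level by at least `1` -/
def Feas (D : ChevalleyDatum) {F : Type*} [Field F] (R : Subgroup (GL D.Idx F)) (g : GL D.Idx F)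
    (L : ℕ → ℝ) : Prop :=
  ∀ x ∈ R, Sh (LvR D L) (LvR D L) 1 (((g⁻¹ * x * g : GL D.Idx F) : Matrix D.Idx D.Idx F) - 1)

/-- the set of fundamental roots on which `lam` vanishes -/
def Jof (D : ChevalleyDatum) (lam : Fin D.rank → ℝ) : Set ℕ := {k | ∃ h : k < D.rank, lam ⟨k, h⟩ = 0}

/-- `(g, lam)` is feasible of minimal norm -/
def IsMin (D : ChevalleyDatum) {F : Type*} [Field F] (R : Subgroup (GL D.Idx F)) (g : GL D.Idx F)
    (lam : Fin D.rank → ℝ) : Prop :=
  g ∈ D.group F ∧ (∀ k, 0 ≤ lam k) ∧ Feas D R g (Lof D lam) ∧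
    ∀ g' ∈ D.group F, ∀ lam' : Fin D.rank → ℝ, (∀ k, 0 ≤ lam' k) → Feas D R g' (Lof D lam') →
      nrm D (Lof D lam) ≤ nrm D (Lof D lam')

end Cfsg.Agent.Helper18.BT
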