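import Mathlib
import Cfsg.Prelude.Def_Blocks
import Cfsg.Agent.Lib.Helper5.Clifford

/-!
# The Clifford correspondence (helper18's shared library)

Built on helper5's Clifford library (`conjFun N g ϑ n = ϑ (g n g⁻¹)`, `resFun`).
-/

set_option autoImplicit false
set_option linter.style.haveILetI false
set_option linter.unusedSectionVars false

namespace Cfsg.Agent.Helper18

open Cfsg Cfsg.Agent.Helper24 Cfsg.Agent.Helper5

universe u

open scoped ComplexConjugate

section Inertia

variable {G : Type u} [Group G]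

/-- The inertia subgroup of a function on a normal subgroup. -/
def inertia (N : Subgroup G) [hN : N.Normal] (ϑ : N → ℂ) : Subgroup G where
  carrier := {g | conjFun N g ϑ = ϑ}
  mul_mem' := by
    intro a b ha hb
    simp only [Set.mem_setOf_eq] at ha hb ⊢
    rw [conjFun_mul, ha, hb]
  one_mem' := conjFun_one N ϑ
  inv_mem' := by
    intro a ha
    simp only [Set.mem_setOf_eq] at ha ⊢
    have := conjFun_inv_conjFun N a ϑ
    rw [ha] at this
    exact this

theorem mem_inertia (N : Subgroup G) [hN : N.Normal] (ϑ : N → ℂ) (g : G) :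
    g ∈ inertia N ϑ ↔ conjFun N g ϑ = ϑ := Iff.rfl

theorem le_inertia (N : Subgroup G) [hN : N.Normal] {ϑ : N → ℂ} (hϑ : IsClassFunction N ϑ) :
    N ≤ inertia N ϑ := by
  intro n hn
  rw [mem_inertia]
  funext m
  rw [conjFun_apply]
  have := hϑ m ⟨n, hn⟩
  rw [← this]
  congr 1

/-- The action of `G` on the irreducible characters of a normal subgroup. -/
@[reducible] def irrAct (N : Subgroup G) [hN : N.Normal] : MulAction G (IrrCharacter N) where
  smul g φ := ⟨conjFun N g⁻¹ φ.1, isIrrCharacter_conjFun N g⁻¹ φ.2⟩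
  one_smul φ := Subtype.ext (by
    show conjFun N (1 : G)⁻¹ φ.1 = φ.1
    rw [inv_one, conjFun_one])
  mul_smul g h φ := Subtype.ext (by
    show conjFun N (g * h)⁻¹ φ.1 = conjFun N g⁻¹ (conjFun N h⁻¹ φ.1)
    rw [mul_inv_rev, conjFun_mul])

/-- The number of distinct conjugates of `ϑ` is the index of its inertia subgroup. -/
theorem card_conjugates [Finite G] (N : Subgroup G) [hN : N.Normal] {ϑ : N → ℂ}
    (hϑ : IsIrrCharacter N ϑ) :
    Set.ncard {φ : IrrCharacter N | ∃ g : G, conjFun N g ϑ = (φ : N → ℂ)} =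
      (inertia N ϑ).index := by
  letI := irrAct N
  have h1 := MulAction.index_stabilizer G (⟨ϑ, hϑ⟩ : IrrCharacter N)
  have h2 : MulAction.stabilizer G (⟨ϑ, hϑ⟩ : IrrCharacter N) = inertia N ϑ := by
    ext g
    rw [MulAction.mem_stabilizer_iff, mem_inertia]
    constructor
    · intro h
      have h' : conjFun N g⁻¹ ϑ = ϑ := congrArg Subtype.val h
      have := conjFun_conjFun_inv N g ϑ
      rw [h'] at this
      exact this
    · intro h
      apply Subtype.ext
      show conjFun N g⁻¹ ϑ = ϑ
      have := conjFun_inv_conjFun N g ϑ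
      rw [h] at this
      exact this
  have h3 : MulAction.orbit G (⟨ϑ, hϑ⟩ : IrrCharacter N) =
      {φ : IrrCharacter N | ∃ g : G, conjFun N g ϑ = (φ : N → ℂ)} := by
    ext φ
    constructor
    · rintro ⟨g, hg⟩
      exact ⟨g⁻¹, congrArg Subtype.val hg⟩
    · rintro ⟨g, hg⟩
      refine ⟨g⁻¹, Subtype.ext ?_⟩
      show conjFun N g⁻¹⁻¹ ϑ = φ.1
      rw [inv_inv, hg]
  rw [← h3, ← h1, h2]

end Inertia

section Zero

variable {G : Type u} [Group G]

/-- A character of degree zero vanishes. -/
theorem char_eq_zero_of_one_eq_zero {ρ : G → ℂ} (hρ : IsCharacter G ρ) (h : ρ 1 = 0) : ρ = 0 := by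
  obtain ⟨n, σ, rfl⟩ := hρ
  rw [Representation.char_one] at h
  have hn : Module.finrank ℂ (Fin n → ℂ) = 0 := by exact_mod_cast h
  rw [Module.finrank_fin_fun] at hn
  subst hn
  funext g
  rw [Representation.character]
  have : σ g = 0 := by
    apply LinearMap.ext
    intro v
    exact Subsingleton.elim _ _
  rw [this, map_zero]
  rfl

end Zero

section Correspondence

variable {G : Type u} [Group G] [Fintype G]

/-- Degree of an irreducible character in terms of a constituent of its restriction to a normal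
subgroup: `χ(1) = e · [G : T] · ϑ(1)`. -/
theorem degree_eq_of_constituent (N : Subgroup G) [hN : N.Normal] [Fintype N] {χ : G → ℂ}
    (hχ : IsIrrCharacter G χ) {ϑ : N → ℂ} (hϑ : IsIrrCharacter N ϑ)
    (hcon : classInner (fun n : N => χ n) ϑ ≠ 0) :
    χ 1 = classInner (fun n : N => χ n) ϑ * ((inertia N ϑ).index : ℂ) * ϑ 1 := by
  classical
  letI : Fintype (IrrCharacter N) := irrFintype
  set e := classInner (fun n : N => χ n) ϑ with he
  set S : Set (IrrCharacter N) := {φ : IrrCharacter N | ∃ g : G, conjFun N g ϑ = (φ : N → ℂ)}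
    with hS
  have hχN : IsCharacter N (fun n : N => χ n) :=
    isCharacter_restrict N (isCharacter_of_isIrrCharacter hχ)
  have hcf := isClassFunction_of_isIrrCharacter hχ
  obtain ⟨-, hdec⟩ := isCharacter_decomp hχN
  have hcoef : ∀ ψ : IrrCharacter N, classInner (fun n : N => χ n) (ψ : N → ℂ) =
      if ψ ∈ S then e else 0 := by
    intro ψ
    split_ifs with hψ
    · obtain ⟨g, hg⟩ := hψ
      rw [← hg, classInner_restrict_conjFun N g hcf ϑ]
    · by_contra hne
      obtain ⟨x, hx⟩ := clifford_conj N hχ hϑ ψ.2 hcon hne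
      exact hψ ⟨x, hx⟩
  have h1 := congrFun hdec 1
  simp only [Finset.sum_apply, Pi.smul_apply, smul_eq_mul, hcoef] at h1
  have h2 : ∀ ψ : IrrCharacter N, (if ψ ∈ S then e else 0) * (ψ : N → ℂ) 1 =
      if ψ ∈ S then e * ϑ 1 else 0 := by
    intro ψ
    split_ifs with hψ
    · obtain ⟨g, hg⟩ := hψ
      rw [← hg, conjFun_apply]
      congr 2
      apply Subtype.ext
      simp
    · rw [zero_mul]
  simp only [h2] at h1
  rw [← Finset.sum_filter, Finset.sum_const, nsmul_eq_mul] at h1
  have h3 : (Finset.univ.filter (fun ψ : IrrCharacter N => ψ ∈ S)).card = (inertia N ϑ).index := by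
    rw [← card_conjugates N hϑ, Set.ncard_eq_toFinset_card']
    congr 1
    ext ψ
    simp [hS]
  have h4 : χ 1 = χ ((1 : N) : G) := rfl
  rw [h4, h1, h3]
  ring

/-- **Clifford correspondence** (existence): an irreducible character `χ` of `G` lying over the
irreducible character `ϑ` of the normal subgroup `N` is induced from an irreducible character
`ψ` of the inertia subgroup whose restriction to `N` is a multiple of `ϑ`. -/
theorem clifford_correspondence (N : Subgroup G) [hN : N.Normal] [Fintype N] {χ : G → ℂ}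
    (hχ : IsIrrCharacter G χ) {ϑ : N → ℂ} (hϑ : IsIrrCharacter N ϑ)
    (hcon : classInner (fun n : N => χ n) ϑ ≠ 0) :
    ∃ ψ : inertia N ϑ → ℂ, IsIrrCharacter (inertia N ϑ) ψ ∧ indFun (inertia N ϑ) ψ = χ ∧
      ∃ f : ℕ, f ≠ 0 ∧
        resFun (le_inertia N (isClassFunction_of_isIrrCharacter hϑ)) ψ = (f : ℂ) • ϑ := by
  classical
  set T := inertia N ϑ with hT
  have hNT : N ≤ T := le_inertia N (isClassFunction_of_isIrrCharacter hϑ)
  letI : Fintype T := Fintype.ofFinite T
  letI : Fintype (IrrCharacter N) := irrFintype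
  letI : Fintype (IrrCharacter T) := irrFintype
  have hϑc := isCharacter_of_isIrrCharacter hϑ
  have hχc := isCharacter_of_isIrrCharacter hχ
  have hχT : IsCharacter T (fun t : T => χ t) := isCharacter_restrict T hχc
  have hχN : IsCharacter N (fun n : N => χ n) := isCharacter_restrict N hχc
  -- Step A: find ψ
  obtain ⟨hm, hdecT⟩ := isCharacter_decomp hχT
  have hresT : resFun hNT (fun t : T => χ t) = fun n : N => χ n := resFun_restrict hNT χ
  have hsumN : (fun n : N => χ n) = ∑ ψ : IrrCharacter T,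
      classInner (fun t : T => χ t) (ψ : T → ℂ) • resFun hNT (ψ : T → ℂ) := by
    rw [← hresT]
    conv_lhs => rw [hdecT]
    rw [resFun_sum]
    refine Finset.sum_congr rfl fun ψ _ => ?_
    rw [resFun_smul]
  have hinnerN : classInner (fun n : N => χ n) ϑ = ∑ ψ : IrrCharacter T,
      classInner (fun t : T => χ t) (ψ : T → ℂ) * classInner (resFun hNT (ψ : T → ℂ)) ϑ := by
    conv_lhs => rw [hsumN]
    rw [classInner_sum_left]
    refine Finset.sum_congr rfl fun ψ _ => ?_
    rw [classInner_smul_left]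
  rw [hinnerN] at hcon
  obtain ⟨ψ, -, hψne⟩ := Finset.exists_ne_zero_of_sum_ne_zero hcon
  have hmψ : classInner (fun t : T => χ t) (ψ : T → ℂ) ≠ 0 := left_ne_zero_of_mul hψne
  have hfψ : classInner (resFun hNT (ψ : T → ℂ)) ϑ ≠ 0 := right_ne_zero_of_mul hψne
  have hψc := isCharacter_of_isIrrCharacter ψ.2
  have hψN : IsCharacter N (resFun hNT (ψ : T → ℂ)) := isCharacter_resFun hNT hψc
  -- Step B: the restriction of ψ is a multiple of ϑ
  obtain ⟨f, hf⟩ := classInner_char_nat hψN hϑc
  have hf0 : f ≠ 0 := by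
    rintro rfl
    exact hfψ (by simpa using hf)
  have hresψ : resFun hNT (ψ : T → ℂ) = (f : ℂ) • ϑ := by
    obtain ⟨-, hdecN⟩ := isCharacter_decomp hψN
    conv_lhs => rw [hdecN]
    rw [Finset.sum_eq_single (⟨ϑ, hϑ⟩ : IrrCharacter N)]
    · simp only
      rw [hf]
    · intro φ _ hne
      have : classInner (resFun hNT (ψ : T → ℂ)) (φ : N → ℂ) = 0 := by
        by_contra h2
        obtain ⟨x, hxT, hx⟩ := clifford_conj_rel N T hNT ψ.2 hϑ φ.2 hfψ h2
        have hx' : conjFun N x ϑ = ϑ := (mem_inertia N ϑ x).mp hxT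
        rw [hx'] at hx
        exact hne (Subtype.ext hx.symm)
      rw [this, zero_smul]
    · intro h; exact absurd (Finset.mem_univ _) h
  -- Step C: degrees
  obtain ⟨e, he⟩ := classInner_char_nat hχN hϑc
  obtain ⟨rest, hrest, hχrest⟩ := exists_add_of_constituent hχT ψ.2 hmψ
  have hfe : f ≤ e := by
    have h1 : (fun n : N => χ n) = resFun hNT (ψ : T → ℂ) + resFun hNT rest := by
      rw [← hresT, hχrest, resFun_add]
    obtain ⟨r, hr⟩ := classInner_char_nat (isCharacter_resFun hNT hrest) hϑc
    have h2 : (e : ℂ) = f + r := by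
      rw [← he, h1, classInner_add_left, hf, hr]
    have : e = f + r := by exact_mod_cast h2
    omega
  have hdegχ := degree_eq_of_constituent N hχ hϑ (by rw [hinnerN]; exact hcon)
  rw [he] at hdegχ
  have hind : IsCharacter G (indFun T (ψ : T → ℂ)) := isCharacter_indFun T hψc
  have hfrob : classInner (indFun T (ψ : T → ℂ)) χ ≠ 0 := by
    rw [frobenius_reciprocity T (ψ : T → ℂ) (isClassFunction_of_isIrrCharacter hχ),
      classInner_char_comm hψc hχT]
    exact hmψ
  obtain ⟨rest', hrest', hindrest⟩ := exists_add_of_constituent hind hχ hfrob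
  obtain ⟨d', hd'⟩ := char_one_eq hrest'
  obtain ⟨t, htpos, ht⟩ := irr_one_eq hϑ
  have hind1 : indFun T (ψ : T → ℂ) 1 = (T.index : ℂ) * ((f : ℂ) * ϑ 1) := by
    rw [indFun_one]
    congr 1
    have := congrFun hresψ 1
    rw [resFun_apply, Pi.smul_apply, smul_eq_mul] at this
    rw [← this]
    rfl
  have h1 := congrFun hindrest 1
  rw [Pi.add_apply, hind1, hdegχ, hd', ht] at h1
  have h2 : T.index * (f * t) = e * T.index * t + d' := by exact_mod_cast h1
  have h3 : T.index * (f * t) ≤ e * T.index * t := by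
    have : f * t ≤ e * t := Nat.mul_le_mul_right t hfe
    calc T.index * (f * t) ≤ T.index * (e * t) := Nat.mul_le_mul_left _ this
      _ = e * T.index * t := by ring
  have hd0 : d' = 0 := by omega
  rw [hd0, Nat.cast_zero] at hd'
  have hrest0 := char_eq_zero_of_one_eq_zero hrest' hd'
  refine ⟨ψ, ψ.2, ?_, f, hf0, hresψ⟩
  rw [hindrest, hrest0, add_zero]

end Correspondence

end Cfsg.Agent.Helper18
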