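import Mathlib
import Cfsg.Prelude.Def_Blocks
import Cfsg.Agent.Lib.Helper18.CliffordCorr
import Cfsg.Agent.Lib.Helper5.Clifford2
import Cfsg.Agent.Lib.Helper23.BlockIdem

/-!
# Blocks and normal subgroups of order prime to `p` (helper18's library)

For a normal subgroup `N` of order prime to `p` and `θ ∈ Irr(N)`, the set of irreducible characters
of `G` lying over `θ` is a union of `p`-blocks.
-/

set_option autoImplicit false

namespace Cfsg.Agent.Helper18

open Cfsg Cfsg.Agent.Helper24 Cfsg.Agent.Helper23.Blk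
open scoped ComplexConjugate

universe u

section

variable {G : Type u} [Group G] [Fintype G] (N : Subgroup G) [hN : N.Normal] [Fintype N]

/-- The sum of all conjugates of `θ`, divided by the order of the inertia group, takes algebraic
integer values. -/
theorem exists_isIntegral_sum_conjFun {θ : N → ℂ} (hθ : IsIrrCharacter N θ) (n : N) :
    ∃ I : ℂ, IsIntegral ℤ I ∧ (∑ x : G, Cfsg.Agent.Helper5.conjFun N x θ) n =
      (Nat.card (inertia N θ) : ℂ) * I := by
  classical
  haveI : Fintype (G ⧸ inertia N θ) := Fintype.ofFinite _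
  have hθc := isCharacter_of_isIrrCharacter hθ
  obtain ⟨F, hFdef⟩ : ∃ F : G → ℂ, F = fun x => Cfsg.Agent.Helper5.conjFun N x⁻¹ θ n := ⟨_, rfl⟩
  have hF : ∀ x : G, ∀ h ∈ inertia N θ, F (x * h) = F x := by
    intro x h hh
    rw [hFdef]
    show Cfsg.Agent.Helper5.conjFun N (x * h)⁻¹ θ n = Cfsg.Agent.Helper5.conjFun N x⁻¹ θ n
    rw [mul_inv_rev, Cfsg.Agent.Helper5.conjFun_mul]
    have : Cfsg.Agent.Helper5.conjFun N h⁻¹ θ = θ :=
      (mem_inertia N θ h⁻¹).mp ((inertia N θ).inv_mem hh)
    rw [this]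
  have h1 : (∑ x : G, Cfsg.Agent.Helper5.conjFun N x θ) n = ∑ x : G, F x := by
    rw [Finset.sum_apply, hFdef]
    exact (Fintype.sum_equiv (Equiv.inv G) _ _ (fun x => by simp)).symm
  rw [h1, Cfsg.Agent.Helper5.sum_eq_card_mul_sum_quotient (inertia N θ) F hF]
  refine ⟨∑ q : G ⧸ inertia N θ, F q.out, ?_, rfl⟩
  refine IsIntegral.sum _ fun q _ => ?_
  rw [hFdef]
  show IsIntegral ℤ (Cfsg.Agent.Helper5.conjFun N (q.out)⁻¹ θ n)
  rw [Cfsg.Agent.Helper5.conjFun_apply]
  exact isIntegral_of_isCharacter hθc _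

/-- The central idempotent of the characters over `θ` has local integer coefficients when the order
of `N` is prime to `p`. -/
theorem memLocalRing_blockCoeff_over {p : ℕ} {M : Ideal AlgInt} (hM : IsPModular p M)
    (hpN : ¬ p ∣ Nat.card N) {θ : N → ℂ} (hθ : IsIrrCharacter N θ) (g : G) :
    MemLocalRing M (blockCoeff
      {χ : IrrCharacter G | classInner (fun n : N => (χ : G → ℂ) n) θ ≠ 0} g) := by
  classical
  letI : Fintype (IrrCharacter G) := irrFintype
  letI : Fintype (IrrCharacter N) := irrFintype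
  haveI : M.IsPrime := isPrime_of_isPModular hM
  haveI : Fintype (inertia N θ) := Fintype.ofFinite _
  have hθc := isCharacter_of_isIrrCharacter hθ
  have hG0 : (Nat.card G : ℂ) ≠ 0 := by
    have : Nat.card G ≠ 0 := Nat.card_pos.ne'
    exact_mod_cast this
  have hT0 : (Nat.card (inertia N θ) : ℂ) ≠ 0 := by
    have : Nat.card (inertia N θ) ≠ 0 := Nat.card_pos.ne'
    exact_mod_cast this
  have hN0 : (Nat.card N : ℂ) ≠ 0 := by
    have : Nat.card N ≠ 0 := Nat.card_pos.ne'
    exact_mod_cast this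
  have hTG : (Nat.card (inertia N θ) : ℂ) * ((inertia N θ).index : ℂ) = (Nat.card G : ℂ) := by
    have := Subgroup.card_mul_index (inertia N θ)
    exact_mod_cast this
  have hNG : (Nat.card N : ℂ) * (N.index : ℂ) = (Nat.card G : ℂ) := by
    have := Subgroup.card_mul_index N
    exact_mod_cast this
  have hNi0 : (N.index : ℂ) ≠ 0 := by
    intro h
    rw [h, mul_zero] at hNG
    exact hG0 hNG.symm
  obtain ⟨c, hc⟩ : ∃ c : ℂ, c = θ 1 / (Nat.card (inertia N θ) : ℂ) := ⟨_, rfl⟩
  obtain ⟨Φ, hΦ⟩ : ∃ Φ : N → ℂ, Φ = c • ∑ x : G, Cfsg.Agent.Helper5.conjFun N x θ := ⟨_, rfl⟩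
  obtain ⟨A, hA⟩ : ∃ A : Set (IrrCharacter G),
      A = {χ : IrrCharacter G | classInner (fun n : N => (χ : G → ℂ) n) θ ≠ 0} := ⟨_, rfl⟩
  rw [← hA]
  -- invariance of `Φ`
  have hinv : ∀ y : G, Cfsg.Agent.Helper5.conjFun N y Φ = Φ := by
    intro y
    funext n
    rw [Cfsg.Agent.Helper5.conjFun_apply, hΦ]
    simp only [Pi.smul_apply, Finset.sum_apply]
    congr 1
    have : ∀ x : G, Cfsg.Agent.Helper5.conjFun N x θ
        ⟨y * (n : G) * y⁻¹, Subgroup.Normal.conj_mem hN (n : G) n.2 y⟩ =
        Cfsg.Agent.Helper5.conjFun N (x * y) θ n := by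
      intro x
      rw [Cfsg.Agent.Helper5.conjFun_apply, Cfsg.Agent.Helper5.conjFun_apply]
      congr 1
      apply Subtype.ext
      simp [mul_assoc]
    simp only [this]
    exact Fintype.sum_equiv (Equiv.mulRight y) _ _ (fun x => rfl)
  -- the coefficients of the induced function
  have hcoef : ∀ μ : IrrCharacter G, classInner (indFun N Φ) (μ : G → ℂ) =
      if μ ∈ A then (μ : G → ℂ) 1 else 0 := by
    intro μ
    have hμcf := isClassFunction_of_isIrrCharacter μ.2
    obtain ⟨e, he⟩ := classInner_char_nat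
      (isCharacter_restrict N (isCharacter_of_isIrrCharacter μ.2)) hθc
    rw [frobenius_reciprocity N Φ hμcf, hΦ, classInner_smul_left, classInner_sum_left]
    have h1 : ∀ x : G, classInner (Cfsg.Agent.Helper5.conjFun N x θ)
        (fun n : N => (μ : G → ℂ) n) = (e : ℂ) := by
      intro x
      rw [← classInner_conj_symm, Cfsg.Agent.Helper5.classInner_restrict_conjFun N x hμcf θ, he,
        Complex.conj_natCast]
    simp only [h1, Finset.sum_const, Finset.card_univ, nsmul_eq_mul]
    rw [← Nat.card_eq_fintype_card]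
    by_cases hμA : μ ∈ A
    · rw [if_pos hμA]
      have hcon : classInner (fun n : N => (μ : G → ℂ) n) θ ≠ 0 := by
        rw [hA] at hμA
        exact hμA
      rw [degree_eq_of_constituent N μ.2 hθ hcon, he, hc, ← hTG]
      field_simp
    · rw [if_neg hμA]
      have : classInner (fun n : N => (μ : G → ℂ) n) θ = 0 := by
        rw [hA] at hμA
        by_contra h
        exact hμA h
      rw [he] at this
      rw [this, mul_zero, mul_zero]
  -- the idempotent coefficient
  have hblock : blockCoeff A g = (Nat.card G : ℂ)⁻¹ * conj (indFun N Φ g) := by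
    unfold blockCoeff
    congr 1
    rw [finsum_mem_def, finsum_eq_sum_of_fintype]
    have hexp := classFunction_expansion (isClassFunction_indFun N Φ)
    have h2 : indFun N Φ g = ∑ μ : IrrCharacter G,
        (if μ ∈ A then (μ : G → ℂ) 1 else 0) * (μ : G → ℂ) g := by
      conv_lhs => rw [hexp]
      rw [Finset.sum_apply]
      refine Finset.sum_congr rfl fun μ _ => ?_
      rw [Pi.smul_apply, hcoef μ, smul_eq_mul]
    rw [h2, map_sum]
    refine Finset.sum_congr rfl fun μ _ => ?_
    by_cases hμA : μ ∈ A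
    · rw [Set.indicator_of_mem hμA, if_pos hμA, map_mul, conj_irr_one μ.2]
    · rw [Set.indicator_of_notMem hμA, if_neg hμA, zero_mul, map_zero]
  rw [hblock]
  by_cases hgN : g ∈ N
  · have h3 : indFun N Φ g = (N.index : ℂ) * Φ ⟨g, hgN⟩ := by
      have := congrFun (Cfsg.Agent.Helper5.indFun_normal_restrict_of_invariant N Φ hinv) ⟨g, hgN⟩
      rw [Pi.smul_apply, smul_eq_mul] at this
      exact this
    obtain ⟨I, hI, hIeq⟩ := exists_isIntegral_sum_conjFun N hθ ⟨g, hgN⟩
    have h4 : Φ ⟨g, hgN⟩ = θ 1 * I := by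
      rw [hΦ, Pi.smul_apply, smul_eq_mul, hIeq, hc]
      field_simp
    obtain ⟨d, -, hd⟩ := irr_one_eq hθ
    have h5 : (Nat.card G : ℂ)⁻¹ * conj (indFun N Φ g) =
        (Nat.card N : ℂ)⁻¹ * ((d : ℂ) * conj I) := by
      rw [h3, h4, hd, ← hNG]
      simp only [map_mul, Complex.conj_natCast]
      field_simp
    rw [h5]
    apply memLocalRing_mul
    · apply memLocalRing_inv (memLocalRing_natCast _)
      rw [memLocalIdeal_natCast_iff hM]
      exact hpN
    · apply memLocalRing_mul (memLocalRing_natCast _)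
      apply memLocalRing_of_isIntegral _ ne_top
      have := hI.map (starRingEnd ℂ).toIntAlgHom
      exact this
  · rw [Cfsg.Agent.Helper5.indFun_normal_of_not_mem N Φ hgN, map_zero, mul_zero]
    exact memLocalRing_zero ne_top

/-- Characters in the same block lie over the same irreducible characters of a normal subgroup of
order prime to `p`. -/
theorem over_of_sameBlock {p : ℕ} {M : Ideal AlgInt} (hM : IsPModular p M)
    (hpN : ¬ p ∣ Nat.card N) {θ : N → ℂ} (hθ : IsIrrCharacter N θ) {χ ψ : IrrCharacter G}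
    (h : SameBlock M (χ : G → ℂ) (ψ : G → ℂ))
    (hχ : classInner (fun n : N => (χ : G → ℂ) n) θ ≠ 0) :
    classInner (fun n : N => (ψ : G → ℂ) n) θ ≠ 0 := by
  have hsub := blockOf_subset_of_memLocalRing (isPrime_of_isPModular hM)
    (memLocalRing_blockCoeff_over N hM hpN hθ)
    (χ := χ) hχ
  exact hsub h

end

end Cfsg.Agent.Helper18
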