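import Mathlib
import Cfsg.Prelude.Def_Blocks
import Cfsg.Agent.Lib.Helper18.BlockOver

/-!
# Blocks and normal subgroups: covering (helper18's library)

For a normal subgroup `N` of `G`, the blocks of `N` covered by a block of `G` form a single
`G`-orbit.  The central tool is the idempotent of a `G`-stable union of blocks of `N`, which is
also the idempotent of the set of irreducible characters of `G` lying over it.
-/

set_option autoImplicit false

namespace Cfsg.Agent.Helper18

open Cfsg Cfsg.Agent.Helper24 Cfsg.Agent.Helper23.Blk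
open scoped ComplexConjugate

universe u

section Closed

variable {H : Type u} [Group H] [Finite H] {M : Ideal AlgInt}

theorem blockCoeff_empty (h : H) : blockCoeff (∅ : Set (IrrCharacter H)) h = 0 := by
  unfold blockCoeff
  simp

theorem blockCoeff_union {U V : Set (IrrCharacter H)} (hd : Disjoint U V) (h : H) :
    blockCoeff (U ∪ V) h = blockCoeff U h + blockCoeff V h := by
  classical
  haveI : Fintype H := Fintype.ofFinite H
  letI : Fintype (IrrCharacter H) := irrFintype
  unfold blockCoeff
  rw [finsum_mem_union hd (Set.toFinite _) (Set.toFinite _), mul_add]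

/-- A set of irreducible characters that is a union of blocks has an idempotent with local
integer coefficients. -/
theorem memLocalRing_blockCoeff_of_closed (hMp : M.IsPrime) {U : Set (IrrCharacter H)}
    (hU : ∀ θ ∈ U, blockOf M (θ : H → ℂ) ⊆ U) (h : H) : MemLocalRing M (blockCoeff U h) := by
  classical
  haveI : Fintype H := Fintype.ofFinite H
  letI : Fintype (IrrCharacter H) := irrFintype
  haveI := hMp
  obtain ⟨n, hn⟩ : ∃ n, U.ncard = n := ⟨_, rfl⟩
  induction n using Nat.strong_induction_on generalizing U with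
  | _ n ih =>
    by_cases hne : U = ∅
    · rw [hne, blockCoeff_empty]
      exact memLocalRing_zero ne_top
    · obtain ⟨θ, hθ⟩ := Set.nonempty_iff_ne_empty.mpr hne
      have hBU := hU θ hθ
      have hθB : θ ∈ blockOf M (θ : H → ℂ) := mem_blockOf_self θ
      have hU' : ∀ θ' ∈ U \ blockOf M (θ : H → ℂ),
          blockOf M (θ' : H → ℂ) ⊆ U \ blockOf M (θ : H → ℂ) := by
        intro θ' hθ' θ'' hθ''
        refine ⟨hU θ' hθ'.1 hθ'', fun hB => hθ'.2 ?_⟩
        exact sameBlock_trans hB (sameBlock_symm hθ'')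
      have hlt : (U \ blockOf M (θ : H → ℂ)).ncard < n := by
        rw [← hn]
        apply Set.ncard_lt_ncard _ (Set.toFinite _)
        exact ⟨Set.diff_subset, fun hsub => (hsub hθ).2 hθB⟩
      have hsplit : U = blockOf M (θ : H → ℂ) ∪ (U \ blockOf M (θ : H → ℂ)) := by
        rw [Set.union_diff_cancel hBU]
      rw [hsplit, blockCoeff_union Set.disjoint_sdiff_right]
      exact memLocalRing_add (memLocalRing_blockCoeff hMp ⟨θ, rfl⟩ h) (ih _ hlt hU' rfl)

end Closed

section Conj

theorem centralChar_comp_equiv {H K : Type u} [Group H] [Group K] (e : H ≃* K) (θ : K → ℂ)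
    (h : H) : centralChar (θ ∘ e) h = centralChar θ (e h) := by
  unfold centralChar
  have hidx : (Subgroup.centralizer ({h} : Set H)).index =
      (Subgroup.centralizer ({e h} : Set K)).index := by
    have hcomap : (Subgroup.centralizer ({e h} : Set K)).comap e.toMonoidHom =
        Subgroup.centralizer ({h} : Set H) := by
      ext x
      simp only [Subgroup.mem_comap, Subgroup.mem_centralizer_iff, Set.mem_singleton_iff,
        forall_eq, MulEquiv.coe_toMonoidHom]
      constructor
      · intro hx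
        apply e.injective
        simpa using hx
      · intro hx
        have := congrArg e hx
        simpa using this
    rw [← hcomap, Subgroup.index_comap_of_surjective _ e.surjective]
  rw [hidx]
  simp

variable {G : Type u} [Group G] (N : Subgroup G) [hN : N.Normal] {M : Ideal AlgInt}

theorem centralChar_conjFun (g : G) (θ : N → ℂ) (n : N) :
    centralChar (Cfsg.Agent.Helper5.conjFun N g θ) n =
      centralChar θ ⟨g * n * g⁻¹, hN.conj_mem (n : G) n.2 g⟩ := by
  rw [Cfsg.Agent.Helper5.conjFun_eq_comp, centralChar_comp_equiv]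
  rfl

theorem sameBlock_conjFun (g : G) {θ₁ θ₂ : N → ℂ} (h : SameBlock M θ₁ θ₂) :
    SameBlock M (Cfsg.Agent.Helper5.conjFun N g θ₁) (Cfsg.Agent.Helper5.conjFun N g θ₂) := by
  intro n
  rw [centralChar_conjFun, centralChar_conjFun]
  exact h _

/-- Conjugation acting on the irreducible characters of a normal subgroup. -/
noncomputable def conjIrr (g : G) (θ : IrrCharacter N) : IrrCharacter N :=
  ⟨Cfsg.Agent.Helper5.conjFun N g θ, Cfsg.Agent.Helper5.isIrrCharacter_conjFun N g θ.2⟩

theorem conjIrr_coe (g : G) (θ : IrrCharacter N) :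
    ((conjIrr N g θ : IrrCharacter N) : N → ℂ) = Cfsg.Agent.Helper5.conjFun N g θ := rfl

theorem conjIrr_inv_conjIrr (g : G) (θ : IrrCharacter N) : conjIrr N g⁻¹ (conjIrr N g θ) = θ :=
  Subtype.ext (Cfsg.Agent.Helper5.conjFun_inv_conjFun N g θ)

theorem conjIrr_conjIrr_inv (g : G) (θ : IrrCharacter N) : conjIrr N g (conjIrr N g⁻¹ θ) = θ :=
  Subtype.ext (Cfsg.Agent.Helper5.conjFun_conjFun_inv N g θ)

theorem conjIrr_mul (g h : G) (θ : IrrCharacter N) :
    conjIrr N (g * h) θ = conjIrr N h (conjIrr N g θ) :=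
  Subtype.ext (Cfsg.Agent.Helper5.conjFun_mul N g h θ)

theorem conjIrr_one (θ : IrrCharacter N) : conjIrr N 1 θ = θ :=
  Subtype.ext (Cfsg.Agent.Helper5.conjFun_one N θ)

theorem conjIrr_apply_one (g : G) (θ : IrrCharacter N) :
    ((conjIrr N g θ : IrrCharacter N) : N → ℂ) 1 = (θ : N → ℂ) 1 := by
  rw [conjIrr_coe, Cfsg.Agent.Helper5.conjFun_apply]
  have h1 : (⟨g * ((1 : N) : G) * g⁻¹, hN.conj_mem ((1 : N) : G) (1 : N).2 g⟩ : N) = 1 :=
    Subtype.ext (by simp)
  rw [h1]

/-- Conjugation by `g` as a permutation of the irreducible characters. -/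
noncomputable def conjIrrEquiv (g : G) : IrrCharacter N ≃ IrrCharacter N where
  toFun := conjIrr N g
  invFun := conjIrr N g⁻¹
  left_inv θ := conjIrr_inv_conjIrr N g θ
  right_inv θ := conjIrr_conjIrr_inv N g θ

theorem conjIrrEquiv_apply (g : G) (θ : IrrCharacter N) : conjIrrEquiv N g θ = conjIrr N g θ := rfl

/-- The set of irreducible characters of `G` lying over some member of `U`. -/
def overSet [Fintype N] (U : Set (IrrCharacter N)) : Set (IrrCharacter G) :=
  {χ | ∃ θ ∈ U, classInner (fun n : N => (χ : G → ℂ) n) (θ : N → ℂ) ≠ 0}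

/-- The union of the conjugates of a set of irreducible characters. -/
def orbitSet (b : Set (IrrCharacter N)) : Set (IrrCharacter N) :=
  {φ | ∃ g : G, ∃ θ ∈ b, φ = conjIrr N g θ}

theorem subset_orbitSet (b : Set (IrrCharacter N)) : b ⊆ orbitSet N b :=
  fun θ hθ => ⟨1, θ, hθ, (conjIrr_one N θ).symm⟩

theorem conjIrr_mem_orbitSet {b : Set (IrrCharacter N)} (g : G) {θ : IrrCharacter N}
    (hθ : θ ∈ orbitSet N b) : conjIrr N g θ ∈ orbitSet N b := by
  obtain ⟨x, θ', hθ', rfl⟩ := hθ
  exact ⟨x * g, θ', hθ', (conjIrr_mul N x g θ').symm⟩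

theorem orbitSet_closed [Finite G] (hMp : M.IsPrime) {b : Set (IrrCharacter N)}
    (hb : IsPBlock M b) :
    ∀ θ ∈ orbitSet N b, blockOf M (θ : N → ℂ) ⊆ orbitSet N b := by
  haveI := hMp
  haveI : Fintype N := Fintype.ofFinite N
  obtain ⟨θ₀, rfl⟩ := hb
  rintro θ ⟨g, θ', hθ', rfl⟩ φ hφ
  refine ⟨g, conjIrr N g⁻¹ φ, ?_, (conjIrr_conjIrr_inv N g φ).symm⟩
  have h1 : SameBlock M ((conjIrr N g⁻¹ (conjIrr N g θ') : IrrCharacter N) : N → ℂ)
      ((conjIrr N g⁻¹ φ : IrrCharacter N) : N → ℂ) := sameBlock_conjFun N g⁻¹ hφ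
  rw [conjIrr_inv_conjIrr] at h1
  exact sameBlock_trans hθ' h1

end Conj

section Cover

variable {G : Type u} [Group G] [Fintype G] (N : Subgroup G) [hN : N.Normal] [Fintype N]

/-- The idempotent of the characters over a `G`-stable set `U` of irreducible characters of the
normal subgroup `N` is the idempotent of `U`, extended by zero. -/
theorem blockCoeff_overSet {U : Set (IrrCharacter N)}
    (hU : ∀ g : G, ∀ θ ∈ U, conjIrr N g θ ∈ U) (g : G) [Decidable (g ∈ N)] :
    blockCoeff (overSet N U) g = if h : g ∈ N then blockCoeff U ⟨g, h⟩ else 0 := by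
  classical
  letI : Fintype (IrrCharacter G) := irrFintype
  letI : Fintype (IrrCharacter N) := irrFintype
  have hG0 : (Nat.card G : ℂ) ≠ 0 := by
    have : Nat.card G ≠ 0 := Nat.card_pos.ne'
    exact_mod_cast this
  have hN0 : (Nat.card N : ℂ) ≠ 0 := by
    have : Nat.card N ≠ 0 := Nat.card_pos.ne'
    exact_mod_cast this
  have hNG : (Nat.card N : ℂ) * (N.index : ℂ) = (Nat.card G : ℂ) := by
    have := Subgroup.card_mul_index N
    exact_mod_cast this
  obtain ⟨c, hc⟩ : ∃ c : IrrCharacter N → ℂ,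
      c = fun θ => if θ ∈ U then (θ : N → ℂ) 1 else 0 := ⟨_, rfl⟩
  obtain ⟨Φ, hΦ⟩ : ∃ Φ : N → ℂ, Φ = ∑ θ : IrrCharacter N, c θ • (θ : N → ℂ) := ⟨_, rfl⟩
  obtain ⟨A, hA⟩ : ∃ A : Set (IrrCharacter G), A = overSet N U := ⟨_, rfl⟩
  rw [← hA]
  have hcinv : ∀ (y : G) (θ : IrrCharacter N), c (conjIrr N y θ) = c θ := by
    intro y θ
    rw [hc]
    by_cases hθ : θ ∈ U
    · simp only [if_pos hθ, if_pos (hU y θ hθ), conjIrr_apply_one]
    · have hnot : conjIrr N y θ ∉ U := fun h => hθ (by
        have := hU y⁻¹ _ h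
        rwa [conjIrr_inv_conjIrr] at this)
      simp only [if_neg hθ, if_neg hnot]
  have hinv : ∀ y : G, Cfsg.Agent.Helper5.conjFun N y Φ = Φ := by
    intro y
    rw [hΦ]
    have h1 : Cfsg.Agent.Helper5.conjFun N y (∑ θ : IrrCharacter N, c θ • (θ : N → ℂ)) =
        ∑ θ : IrrCharacter N, c θ • Cfsg.Agent.Helper5.conjFun N y (θ : N → ℂ) := by
      funext n
      simp [Cfsg.Agent.Helper5.conjFun_apply, Finset.sum_apply]
    rw [h1]
    refine Fintype.sum_equiv (conjIrrEquiv N y) _ _ (fun θ => ?_)
    rw [conjIrrEquiv_apply, hcinv y θ, conjIrr_coe]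
  have hcoef : ∀ μ : IrrCharacter G, classInner (indFun N Φ) (μ : G → ℂ) =
      if μ ∈ A then (μ : G → ℂ) 1 else 0 := by
    intro μ
    have hμcf := isClassFunction_of_isIrrCharacter μ.2
    have hμN : IsCharacter N (fun n : N => (μ : G → ℂ) n) :=
      isCharacter_restrict N (isCharacter_of_isIrrCharacter μ.2)
    have hk : ∀ θ : IrrCharacter N, ∃ k : ℕ,
        classInner (fun n : N => (μ : G → ℂ) n) (θ : N → ℂ) = k := fun θ =>
      classInner_char_nat hμN (isCharacter_of_isIrrCharacter θ.2)
    choose k hk using hk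
    have hk' : ∀ θ : IrrCharacter N,
        classInner (θ : N → ℂ) (fun n : N => (μ : G → ℂ) n) = k θ := by
      intro θ
      rw [← classInner_conj_symm, hk, Complex.conj_natCast]
    rw [frobenius_reciprocity N Φ hμcf, hΦ, classInner_sum_left]
    simp only [classInner_smul_left, hk']
    have hdeg : (μ : G → ℂ) 1 = ∑ θ : IrrCharacter N, (k θ : ℂ) * (θ : N → ℂ) 1 := by
      have hexp := classFunction_expansion (isClassFunction_of_isCharacter hμN)
      have := congrFun hexp 1
      simp only [Finset.sum_apply, Pi.smul_apply, smul_eq_mul, hk] at this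
      exact this
    by_cases hμA : μ ∈ A
    · rw [if_pos hμA, hdeg]
      refine Finset.sum_congr rfl fun θ _ => ?_
      by_cases hθU : θ ∈ U
      · rw [hc]
        simp only [if_pos hθU]
        ring
      · have hk0 : k θ = 0 := by
          by_contra hk0
          rw [hA] at hμA
          obtain ⟨θ₀, hθ₀U, hθ₀⟩ := hμA
          have hcon : classInner (fun n : N => (μ : G → ℂ) n) (θ : N → ℂ) ≠ 0 := by
            rw [hk]
            exact_mod_cast hk0
          obtain ⟨x, hx⟩ := Cfsg.Agent.Helper5.clifford_conj N μ.2 θ₀.2 θ.2 hθ₀ hcon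
          apply hθU
          have h1 := hU x θ₀ hθ₀U
          have heq : conjIrr N x θ₀ = θ := Subtype.ext hx
          rwa [heq] at h1
        rw [hk0]
        simp
    · rw [if_neg hμA]
      apply Finset.sum_eq_zero
      intro θ _
      by_cases hθU : θ ∈ U
      · have hk0 : k θ = 0 := by
          by_contra hk0
          apply hμA
          rw [hA]
          refine ⟨θ, hθU, ?_⟩
          rw [hk]
          exact_mod_cast hk0
        rw [hk0]
        simp
      · rw [hc]
        simp only [if_neg hθU]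
        ring
  have hblock : blockCoeff A g = (Nat.card G : ℂ)⁻¹ * conj (indFun N Φ g) := by
    unfold blockCoeff
    congr 1
    rw [finsum_mem_def, finsum_eq_sum_of_fintype]
    have hexp := classFunction_expansion (isClassFunction_indFun N Φ)
    have h2 : indFun N Φ g = ∑ μ : IrrCharacter G,
        (if μ ∈ A then (μ : G → ℂ) 1 else 0) * (μ : G → ℂ) g := by
      conv_lhs => rw [hexp]
      rw [Finset.sum_apply]
      refine Finset.sum_congr rfl fun μ _ => ?_
      rw [Pi.smul_apply, hcoef μ, smul_eq_mul]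
    rw [h2, map_sum]
    refine Finset.sum_congr rfl fun μ _ => ?_
    by_cases hμA : μ ∈ A
    · rw [Set.indicator_of_mem hμA, if_pos hμA, map_mul, conj_irr_one μ.2]
    · rw [Set.indicator_of_notMem hμA, if_neg hμA, zero_mul, map_zero]
  rw [hblock]
  by_cases hgN : g ∈ N
  · rw [dif_pos hgN]
    have h3 : indFun N Φ g = (N.index : ℂ) * Φ ⟨g, hgN⟩ := by
      have := congrFun (Cfsg.Agent.Helper5.indFun_normal_restrict_of_invariant N Φ hinv) ⟨g, hgN⟩
      rw [Pi.smul_apply, smul_eq_mul] at this
      exact this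
    have h4 : blockCoeff U ⟨g, hgN⟩ = (Nat.card N : ℂ)⁻¹ * conj (Φ ⟨g, hgN⟩) := by
      unfold blockCoeff
      congr 1
      rw [finsum_mem_def, finsum_eq_sum_of_fintype, hΦ, Finset.sum_apply, map_sum]
      refine Finset.sum_congr rfl fun θ _ => ?_
      rw [Pi.smul_apply, smul_eq_mul, map_mul, hc]
      by_cases hθU : θ ∈ U
      · rw [Set.indicator_of_mem hθU]
        simp only [if_pos hθU]
        rw [conj_irr_one θ.2]
      · rw [Set.indicator_of_notMem hθU]
        simp only [if_neg hθU]
        simp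
    rw [h3, h4, ← hNG]
    simp only [map_mul, Complex.conj_natCast]
    have hNi0 : (N.index : ℂ) ≠ 0 := by
      intro h
      rw [h, mul_zero] at hNG
      exact hG0 hNG.symm
    field_simp
  · rw [dif_neg hgN, Cfsg.Agent.Helper5.indFun_normal_of_not_mem N Φ hgN, map_zero, mul_zero]

variable {M : Ideal AlgInt}

/-- The idempotent of the characters of `G` lying over the conjugates of a block of `N` has
local integer coefficients. -/
theorem memLocalRing_blockCoeff_overSet_orbit (hMp : M.IsPrime) {b : Set (IrrCharacter N)}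
    (hb : IsPBlock M b) (g : G) :
    MemLocalRing M (blockCoeff (overSet N (orbitSet N b)) g) := by
  classical
  haveI := hMp
  rw [blockCoeff_overSet N (fun y θ hθ => conjIrr_mem_orbitSet N y hθ) g]
  split_ifs with h
  · exact memLocalRing_blockCoeff_of_closed hMp (orbitSet_closed N hMp hb) _
  · exact memLocalRing_zero ne_top

/-- If `χ` lies over some conjugate of a member of `b`, every constituent of its restriction is a
conjugate of a member of `b`. -/
theorem mem_orbitSet_of_mem_overSet {b : Set (IrrCharacter N)} {χ : IrrCharacter G}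
    (hχ : χ ∈ overSet N (orbitSet N b)) {ψ : IrrCharacter N}
    (hψ : classInner (fun n : N => (χ : G → ℂ) n) (ψ : N → ℂ) ≠ 0) : ψ ∈ orbitSet N b := by
  obtain ⟨θ₁, hθ₁, hcon⟩ := hχ
  obtain ⟨x, hx⟩ := Cfsg.Agent.Helper5.clifford_conj N χ.2 θ₁.2 ψ.2 hcon hψ
  have h1 : conjIrr N x θ₁ = ψ := Subtype.ext hx
  rw [← h1]
  exact conjIrr_mem_orbitSet N x hθ₁

/-- If `χ` lies over a conjugate of a member of `b`, it lies over a member of `b`. -/
theorem exists_mem_of_mem_overSet {b : Set (IrrCharacter N)} {χ : IrrCharacter G}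
    (hχ : χ ∈ overSet N (orbitSet N b)) :
    ∃ θ ∈ b, classInner (fun n : N => (χ : G → ℂ) n) (θ : N → ℂ) ≠ 0 := by
  obtain ⟨θ₁, ⟨x, θ, hθ, rfl⟩, hcon⟩ := hχ
  refine ⟨θ, hθ, ?_⟩
  rw [conjIrr_coe, Cfsg.Agent.Helper5.classInner_restrict_conjFun N x
    (isClassFunction_of_isIrrCharacter χ.2)] at hcon
  exact hcon

/-- **Covering**: the characters of a block of `G` lie over a single orbit of blocks of the
normal subgroup `N`. -/
theorem cover_orbit (hMp : M.IsPrime) {b : Set (IrrCharacter N)} (hb : IsPBlock M b)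
    {χ χ' : IrrCharacter G} (hχχ' : SameBlock M (χ : G → ℂ) (χ' : G → ℂ))
    {θ : IrrCharacter N} (hθ : θ ∈ b)
    (hcon : classInner (fun n : N => (χ : G → ℂ) n) (θ : N → ℂ) ≠ 0) {ψ : IrrCharacter N}
    (hψ : classInner (fun n : N => (χ' : G → ℂ) n) (ψ : N → ℂ) ≠ 0) : ψ ∈ orbitSet N b := by
  have hχA : χ ∈ overSet N (orbitSet N b) := ⟨θ, subset_orbitSet N b hθ, hcon⟩
  have hsub := blockOf_subset_of_memLocalRing hMp
    (memLocalRing_blockCoeff_overSet_orbit N hMp hb) hχA
  exact mem_orbitSet_of_mem_overSet N (hsub hχχ') hψ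

end Cover

end Cfsg.Agent.Helper18
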