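import Mathlib
import Cfsg.Prelude.Def_Blocks
import Cfsg.Agent.Lib.Helper18.BlockCover
import Cfsg.Agent.Lib.Helper23.BlockConv
import Cfsg.Agent.S0963

/-!
# Induced central characters and Passman's covering criterion (helper18's library)
-/

set_option autoImplicit false

namespace Cfsg.Agent.Helper18

open Cfsg Cfsg.Agent.Helper24 Cfsg.Agent.Helper23.Blk
open scoped ComplexConjugate

universe u

section InducedOmega

variable {G : Type u} [Group G] [Fintype G] (H : Subgroup G) [Fintype H]

/-- The induced central character as a sum over the class. -/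
theorem inducedCentralChar_eq_sum [DecidableEq G] (θ : H → ℂ) (g : G)
    [DecidablePred (IsConj g)] :
    inducedCentralChar H θ g =
      (∑ b ∈ Finset.univ.filter (IsConj g), extendByZero H θ b) / θ 1 := by
  classical
  unfold inducedCentralChar
  rw [finsum_mem_def, finsum_eq_sum_of_fintype, Finset.sum_filter, Finset.sum_div]
  have h0 : ∀ x ∉ H, (fun b : G => (if IsConj g b then extendByZero H θ b else 0) / θ 1) x
      = 0 := by
    intro x hx
    show (if IsConj g x then extendByZero H θ x else 0) / θ 1 = 0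
    rw [extendByZero_of_not_mem H θ hx]
    simp
  rw [sum_eq_sum_subgroup H _ h0]
  refine Finset.sum_congr rfl fun h _ => ?_
  by_cases hc : IsConj g (h : G)
  · rw [Set.indicator_of_mem (by exact hc), if_pos hc, extendByZero_of_mem H θ h.2]
  · rw [Set.indicator_of_notMem (by exact hc), if_neg hc, zero_div]

/-- The induced central character is the central character of `θ` on the indicator function of
the class of `g`. -/
theorem inducedCentralChar_eq_omega (θ : H → ℂ) (g : G)
    [DecidablePred (fun h : H => IsConj g (h : G))] :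
    inducedCentralChar H θ g = omega θ (fun h : H => if IsConj g (h : G) then (1 : ℂ) else 0) := by
  unfold inducedCentralChar omega
  rw [finsum_mem_def, finsum_eq_sum_of_fintype, Finset.sum_div]
  refine Finset.sum_congr rfl fun h _ => ?_
  show _ = (if IsConj g (h : G) then (1 : ℂ) else 0) * θ h / θ 1
  by_cases hc : IsConj g (h : G)
  · rw [Set.indicator_of_mem (by exact hc), if_pos hc, one_mul]
  · rw [Set.indicator_of_notMem (by exact hc), if_neg hc, zero_mul, zero_div]

/-- The central character of a function on a subgroup, evaluated on the restriction of a class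
function of `G`, classwise through the induced central character. -/
theorem omega_restrict_eq_sum_classes [DecidableEq G] [Fintype (ConjClasses G)] {a : G → ℂ}
    (ha : IsClassFunction G a) (θ : H → ℂ) :
    omega θ (fun h : H => a h) =
      ∑ K : ConjClasses G, a (Quotient.out K) * inducedCentralChar H θ (Quotient.out K) := by
  classical
  unfold omega
  have h0 : ∀ x ∉ H, (fun g : G => a g * extendByZero H θ g) x = 0 := by
    intro x hx
    show a x * extendByZero H θ x = 0
    rw [extendByZero_of_not_mem H θ hx, mul_zero]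
  have h1 : ∑ h : H, a h * θ h = ∑ g : G, a g * extendByZero H θ g := by
    rw [sum_eq_sum_subgroup H _ h0]
    refine Finset.sum_congr rfl fun h _ => ?_
    rw [extendByZero_of_mem H θ h.2]
  rw [h1, ← Finset.sum_fiberwise Finset.univ (ConjClasses.mk)
    (fun g => a g * extendByZero H θ g), Finset.sum_div]
  refine Finset.sum_congr rfl fun K _ => ?_
  have hK : ConjClasses.mk (Quotient.out K) = K := Quotient.out_eq K
  rw [inducedCentralChar_eq_sum H θ (Quotient.out K), mul_div_assoc', Finset.mul_sum]
  congr 1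
  have hfilter : Finset.univ.filter (fun g : G => ConjClasses.mk g = K) =
      Finset.univ.filter (IsConj (Quotient.out K)) := by
    ext g
    simp only [Finset.mem_filter, Finset.mem_univ, true_and]
    rw [← hK, ConjClasses.mk_eq_mk_iff_isConj, hK, isConj_comm]
  rw [hfilter]
  refine Finset.sum_congr rfl fun g hg => ?_
  rw [Finset.mem_filter] at hg
  rw [classFunction_eq_of_isConj ha hg.2.symm]

end InducedOmega

section Passman

variable {G : Type u} [Group G] [Fintype G] (N : Subgroup G) [hN : N.Normal] [Fintype N]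
  {p : ℕ} {M : Ideal AlgInt}

/-- **Passman**, first half: if a block `B` of `G` covers the block `b` of the normal subgroup `N`
then the central characters of `B` agree with the induced central characters of `b` on `N`. -/
theorem passman_of_cover (hMp : M.IsPrime) {B : Set (IrrCharacter G)} (hB : IsPBlock M B)
    {b : Set (IrrCharacter N)} (hb : IsPBlock M b) {χ₁ : IrrCharacter G} (hχ₁ : χ₁ ∈ B)
    {θ₁ : IrrCharacter N} (hθ₁ : θ₁ ∈ b)
    (hcon : classInner (fun n : N => (χ₁ : G → ℂ) n) (θ₁ : N → ℂ) ≠ 0) :
    ∀ χ ∈ B, ∀ θ ∈ b, ∀ n : N, MemLocalIdeal M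
      (centralChar (χ : G → ℂ) (n : G) - inducedCentralChar N (θ : N → ℂ) (n : G)) := by
  classical
  haveI := hMp
  obtain ⟨χ₀, rfl⟩ := hB
  obtain ⟨θ₀, rfl⟩ := hb
  intro χ hχ θ hθ n
  have h2 := (Cfsg.Agent.S0963.result N χ₁ θ₁).mp hcon n
  have h1 : SameBlock M (χ : G → ℂ) (χ₁ : G → ℂ) := sameBlock_trans (sameBlock_symm hχ) hχ₁
  have h3 : SameBlock M (θ₁ : N → ℂ) (θ : N → ℂ) := sameBlock_trans (sameBlock_symm hθ₁) hθ
  have hcf : IsClassFunction N (fun h : N => if IsConj (n : G) (h : G) then (1 : ℂ) else 0) := by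
    intro h x
    have hiff : IsConj (n : G) ((x * h * x⁻¹ : N) : G) ↔ IsConj (n : G) (h : G) := by
      have hc : IsConj (h : G) ((x * h * x⁻¹ : N) : G) := by
        rw [isConj_iff]
        exact ⟨(x : G), by simp⟩
      exact ⟨fun h' => h'.trans hc.symm, fun h' => h'.trans hc⟩
    simp only [hiff]
  have hR : ∀ h : N, MemLocalRing M
      ((fun h : N => if IsConj (n : G) (h : G) then (1 : ℂ) else 0) h) := by
    intro h
    simp only
    split_ifs
    · exact memLocalRing_one ne_top
    · exact memLocalRing_zero ne_top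
  have h4 := memLocalIdeal_omega_sub h3 hcf hR
  rw [← inducedCentralChar_eq_omega, ← inducedCentralChar_eq_omega] at h4
  have hsplit : centralChar (χ : G → ℂ) (n : G) - inducedCentralChar N (θ : N → ℂ) (n : G) =
      (centralChar (χ : G → ℂ) (n : G) - centralChar (χ₁ : G → ℂ) (n : G)) +
        (inducedCentralChar N (θ₁ : N → ℂ) (n : G) - inducedCentralChar N (θ : N → ℂ) (n : G)) := by
    rw [h2]
    ring
  rw [hsplit]
  exact memLocalIdeal_add (h1 _) h4

/-- **Passman**, second half: a character whose central character agrees on `N` with the induced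
central character of a member of the block `b` of `N` lies over a member of `b`. -/
theorem cover_of_passman (hMp : M.IsPrime) {b : Set (IrrCharacter N)} (hb : IsPBlock M b)
    {χ : IrrCharacter G} {θ : IrrCharacter N} (hθ : θ ∈ b)
    (h : ∀ n : N, MemLocalIdeal M
      (centralChar (χ : G → ℂ) (n : G) - inducedCentralChar N (θ : N → ℂ) (n : G))) :
    ∃ θ' ∈ b, classInner (fun n : N => (χ : G → ℂ) n) (θ' : N → ℂ) ≠ 0 := by
  classical
  haveI := hMp
  letI : Fintype (IrrCharacter G) := irrFintype
  letI : Fintype (IrrCharacter N) := irrFintype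
  haveI : Fintype (ConjClasses G) := Fintype.ofFinite _
  apply exists_mem_of_mem_overSet N
  by_contra hχA
  obtain ⟨U, hUdef⟩ : ∃ U : Set (IrrCharacter N), U = orbitSet N b := ⟨_, rfl⟩
  rw [← hUdef] at hχA
  have hUst : ∀ g : G, ∀ θ ∈ U, conjIrr N g θ ∈ U := by
    rw [hUdef]
    exact fun y θ hθ => conjIrr_mem_orbitSet N y hθ
  obtain ⟨f, hf⟩ : ∃ f : G → ℂ, f = blockCoeff (overSet N U) := ⟨_, rfl⟩
  have hfsynth : f = synth (fun μ : IrrCharacter G => if μ ∈ overSet N U then (1 : ℂ) else 0) := by
    rw [hf]
    funext g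
    exact blockCoeff_eq_synth _ g
  have hfcf : IsClassFunction G f := by
    rw [hfsynth]
    exact synth_isClassFunction _
  have hfR : ∀ g, MemLocalRing M (f g) := by
    rw [hf, hUdef]
    exact memLocalRing_blockCoeff_overSet_orbit N hMp hb
  have hfN : ∀ n : N, f n = blockCoeff U n := by
    intro n
    rw [hf, blockCoeff_overSet N hUst (n : G), dif_pos n.2]
  have hfnot : ∀ g ∉ N, f g = 0 := by
    intro g hg
    rw [hf, blockCoeff_overSet N hUst g, dif_neg hg]
  have h1 : omega (χ : G → ℂ) f = 0 := by
    rw [hfsynth, omega_synth, if_neg hχA]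
  have h2 : omega (θ : N → ℂ) (fun n : N => f n) = 1 := by
    have h3 : (fun n : N => f n) =
        synth (fun φ : IrrCharacter N => if φ ∈ U then (1 : ℂ) else 0) := by
      funext n
      rw [hfN n]
      exact blockCoeff_eq_synth _ n
    rw [h3, omega_synth, if_pos (by rw [hUdef]; exact subset_orbitSet N b hθ)]
  rw [omega_eq_sum_classes (isClassFunction_of_isIrrCharacter χ.2) hfcf] at h1
  rw [omega_restrict_eq_sum_classes N hfcf] at h2
  apply not_memLocalIdeal_one (M := M)
  have h3 : (1 : ℂ) = -(∑ K : ConjClasses G, f (Quotient.out K) *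
      (centralChar (χ : G → ℂ) (Quotient.out K) -
        inducedCentralChar N (θ : N → ℂ) (Quotient.out K))) := by
    simp only [mul_sub, Finset.sum_sub_distrib]
    rw [h1, h2]
    ring
  rw [h3]
  apply memLocalIdeal_neg
  apply memLocalIdeal_sum
  intro K _
  by_cases hK : Quotient.out K ∈ N
  · exact memLocalIdeal_mul_left (hfR _) (h ⟨_, hK⟩)
  · rw [hfnot _ hK, zero_mul]
    exact memLocalIdeal_zero ne_top

/-- An element outside a normal subgroup of `p`-power index has order divisible by `p`. -/
theorem dvd_orderOf_of_not_mem (hp : p.Prime) (hidx : ∃ k : ℕ, N.index = p ^ k) {g : G}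
    (hgN : g ∉ N) : p ∣ orderOf g := by
  obtain ⟨j, hj⟩ := hidx
  have hcard : Nat.card (G ⧸ N) = p ^ j := by
    rw [← hj]
    rfl
  have hne : (g : G ⧸ N) ≠ 1 := by
    intro h
    exact hgN ((QuotientGroup.eq_one_iff g).mp h)
  have hord : orderOf (g : G ⧸ N) ∣ p ^ j := by
    rw [← hcard]
    exact orderOf_dvd_natCard _
  obtain ⟨i, -, hi⟩ := (Nat.dvd_prime_pow hp).mp hord
  have hi0 : i ≠ 0 := by
    intro h0
    rw [h0, pow_zero, orderOf_eq_one_iff] at hi
    exact hne hi
  have h3 : orderOf (g : G ⧸ N) ∣ orderOf g := by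
    apply orderOf_dvd_of_pow_eq_one
    rw [← QuotientGroup.mk_pow, pow_orderOf_eq_one, QuotientGroup.mk_one]
  rw [hi] at h3
  exact dvd_trans (dvd_pow_self p hi0) h3

/-- Over a normal subgroup of `p`-power index, two characters whose central characters agree on
the subgroup lie in the same block. -/
theorem sameBlock_of_congr_on_normal (hM : IsPModular p M) (hidx : ∃ k : ℕ, N.index = p ^ k)
    {χ₁ χ₂ : IrrCharacter G}
    (h : ∀ n : N, MemLocalIdeal M
      (centralChar (χ₁ : G → ℂ) (n : G) - centralChar (χ₂ : G → ℂ) (n : G))) :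
    SameBlock M (χ₁ : G → ℂ) (χ₂ : G → ℂ) := by
  classical
  have hMp : M.IsPrime := isPrime_of_isPModular hM
  haveI := hMp
  letI : Fintype (IrrCharacter G) := irrFintype
  haveI : Fintype (ConjClasses G) := Fintype.ofFinite _
  by_contra hnot
  obtain ⟨f, hf⟩ : ∃ f : G → ℂ, f = blockCoeff (blockOf M (χ₁ : G → ℂ)) := ⟨_, rfl⟩
  have hfsynth : f = synth (fun μ : IrrCharacter G =>
      if μ ∈ blockOf M (χ₁ : G → ℂ) then (1 : ℂ) else 0) := by
    rw [hf]
    funext g
    exact blockCoeff_eq_synth _ g
  have hfcf : IsClassFunction G f := by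
    rw [hfsynth]
    exact synth_isClassFunction _
  have hfR : ∀ g, MemLocalRing M (f g) := by
    rw [hf]
    exact memLocalRing_blockCoeff hMp ⟨χ₁, rfl⟩
  have hfnot : ∀ g ∉ N, f g = 0 := by
    intro g hg
    rw [hf]
    exact blockCoeff_eq_zero_of_pSingular hM ⟨χ₁, rfl⟩ (dvd_orderOf_of_not_mem N hM.1 hidx hg)
  have h1 : omega (χ₁ : G → ℂ) f = 1 := by
    rw [hfsynth, omega_synth, if_pos (mem_blockOf_self χ₁)]
  have h2 : omega (χ₂ : G → ℂ) f = 0 := by
    have hnot' : χ₂ ∉ blockOf M (χ₁ : G → ℂ) := hnot
    rw [hfsynth, omega_synth, if_neg hnot']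
  rw [omega_eq_sum_classes (isClassFunction_of_isIrrCharacter χ₁.2) hfcf] at h1
  rw [omega_eq_sum_classes (isClassFunction_of_isIrrCharacter χ₂.2) hfcf] at h2
  apply not_memLocalIdeal_one (M := M)
  have h3 : (1 : ℂ) = ∑ K : ConjClasses G, f (Quotient.out K) *
      (centralChar (χ₁ : G → ℂ) (Quotient.out K) -
        centralChar (χ₂ : G → ℂ) (Quotient.out K)) := by
    simp only [mul_sub, Finset.sum_sub_distrib]
    rw [h1, h2]
    ring
  rw [h3]
  apply memLocalIdeal_sum
  intro K _
  by_cases hK : Quotient.out K ∈ N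
  · exact memLocalIdeal_mul_left (hfR _) (h ⟨_, hK⟩)
  · rw [hfnot _ hK, zero_mul]
    exact memLocalIdeal_zero ne_top

end Passman

end Cfsg.Agent.Helper18
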