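import Mathlib
import Cfsg.Prelude.Def_Blocks
import Cfsg.Agent.Lib.Helper23.BlockIdem

/-!
# Blocks of `p`-groups and inflation (helper18's library)

* `sameBlock_of_card_eq_pow`: a `p`-group has exactly one `p`-block.
* `sameBlock_comp_mk`: characters in the same block of a quotient inflate to characters in the same
  block.
-/

set_option autoImplicit false

namespace Cfsg.Agent.Helper18

open Cfsg Cfsg.Agent.Helper24 Cfsg.Agent.Helper23.Blk
open scoped ComplexConjugate

universe u

section Arithmetic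

variable {p : ℕ} {M : Ideal AlgInt}

/-- A rational number `n / p ^ a` in the local ring has `p ^ a ∣ n`. -/
theorem pow_dvd_of_memLocalRing_div (hM : IsPModular p M) (a : ℕ) :
    ∀ n : ℕ, MemLocalRing M ((n : ℂ) / (p : ℂ) ^ a) → p ^ a ∣ n := by
  haveI : M.IsPrime := isPrime_of_isPModular hM
  have hp0 : (p : ℂ) ≠ 0 := by exact_mod_cast hM.1.ne_zero
  induction a with
  | zero =>
    intro n _
    simp
  | succ a ih =>
    intro n hn
    have h1 : MemLocalRing M ((n : ℂ) / (p : ℂ) ^ a) := by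
      have := memLocalRing_mul (memLocalRing_natCast (M := M) p) hn
      have h2 : (p : ℂ) * ((n : ℂ) / (p : ℂ) ^ (a + 1)) = (n : ℂ) / (p : ℂ) ^ a := by
        rw [pow_succ]
        field_simp
      rwa [h2] at this
    obtain ⟨m, hm⟩ := ih n h1
    have h3 : MemLocalRing M ((m : ℂ) / (p : ℂ)) := by
      have h4 : (n : ℂ) / (p : ℂ) ^ (a + 1) = (m : ℂ) / (p : ℂ) := by
        rw [hm, pow_succ]
        push_cast
        field_simp
      rwa [h4] at hn
    have h5 : MemLocalIdeal M (m : ℂ) := by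
      have := memLocalIdeal_mul_right (memLocalIdeal_prime hM) h3
      have h6 : (p : ℂ) * ((m : ℂ) / (p : ℂ)) = (m : ℂ) := by
        field_simp
      rwa [h6] at this
    obtain ⟨m', hm'⟩ := (memLocalIdeal_natCast_iff hM m).mp h5
    refine ⟨m', ?_⟩
    rw [hm, hm', pow_succ]
    ring

end Arithmetic

section PGroup

variable {P : Type u} [Group P] [Fintype P] {p : ℕ} {M : Ideal AlgInt}

/-- A `p`-group has exactly one `p`-block. -/
theorem sameBlock_of_card_eq_pow (hM : IsPModular p M) {a : ℕ} (hP : Nat.card P = p ^ a)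
    (χ ψ : IrrCharacter P) : SameBlock M (χ : P → ℂ) (ψ : P → ℂ) := by
  classical
  letI : Fintype (IrrCharacter P) := irrFintype
  haveI : M.IsPrime := isPrime_of_isPModular hM
  have hMp : M.IsPrime := isPrime_of_isPModular hM
  obtain ⟨B, hBdef⟩ : ∃ B : Set (IrrCharacter P), B = blockOf M (χ : P → ℂ) := ⟨_, rfl⟩
  have hB : IsPBlock M B := ⟨χ, hBdef⟩
  have hχB : χ ∈ B := by
    rw [hBdef]
    exact mem_blockOf_self χ
  have hloc := memLocalRing_blockCoeff hMp hB (1 : P)
  -- the degrees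
  have hdeg : ∀ μ : IrrCharacter P, (μ : P → ℂ) 1 = (charDegree (μ : P → ℂ) : ℂ) := fun μ =>
    irr_one_eq_charDegree μ.2
  have hcoef : blockCoeff B 1 =
      ((∑ μ ∈ Finset.univ.filter (· ∈ B), charDegree (μ : P → ℂ) ^ 2 : ℕ) : ℂ) / (p : ℂ) ^ a := by
    unfold blockCoeff
    rw [finsum_mem_def, finsum_eq_sum_of_fintype, hP, Finset.sum_filter]
    push_cast
    rw [div_eq_inv_mul]
    congr 1
    refine Finset.sum_congr rfl fun μ _ => ?_
    by_cases hμ : μ ∈ B
    · rw [Set.indicator_of_mem hμ, if_pos hμ, hdeg μ, Complex.conj_natCast]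
      ring
    · rw [Set.indicator_of_notMem hμ, if_neg hμ]
  rw [hcoef] at hloc
  have hdvd := pow_dvd_of_memLocalRing_div hM a _ hloc
  have htotal : ∑ μ : IrrCharacter P, charDegree (μ : P → ℂ) ^ 2 = p ^ a := by
    have h1 := second_orthogonality (G := P) 1 1
    have h2 : Nat.card {y : P // y * 1 * y⁻¹ = 1} = Nat.card P := by
      apply Nat.card_congr
      exact
        { toFun := fun y => y.1
          invFun := fun y => ⟨y, by simp⟩
          left_inv := fun y => rfl
          right_inv := fun y => rfl }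
    rw [h2, hP] at h1
    have h3 : ∑ μ : IrrCharacter P, (μ : P → ℂ) 1 * conj ((μ : P → ℂ) 1) =
        ((∑ μ : IrrCharacter P, charDegree (μ : P → ℂ) ^ 2 : ℕ) : ℂ) := by
      push_cast
      refine Finset.sum_congr rfl fun μ _ => ?_
      rw [hdeg μ, Complex.conj_natCast]
      ring
    rw [h3] at h1
    exact_mod_cast h1
  have hsplit := Finset.sum_filter_add_sum_filter_not (Finset.univ : Finset (IrrCharacter P))
    (· ∈ B) (fun μ => charDegree (μ : P → ℂ) ^ 2)
  rw [htotal] at hsplit
  have hpos : 0 < ∑ μ ∈ Finset.univ.filter (· ∈ B), charDegree (μ : P → ℂ) ^ 2 := by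
    apply Finset.sum_pos'
    · intro μ _
      exact Nat.zero_le _
    · refine ⟨χ, Finset.mem_filter.mpr ⟨Finset.mem_univ _, hχB⟩, ?_⟩
      have := charDegree_pos χ.2
      positivity
  have hge : p ^ a ≤ ∑ μ ∈ Finset.univ.filter (· ∈ B), charDegree (μ : P → ℂ) ^ 2 :=
    Nat.le_of_dvd hpos hdvd
  have hzero : ∑ μ ∈ Finset.univ.filter (fun μ => ¬ μ ∈ B), charDegree (μ : P → ℂ) ^ 2 = 0 := by
    omega
  have hψB : ψ ∈ B := by
    by_contra hψ
    have h1 := (Finset.sum_eq_zero_iff.mp hzero) ψ (Finset.mem_filter.mpr ⟨Finset.mem_univ _, hψ⟩)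
    have h2 := charDegree_pos ψ.2
    have h3 : charDegree (ψ : P → ℂ) = 0 := by
      exact pow_eq_zero_iff (two_ne_zero) |>.mp h1
    omega
  rw [hBdef] at hψB
  exact hψB

end PGroup

section Inflation

variable {G : Type u} [Group G] [Finite G] {M : Ideal AlgInt}

/-- Inflation preserves the relation of lying in the same block. -/
theorem sameBlock_comp_mk [hMp : M.IsPrime] (N : Subgroup G) [N.Normal] {χ ψ : G ⧸ N → ℂ}
    (h : SameBlock M χ ψ) :
    SameBlock M (χ ∘ (QuotientGroup.mk : G → G ⧸ N)) (ψ ∘ (QuotientGroup.mk : G → G ⧸ N)) := by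
  intro g
  have hle : (Subgroup.centralizer ({g} : Set G)).map (QuotientGroup.mk' N) ≤
      Subgroup.centralizer ({(g : G ⧸ N)} : Set (G ⧸ N)) := by
    rintro y ⟨x, hx, rfl⟩
    rw [Subgroup.mem_centralizer_iff]
    intro z hz
    rw [Set.mem_singleton_iff] at hz
    rw [hz]
    have := Subgroup.mem_centralizer_iff.mp hx g (Set.mem_singleton g)
    show (g : G ⧸ N) * (x : G ⧸ N) = (x : G ⧸ N) * (g : G ⧸ N)
    rw [← QuotientGroup.mk_mul, ← QuotientGroup.mk_mul, this]
  have hdvd : (Subgroup.centralizer ({(g : G ⧸ N)} : Set (G ⧸ N))).index ∣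
      (Subgroup.centralizer ({g} : Set G)).index :=
    dvd_trans (Subgroup.index_dvd_of_le hle)
      (Subgroup.index_map_dvd _ (QuotientGroup.mk'_surjective N))
  obtain ⟨r, hr⟩ := hdvd
  have h1 := h (g : G ⧸ N)
  have h2 : centralChar (χ ∘ (QuotientGroup.mk : G → G ⧸ N)) g -
      centralChar (ψ ∘ (QuotientGroup.mk : G → G ⧸ N)) g =
      (r : ℂ) * (centralChar χ (g : G ⧸ N) - centralChar ψ (g : G ⧸ N)) := by
    unfold centralChar
    simp only [Function.comp_apply, QuotientGroup.mk_one]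
    rw [hr]
    push_cast
    ring
  rw [h2]
  exact memLocalIdeal_mul_left (memLocalRing_natCast r) h1

end Inflation

end Cfsg.Agent.Helper18
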