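import Mathlib
import Cfsg.Prelude.Def_Blocks
import Cfsg.Agent.Lib.Helper18.BlockCover2
import Cfsg.Agent.Lib.Helper18.BlockPGroup

/-!
# Induced blocks: central characters of induced functions (helper18's library)
-/

set_option autoImplicit false

namespace Cfsg.Agent.Helper18

open Cfsg Cfsg.Agent.Helper24 Cfsg.Agent.Helper23.Blk
open scoped ComplexConjugate

universe u

section Induce

variable {G : Type u} [Group G] [Fintype G] (H : Subgroup G) [Fintype H]

/-- The central character of an induced function is the induced central character. -/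
theorem centralChar_indFun (θ : H → ℂ) (g : G) :
    centralChar (indFun H θ) g = inducedCentralChar H θ g := by
  classical
  rw [inducedCentralChar_eq_sum H θ g]
  unfold centralChar
  rw [indFun_one, indFun_apply]
  have h1 : ∑ x : G, extendByZero H θ (x⁻¹ * g * x) =
      (Nat.card (Subgroup.centralizer ({g} : Set G)) : ℂ) *
        ∑ b ∈ Finset.univ.filter (IsConj g), extendByZero H θ b := by
    rw [← sum_conj_eq_card_mul_sum_filter g (extendByZero H θ)]
    exact Fintype.sum_equiv (Equiv.inv G) _ _ (fun x => by simp)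
  rw [h1]
  have hC : (Nat.card (Subgroup.centralizer ({g} : Set G)) : ℂ) *
      ((Subgroup.centralizer ({g} : Set G)).index : ℂ) = (Nat.card G : ℂ) := by
    have := Subgroup.card_mul_index (Subgroup.centralizer ({g} : Set G))
    exact_mod_cast this
  have hH : (Nat.card H : ℂ) * (H.index : ℂ) = (Nat.card G : ℂ) := by
    have := Subgroup.card_mul_index H
    exact_mod_cast this
  have hG0 : (Nat.card G : ℂ) ≠ 0 := by
    have : Nat.card G ≠ 0 := Nat.card_pos.ne'
    exact_mod_cast this
  have hH0 : (Nat.card H : ℂ) ≠ 0 := by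
    have : Nat.card H ≠ 0 := Nat.card_pos.ne'
    exact_mod_cast this
  have hHi0 : (H.index : ℂ) ≠ 0 := by
    intro h
    rw [h, mul_zero] at hH
    exact hG0 hH.symm
  by_cases hθ : θ 1 = 0
  · rw [hθ]
    simp
  · field_simp
    rw [← hH] at hC
    linear_combination (∑ b ∈ Finset.univ.filter (IsConj g), extendByZero H θ b) * hC

variable {M : Ideal AlgInt}

/-- Characters of `H` in the same block have congruent induced central characters. -/
theorem memLocalIdeal_inducedCentralChar_sub [hMp : M.IsPrime] {ξ ξ' : IrrCharacter H}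
    (h : SameBlock M (ξ : H → ℂ) (ξ' : H → ℂ)) (g : G) :
    MemLocalIdeal M (inducedCentralChar H (ξ : H → ℂ) g - inducedCentralChar H (ξ' : H → ℂ) g) := by
  classical
  have hcf : IsClassFunction H (fun h : H => if IsConj g (h : G) then (1 : ℂ) else 0) := by
    intro h x
    have hiff : IsConj g ((x * h * x⁻¹ : H) : G) ↔ IsConj g (h : G) := by
      have hc : IsConj (h : G) ((x * h * x⁻¹ : H) : G) := by
        rw [isConj_iff]
        exact ⟨(x : G), by simp⟩
      exact ⟨fun h' => h'.trans hc.symm, fun h' => h'.trans hc⟩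
    simp only [hiff]
  have hR : ∀ h : H, MemLocalRing M
      ((fun h : H => if IsConj g (h : G) then (1 : ℂ) else 0) h) := by
    intro h
    simp only
    split_ifs
    · exact memLocalRing_one ne_top
    · exact memLocalRing_zero ne_top
  have h4 := memLocalIdeal_omega_sub h hcf hR
  rw [← inducedCentralChar_eq_omega, ← inducedCentralChar_eq_omega] at h4
  exact h4

/-- If the block `b` of `H` induces the block of `χ₀`, every member of `b` lies under some
member of that block. -/
theorem exists_over_of_induced (hMp : M.IsPrime) {χ₀ : IrrCharacter G} {ξ : IrrCharacter H}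
    (hcong : ∀ g : G, MemLocalIdeal M
      (inducedCentralChar H (ξ : H → ℂ) g - centralChar (χ₀ : G → ℂ) g)) :
    ∃ χ ∈ blockOf M (χ₀ : G → ℂ), classInner (fun h : H => (χ : G → ℂ) h) (ξ : H → ℂ) ≠ 0 := by
  classical
  haveI := hMp
  letI : Fintype (IrrCharacter G) := irrFintype
  haveI : Fintype (ConjClasses G) := Fintype.ofFinite _
  by_contra hno
  push Not at hno
  obtain ⟨f, hf⟩ : ∃ f : G → ℂ, f = blockCoeff (blockOf M (χ₀ : G → ℂ)) := ⟨_, rfl⟩
  have hfsynth : f = synth (fun μ : IrrCharacter G =>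
      if μ ∈ blockOf M (χ₀ : G → ℂ) then (1 : ℂ) else 0) := by
    rw [hf]
    funext g
    exact blockCoeff_eq_synth _ g
  have hfcf : IsClassFunction G f := by
    rw [hfsynth]
    exact synth_isClassFunction _
  have hfR : ∀ g, MemLocalRing M (f g) := by
    rw [hf]
    exact memLocalRing_blockCoeff hMp ⟨χ₀, rfl⟩
  have homega : ∀ μ : IrrCharacter G, omega (μ : G → ℂ) f =
      if μ ∈ blockOf M (χ₀ : G → ℂ) then (1 : ℂ) else 0 := by
    intro μ
    rw [hfsynth, omega_synth]
  have h1 : omega (indFun H (ξ : H → ℂ)) f =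
      ∑ K : ConjClasses G, f (Quotient.out K) *
        inducedCentralChar H (ξ : H → ℂ) (Quotient.out K) := by
    rw [omega_eq_sum_classes (isClassFunction_indFun H _) hfcf]
    refine Finset.sum_congr rfl fun K _ => ?_
    rw [centralChar_indFun]
  have h2 : omega (χ₀ : G → ℂ) f = 1 := by
    rw [homega, if_pos (mem_blockOf_self χ₀)]
  rw [omega_eq_sum_classes (isClassFunction_of_isIrrCharacter χ₀.2) hfcf] at h2
  have h3 : MemLocalIdeal M (omega (indFun H (ξ : H → ℂ)) f - 1) := by
    rw [h1, ← h2, ← Finset.sum_sub_distrib]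
    apply memLocalIdeal_sum
    intro K _
    rw [← mul_sub]
    exact memLocalIdeal_mul_left (hfR _) (hcong _)
  have h4 : ∑ g : G, f g * indFun H (ξ : H → ℂ) g = 0 := by
    have hexp := classFunction_expansion (isClassFunction_indFun H (ξ : H → ℂ))
    have h5 : ∀ g : G, indFun H (ξ : H → ℂ) g = ∑ μ : IrrCharacter G,
        classInner (indFun H (ξ : H → ℂ)) (μ : G → ℂ) * (μ : G → ℂ) g := by
      intro g
      conv_lhs => rw [hexp]
      rw [Finset.sum_apply]
      refine Finset.sum_congr rfl fun μ _ => ?_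
      rw [Pi.smul_apply, smul_eq_mul]
    simp only [h5, Finset.mul_sum]
    rw [Finset.sum_comm]
    apply Finset.sum_eq_zero
    intro μ _
    have h6 : ∑ g : G, f g * (classInner (indFun H (ξ : H → ℂ)) (μ : G → ℂ) * (μ : G → ℂ) g) =
        classInner (indFun H (ξ : H → ℂ)) (μ : G → ℂ) *
          (omega (μ : G → ℂ) f * (μ : G → ℂ) 1) := by
      unfold omega
      rw [div_mul_cancel₀ _ (irr_one_ne_zero μ.2), Finset.mul_sum]
      refine Finset.sum_congr rfl fun g _ => ?_
      ring
    rw [h6, homega]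
    by_cases hμ : μ ∈ blockOf M (χ₀ : G → ℂ)
    · have h7 : classInner (indFun H (ξ : H → ℂ)) (μ : G → ℂ) = 0 := by
        rw [frobenius_reciprocity H (ξ : H → ℂ) (isClassFunction_of_isIrrCharacter μ.2),
          ← classInner_conj_symm, hno μ hμ, map_zero]
      rw [h7, zero_mul]
    · rw [if_neg hμ, zero_mul, mul_zero]
  have h5 : omega (indFun H (ξ : H → ℂ)) f = 0 := by
    unfold omega
    rw [h4, zero_div]
  rw [h5, zero_sub] at h3
  apply not_memLocalIdeal_one (M := M)
  have := memLocalIdeal_neg h3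
  rwa [neg_neg] at this

/-- Pairing a block idempotent with a class function extracts the degree of its block part. -/
theorem sum_blockCoeff_mul (B : Set (IrrCharacter G)) {φ : G → ℂ} (hφ : IsClassFunction G φ) :
    ∑ g : G, blockCoeff B g * φ g = ∑ᶠ χ ∈ B, classInner φ (χ : G → ℂ) * (χ : G → ℂ) 1 := by
  classical
  letI : Fintype (IrrCharacter G) := irrFintype
  rw [finsum_mem_def, finsum_eq_sum_of_fintype]
  have hfsynth : blockCoeff B = synth (fun μ : IrrCharacter G =>
      if μ ∈ B then (1 : ℂ) else 0) := by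
    funext g
    exact blockCoeff_eq_synth _ g
  have homega : ∀ μ : IrrCharacter G, omega (μ : G → ℂ) (blockCoeff B) =
      if μ ∈ B then (1 : ℂ) else 0 := by
    intro μ
    rw [hfsynth, omega_synth]
  have hexp := classFunction_expansion hφ
  have h5 : ∀ g : G, φ g = ∑ μ : IrrCharacter G,
      classInner φ (μ : G → ℂ) * (μ : G → ℂ) g := by
    intro g
    conv_lhs => rw [hexp]
    rw [Finset.sum_apply]
    refine Finset.sum_congr rfl fun μ _ => ?_
    rw [Pi.smul_apply, smul_eq_mul]
  have h6 : ∀ g : G, blockCoeff B g * φ g = ∑ μ : IrrCharacter G,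
      blockCoeff B g * (classInner φ (μ : G → ℂ) * (μ : G → ℂ) g) := by
    intro g
    rw [← Finset.mul_sum, ← h5 g]
  simp only [h6]
  rw [Finset.sum_comm]
  refine Finset.sum_congr rfl fun μ _ => ?_
  have h7 : ∑ g : G, blockCoeff B g * (classInner φ (μ : G → ℂ) * (μ : G → ℂ) g) =
      classInner φ (μ : G → ℂ) *
        (omega (μ : G → ℂ) (blockCoeff B) * (μ : G → ℂ) 1) := by
    unfold omega
    rw [div_mul_cancel₀ _ (irr_one_ne_zero μ.2), Finset.mul_sum]
    refine Finset.sum_congr rfl fun g _ => ?_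
    ring
  rw [h7, homega]
  by_cases hμ : μ ∈ B
  · rw [Set.indicator_of_mem hμ, if_pos hμ, one_mul]
  · rw [Set.indicator_of_notMem hμ, if_neg hμ, zero_mul, mul_zero]

/-- The block part at the identity, with the ambient `Fintype` instance. -/
theorem blockPart_apply (B : Set (IrrCharacter G)) (ϑ : G → ℂ) (g : G) :
    blockPart B ϑ g = ∑ᶠ χ ∈ B, classInner ϑ (χ : G → ℂ) * (χ : G → ℂ) g := by
  unfold blockPart
  have : Fintype.ofFinite G = ‹Fintype G› := Subsingleton.elim _ _
  rw [this]

/-- If the induced central character of `ξ` is congruent to the central character of `χ₀`, then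
`ξ` induced has the same central character as `χ₀` on local-integral class functions. -/
theorem memLocalIdeal_omega_indFun_sub [hMp : M.IsPrime] {χ₀ : IrrCharacter G} {ξ : H → ℂ}
    (hcong : ∀ g : G, MemLocalIdeal M (inducedCentralChar H ξ g - centralChar (χ₀ : G → ℂ) g))
    {f : G → ℂ} (hfcf : IsClassFunction G f) (hfR : ∀ g, MemLocalRing M (f g)) :
    MemLocalIdeal M (omega (indFun H ξ) f - omega (χ₀ : G → ℂ) f) := by
  classical
  haveI : Fintype (ConjClasses G) := Fintype.ofFinite _
  rw [omega_eq_sum_classes (isClassFunction_indFun H _) hfcf,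
    omega_eq_sum_classes (isClassFunction_of_isIrrCharacter χ₀.2) hfcf, ← Finset.sum_sub_distrib]
  apply memLocalIdeal_sum
  intro K _
  rw [← mul_sub, centralChar_indFun]
  exact memLocalIdeal_mul_left (hfR _) (hcong _)

/-- For a block `B`, the degree of the `B`-part of `ξ` induced, divided by the degree of `ξ`
induced, is congruent to the value at `χ₀` of the indicator of `B`. -/
theorem memLocalIdeal_blockPart_div_sub (hMp : M.IsPrime) {χ₀ : IrrCharacter G} {ξ : H → ℂ}
    (hcong : ∀ g : G, MemLocalIdeal M (inducedCentralChar H ξ g - centralChar (χ₀ : G → ℂ) g))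
    {B : Set (IrrCharacter G)} (hB : IsPBlock M B) :
    (χ₀ ∈ B → MemLocalIdeal M (blockPart B (indFun H ξ) 1 / indFun H ξ 1 - 1)) ∧
    (χ₀ ∉ B → MemLocalIdeal M (blockPart B (indFun H ξ) 1 / indFun H ξ 1)) := by
  classical
  haveI := hMp
  letI : Fintype (IrrCharacter G) := irrFintype
  have hfsynth : blockCoeff B = synth (fun μ : IrrCharacter G =>
      if μ ∈ B then (1 : ℂ) else 0) := by
    funext g
    exact blockCoeff_eq_synth _ g
  have hfcf : IsClassFunction G (blockCoeff B) := by
    rw [hfsynth]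
    exact synth_isClassFunction _
  have hfR : ∀ g, MemLocalRing M (blockCoeff B g) := memLocalRing_blockCoeff hMp hB
  have h1 := memLocalIdeal_omega_indFun_sub H hcong hfcf hfR
  have h2 : omega (χ₀ : G → ℂ) (blockCoeff B) = if χ₀ ∈ B then (1 : ℂ) else 0 := by
    rw [hfsynth, omega_synth]
  have h3 : omega (indFun H ξ) (blockCoeff B) = blockPart B (indFun H ξ) 1 / indFun H ξ 1 := by
    unfold omega
    rw [sum_blockCoeff_mul B (isClassFunction_indFun H ξ), blockPart_apply]
  rw [h2, h3] at h1
  constructor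
  · intro hχ
    rwa [if_pos hχ] at h1
  · intro hχ
    rwa [if_neg hχ, sub_zero] at h1

end Induce

section Arithmetic

variable {p : ℕ} {M : Ideal AlgInt}

/-- A rational number `n / N` in the local ring has `ν_p(N) ≤ ν_p(n)`. -/
theorem factorization_le_of_memLocalRing_div (hM : IsPModular p M) {n N : ℕ} (hN : N ≠ 0)
    (hn : n ≠ 0) (h : MemLocalRing M ((n : ℂ) / (N : ℂ))) :
    N.factorization p ≤ n.factorization p := by
  haveI : M.IsPrime := isPrime_of_isPModular hM
  have hp := hM.1
  obtain ⟨t, N', hN', hNeq⟩ := Nat.exists_eq_pow_mul_and_not_dvd hN p hp.ne_one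
  have hN'0 : N' ≠ 0 := by
    rintro rfl
    exact hN' (dvd_zero p)
  have ht : N.factorization p = t := by
    rw [hNeq, Nat.factorization_mul (pow_ne_zero _ hp.ne_zero) hN'0,
      Nat.Prime.factorization_pow hp, Finsupp.add_apply, Finsupp.single_eq_same,
      Nat.factorization_eq_zero_of_not_dvd hN', add_zero]
  have h1 : MemLocalRing M ((n : ℂ) / (p : ℂ) ^ t) := by
    have := memLocalRing_mul h (memLocalRing_natCast (M := M) N')
    have h2 : (n : ℂ) / (N : ℂ) * (N' : ℂ) = (n : ℂ) / (p : ℂ) ^ t := by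
      have hp0 : (p : ℂ) ≠ 0 := by exact_mod_cast hp.ne_zero
      have hN'c : (N' : ℂ) ≠ 0 := by exact_mod_cast hN'0
      rw [hNeq]
      push_cast
      field_simp
    rwa [h2] at this
  have h3 := pow_dvd_of_memLocalRing_div hM t n h1
  rw [ht]
  exact (hp.pow_dvd_iff_le_factorization hn).mp h3

/-- A rational number `n / N` in the local ideal has `ν_p(N) < ν_p(n)`. -/
theorem factorization_lt_of_memLocalIdeal_div (hM : IsPModular p M) {n N : ℕ} (hN : N ≠ 0)
    (hn : n ≠ 0) (h : MemLocalIdeal M ((n : ℂ) / (N : ℂ))) :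
    N.factorization p < n.factorization p := by
  haveI : M.IsPrime := isPrime_of_isPModular hM
  have hp := hM.1
  have hp0 : (p : ℂ) ≠ 0 := by exact_mod_cast hp.ne_zero
  obtain ⟨t, N', hN', hNeq⟩ := Nat.exists_eq_pow_mul_and_not_dvd hN p hp.ne_one
  have hN'0 : N' ≠ 0 := by
    rintro rfl
    exact hN' (dvd_zero p)
  have hN'c : (N' : ℂ) ≠ 0 := by exact_mod_cast hN'0
  have ht : N.factorization p = t := by
    rw [hNeq, Nat.factorization_mul (pow_ne_zero _ hp.ne_zero) hN'0,
      Nat.Prime.factorization_pow hp, Finsupp.add_apply, Finsupp.single_eq_same,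
      Nat.factorization_eq_zero_of_not_dvd hN', add_zero]
  have h1 : MemLocalIdeal M ((n : ℂ) / (p : ℂ) ^ t) := by
    have := memLocalIdeal_mul_right h (memLocalRing_natCast (M := M) N')
    have h2 : (n : ℂ) / (N : ℂ) * (N' : ℂ) = (n : ℂ) / (p : ℂ) ^ t := by
      rw [hNeq]
      push_cast
      field_simp
    rwa [h2] at this
  obtain ⟨m, hm⟩ := pow_dvd_of_memLocalRing_div hM t n (memLocalRing_of_memLocalIdeal h1)
  have h4 : MemLocalIdeal M (m : ℂ) := by
    have h5 : (n : ℂ) / (p : ℂ) ^ t = (m : ℂ) := by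
      rw [hm]
      push_cast
      field_simp
    rwa [h5] at h1
  obtain ⟨m', hm'⟩ := (memLocalIdeal_natCast_iff hM m).mp h4
  have h6 : p ^ (t + 1) ∣ n := by
    refine ⟨m', ?_⟩
    rw [hm, hm', pow_succ]
    ring
  rw [ht]
  exact (hp.pow_dvd_iff_le_factorization hn).mp h6

/-- A rational number `n / N` congruent to `1` has `n ≠ 0` and `ν_p(n) = ν_p(N)`. -/
theorem factorization_eq_of_memLocalIdeal_div_sub_one (hM : IsPModular p M) {n N : ℕ}
    (hN : N ≠ 0) (h : MemLocalIdeal M ((n : ℂ) / (N : ℂ) - 1)) :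
    n ≠ 0 ∧ n.factorization p = N.factorization p := by
  haveI : M.IsPrime := isPrime_of_isPModular hM
  have hn : n ≠ 0 := by
    rintro rfl
    apply not_memLocalIdeal_one (M := M)
    have := memLocalIdeal_neg h
    simpa using this
  refine ⟨hn, ?_⟩
  have hR : MemLocalRing M ((n : ℂ) / (N : ℂ)) := by
    have := memLocalRing_add (memLocalRing_of_memLocalIdeal h) (memLocalRing_one (M := M) ne_top)
    rwa [sub_add_cancel] at this
  have h1 := factorization_le_of_memLocalRing_div hM hN hn hR
  apply le_antisymm _ h1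
  by_contra hlt
  push Not at hlt
  -- then `n / N` lies in the ideal
  have hp := hM.1
  have hp0 : (p : ℂ) ≠ 0 := by exact_mod_cast hp.ne_zero
  obtain ⟨t, N', hN', hNeq⟩ := Nat.exists_eq_pow_mul_and_not_dvd hN p hp.ne_one
  have hN'0 : N' ≠ 0 := by
    rintro rfl
    exact hN' (dvd_zero p)
  have hN'c : (N' : ℂ) ≠ 0 := by exact_mod_cast hN'0
  have ht : N.factorization p = t := by
    rw [hNeq, Nat.factorization_mul (pow_ne_zero _ hp.ne_zero) hN'0,
      Nat.Prime.factorization_pow hp, Finsupp.add_apply, Finsupp.single_eq_same,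
      Nat.factorization_eq_zero_of_not_dvd hN', add_zero]
  rw [ht] at hlt
  have h2 : p ^ (t + 1) ∣ n := (hp.pow_dvd_iff_le_factorization hn).mpr hlt
  obtain ⟨m, hm⟩ := h2
  have h3 : (n : ℂ) / (N : ℂ) = (p : ℂ) * ((m : ℂ) * (N' : ℂ)⁻¹) := by
    rw [hm, hNeq, pow_succ]
    push_cast
    field_simp
  have h4 : MemLocalIdeal M ((n : ℂ) / (N : ℂ)) := by
    rw [h3]
    apply memLocalIdeal_mul_right (memLocalIdeal_prime hM)
    apply memLocalRing_mul (memLocalRing_natCast m)
    apply memLocalRing_inv (memLocalRing_natCast N')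
    rw [memLocalIdeal_natCast_iff hM]
    exact hN'
  apply not_memLocalIdeal_one (M := M)
  have := memLocalIdeal_sub h4 h
  rwa [sub_sub_cancel] at this

end Arithmetic

end Cfsg.Agent.Helper18
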