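import Mathlib
import Cfsg.Prelude.Def_Blocks
import Cfsg.Agent.Lib.Helper24.CharInduced
import Cfsg.Agent.Lib.Helper24.CharAbelian
import Cfsg.Agent.Lib.Helper8.CharExtra

/-!
# The ring of generalized characters (helper18's library)
-/

set_option autoImplicit false

namespace Cfsg.Agent.Helper18

open Cfsg Cfsg.Agent.Helper24

universe u

section Ring

variable {G : Type u} [Group G]

theorem isGenChar_of_isCharacter {χ : G → ℂ} (h : IsCharacter G χ) :
    IsGeneralizedCharacter G χ :=
  ⟨χ, 0, h, isCharacter_zero, by simp⟩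

theorem isGenChar_zero : IsGeneralizedCharacter G (0 : G → ℂ) :=
  isGenChar_of_isCharacter isCharacter_zero

theorem isGenChar_one : IsGeneralizedCharacter G (fun _ => (1 : ℂ)) :=
  isGenChar_of_isCharacter isCharacter_one

theorem isGenChar_add {θ η : G → ℂ} (hθ : IsGeneralizedCharacter G θ)
    (hη : IsGeneralizedCharacter G η) : IsGeneralizedCharacter G (θ + η) := by
  obtain ⟨a, b, ha, hb, rfl⟩ := hθ
  obtain ⟨c, d, hc, hd, rfl⟩ := hη
  exact ⟨a + c, b + d, isCharacter_add ha hc, isCharacter_add hb hd, by abel⟩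

theorem isGenChar_neg {θ : G → ℂ} (hθ : IsGeneralizedCharacter G θ) :
    IsGeneralizedCharacter G (-θ) := by
  obtain ⟨a, b, ha, hb, rfl⟩ := hθ
  exact ⟨b, a, hb, ha, by abel⟩

theorem isGenChar_sub {θ η : G → ℂ} (hθ : IsGeneralizedCharacter G θ)
    (hη : IsGeneralizedCharacter G η) : IsGeneralizedCharacter G (θ - η) := by
  rw [sub_eq_add_neg]
  exact isGenChar_add hθ (isGenChar_neg hη)

theorem isGenChar_mul {θ η : G → ℂ} (hθ : IsGeneralizedCharacter G θ)
    (hη : IsGeneralizedCharacter G η) : IsGeneralizedCharacter G (θ * η) := by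
  obtain ⟨a, b, ha, hb, rfl⟩ := hθ
  obtain ⟨c, d, hc, hd, rfl⟩ := hη
  refine ⟨a * c + b * d, a * d + b * c,
    isCharacter_add (isCharacter_mul ha hc) (isCharacter_mul hb hd),
    isCharacter_add (isCharacter_mul ha hd) (isCharacter_mul hb hc), ?_⟩
  ring

theorem isGenChar_sum {ι : Type*} (s : Finset ι) (f : ι → G → ℂ)
    (h : ∀ i ∈ s, IsGeneralizedCharacter G (f i)) :
    IsGeneralizedCharacter G (∑ i ∈ s, f i) := by
  classical
  induction s using Finset.induction_on with
  | empty => simpa using isGenChar_zero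
  | insert a s ha ih =>
    rw [Finset.sum_insert ha]
    exact isGenChar_add (h a (Finset.mem_insert_self a s))
      (ih fun i hi => h i (Finset.mem_insert_of_mem hi))

theorem isGenChar_natCast_smul (n : ℕ) {θ : G → ℂ} (hθ : IsGeneralizedCharacter G θ) :
    IsGeneralizedCharacter G ((n : ℂ) • θ) := by
  obtain ⟨a, b, ha, hb, rfl⟩ := hθ
  exact ⟨(n : ℂ) • a, (n : ℂ) • b, isCharacter_natCast_smul n ha, isCharacter_natCast_smul n hb,
    by rw [smul_sub]⟩

theorem isGenChar_intCast_smul (z : ℤ) {θ : G → ℂ} (hθ : IsGeneralizedCharacter G θ) :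
    IsGeneralizedCharacter G ((z : ℂ) • θ) := by
  obtain ⟨n, rfl | rfl⟩ := Int.eq_nat_or_neg z
  · simpa using isGenChar_natCast_smul n hθ
  · have : (((-(n : ℤ) : ℤ) : ℂ)) • θ = -((n : ℂ) • θ) := by
      push_cast
      rw [neg_smul]
    rw [this]
    exact isGenChar_neg (isGenChar_natCast_smul n hθ)

theorem isGenChar_restrict (K : Subgroup G) {θ : G → ℂ} (hθ : IsGeneralizedCharacter G θ) :
    IsGeneralizedCharacter K (fun k : K => θ k) := by
  obtain ⟨a, b, ha, hb, rfl⟩ := hθ
  exact ⟨fun k : K => a k, fun k : K => b k, isCharacter_restrict K ha, isCharacter_restrict K hb,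
    rfl⟩

theorem isGenChar_comp {H : Type u} [Group H] (f : H →* G) {θ : G → ℂ}
    (hθ : IsGeneralizedCharacter G θ) : IsGeneralizedCharacter H (θ ∘ f) := by
  obtain ⟨a, b, ha, hb, rfl⟩ := hθ
  exact ⟨a ∘ f, b ∘ f, isCharacter_comp f ha, isCharacter_comp f hb, rfl⟩

end Ring

section Finite

variable {G : Type u} [Group G] [Fintype G]

theorem indFun_sub' (H : Subgroup G) (θ η : H → ℂ) :
    indFun H (θ - η) = indFun H θ - indFun H η := by
  rw [sub_eq_add_neg, ← neg_one_smul ℂ η, indFun_add, indFun_smul, neg_one_smul,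
    ← sub_eq_add_neg]

theorem indFun_zero' (H : Subgroup G) : indFun H (0 : H → ℂ) = 0 := by
  have := indFun_smul H 0 (0 : H → ℂ)
  simpa using this

theorem indFun_sum' {ι : Type*} (H : Subgroup G) (s : Finset ι) (f : ι → H → ℂ) :
    indFun H (∑ i ∈ s, f i) = ∑ i ∈ s, indFun H (f i) := by
  classical
  induction s using Finset.induction_on with
  | empty => simpa using indFun_zero' H
  | insert a s ha ih => rw [Finset.sum_insert ha, Finset.sum_insert ha, indFun_add, ih]

theorem isGenChar_indFun (H : Subgroup G) {θ : H → ℂ} (hθ : IsGeneralizedCharacter H θ) :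
    IsGeneralizedCharacter G (indFun H θ) := by
  obtain ⟨a, b, ha, hb, rfl⟩ := hθ
  exact ⟨indFun H a, indFun H b, isCharacter_indFun H ha, isCharacter_indFun H hb,
    indFun_sub' H a b⟩

/-- A class function with integer multiplicities is a generalized character. -/
theorem isGenChar_of_int_inner [Fintype (IrrCharacter G)] {θ : G → ℂ}
    (hθ : IsClassFunction G θ)
    (h : ∀ μ : IrrCharacter G, ∃ z : ℤ, classInner θ (μ : G → ℂ) = z) :
    IsGeneralizedCharacter G θ := by
  classical
  choose z hz using h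
  have hexp := classFunction_expansion hθ
  simp only [hz] at hexp
  rw [hexp]
  apply isGenChar_sum
  intro μ _
  exact isGenChar_intCast_smul _ (isGenChar_of_isCharacter (isCharacter_of_isIrrCharacter μ.2))

/-- The expansion of a generalized character with integer coefficients. -/
theorem genChar_expansion [Fintype (IrrCharacter G)] {θ : G → ℂ}
    (hθ : IsGeneralizedCharacter G θ) :
    ∃ z : IrrCharacter G → ℤ, θ = ∑ μ : IrrCharacter G, (z μ : ℂ) • (μ : G → ℂ) := by
  classical
  choose z hz using Cfsg.Agent.Helper8.genChar_inner_int hθ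
  refine ⟨z, ?_⟩
  have hexp := classFunction_expansion
    (Cfsg.Agent.Helper8.isClassFunction_of_isGeneralizedCharacter hθ)
  simp only [hz] at hexp
  exact hexp

/-- A generalized character of a finite abelian group is an integer combination of homomorphisms
to `ℂˣ`. -/
theorem genChar_comm_exists_list (hcomm : ∀ a b : G, a * b = b * a) {θ : G → ℂ}
    (hθ : IsGeneralizedCharacter G θ) :
    ∃ l : List ((G →* ℂˣ) × ℤ),
      θ = (l.map fun t => (t.2 : ℂ) • (fun g : G => ((t.1 g : ℂˣ) : ℂ))).sum := by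
  classical
  letI : Fintype (IrrCharacter G) := irrFintype
  obtain ⟨z, hz⟩ := genChar_expansion hθ
  have hdeg : ∀ μ : IrrCharacter G, (μ : G → ℂ) 1 = 1 := by
    intro μ
    rw [irr_one_eq_charDegree μ.2, charDegree_eq_one_of_comm hcomm μ.2, Nat.cast_one]
  refine ⟨(Finset.univ : Finset (IrrCharacter G)).toList.map
    (fun μ => (linHom (isCharacter_of_isIrrCharacter μ.2) (hdeg μ), z μ)), ?_⟩
  rw [List.map_map, Finset.sum_map_toList, hz]
  refine Finset.sum_congr rfl fun μ _ => ?_
  rfl

end Finite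

end Cfsg.Agent.Helper18
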