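import Mathlib

/-!
# Banaschewski's lemma on rings of integer-valued functions (helper18's library)
-/

set_option autoImplicit false

namespace Cfsg.Agent.Helper18

/-- If a ring `R` of integer-valued functions on a finite set takes, at each point `x` and for each
prime `p`, some value not divisible by `p`, then the constant function `1` lies in `R`. -/
theorem one_mem_of_forall_prime {S : Type*} [Fintype S] (R : AddSubgroup (S → ℂ))
    (hmul : ∀ f ∈ R, ∀ g ∈ R, f * g ∈ R)
    (hint : ∀ f ∈ R, ∀ x, ∃ z : ℤ, f x = z)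
    (hp : ∀ x : S, ∀ p : ℕ, p.Prime → ∃ f ∈ R, ∃ z : ℤ, f x = z ∧ ¬ (p : ℤ) ∣ z) :
    (1 : S → ℂ) ∈ R := by
  classical
  -- Step 1: a function with value one at each point
  have h1 : ∀ x : S, ∃ f ∈ R, f x = 1 := by
    intro x
    let I : Ideal ℤ :=
      { carrier := {z | ∃ f ∈ R, f x = z}
        add_mem' := by
          rintro a b ⟨f, hf, hfa⟩ ⟨g, hg, hgb⟩
          refine ⟨f + g, R.add_mem hf hg, ?_⟩
          rw [Pi.add_apply, hfa, hgb]
          push_cast
          rfl
        zero_mem' := ⟨0, R.zero_mem, by simp⟩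
        smul_mem' := by
          rintro c a ⟨f, hf, hfa⟩
          refine ⟨c • f, R.zsmul_mem hf c, ?_⟩
          rw [Pi.smul_apply, hfa, zsmul_eq_mul, smul_eq_mul]
          push_cast
          rfl }
    have hI : ∀ z : ℤ, z ∈ I ↔ ∃ f ∈ R, f x = z := fun z => Iff.rfl
    have hprin : Submodule.IsPrincipal I := IsPrincipalIdealRing.principal I
    set m := Submodule.IsPrincipal.generator I with hm
    have hmI : m ∈ I := Submodule.IsPrincipal.generator_mem I
    by_cases hm1 : m.natAbs = 1
    · rcases Int.natAbs_eq m with h | h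
      · rw [hm1] at h
        obtain ⟨f, hf, hfx⟩ := (hI m).mp hmI
        refine ⟨f, hf, ?_⟩
        rw [hfx, h]
        simp
      · rw [hm1] at h
        obtain ⟨f, hf, hfx⟩ := (hI m).mp hmI
        refine ⟨-f, R.neg_mem hf, ?_⟩
        rw [Pi.neg_apply, hfx, h]
        simp
    · exfalso
      obtain ⟨p, hpp, hpm⟩ := Nat.exists_prime_and_dvd hm1
      obtain ⟨f, hf, z, hfz, hz⟩ := hp x p hpp
      have hzI : z ∈ I := (hI z).mpr ⟨f, hf, hfz⟩
      obtain ⟨s, hs⟩ := (Submodule.IsPrincipal.mem_iff_eq_smul_generator I).mp hzI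
      apply hz
      rw [hs, smul_eq_mul]
      apply Dvd.dvd.mul_left
      exact Int.natCast_dvd.mpr hpm
  choose f hfR hfx using h1
  -- Step 2: expand the product
  have h2 : ∀ T : Finset S, (1 : S → ℂ) - ∏ x ∈ T, (1 - f x) ∈ R := by
    intro T
    induction T using Finset.induction_on with
    | empty =>
      rw [Finset.prod_empty, sub_self]
      exact R.zero_mem
    | insert a T ha ih =>
      rw [Finset.prod_insert ha]
      have h3 : (1 : S → ℂ) - (1 - f a) * ∏ x ∈ T, (1 - f x) =
          f a + (1 - ∏ x ∈ T, (1 - f x)) - f a * (1 - ∏ x ∈ T, (1 - f x)) := by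
        ring
      rw [h3]
      exact R.sub_mem (R.add_mem (hfR a) ih) (hmul _ (hfR a) _ ih)
  have h4 : ∏ x ∈ (Finset.univ : Finset S), (1 - f x) = 0 := by
    funext y
    rw [Finset.prod_apply]
    apply Finset.prod_eq_zero (Finset.mem_univ y)
    rw [Pi.sub_apply, hfx y]
    simp
  have h5 := h2 Finset.univ
  rwa [h4, sub_zero] at h5

end Cfsg.Agent.Helper18
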