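import Mathlib
import Cfsg.Prelude.Def_Blocks
import Cfsg.Agent.Lib.Helper24.CharCentral
import Cfsg.Agent.Lib.Helper24.CharLinear

/-!
# Degree divides the index of a subgroup acting by scalars (helper18's shared library)
-/

set_option autoImplicit false

namespace Cfsg.Agent.Helper18

open Cfsg Cfsg.Agent.Helper24
open scoped ComplexConjugate

/-- Summing a right-`A`-invariant function over the group, organised by cosets. -/
theorem sum_eq_card_mul_sum_out {G : Type*} [Group G] [Fintype G] (A : Subgroup G)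
    [Fintype (G ⧸ A)] (F : G → ℂ) (hF : ∀ g a : G, a ∈ A → F (g * a) = F g) :
    ∑ g : G, F g = (Nat.card A : ℂ) * ∑ q : G ⧸ A, F q.out := by
  classical
  let φ : (G ⧸ A) × A → G := fun p => p.1.out * (p.2 : G)
  have hφmk : ∀ p : (G ⧸ A) × A, (QuotientGroup.mk (φ p) : G ⧸ A) = p.1 := by
    intro p
    have : (QuotientGroup.mk (p.1.out * (p.2 : G)) : G ⧸ A) = QuotientGroup.mk p.1.out := by
      rw [QuotientGroup.eq]
      simp
    show (QuotientGroup.mk (p.1.out * (p.2 : G)) : G ⧸ A) = p.1
    rw [this]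
    exact QuotientGroup.out_eq' p.1
  have hφ : Function.Bijective φ := by
    constructor
    · rintro ⟨q, a⟩ ⟨q', a'⟩ h
      have h1 : q = q' := by
        have := congrArg (fun g => (QuotientGroup.mk g : G ⧸ A)) h
        simp only [hφmk] at this
        exact this
      subst h1
      have h2 : (a : G) = a' := mul_left_cancel h
      rw [Subtype.ext h2]
    · intro g
      have hmem : ((QuotientGroup.mk g : G ⧸ A).out)⁻¹ * g ∈ A := by
        rw [← QuotientGroup.eq]
        exact QuotientGroup.out_eq' _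
      exact ⟨(QuotientGroup.mk g, ⟨_, hmem⟩), by simp [φ]⟩
  rw [← Fintype.sum_bijective φ hφ (fun p => F (φ p)) F (fun p => rfl), Fintype.sum_prod_type,
    Finset.mul_sum]
  refine Finset.sum_congr rfl fun q _ => ?_
  have : ∀ a : A, F (φ (q, a)) = F q.out := fun a => hF q.out a a.2
  simp only [this, Finset.sum_const, Finset.card_univ, nsmul_eq_mul, Nat.card_eq_fintype_card]

/-- If a subgroup `A` acts by scalars in an irreducible complex representation of `G`, the degree
divides the index of `A`. -/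
theorem finrank_dvd_index_of_scalar {G : Type*} [Group G] [Finite G] {V : Type*} [AddCommGroup V]
    [Module ℂ V] [FiniteDimensional ℂ V] (ρ : Representation ℂ G V) (hρ : ρ.IsIrreducible)
    (A : Subgroup G) (hA : ∀ a ∈ A, ∃ c : ℂ, ρ a = c • (1 : Module.End ℂ V)) :
    Module.finrank ℂ V ∣ A.index := by
  classical
  letI : Fintype G := Fintype.ofFinite G
  letI : Fintype (G ⧸ A) := Fintype.ofFinite _
  set χ := ρ.character with hχdef
  have hirr : IsIrrCharacter G χ := isIrrCharacter_of_rep ρ hρ
  have hnt : Nontrivial V := ((isIrreducible_iff ρ).mp hρ).1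
  set d := Module.finrank ℂ V with hd
  have hdpos : 0 < d := Module.finrank_pos
  have hd0 : (d : ℂ) ≠ 0 := by exact_mod_cast hdpos.ne'
  have hχ1 : χ 1 = d := Representation.char_one ρ
  have hone : (1 : Module.End ℂ V) ≠ 0 := one_ne_zero
  set n := Nat.card G with hn
  have hnpos : 0 < n := Nat.card_pos
  -- Step 1: invariance
  have hF : ∀ (x g a : G), a ∈ A → χ ((g * a)⁻¹) * χ (g * a * x) = χ g⁻¹ * χ (g * x) := by
    intro x g a ha
    obtain ⟨c, hc⟩ := hA a ha
    obtain ⟨c', hc'⟩ := hA a⁻¹ (A.inv_mem ha)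
    have hcc' : c' * c = 1 := by
      have h1 : ρ a⁻¹ * ρ a = 1 := by rw [← map_mul, inv_mul_cancel, map_one]
      rw [hc, hc', smul_mul_smul_comm, mul_one] at h1
      have h2 : (c' * c - 1) • (1 : Module.End ℂ V) = 0 := by
        rw [sub_smul, h1, one_smul, sub_self]
      rcases smul_eq_zero.mp h2 with h | h
      · exact sub_eq_zero.mp h
      · exact absurd h hone
    have e1 : χ ((g * a)⁻¹) = c' * χ g⁻¹ := by
      simp only [hχdef, Representation.character, mul_inv_rev, map_mul, hc']
      rw [smul_mul_assoc, one_mul, map_smul, smul_eq_mul]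
    have e2 : χ (g * a * x) = c * χ (g * x) := by
      simp only [hχdef, Representation.character, map_mul, hc]
      rw [mul_smul_comm, mul_one, smul_mul_assoc, map_smul, smul_eq_mul]
    rw [e1, e2]
    linear_combination (χ g⁻¹ * χ (g * x)) * hcc'
  -- Step 2: generalized orthogonality
  have hgo : ∀ x : G, ∑ g : G, χ g⁻¹ * χ (g * x) = (n : ℂ) * χ x / d := by
    intro x
    have h := generalized_orthogonality hirr hirr x
    rw [if_pos rfl, hχ1] at h
    rw [← h]
    exact Fintype.sum_equiv (Equiv.inv G) _ _ (fun g => by simp)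
  -- Steps 3, 4
  have hAcard : (Nat.card A : ℂ) ≠ 0 := by
    exact_mod_cast (Nat.card_pos (α := A)).ne'
  have hidx : (n : ℂ) = (Nat.card A : ℂ) * (A.index : ℂ) := by
    rw [hn, ← A.card_mul_index]; push_cast; ring
  set u : ℂ := (A.index : ℂ) / d with hu
  have hkey : ∀ x : G, u * χ x = ∑ q : G ⧸ A, χ (q.out)⁻¹ * χ (q.out * x) := by
    intro x
    have h1 := sum_eq_card_mul_sum_out A (fun g => χ g⁻¹ * χ (g * x))
      (fun g a ha => hF x g a ha)
    rw [hgo x, hidx] at h1
    have h2 : (Nat.card A : ℂ) * (u * χ x) =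
        (Nat.card A : ℂ) * ∑ q : G ⧸ A, χ (q.out)⁻¹ * χ (q.out * x) := by
      rw [← h1, hu]
      field_simp
    exact mul_left_cancel₀ hAcard h2
  -- Step 5: the module
  let R : Set ℂ := {w : ℂ | w ^ n = 1}
  have hRfin : R.Finite := by
    have : R = ↑(Polynomial.nthRootsFinset n (1 : ℂ)) := by
      ext w
      simp only [R, Set.mem_ofPred_eq, Finset.mem_coe, Polynomial.mem_nthRootsFinset hnpos]
    rw [this]
    exact Finset.finite_toSet _
  let S : Set ℂ := Set.image2 (fun w z => w * z) R (Set.range χ)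
  have hSfin : S.Finite := hRfin.image2 _ (Set.finite_range χ)
  let N : Submodule ℤ ℂ := Submodule.span ℤ S
  have hN : N ≠ ⊥ := by
    intro h
    have h1 : (d : ℂ) ∈ N := by
      apply Submodule.subset_span
      refine ⟨1, by simp [R], χ 1, ⟨1, rfl⟩, ?_⟩
      simp [hχ1]
    rw [h, Submodule.mem_bot] at h1
    exact hd0 h1
  have hfg : N.FG := Submodule.fg_span hSfin
  have hint : IsIntegral ℤ u := by
    refine isIntegral_of_smul_mem_submodule N hN hfg u ?_
    intro m hm
    induction hm using Submodule.span_induction with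
    | mem z hz =>
      obtain ⟨w, hw, _, ⟨y, rfl⟩, rfl⟩ := hz
      have h1 : u • (w * χ y) = ∑ q : G ⧸ A, w * (χ (q.out)⁻¹ * χ (q.out * y)) := by
        rw [smul_eq_mul, ← Finset.mul_sum, ← hkey y]
        ring
      rw [h1]
      refine Submodule.sum_mem _ fun q _ => ?_
      obtain ⟨μ, hμ, hpow, -⟩ := exists_roots_of_unity ρ (q.out)⁻¹
      have h2 : χ (q.out)⁻¹ = ∑ i, μ i := by
        have := hpow 1
        simpa using this
      rw [h2, Finset.sum_mul, Finset.mul_sum]
      refine Submodule.sum_mem _ fun i _ => ?_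
      apply Submodule.subset_span
      refine ⟨w * μ i, ?_, χ (q.out * y), ⟨_, rfl⟩, ?_⟩
      · show (w * μ i) ^ n = 1
        rw [mul_pow, hw, hμ i, one_mul]
      · ring
    | zero => simp
    | add a b _ _ ha hb =>
      rw [smul_add]
      exact Submodule.add_mem _ ha hb
    | smul k a _ ha =>
      rw [smul_comm]
      exact Submodule.smul_mem _ _ ha
  -- Step 6: divisibility
  have hdq : (d : ℚ) ≠ 0 := by exact_mod_cast hdpos.ne'
  have h2 : u = algebraMap ℚ ℂ ((A.index : ℚ) / (d : ℚ)) := by
    simp [hu]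
  rw [h2, isIntegral_algebraMap_iff (algebraMap ℚ ℂ).injective] at hint
  obtain ⟨m, hm⟩ := IsIntegrallyClosed.isIntegral_iff.mp hint
  have h3 : (m : ℚ) * d = A.index := by
    have : (algebraMap ℤ ℚ m) = (m : ℚ) := rfl
    rw [this] at hm
    rw [hm]
    field_simp
  have h4 : (m * (d : ℤ)) = (A.index : ℤ) := by exact_mod_cast h3
  have h5 : (d : ℤ) ∣ (A.index : ℤ) := ⟨m, by rw [← h4]; ring⟩
  exact_mod_cast h5

end Cfsg.Agent.Helper18
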