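import Mathlib
import Cfsg.Prelude.Def_Blocks
import Cfsg.Agent.Lib.Helper18.ScalarSubgroup
import Cfsg.Agent.Lib.Helper24.CharInduced
import Cfsg.Agent.Lib.Helper3.Supersolvable3

/-!
# Induction and quotients, monomial characters (helper18's shared library)
-/

set_option autoImplicit false
set_option linter.style.haveILetI false
set_option linter.unusedSectionVars false

namespace Cfsg.Agent.Helper18

open Cfsg Cfsg.Agent.Helper24

universe u

/-- A nilpotent group that is not abelian has a normal abelian subgroup not contained in the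
centre. -/
theorem exists_normal_abelian_not_le_center {G : Type u} [Group G] [Group.IsNilpotent G]
    (hnc : ¬ ∀ a b : G, a * b = b * a) :
    ∃ A : Subgroup G, A.Normal ∧ (∀ a ∈ A, ∀ b ∈ A, a * b = b * a) ∧ ¬ A ≤ Subgroup.center G := by
  classical
  have hZtop : Subgroup.center G ≠ ⊤ := by
    intro h
    apply hnc
    intro a b
    have : a ∈ Subgroup.center G := by rw [h]; trivial
    exact (Subgroup.mem_center_iff.mp this b).symm
  haveI : Nontrivial (G ⧸ Subgroup.center G) := by
    rw [QuotientGroup.nontrivial_iff]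
    exact hZtop
  have hcne := Group.IsNilpotent.center_ne_bot (G ⧸ Subgroup.center G)
  rcases Subgroup.bot_or_exists_ne_one (Subgroup.center (G ⧸ Subgroup.center G)) with h | h
  · exact absurd h hcne
  obtain ⟨xbar, hxbar, hxbar1⟩ := h
  obtain ⟨x, rfl⟩ := QuotientGroup.mk_surjective xbar
  have hxZ : x ∉ Subgroup.center G := by
    intro h
    exact hxbar1 ((QuotientGroup.eq_one_iff x).mpr h)
  have hle : Subgroup.zpowers (x : G ⧸ Subgroup.center G) ≤
      Subgroup.center (G ⧸ Subgroup.center G) := by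
    rw [Subgroup.zpowers_le]
    exact hxbar
  have hnorm : (Subgroup.zpowers (x : G ⧸ Subgroup.center G)).Normal := by
    constructor
    intro n hn g
    have := Subgroup.mem_center_iff.mp (hle hn) g
    have e : g * n * g⁻¹ = n := by rw [this, mul_inv_cancel_right]
    rw [e]; exact hn
  refine ⟨(Subgroup.zpowers (x : G ⧸ Subgroup.center G)).comap
    (QuotientGroup.mk' (Subgroup.center G)), hnorm.comap _, ?_, ?_⟩
  · intro a ha b hb
    rw [Subgroup.mem_comap, Subgroup.mem_zpowers_iff] at ha hb
    obtain ⟨i, hi⟩ := ha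
    obtain ⟨j, hj⟩ := hb
    have ha' : (x ^ i)⁻¹ * a ∈ Subgroup.center G := by
      rw [← QuotientGroup.eq]
      simpa using hi
    have hb' : (x ^ j)⁻¹ * b ∈ Subgroup.center G := by
      rw [← QuotientGroup.eq]
      simpa using hj
    have ea : a = x ^ i * ((x ^ i)⁻¹ * a) := by group
    have eb : b = x ^ j * ((x ^ j)⁻¹ * b) := by group
    set z₁ := (x ^ i)⁻¹ * a with hz₁
    set z₂ := (x ^ j)⁻¹ * b with hz₂
    have c1 := Subgroup.mem_center_iff.mp ha'
    have c2 := Subgroup.mem_center_iff.mp hb'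
    rw [ea, eb]
    calc x ^ i * z₁ * (x ^ j * z₂) = x ^ i * (z₁ * x ^ j) * z₂ := by group
      _ = x ^ i * (x ^ j * z₁) * z₂ := by rw [c1]
      _ = (x ^ i * x ^ j) * (z₁ * z₂) := by group
      _ = (x ^ j * x ^ i) * (z₂ * z₁) := by
        rw [← zpow_add, ← zpow_add, add_comm, c2 z₁]
      _ = x ^ j * (x ^ i * z₂) * z₁ := by group
      _ = x ^ j * (z₂ * x ^ i) * z₁ := by rw [c2]
      _ = x ^ j * z₂ * (x ^ i * z₁) := by group
  · intro h
    apply hxZ
    apply h
    rw [Subgroup.mem_comap]
    exact Subgroup.mem_zpowers _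

section IndQuot

variable {G : Type u} [Group G] [Fintype G]

/-- Induction commutes with inflation from a quotient. -/
theorem indFun_comap_mk (K : Subgroup G) [K.Normal] [Fintype (G ⧸ K)] (Hbar : Subgroup (G ⧸ K))
    (θ : Hbar → ℂ) :
    indFun (Hbar.comap (QuotientGroup.mk' K))
        (fun h => θ ⟨QuotientGroup.mk' K (h : G), Subgroup.mem_comap.mp h.2⟩) =
      (indFun Hbar θ) ∘ (QuotientGroup.mk : G → G ⧸ K) := by
  classical
  funext g
  rw [Function.comp_apply, indFun_apply, indFun_apply]
  have hext : ∀ y : G, extendByZero (Hbar.comap (QuotientGroup.mk' K))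
      (fun h => θ ⟨QuotientGroup.mk' K (h : G), Subgroup.mem_comap.mp h.2⟩) y =
      extendByZero Hbar θ (QuotientGroup.mk y) := by
    intro y
    by_cases hy : y ∈ Hbar.comap (QuotientGroup.mk' K)
    · have hy' : (QuotientGroup.mk y : G ⧸ K) ∈ Hbar := hy
      rw [extendByZero_of_mem _ _ hy, extendByZero_of_mem Hbar θ hy']
      rfl
    · have hy' : (QuotientGroup.mk y : G ⧸ K) ∉ Hbar := hy
      rw [extendByZero_of_not_mem _ _ hy, extendByZero_of_not_mem Hbar θ hy']
  simp only [hext]
  have hsum := sum_eq_card_mul_sum_out K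
    (fun x => extendByZero Hbar θ (QuotientGroup.mk (x⁻¹ * g * x))) (by
      intro x k hk
      show extendByZero Hbar θ (QuotientGroup.mk ((x * k)⁻¹ * g * (x * k))) =
        extendByZero Hbar θ (QuotientGroup.mk (x⁻¹ * g * x))
      congr 1
      have hk1 : (QuotientGroup.mk k : G ⧸ K) = 1 := (QuotientGroup.eq_one_iff k).mpr hk
      simp only [QuotientGroup.mk_mul, QuotientGroup.mk_inv, hk1, mul_one])
  rw [hsum]
  have hq : ∀ q : G ⧸ K, extendByZero Hbar θ (QuotientGroup.mk ((q.out)⁻¹ * g * q.out)) =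
      extendByZero Hbar θ (q⁻¹ * (QuotientGroup.mk g) * q) := by
    intro q
    congr 1
    simp only [QuotientGroup.mk_mul, QuotientGroup.mk_inv, QuotientGroup.out_eq']
  simp only [hq]
  have hcard : Nat.card (Hbar.comap (QuotientGroup.mk' K)) = Nat.card Hbar * Nat.card K :=
    Cfsg.Agent.Helper3.card_comap_mk' K Hbar
  rw [hcard]
  have hK0 : (Nat.card K : ℂ) ≠ 0 := by exact_mod_cast (Nat.card_pos (α := K)).ne'
  have hH0 : (Nat.card Hbar : ℂ) ≠ 0 := by exact_mod_cast (Nat.card_pos (α := Hbar)).ne'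
  push_cast
  field_simp

/-- Inducing from the whole group does nothing to a class function. -/
theorem indFun_top {θ : G → ℂ} (hθ : IsClassFunction G θ) :
    indFun (⊤ : Subgroup G) (fun h => θ (h : G)) = θ := by
  classical
  funext g
  rw [indFun_apply]
  have h1 : ∀ x : G, extendByZero (⊤ : Subgroup G) (fun h => θ (h : G)) (x⁻¹ * g * x) = θ g := by
    intro x
    rw [extendByZero_of_mem _ _ (Subgroup.mem_top _)]
    show θ (x⁻¹ * g * x) = θ g
    have := hθ g x⁻¹
    rw [inv_inv] at this
    exact this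
  simp only [h1, Finset.sum_const, Finset.card_univ, nsmul_eq_mul]
  have hcard : Nat.card (⊤ : Subgroup G) = Fintype.card G := by
    rw [Subgroup.card_top, Nat.card_eq_fintype_card]
  rw [hcard]
  have h0 : (Fintype.card G : ℂ) ≠ 0 := by exact_mod_cast Fintype.card_ne_zero
  field_simp

end IndQuot

end Cfsg.Agent.Helper18
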