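import Mathlib

set_option autoImplicit false

namespace Cfsg.Agent.Helper18

/-- Key computation behind the structure of Frobenius complements: if `Q ⋊ Y` acts on an abelian
group `N` so that the non-identity elements of `Q` and of `Y` act without fixed points, and
`Y` acts without fixed points on `Q`, then `N` has exponent dividing `|Q|`. -/
theorem pow_card_eq_one_of_fpf {N F : Type*} [Group N] [Group F] [MulDistribMulAction F N]
    (hcomm : ∀ a b : N, a * b = b * a)
    (Q Y : Subgroup F) [Finite Q] [Finite Y]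
    (hYQ : ∀ t ∈ Y, ∀ s ∈ Q, t * s * t⁻¹ ∈ Q)
    (hQ : ∃ s ∈ Q, s ≠ 1)
    (hQN : ∀ s ∈ Q, s ≠ 1 → ∀ n : N, s • n = n → n = 1)
    (hY : ∃ t ∈ Y, t ≠ 1)
    (hYN : ∀ t ∈ Y, t ≠ 1 → ∀ n : N, t • n = n → n = 1)
    (hYQ' : ∀ t ∈ Y, t ≠ 1 → ∀ s ∈ Q, t * s = s * t → s = 1)
    (n : N) : n ^ Nat.card Q = 1 := by
  classical
  letI : CommGroup N := { ‹Group N› with mul_comm := hcomm }
  letI : Fintype Q := Fintype.ofFinite Q
  letI : Fintype Y := Fintype.ofFinite Y
  -- the trace over a subgroup is fixed by the subgroup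
  have hfix : ∀ (S : Subgroup F) [Fintype S] (s₀ : F) (hs₀ : s₀ ∈ S) (m : N),
      s₀ • (∏ s : S, (s : F) • m) = ∏ s : S, (s : F) • m := by
    intro S _ s₀ hs₀ m
    have h1 : s₀ • (∏ s : S, (s : F) • m) = ∏ s : S, s₀ • ((s : F) • m) :=
      map_prod (MulDistribMulAction.toMonoidHom N s₀) _ _
    rw [h1]
    refine Fintype.prod_equiv (Equiv.mulLeft (⟨s₀, hs₀⟩ : S)) _ _ ?_
    intro s
    simp [mul_smul]
  have hTQ : ∀ m : N, ∏ s : Q, (s : F) • m = 1 := by
    intro m
    obtain ⟨s₀, hs₀, hne⟩ := hQ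
    exact hQN s₀ hs₀ hne _ (hfix Q s₀ hs₀ m)
  have hTY : ∀ m : N, ∏ t : Y, (t : F) • m = 1 := by
    intro m
    obtain ⟨t₀, ht₀, hne⟩ := hY
    exact hYN t₀ ht₀ hne _ (hfix Y t₀ ht₀ m)
  -- the double product, computed in two ways
  have hD1 : ∏ s : Q, ∏ t : Y, ((s : F) * (t : F) * (s : F)⁻¹) • n = 1 := by
    apply Finset.prod_eq_one
    intro s _
    have h1 : ∏ t : Y, ((s : F) * (t : F) * (s : F)⁻¹) • n
        = (s : F) • ∏ t : Y, (t : F) • ((s : F)⁻¹ • n) := by
      rw [show (s : F) • ∏ t : Y, (t : F) • ((s : F)⁻¹ • n)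
        = ∏ t : Y, (s : F) • ((t : F) • ((s : F)⁻¹ • n)) from
          map_prod (MulDistribMulAction.toMonoidHom N (s : F)) _ _]
      apply Finset.prod_congr rfl
      intro t _
      rw [mul_smul, mul_smul]
    rw [h1, hTY, smul_one]
  have hD2 : ∏ t : Y, ∏ s : Q, ((s : F) * (t : F) * (s : F)⁻¹) • n = n ^ Nat.card Q := by
    have hterm : ∀ t : Y, ∏ s : Q, ((s : F) * (t : F) * (s : F)⁻¹) • n
        = if t = 1 then n ^ Nat.card Q else 1 := by
      intro t
      split_ifs with ht
      · subst ht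
        simp [Finset.prod_const, Nat.card_eq_fintype_card]
      · have ht1 : (t : F) ≠ 1 := fun h => ht (Subtype.ext h)
        -- the commutator map with `t` is a bijection of `Q`
        let c : Q → Q := fun s => ⟨(s : F) * (t : F) * (s : F)⁻¹ * (t : F)⁻¹, by
          have := hYQ t t.2 (s : F)⁻¹ (Q.inv_mem s.2)
          have h2 : (s : F) * (t : F) * (s : F)⁻¹ * (t : F)⁻¹
            = (s : F) * ((t : F) * (s : F)⁻¹ * (t : F)⁻¹) := by group
          rw [h2]
          exact Q.mul_mem s.2 this⟩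
        have hc_inj : Function.Injective c := by
          intro s s' h
          have h3 : (s : F) * (t : F) * (s : F)⁻¹ * (t : F)⁻¹
              = (s' : F) * (t : F) * (s' : F)⁻¹ * (t : F)⁻¹ := congrArg Subtype.val h
          have h4 : (t : F) * ((s' : F)⁻¹ * (s : F)) = ((s' : F)⁻¹ * (s : F)) * (t : F) := by
            have h5 : (s : F) * (t : F) * (s : F)⁻¹ = (s' : F) * (t : F) * (s' : F)⁻¹ :=
              mul_right_cancel h3
            calc (t : F) * ((s' : F)⁻¹ * (s : F))
                = (s' : F)⁻¹ * ((s' : F) * (t : F) * (s' : F)⁻¹) * (s : F) := by group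
              _ = (s' : F)⁻¹ * ((s : F) * (t : F) * (s : F)⁻¹) * (s : F) := by rw [h5]
              _ = ((s' : F)⁻¹ * (s : F)) * (t : F) := by group
          have h6 := hYQ' t t.2 ht1 _ (Q.mul_mem (Q.inv_mem s'.2) s.2) h4
          apply Subtype.ext
          have : (s : F) = (s' : F) * ((s' : F)⁻¹ * (s : F)) := by group
          rw [this, h6, mul_one]
        have hc_bij : Function.Bijective c := Finite.injective_iff_bijective.mp hc_inj
        have h7 : ∏ s : Q, ((s : F) * (t : F) * (s : F)⁻¹) • n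
            = ∏ s : Q, ((c s : Q) : F) • ((t : F) • n) := by
          apply Finset.prod_congr rfl
          intro s _
          rw [← mul_smul]
          congr 1
          show _ = (s : F) * (t : F) * (s : F)⁻¹ * (t : F)⁻¹ * (t : F)
          group
        rw [h7, hc_bij.prod_comp (fun s : Q => (s : F) • ((t : F) • n)), hTQ]
    rw [Finset.prod_congr rfl (fun t _ => hterm t)]
    simp
  rw [← hD2, Finset.prod_comm, hD1]

/-- Commuting elements whose orders are divisible by coprime `p`, `q` give an element of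
order `p * q`. -/
theorem exists_orderOf_eq_mul {G : Type*} [Group G] {a b : G} {p q : ℕ} (hab : Commute a b)
    (hpq : Nat.Coprime p q) (ha0 : orderOf a ≠ 0) (hb0 : orderOf b ≠ 0)
    (ha : p ∣ orderOf a) (hb : q ∣ orderOf b) : ∃ x : G, orderOf x = p * q := by
  refine ⟨a ^ (orderOf a / p) * b ^ (orderOf b / q), ?_⟩
  have h1 := orderOf_pow_orderOf_div ha0 ha
  have h2 := orderOf_pow_orderOf_div hb0 hb
  have := (hab.pow_pow (orderOf a / p) (orderOf b / q)).orderOf_mul_eq_mul_orderOf_of_coprime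
    (by rw [h1, h2]; exact hpq)
  rw [this, h1, h2]

/-- A non-identity element of a `p`-group has order divisible by `p`. -/
theorem dvd_orderOf_of_isPGroup {G : Type*} [Group G] {p : ℕ} (hp : p.Prime) {H : Subgroup G}
    (hH : IsPGroup p H) {a : G} (ha : a ∈ H) (ha1 : a ≠ 1) : p ∣ orderOf a := by
  obtain ⟨k, hk⟩ := hH ⟨a, ha⟩
  have hk' : a ^ p ^ k = 1 := congrArg Subtype.val hk
  obtain ⟨j, -, hj⟩ := (Nat.dvd_prime_pow hp).mp (orderOf_dvd_of_pow_eq_one hk')
  rcases j with _ | j
  · rw [pow_zero, orderOf_eq_one_iff] at hj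
    exact absurd hj ha1
  · rw [hj, pow_succ]
    exact dvd_mul_left p _

/-- The three primes lemma: an abelian `p`-group `A`, a `q`-group `Q` normalizing it and an
element `y` of order `r` normalizing both, all nontrivial, force an element whose order is the
product of two of the primes. -/
theorem three_primes_lemma {G : Type*} [Group G] [Finite G] {p q r : ℕ}
    (hp : p.Prime) (hq : q.Prime) (hr : r.Prime) (hpq : p ≠ q) (hpr : p ≠ r) (hqr : q ≠ r)
    (A Q : Subgroup G) (y : G) (hA : IsPGroup p A) (hAc : ∀ a ∈ A, ∀ b ∈ A, a * b = b * a)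
    (hA1 : A ≠ ⊥) (hQ : IsPGroup q Q) (hQ1 : Q ≠ ⊥) (hy : orderOf y = r)
    (hQA : Q ≤ Subgroup.normalizer (A : Set G)) (hyA : y ∈ Subgroup.normalizer (A : Set G))
    (hyQ : y ∈ Subgroup.normalizer (Q : Set G)) :
    (∃ x : G, orderOf x = p * q) ∨ (∃ x : G, orderOf x = p * r) ∨
      (∃ x : G, orderOf x = q * r) := by
  by_contra hcon
  push Not at hcon
  obtain ⟨h1, h2, h3⟩ := hcon
  have hpq' : Nat.Coprime p q := (Nat.coprime_primes hp hq).mpr hpq
  have hpr' : Nat.Coprime p r := (Nat.coprime_primes hp hr).mpr hpr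
  have hqr' : Nat.Coprime q r := (Nat.coprime_primes hq hr).mpr hqr
  have ho : ∀ g : G, orderOf g ≠ 0 := fun g => (orderOf_pos g).ne'
  -- non-identity powers of `y` have order `r`
  have hYord : ∀ t ∈ Subgroup.zpowers y, t ≠ 1 → r ∣ orderOf t := by
    intro t ht ht1
    have h4 : orderOf t ∣ r := hy ▸ orderOf_dvd_of_mem_zpowers ht
    rcases (Nat.dvd_prime hr).mp h4 with h5 | h5
    · rw [orderOf_eq_one_iff] at h5
      exact absurd h5 ht1
    · rw [h5]
  have hYA : Subgroup.zpowers y ≤ Subgroup.normalizer (A : Set G) :=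
    (Subgroup.zpowers_le).mpr hyA
  have hYQn : Subgroup.zpowers y ≤ Subgroup.normalizer (Q : Set G) :=
    (Subgroup.zpowers_le).mpr hyQ
  have key := pow_card_eq_one_of_fpf (N := ↥A) (F := ↥(Subgroup.normalizer (A : Set G)))
    (fun a b => Subtype.ext (hAc a a.2 b b.2))
    (Q.subgroupOf (Subgroup.normalizer (A : Set G)))
    ((Subgroup.zpowers y).subgroupOf (Subgroup.normalizer (A : Set G)))
    (by
      intro t ht s hs
      rw [Subgroup.mem_subgroupOf] at ht hs ⊢
      have := hYQn ht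
      rw [Subgroup.mem_normalizer_iff] at this
      simpa using (this _).mp hs)
    (by
      obtain ⟨s, hs, hs1⟩ := (Subgroup.bot_or_exists_ne_one Q).resolve_left hQ1
      refine ⟨⟨s, hQA hs⟩, by rw [Subgroup.mem_subgroupOf]; exact hs, ?_⟩
      intro h
      exact hs1 (congrArg Subtype.val h))
    (by
      intro s hs hs1 n hn
      by_contra hn1
      rw [Subgroup.mem_subgroupOf] at hs
      have hs1' : (s : G) ≠ 1 := fun h => hs1 (Subtype.ext h)
      have hn1' : (n : G) ≠ 1 := fun h => hn1 (Subtype.ext h)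
      have hcm : Commute (n : G) (s : G) := by
        have h4 : (s : G) * (n : G) * (s : G)⁻¹ = (n : G) := congrArg Subtype.val hn
        have h5 : (s : G) * (n : G) = (n : G) * (s : G) := by
          calc (s : G) * (n : G) = ((s : G) * (n : G) * (s : G)⁻¹) * (s : G) := by group
            _ = (n : G) * (s : G) := by rw [h4]
        exact h5.symm
      obtain ⟨x, hx⟩ := exists_orderOf_eq_mul hcm hpq' (ho _) (ho _)
        (dvd_orderOf_of_isPGroup hp hA n.2 hn1') (dvd_orderOf_of_isPGroup hq hQ hs hs1')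
      exact h1 x hx)
    (by
      refine ⟨⟨y, hyA⟩, by rw [Subgroup.mem_subgroupOf]; exact Subgroup.mem_zpowers y, ?_⟩
      intro h
      have h4 : y = 1 := congrArg Subtype.val h
      rw [h4, orderOf_one] at hy
      exact hr.one_lt.ne hy)
    (by
      intro t ht ht1 n hn
      by_contra hn1
      rw [Subgroup.mem_subgroupOf] at ht
      have ht1' : (t : G) ≠ 1 := fun h => ht1 (Subtype.ext h)
      have hn1' : (n : G) ≠ 1 := fun h => hn1 (Subtype.ext h)
      have hcm : Commute (n : G) (t : G) := by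
        have h4 : (t : G) * (n : G) * (t : G)⁻¹ = (n : G) := congrArg Subtype.val hn
        have h5 : (t : G) * (n : G) = (n : G) * (t : G) := by
          calc (t : G) * (n : G) = ((t : G) * (n : G) * (t : G)⁻¹) * (t : G) := by group
            _ = (n : G) * (t : G) := by rw [h4]
        exact h5.symm
      obtain ⟨x, hx⟩ := exists_orderOf_eq_mul hcm hpr' (ho _) (ho _)
        (dvd_orderOf_of_isPGroup hp hA n.2 hn1') (hYord _ ht ht1')
      exact h2 x hx)
    (by
      intro t ht ht1 s hs hts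
      by_contra hs1
      rw [Subgroup.mem_subgroupOf] at ht hs
      have ht1' : (t : G) ≠ 1 := fun h => ht1 (Subtype.ext h)
      have hs1' : (s : G) ≠ 1 := fun h => hs1 (Subtype.ext h)
      have hcm : Commute (s : G) (t : G) := (congrArg Subtype.val hts).symm
      obtain ⟨x, hx⟩ := exists_orderOf_eq_mul hcm hqr' (ho _) (ho _)
        (dvd_orderOf_of_isPGroup hq hQ hs hs1') (hYord _ ht ht1')
      exact h3 x hx)
  -- so `A` has exponent dividing `|Q|`, which is coprime to `p`
  apply hA1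
  rw [Subgroup.eq_bot_iff_forall]
  intro a ha
  by_contra ha1
  have h4 := key ⟨a, ha⟩
  have h5 : a ^ Nat.card (Q.subgroupOf (Subgroup.normalizer (A : Set G))) = 1 :=
    congrArg Subtype.val h4
  rw [Nat.card_congr (Subgroup.subgroupOfEquivOfLe hQA).toEquiv] at h5
  have h6 : orderOf a ∣ Nat.card Q := orderOf_dvd_of_pow_eq_one h5
  have h7 : p ∣ Nat.card Q := (dvd_orderOf_of_isPGroup hp hA ha ha1).trans h6
  haveI : Fact q.Prime := ⟨hq⟩
  obtain ⟨k, hk⟩ := IsPGroup.iff_card.mp hQ
  rw [hk] at h7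
  exact hpq ((Nat.prime_dvd_prime_iff_eq hp hq).mp (hp.dvd_of_dvd_pow h7))

/-- Frattini's argument followed by Cauchy's theorem: a nontrivial `q`-subgroup of a normal
subgroup `M` normalized by an element of prime order `r` dividing the index of `M`. -/
theorem exists_sylow_normalized {X : Type*} [Group X] [Finite X] (M : Subgroup X) [M.Normal]
    {q r : ℕ} (hq : q.Prime) (hr : r.Prime) (hqM : q ∣ Nat.card M) (hrM : r ∣ M.index) :
    ∃ (Q : Subgroup X) (y : X), Q ≤ M ∧ IsPGroup q Q ∧ Q ≠ ⊥ ∧ orderOf y = r ∧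
      y ∈ Subgroup.normalizer (Q : Set X) := by
  haveI : Fact q.Prime := ⟨hq⟩
  haveI : Fact r.Prime := ⟨hr⟩
  obtain ⟨Q'⟩ : Nonempty (Sylow q M) := inferInstance
  have hfr := Sylow.normalizer_sup_eq_top Q'
  have h1 : M.relIndex (Subgroup.normalizer (((Q' : Subgroup M).map M.subtype : Subgroup X) : Set X))
      = M.index := by
    rw [← Subgroup.relIndex_sup_right, hfr, Subgroup.relIndex_top_right]
  have h2 : r ∣ Nat.card (Subgroup.normalizer
      (((Q' : Subgroup M).map M.subtype : Subgroup X) : Set X)) := by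
    rw [← h1] at hrM
    exact hrM.trans (Subgroup.relIndex_dvd_card _ _)
  obtain ⟨y', hy'⟩ := exists_prime_orderOf_dvd_card' r h2
  refine ⟨(Q' : Subgroup M).map M.subtype, y', Subgroup.map_subtype_le _, Q'.2.map _, ?_, ?_,
    y'.2⟩
  · rw [Ne, Subgroup.map_eq_bot_iff_of_injective _ M.subtype_injective]
    exact Q'.ne_bot_of_dvd_card hqM
  · rw [← hy', Subgroup.orderOf_coe]

end Cfsg.Agent.Helper18
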