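import Mathlib
import Cfsg.Agent.Lib.Helper18.Lucido

set_option autoImplicit false

universe u

namespace Cfsg.Agent.Helper18

open scoped commutatorElement

/-- A nontrivial `q`-subgroup normalized by an element of order `r`. -/
def Cfg (q r : ℕ) (X : Type*) [Group X] : Prop :=
  ∃ (Q : Subgroup X) (y : X), IsPGroup q Q ∧ Q ≠ ⊥ ∧ orderOf y = r ∧
    y ∈ Subgroup.normalizer (Q : Set X)

theorem Cfg.of_injective {X Y : Type*} [Group X] [Group Y] {q r : ℕ} (f : X →* Y)
    (hf : Function.Injective f) : Cfg q r X → Cfg q r Y := by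
  rintro ⟨Q, y, h1, h2, h3, h4⟩
  refine ⟨Q.map f, f y, h1.map f, ?_, ?_, Subgroup.le_normalizer_map f ⟨y, h4, rfl⟩⟩
  · rwa [Ne, Subgroup.map_eq_bot_iff_of_injective _ hf]
  · rw [orderOf_injective f hf, h3]

theorem normal_of_commutator_le {X : Type*} [Group X] (H : Subgroup X) (h : commutator X ≤ H) :
    H.Normal := by
  rw [← Subgroup.commutator_top_left_le_iff]
  refine le_trans (Subgroup.commutator_mono le_rfl le_top) ?_
  rw [← commutator_def]
  exact h

theorem cfg_of_not_dvd_commutator {X : Type*} [Group X] [Finite X] {q r : ℕ} (hq : q.Prime)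
    (hr : r.Prime) (hqr : q ≠ r) (hqX : q ∣ Nat.card X) (hrX : r ∣ Nat.card X)
    (hrc : ¬ r ∣ Nat.card (commutator X)) : Cfg q r X := by
  haveI : Fact q.Prime := ⟨hq⟩
  obtain ⟨Q₀⟩ : Nonempty (Sylow q X) := inferInstance
  set M : Subgroup X := (Q₀ : Subgroup X) ⊔ commutator X with hM
  haveI : M.Normal := normal_of_commutator_le M le_sup_right
  have hqM : q ∣ Nat.card M := by
    have h1 : q ∣ Nat.card (Q₀ : Subgroup X) := Q₀.dvd_card_of_dvd_card hqX
    exact h1.trans (Subgroup.card_dvd_of_le le_sup_left)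
  have hrM : r ∣ M.index := by
    have h1 : r ∣ (commutator X).index := by
      have := (commutator X).card_mul_index
      rw [← this] at hrX
      exact (hr.dvd_mul.mp hrX).resolve_left hrc
    have h2 : (commutator X).relIndex M * M.index = (commutator X).index :=
      Subgroup.relIndex_mul_index le_sup_right
    rw [← h2] at h1
    rcases hr.dvd_mul.mp h1 with h3 | h3
    · exfalso
      rw [hM, Subgroup.relIndex_sup_right] at h3
      have h4 := h3.trans (Subgroup.relIndex_dvd_card _ _)
      obtain ⟨k, hk⟩ := IsPGroup.iff_card.mp Q₀.2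
      rw [hk] at h4
      exact hqr ((Nat.prime_dvd_prime_iff_eq hr hq).mp (hr.dvd_of_dvd_pow h4)).symm
    · exact h3
  obtain ⟨Q, y, -, h1, h2, h3, h4⟩ := exists_sylow_normalized M hq hr hqM hrM
  exact ⟨Q, y, h1, h2, h3, h4⟩

theorem card_lt_of_lt_top {X : Type*} [Group X] [Finite X] {H : Subgroup X} (h : H < ⊤) :
    Nat.card H < Nat.card X := by
  have h1 := H.card_mul_index
  have h2 : H.index ≠ 1 := by
    rw [Ne, Subgroup.index_eq_one]
    exact h.ne
  have h3 : H.index ≠ 0 := H.index_ne_zero_of_finite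
  have h4 : 0 < Nat.card H := Nat.card_pos
  have h5 : 2 ≤ H.index := by omega
  nlinarith

theorem nontrivial_of_prime_dvd_card {X : Type*} [Group X] [Finite X] {q : ℕ} (hq : q.Prime)
    (h : q ∣ Nat.card X) : Nontrivial X := by
  rw [← Finite.one_lt_card_iff_nontrivial]
  exact lt_of_lt_of_le hq.one_lt (Nat.le_of_dvd Nat.card_pos h)

/-- In a finite solvable group with order divisible by the distinct primes `q`, `r`, a nontrivial
`q`-subgroup is normalized by an element of order `r`, or the other way round. -/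
theorem cfg_of_solvable : ∀ (n : ℕ) (X : Type u) [Group X] [Finite X] [Group.IsSolvable X],
    Nat.card X = n → ∀ {q r : ℕ}, q.Prime → r.Prime → q ≠ r → q ∣ n → r ∣ n →
      Cfg q r X ∨ Cfg r q X := by
  intro n
  induction n using Nat.strong_induction_on with
  | _ n ih =>
    intro X _ _ _ hn q r hq hr hqr hqn hrn
    by_cases hrc : r ∣ Nat.card (commutator X)
    · by_cases hqc : q ∣ Nat.card (commutator X)
      · haveI : Nontrivial X := nontrivial_of_prime_dvd_card hq (hn ▸ hqn)
        have hlt : Nat.card (commutator X) < n := by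
          rw [← hn]
          exact card_lt_of_lt_top (Group.IsSolvable.commutator_lt_top_of_nontrivial X)
        rcases ih _ hlt (commutator X) rfl hq hr hqr hqc hrc with h | h
        · left; exact h.of_injective _ (Subgroup.subtype_injective _)
        · right; exact h.of_injective _ (Subgroup.subtype_injective _)
      · right
        exact cfg_of_not_dvd_commutator hr hq hqr.symm (hn ▸ hrn) (hn ▸ hqn) hqc
    · left
      exact cfg_of_not_dvd_commutator hq hr hqr (hn ▸ hqn) (hn ▸ hrn) hrc

/-- A nontrivial solvable group has a nontrivial abelian normal subgroup. -/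
theorem exists_abelian_normal (H : Type*) [Group H] [Group.IsSolvable H] [Nontrivial H] :
    ∃ N : Subgroup H, N.Normal ∧ N ≠ ⊥ ∧ ∀ a ∈ N, ∀ b ∈ N, a * b = b * a := by
  classical
  have hs : ∃ n, derivedSeries H n = ⊥ := Group.IsSolvable.solvable
  have hn0 : Nat.find hs ≠ 0 := by
    intro h
    have := Nat.find_spec hs
    rw [h, derivedSeries_zero] at this
    exact top_ne_bot this
  obtain ⟨m, hm⟩ := Nat.exists_eq_succ_of_ne_zero hn0
  refine ⟨derivedSeries H m, derivedSeries_normal H m, ?_, ?_⟩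
  · exact Nat.find_min hs (by omega)
  · intro a ha b hb
    have h1 : ⁅a, b⁆ ∈ ⁅derivedSeries H m, derivedSeries H m⁆ :=
      Subgroup.commutator_mem_commutator ha hb
    have h2 : derivedSeries H (m + 1) = ⊥ := by
      have := Nat.find_spec hs
      rwa [hm] at this
    rw [← derivedSeries_succ, h2, Subgroup.mem_bot, commutatorElement_eq_one_iff_commute] at h1
    exact h1

/-- The elements of exponent `ℓ` in an abelian subgroup. -/
def torsionPart {H : Type*} [Group H] (N : Subgroup H) (hN : ∀ a ∈ N, ∀ b ∈ N, a * b = b * a)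
    (ℓ : ℕ) : Subgroup H where
  carrier := {x | x ∈ N ∧ x ^ ℓ = 1}
  mul_mem' := by
    rintro a b ⟨ha, ha'⟩ ⟨hb, hb'⟩
    refine ⟨N.mul_mem ha hb, ?_⟩
    rw [(show Commute a b from hN a ha b hb).mul_pow, ha', hb', one_mul]
  one_mem' := ⟨N.one_mem, one_pow _⟩
  inv_mem' := by
    rintro a ⟨ha, ha'⟩
    exact ⟨N.inv_mem ha, by rw [inv_pow, ha', inv_one]⟩

theorem mem_torsionPart {H : Type*} [Group H] (N : Subgroup H)
    (hN : ∀ a ∈ N, ∀ b ∈ N, a * b = b * a) (ℓ : ℕ) (x : H) :
    x ∈ torsionPart N hN ℓ ↔ x ∈ N ∧ x ^ ℓ = 1 := Iff.rfl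

theorem exists_orderOf_eq_of_surjective {H H' : Type*} [Group H] [Group H'] [Finite H]
    (f : H →* H') (hf : Function.Surjective f) {m : ℕ} (h : ∃ x' : H', orderOf x' = m) :
    ∃ x : H, orderOf x = m := by
  obtain ⟨x', hx'⟩ := h
  obtain ⟨x₀, rfl⟩ := hf x'
  have h1 : orderOf (f x₀) ∣ orderOf x₀ := orderOf_map_dvd f x₀
  exact ⟨x₀ ^ (orderOf x₀ / m), orderOf_pow_orderOf_div (orderOf_pos x₀).ne' (hx' ▸ h1)⟩

theorem three_primes_of_abelian_normal {H : Type u} [Group H] [Finite H] [Group.IsSolvable H]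
    (N : Subgroup H) [N.Normal] (hN : ∀ a ∈ N, ∀ b ∈ N, a * b = b * a) {l q r : ℕ}
    (hl : l.Prime) (hq : q.Prime) (hr : r.Prime) (hlq : l ≠ q) (hlr : l ≠ r) (hqr : q ≠ r)
    (hlN : l ∣ Nat.card N) (hqH : q ∣ Nat.card H) (hrH : r ∣ Nat.card H) :
    (∃ x : H, orderOf x = l * q) ∨ (∃ x : H, orderOf x = l * r) ∨
      (∃ x : H, orderOf x = q * r) := by
  haveI : Fact l.Prime := ⟨hl⟩
  set A := torsionPart N hN l with hA
  haveI : A.Normal := by
    constructor
    intro a ha g
    rw [hA, mem_torsionPart] at ha ⊢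
    refine ⟨‹N.Normal›.conj_mem a ha.1 g, ?_⟩
    rw [conj_pow, ha.2]; simp
  have hAp : IsPGroup l A := by
    intro a
    refine ⟨1, ?_⟩
    apply Subtype.ext
    rw [pow_one, Subgroup.coe_pow, Subgroup.coe_one]
    exact ((mem_torsionPart N hN l a).mp a.2).2
  have hAc : ∀ a ∈ A, ∀ b ∈ A, a * b = b * a := fun a ha b hb => hN a ha.1 b hb.1
  have hA1 : A ≠ ⊥ := by
    obtain ⟨x, hx⟩ := exists_prime_orderOf_dvd_card' l hlN
    intro h
    have hxA : (x : H) ∈ A := by
      rw [hA, mem_torsionPart]
      refine ⟨x.2, ?_⟩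
      rw [← Subgroup.coe_pow, ← hx, pow_orderOf_eq_one, Subgroup.coe_one]
    rw [h, Subgroup.mem_bot] at hxA
    have : x = 1 := Subtype.ext hxA
    rw [this, orderOf_one] at hx
    exact hl.one_lt.ne hx
  have hnorm : Subgroup.normalizer (A : Set H) = ⊤ := Subgroup.normalizer_eq_top A
  rcases cfg_of_solvable _ H rfl hq hr hqr hqH hrH with
    ⟨Q, y, h1, h2, h3, h4⟩ | ⟨R, y, h1, h2, h3, h4⟩
  · exact three_primes_lemma hl hq hr hlq hlr hqr A Q y hAp hAc hA1 h1 h2 h3
      (by rw [hnorm]; exact le_top) (by rw [hnorm]; trivial) h4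
  · have := three_primes_lemma hl hr hq hlr hlq hqr.symm A R y hAp hAc hA1 h1 h2 h3
      (by rw [hnorm]; exact le_top) (by rw [hnorm]; trivial) h4
    rcases this with h | h | h
    · right; left; exact h
    · left; exact h
    · right; right
      obtain ⟨x, hx⟩ := h
      exact ⟨x, by rw [hx, mul_comm]⟩

/-- A finite solvable group with order divisible by three distinct primes has an element whose
order is the product of two of them. -/
theorem three_primes_of_solvable : ∀ (n : ℕ) (H : Type u) [Group H] [Finite H]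
    [Group.IsSolvable H], Nat.card H = n → ∀ {p q r : ℕ}, p.Prime → q.Prime → r.Prime →
      p ≠ q → p ≠ r → q ≠ r → p ∣ n → q ∣ n → r ∣ n →
      (∃ x : H, orderOf x = p * q) ∨ (∃ x : H, orderOf x = p * r) ∨
        (∃ x : H, orderOf x = q * r) := by
  intro n
  induction n using Nat.strong_induction_on with
  | _ n ih =>
    intro H _ _ _ hn p q r hp hq hr hpq hpr hqr hpn hqn hrn
    subst hn
    haveI : Nontrivial H := nontrivial_of_prime_dvd_card hp hpn
    obtain ⟨N, hNn, hN1, hNc⟩ := exists_abelian_normal H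
    haveI := hNn
    by_cases hpN : p ∣ Nat.card N
    · exact three_primes_of_abelian_normal N hNc hp hq hr hpq hpr hqr hpN hqn hrn
    by_cases hqN : q ∣ Nat.card N
    · rcases three_primes_of_abelian_normal N hNc hq hp hr hpq.symm hqr hpr hqN hpn hrn with
        h | h | h
      · left
        obtain ⟨x, hx⟩ := h
        exact ⟨x, by rw [hx, mul_comm]⟩
      · right; right; exact h
      · right; left; exact h
    by_cases hrN : r ∣ Nat.card N
    · rcases three_primes_of_abelian_normal N hNc hr hp hq hpr.symm hqr.symm hpq hrN hpn hqn with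
        h | h | h
      · right; left
        obtain ⟨x, hx⟩ := h
        exact ⟨x, by rw [hx, mul_comm]⟩
      · right; right
        obtain ⟨x, hx⟩ := h
        exact ⟨x, by rw [hx, mul_comm]⟩
      · left; exact h
    -- pass to the quotient
    have hcard := N.card_mul_index
    have hidx : Nat.card (H ⧸ N) = N.index := rfl
    have hp' : p ∣ Nat.card (H ⧸ N) := by
      rw [hidx]; rw [← hcard] at hpn; exact (hp.dvd_mul.mp hpn).resolve_left hpN
    have hq' : q ∣ Nat.card (H ⧸ N) := by
      rw [hidx]; rw [← hcard] at hqn; exact (hq.dvd_mul.mp hqn).resolve_left hqN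
    have hr' : r ∣ Nat.card (H ⧸ N) := by
      rw [hidx]; rw [← hcard] at hrn; exact (hr.dvd_mul.mp hrn).resolve_left hrN
    have hlt : Nat.card (H ⧸ N) < Nat.card H := by
      rw [hidx, ← hcard]
      have h1 : 1 < Nat.card N := by
        rw [Subgroup.one_lt_card_iff_ne_bot]; exact hN1
      have h2 : 0 < N.index := Nat.pos_of_ne_zero N.index_ne_zero_of_finite
      nlinarith
    have hsurj := QuotientGroup.mk'_surjective N
    rcases ih _ hlt (H ⧸ N) rfl hp hq hr hpq hpr hqr hp' hq' hr' with h | h | h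
    · left; exact exists_orderOf_eq_of_surjective _ hsurj h
    · right; left; exact exists_orderOf_eq_of_surjective _ hsurj h
    · right; right; exact exists_orderOf_eq_of_surjective _ hsurj h

end Cfsg.Agent.Helper18
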