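import Mathlib
import Cfsg.Prelude.Def_Blocks
import Cfsg.Agent.Lib.Helper18.GenChar
import Cfsg.Agent.S0147
import Cfsg.Agent.S0176

/-!
# Elementary subgroups and the span of induced linear characters (helper18's library)
-/

set_option autoImplicit false

namespace Cfsg.Agent.Helper18

open Cfsg Cfsg.Agent.Helper24

universe u

section Elementary

theorem zpowers_coe_eq_top_iff {A : Type*} [Group A] (B : Subgroup A) (b : B) :
    Subgroup.zpowers (b : A) = B ↔ Subgroup.zpowers b = ⊤ := by
  have h1 : (Subgroup.zpowers b).map B.subtype = Subgroup.zpowers (b : A) := by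
    rw [MonoidHom.map_zpowers]
    rfl
  have h2 : (⊤ : Subgroup B).map B.subtype = B := by
    rw [← MonoidHom.range_eq_map, Subgroup.range_subtype]
  constructor
  · intro h
    apply Subgroup.map_injective B.subtype_injective
    rw [h1, h2, h]
  · intro h
    rw [← h1, h, h2]

theorem normal_of_le_center {G : Type*} [Group G] {N : Subgroup G}
    (h : N ≤ Subgroup.center G) : N.Normal :=
  ⟨fun n hn g => by
    have := Subgroup.mem_center_iff.mp (h hn) g
    rw [this, mul_inv_cancel_right]
    exact hn⟩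

/-- The subgroup `C.subgroupOf F` of a cyclic subgroup `C` is cyclic. -/
theorem isCyclic_subgroupOf {E : Type*} [Group E] (C F : Subgroup E) [IsCyclic C] :
    IsCyclic (C.subgroupOf F) := by
  let f : (C.subgroupOf F) →* C :=
    (F.subtype.comp (C.subgroupOf F).subtype).codRestrict C
      (fun d => Subgroup.mem_subgroupOf.mp d.2)
  apply isCyclic_of_injective f
  intro a b hab
  have : ((a : F) : E) = ((b : F) : E) := congrArg (fun c : C => (c : E)) hab
  exact Subtype.ext (Subtype.ext this)

theorem isElementary_subgroup {E : Type*} [Group E] {p : ℕ} (hp : p.Prime)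
    (h : IsElementary p E) (F : Subgroup E) : IsElementary p F := by
  obtain ⟨x, hxc, hxp, k, hk⟩ := h
  have hCcen : Subgroup.zpowers x ≤ Subgroup.center E := by
    rw [Subgroup.zpowers_le]
    exact hxc
  haveI : (Subgroup.zpowers x).Normal := normal_of_le_center hCcen
  haveI : IsCyclic ((Subgroup.zpowers x).subgroupOf F) := isCyclic_subgroupOf _ F
  obtain ⟨d, hd⟩ := isCyclic_iff_exists_zpowers_eq_top.mp
    (inferInstance : IsCyclic ((Subgroup.zpowers x).subgroupOf F))
  have hdC : ((d : F) : E) ∈ Subgroup.zpowers x := Subgroup.mem_subgroupOf.mp d.2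
  refine ⟨(d : F), ?_, ?_, ?_⟩
  · rw [Subgroup.mem_center_iff]
    intro g
    apply Subtype.ext
    exact Subgroup.mem_center_iff.mp (hCcen hdC) (g : E)
  · have h1 : orderOf ((d : F) : E) = orderOf (d : F) := Subgroup.orderOf_coe _
    rw [← h1]
    exact Nat.Coprime.coprime_dvd_left (orderOf_dvd_of_mem_zpowers hdC) hxp
  · have h2 : Subgroup.zpowers (d : F) = (Subgroup.zpowers x).subgroupOf F :=
      (zpowers_coe_eq_top_iff _ d).mpr hd
    have h3 : ((Subgroup.zpowers x).subgroupOf F).index ∣ p ^ k := by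
      rw [← hk]
      exact Subgroup.relIndex_dvd_index_of_normal (Subgroup.zpowers x) F
    obtain ⟨j, -, hj⟩ := (Nat.dvd_prime_pow hp).mp h3
    exact ⟨j, by rw [h2, hj]⟩

theorem isElementary_of_mulEquiv {E F : Type*} [Group E] [Group F] (e : E ≃* F) {p : ℕ}
    (h : IsElementary p E) : IsElementary p F := by
  obtain ⟨x, hxc, hxp, k, hk⟩ := h
  refine ⟨e x, ?_, ?_, k, ?_⟩
  · rw [Subgroup.mem_center_iff]
    intro g
    have := Subgroup.mem_center_iff.mp hxc (e.symm g)
    have h2 := congrArg e this
    simpa using h2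
  · rw [MulEquiv.orderOf_eq]
    exact hxp
  · have h1 : Subgroup.zpowers (e x) = (Subgroup.zpowers x).map (e : E →* F) := by
      rw [MonoidHom.map_zpowers]
      rfl
    rw [h1, Subgroup.index_map_equiv, hk]

theorem isNilpotent_of_isElementary {E : Type*} [Group E] [Finite E] {p : ℕ} (hp : p.Prime)
    (h : IsElementary p E) : Group.IsNilpotent E := by
  obtain ⟨x, hxc, hxp, k, hk⟩ := h
  have hCcen : Subgroup.zpowers x ≤ Subgroup.center E := by
    rw [Subgroup.zpowers_le]
    exact hxc
  haveI : (Subgroup.zpowers x).Normal := normal_of_le_center hCcen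
  haveI : Fact p.Prime := ⟨hp⟩
  have hq : IsPGroup p (E ⧸ Subgroup.zpowers x) :=
    IsPGroup.of_card (n := k) (by rw [← Subgroup.index_eq_card, hk])
  haveI hnil : Group.IsNilpotent (E ⧸ Subgroup.zpowers x) := hq.isNilpotent
  exact Subgroup.isNilpotent_of_ker_le_center (QuotientGroup.mk' (Subgroup.zpowers x))
    (by rw [QuotientGroup.ker_mk']; exact hCcen)

end Elementary

section Induction

variable {G : Type u} [Group G] [Fintype G]

theorem indFun_congr_subgroup {A B : Subgroup G} (h : A = B) (θ : A → ℂ) :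
    indFun A θ = indFun B (fun b => θ ⟨b.1, h ▸ b.2⟩) := by
  subst h
  rfl

theorem indFun_neg' (H : Subgroup G) (θ : H → ℂ) : indFun H (-θ) = -indFun H θ := by
  rw [← neg_one_smul ℂ θ, indFun_smul, neg_one_smul]

/-- Transitivity of induction, for a subgroup of a subgroup. -/
theorem indFun_indFun_map (K : Subgroup G) [Fintype K] (E : Subgroup K) (θ : E → ℂ) :
    indFun K (indFun E θ) = indFun (E.map K.subtype)
      (fun y => θ ⟨⟨y.1, Subgroup.map_subtype_le E y.2⟩, by
        obtain ⟨e, he, hey⟩ := Subgroup.mem_map.mp y.2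
        have : (⟨y.1, Subgroup.map_subtype_le E y.2⟩ : K) = e := Subtype.ext hey.symm
        rw [this]
        exact he⟩) := by
  have hHK : E.map K.subtype ≤ K := Subgroup.map_subtype_le E
  have h := Cfsg.Agent.S0147.result (E.map K.subtype) K hHK
    (fun y => θ ⟨⟨y.1, Subgroup.map_subtype_le E y.2⟩, by
        obtain ⟨e, he, hey⟩ := Subgroup.mem_map.mp y.2
        have : (⟨y.1, Subgroup.map_subtype_le E y.2⟩ : K) = e := Subtype.ext hey.symm
        rw [this]
        exact he⟩)
  rw [← h]
  congr 1
  have hEq : (E.map K.subtype).subgroupOf K = E :=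
    Subgroup.comap_map_eq_self_of_injective K.subtype_injective E
  rw [indFun_congr_subgroup hEq]

/-- The projection formula. -/
theorem indFun_mul_restrict (E : Subgroup G) (θ : E → ℂ) {ψ : G → ℂ}
    (hψ : IsClassFunction G ψ) :
    indFun E (θ * fun e : E => ψ e) = indFun E θ * ψ := by
  funext g
  rw [Pi.mul_apply, indFun_apply, indFun_apply, mul_assoc, Finset.sum_mul]
  congr 1
  refine Finset.sum_congr rfl fun x _ => ?_
  have hx : ψ (x⁻¹ * g * x) = ψ g := by
    have := hψ g x⁻¹
    rwa [inv_inv] at this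
  by_cases hm : x⁻¹ * g * x ∈ E
  · rw [extendByZero_of_mem E _ hm, extendByZero_of_mem E _ hm, Pi.mul_apply]
    show θ ⟨_, hm⟩ * ψ (x⁻¹ * g * x) = _
    rw [hx]
  · rw [extendByZero_of_not_mem E _ hm, extendByZero_of_not_mem E _ hm, zero_mul]

end Induction

section Span

/-- The integer span of the functions induced from homomorphisms `E →* ℂˣ` of elementary
subgroups `E`. -/
def brauerSpan (H : Type u) [Group H] [Fintype H] : AddSubgroup (H → ℂ) :=
  AddSubgroup.closure {f | ∃ (E : Subgroup H) (lam : E →* ℂˣ),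
    (∃ p : ℕ, p.Prime ∧ IsElementary p E) ∧ f = indFun E (fun e => ((lam e : ℂˣ) : ℂ))}

variable {H : Type u} [Group H] [Fintype H]

theorem indFun_hom_mem_brauerSpan (E : Subgroup H) (lam : E →* ℂˣ) {p : ℕ} (hp : p.Prime)
    (hE : IsElementary p E) : indFun E (fun e => ((lam e : ℂˣ) : ℂ)) ∈ brauerSpan H :=
  AddSubgroup.subset_closure ⟨E, lam, ⟨p, hp, hE⟩, rfl⟩

/-- Induction maps the span for a subgroup into the span for the group. -/
theorem indFun_mem_brauerSpan (K : Subgroup H) [Fintype K] {f : K → ℂ}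
    (hf : f ∈ brauerSpan K) : indFun K f ∈ brauerSpan H := by
  unfold brauerSpan at hf
  induction hf using AddSubgroup.closure_induction with
  | mem f hf =>
    obtain ⟨E, lam, ⟨p, hp, hE⟩, rfl⟩ := hf
    rw [indFun_indFun_map]
    let τ : (E.map K.subtype) →* E :=
      { toFun := fun y => ⟨⟨y.1, Subgroup.map_subtype_le E y.2⟩, by
          obtain ⟨e, he, hey⟩ := Subgroup.mem_map.mp y.2
          have : (⟨y.1, Subgroup.map_subtype_le E y.2⟩ : K) = e := Subtype.ext hey.symm
          rw [this]
          exact he⟩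
        map_one' := rfl
        map_mul' := fun a b => rfl }
    have hE' : IsElementary p (E.map K.subtype) :=
      isElementary_of_mulEquiv (Subgroup.equivMapOfInjective E K.subtype K.subtype_injective) hE
    exact indFun_hom_mem_brauerSpan (E.map K.subtype) (lam.comp τ) hp hE'
  | zero =>
    rw [indFun_zero']
    exact (brauerSpan H).zero_mem
  | add a b _ _ ha hb =>
    rw [indFun_add]
    exact (brauerSpan H).add_mem ha hb
  | neg a _ ha =>
    rw [indFun_neg']
    exact (brauerSpan H).neg_mem ha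

/-- A character of an elementary group lies in the span. -/
theorem isCharacter_mem_brauerSpan_of_isElementary {p : ℕ} (hp : p.Prime)
    (hE : IsElementary p H) {φ : H → ℂ} (hφ : IsCharacter H φ) : φ ∈ brauerSpan H := by
  classical
  letI : Fintype (IrrCharacter H) := irrFintype
  haveI : Group.IsNilpotent H := isNilpotent_of_isElementary hp hE
  obtain ⟨hm, hdec⟩ := isCharacter_decomp hφ
  rw [hdec]
  apply AddSubgroup.sum_mem
  intro μ _
  obtain ⟨n, hn⟩ := hm μ
  rw [hn]
  have h1 : ((n : ℂ) • (μ : H → ℂ)) = n • (μ : H → ℂ) := by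
    funext g
    simp
  rw [h1]
  apply AddSubgroup.nsmul_mem
  obtain ⟨F, ν, hν⟩ := Cfsg.Agent.S0176.result (μ : H → ℂ) μ.2
  rw [hν]
  exact indFun_hom_mem_brauerSpan F ν hp (isElementary_subgroup hp hE F)

/-- The span is an ideal in the ring of characters. -/
theorem mul_mem_brauerSpan {f : H → ℂ} (hf : f ∈ brauerSpan H) {ψ : H → ℂ}
    (hψ : IsCharacter H ψ) : f * ψ ∈ brauerSpan H := by
  unfold brauerSpan at hf
  induction hf using AddSubgroup.closure_induction with
  | mem f hf =>
    obtain ⟨E, lam, ⟨p, hp, hE⟩, rfl⟩ := hf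
    rw [← indFun_mul_restrict E _ (isClassFunction_of_isCharacter hψ)]
    haveI : Fintype E := Fintype.ofFinite E
    apply indFun_mem_brauerSpan
    apply isCharacter_mem_brauerSpan_of_isElementary hp hE
    exact isCharacter_mul (isCharacter_of_isIrrCharacter (isIrrCharacter_of_monoidHom lam))
      (isCharacter_restrict E hψ)
  | zero =>
    rw [zero_mul]
    exact (brauerSpan H).zero_mem
  | add a b _ _ ha hb =>
    rw [add_mul]
    exact (brauerSpan H).add_mem ha hb
  | neg a _ ha =>
    rw [neg_mul]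
    exact (brauerSpan H).neg_mem ha

theorem mul_genChar_mem_brauerSpan {f : H → ℂ} (hf : f ∈ brauerSpan H) {ψ : H → ℂ}
    (hψ : IsGeneralizedCharacter H ψ) : f * ψ ∈ brauerSpan H := by
  obtain ⟨a, b, ha, hb, rfl⟩ := hψ
  rw [mul_sub]
  exact (brauerSpan H).sub_mem (mul_mem_brauerSpan hf ha) (mul_mem_brauerSpan hf hb)

/-- If the principal character lies in the span, so does every generalized character. -/
theorem genChar_mem_brauerSpan (h1 : (fun _ : H => (1 : ℂ)) ∈ brauerSpan H) {ψ : H → ℂ}
    (hψ : IsGeneralizedCharacter H ψ) : ψ ∈ brauerSpan H := by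
  have := mul_genChar_mem_brauerSpan h1 hψ
  have h2 : (fun _ : H => (1 : ℂ)) * ψ = ψ := by
    funext g
    simp
  rwa [h2] at this

/-- Conversion to the list form. -/
theorem exists_list_of_mem_brauerSpan {f : H → ℂ} (hf : f ∈ brauerSpan H) :
    ∃ l : List ((E : Subgroup H) × ((E →* ℂˣ) × ℤ)),
      (∀ t ∈ l, ∃ p : ℕ, p.Prime ∧ Cfsg.IsElementary p t.1) ∧
        f = (l.map fun t => (t.2.2 : ℂ) • Cfsg.indFun t.1 (fun e => (t.2.1 e : ℂ))).sum := by
  unfold brauerSpan at hf
  induction hf using AddSubgroup.closure_induction with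
  | mem f hf =>
    obtain ⟨E, lam, hE, rfl⟩ := hf
    refine ⟨[⟨E, lam, 1⟩], ?_, ?_⟩
    · intro t ht
      rw [List.mem_singleton] at ht
      rw [ht]
      exact hE
    · simp
  | zero => exact ⟨[], by simp, by simp⟩
  | add a b _ _ ha hb =>
    obtain ⟨l₁, h₁, rfl⟩ := ha
    obtain ⟨l₂, h₂, rfl⟩ := hb
    refine ⟨l₁ ++ l₂, ?_, ?_⟩
    · intro t ht
      rcases List.mem_append.mp ht with h | h
      · exact h₁ t h
      · exact h₂ t h
    · rw [List.map_append, List.sum_append]
  | neg a _ ha =>
    obtain ⟨l, hl, rfl⟩ := ha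
    refine ⟨l.map (fun t => ⟨t.1, t.2.1, -t.2.2⟩), ?_, ?_⟩
    · intro t ht
      obtain ⟨s, hs, rfl⟩ := List.mem_map.mp ht
      exact hl s hs
    · rw [List.map_map]
      have key : ∀ l' : List ((E : Subgroup H) × ((E →* ℂˣ) × ℤ)),
          -(l'.map fun t => (t.2.2 : ℂ) • Cfsg.indFun t.1 (fun e => (t.2.1 e : ℂ))).sum =
          (l'.map ((fun t : (E : Subgroup H) × ((E →* ℂˣ) × ℤ) =>
            (t.2.2 : ℂ) • Cfsg.indFun t.1 (fun e => (t.2.1 e : ℂ))) ∘
              fun t => ⟨t.1, t.2.1, -t.2.2⟩)).sum := by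
        intro l'
        induction l' with
        | nil => simp
        | cons t l' ih =>
          rw [List.map_cons, List.sum_cons, neg_add, ih, List.map_cons, List.sum_cons]
          congr 1
          simp
      exact key l

end Span

end Cfsg.Agent.Helper18
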