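import Mathlib
import Cfsg.Prelude.Def_Blocks
import Cfsg.Agent.Lib.Helper18.BrauerSpan
import Cfsg.Agent.Lib.Helper18.Banaschewski
import Cfsg.Agent.S0190

/-!
# Quasi-elementary subgroups and Solomon's induction theorem (helper18's library)
-/

set_option autoImplicit false

namespace Cfsg.Agent.Helper18

open Cfsg Cfsg.Agent.Helper24

universe u

/-- A `p`-quasi-elementary group: a normal cyclic subgroup of order prime to `p` and of index a
power of `p`. -/
def IsQuasiElem (p : ℕ) (H : Type*) [Group H] : Prop :=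
  ∃ c : H, (Subgroup.zpowers c).Normal ∧ Nat.Coprime (orderOf c) p ∧
    ∃ k : ℕ, (Subgroup.zpowers c).index = p ^ k

section Basic

theorem zpowers_mk_eq_subgroupOf {A : Type*} [Group A] (L : Subgroup A) (g : A) (hg : g ∈ L) :
    Subgroup.zpowers (⟨g, hg⟩ : L) = (Subgroup.zpowers g).subgroupOf L := by
  ext y
  rw [Subgroup.mem_subgroupOf, Subgroup.mem_zpowers_iff, Subgroup.mem_zpowers_iff]
  constructor
  · rintro ⟨k, rfl⟩
    exact ⟨k, by simp⟩
  · rintro ⟨k, hk⟩
    refine ⟨k, Subtype.ext ?_⟩
    simpa using hk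

theorem isQuasiElem_subgroup {E : Type*} [Group E] {p : ℕ} (hp : p.Prime)
    (h : IsQuasiElem p E) (F : Subgroup E) : IsQuasiElem p F := by
  obtain ⟨x, hxn, hxp, k, hk⟩ := h
  haveI : (Subgroup.zpowers x).Normal := hxn
  haveI : IsCyclic ((Subgroup.zpowers x).subgroupOf F) := isCyclic_subgroupOf _ F
  obtain ⟨d, hd⟩ := isCyclic_iff_exists_zpowers_eq_top.mp
    (inferInstance : IsCyclic ((Subgroup.zpowers x).subgroupOf F))
  have hdC : ((d : F) : E) ∈ Subgroup.zpowers x := Subgroup.mem_subgroupOf.mp d.2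
  have h2 : Subgroup.zpowers (d : F) = (Subgroup.zpowers x).subgroupOf F :=
    (zpowers_coe_eq_top_iff _ d).mpr hd
  refine ⟨(d : F), ?_, ?_, ?_⟩
  · rw [h2]
    infer_instance
  · have h1 : orderOf ((d : F) : E) = orderOf (d : F) := Subgroup.orderOf_coe _
    rw [← h1]
    exact Nat.Coprime.coprime_dvd_left (orderOf_dvd_of_mem_zpowers hdC) hxp
  · have h3 : ((Subgroup.zpowers x).subgroupOf F).index ∣ p ^ k := by
      rw [← hk]
      exact Subgroup.relIndex_dvd_index_of_normal (Subgroup.zpowers x) F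
    obtain ⟨j, -, hj⟩ := (Nat.dvd_prime_pow hp).mp h3
    exact ⟨j, by rw [h2, hj]⟩

theorem isQuasiElem_of_mulEquiv {E F : Type*} [Group E] [Group F] (e : E ≃* F) {p : ℕ}
    (h : IsQuasiElem p E) : IsQuasiElem p F := by
  obtain ⟨x, hxn, hxp, k, hk⟩ := h
  have h1 : Subgroup.zpowers (e x) = (Subgroup.zpowers x).map (e : E →* F) := by
    rw [MonoidHom.map_zpowers]
    rfl
  refine ⟨e x, ?_, ?_, k, ?_⟩
  · rw [h1]
    exact Subgroup.Normal.map hxn _ e.surjective
  · rw [MulEquiv.orderOf_eq]
    exact hxp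
  · rw [h1, Subgroup.index_map_equiv, hk]

/-- If conjugation by `g` maps the generator of a finite cyclic subgroup into it, then `g`
normalizes the subgroup. -/
theorem mem_normalizer_zpowers_of_conj_mem {G : Type*} [Group G] [Finite G] (c g : G)
    (h : g * c * g⁻¹ ∈ Subgroup.zpowers c) :
    g ∈ Subgroup.normalizer (Subgroup.zpowers c : Set G) := by
  have h1 : (Subgroup.zpowers c).map (MulAut.conj g).toMonoidHom ≤ Subgroup.zpowers c := by
    rw [MonoidHom.map_zpowers, Subgroup.zpowers_le]
    exact h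
  have h2 : (Subgroup.zpowers c).map (MulAut.conj g).toMonoidHom = Subgroup.zpowers c := by
    apply Subgroup.eq_of_le_of_card_ge h1
    rw [Subgroup.card_map_of_injective (MulAut.conj g).injective]
  rw [Subgroup.mem_normalizer_iff]
  intro y
  constructor
  · intro hy
    have : (MulAut.conj g).toMonoidHom y ∈ (Subgroup.zpowers c).map (MulAut.conj g).toMonoidHom :=
      Subgroup.mem_map_of_mem _ hy
    rw [h2] at this
    exact this
  · intro hy
    rw [← h2] at hy
    obtain ⟨y', hy', hyy⟩ := Subgroup.mem_map.mp hy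
    have : y' = y := (MulAut.conj g).injective hyy
    rwa [← this]

end Basic

section NormalCase

variable {M : Type u} [Group M] [Fintype M]

/-- The permutation character on the cosets of a subgroup. -/
theorem indFun_one_eq_card_fixedBy (K : Subgroup M) (g : M) :
    indFun K (fun _ => (1 : ℂ)) g = (Nat.card (MulAction.fixedBy (M ⧸ K) g) : ℂ) := by
  have h := Cfsg.Agent.S0190.result (G := M) (M ⧸ K) ((1 : M) : M ⧸ K)
  have h2 := congrFun h g
  rw [h2, indFun_congr_subgroup (MulAction.stabilizer_quotient K)]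

/-- Lemma 8.8, normal case. -/
theorem exists_quasiElem_normal {p : ℕ} [hp : Fact p.Prime] (x : M) (a m : ℕ)
    (hm : m.Coprime p) (hxo : x ^ (p ^ a * m) = 1)
    (hcn : (Subgroup.zpowers (x ^ (p ^ a))).Normal) :
    ∃ H' : Subgroup M, Subgroup.zpowers (x ^ (p ^ a)) ≤ H' ∧
      (∃ j : ℕ, (Subgroup.zpowers (x ^ (p ^ a))).relIndex H' = p ^ j) ∧
      ∃ z : ℕ, indFun H' (fun _ => (1 : ℂ)) x = z ∧ ¬ p ∣ z := by
  classical
  haveI := hcn
  set c := x ^ (p ^ a) with hc
  set y := x ^ m with hy
  have hyp : IsPGroup p (Subgroup.zpowers y) := by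
    apply IsPGroup.of_card_dvd_pow (n := a)
    rw [Nat.card_zpowers]
    apply orderOf_dvd_of_pow_eq_one
    rw [hy, ← pow_mul, mul_comm m, hxo]
  obtain ⟨P, hQP⟩ := hyp.exists_le_sylow
  refine ⟨Subgroup.zpowers c ⊔ (P : Subgroup M), le_sup_left, ?_, ?_⟩
  · rw [Subgroup.relIndex_sup_left]
    have h1 : (Subgroup.zpowers c).relIndex (P : Subgroup M) ∣ Nat.card (P : Subgroup M) :=
      Subgroup.relIndex_dvd_card _ _
    obtain ⟨n, hn⟩ := IsPGroup.iff_card.mp P.2
    rw [hn] at h1
    obtain ⟨j, -, hj⟩ := (Nat.dvd_prime_pow hp.out).mp h1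
    exact ⟨j, hj⟩
  · set H' := Subgroup.zpowers c ⊔ (P : Subgroup M) with hH'
    have hidx : ¬ p ∣ H'.index := by
      intro h
      exact P.not_dvd_index (dvd_trans h (Subgroup.index_dvd_of_le le_sup_right))
    have hmod := hyp.card_modEq_card_fixedPoints (M ⧸ H')
    -- `c` fixes every coset
    have hcfix : ∀ q : M ⧸ H', c • q = q := by
      intro q
      induction q using QuotientGroup.induction_on with
      | H g =>
        show ((c * g : M) : M ⧸ H') = (g : M ⧸ H')
        rw [QuotientGroup.eq]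
        apply (le_sup_left : Subgroup.zpowers c ≤ H')
        have := hcn.conj_mem c (Subgroup.mem_zpowers c) g⁻¹
        rw [inv_inv] at this
        have e : (c * g)⁻¹ * g = g⁻¹ * c⁻¹ * g := by group
        rw [e]
        have h3 := hcn.conj_mem c⁻¹ ((Subgroup.zpowers c).inv_mem (Subgroup.mem_zpowers c)) g⁻¹
        rwa [inv_inv] at h3
    -- `x` as a product of powers of `c` and `y`
    have hxcy : x = c ^ (Nat.gcdA (p ^ a) m) * y ^ (Nat.gcdB (p ^ a) m) := by
      have hg : Nat.gcd (p ^ a) m = 1 := (Nat.Coprime.pow_left a hm.symm)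
      have h4 := Nat.gcd_eq_gcd_ab (p ^ a) m
      rw [hg] at h4
      have h6 : x ^ (((p ^ a : ℕ) : ℤ) * Nat.gcdA (p ^ a) m + (m : ℤ) * Nat.gcdB (p ^ a) m) = x := by
        rw [← h4]
        simp
      rw [hc, hy, ← zpow_natCast x (p ^ a), ← zpow_natCast x m, ← zpow_mul, ← zpow_mul,
        ← zpow_add]
      exact h6.symm
    have hset : (MulAction.fixedPoints (Subgroup.zpowers y) (M ⧸ H') : Set (M ⧸ H')) =
        MulAction.fixedBy (M ⧸ H') x := by
      ext q
      rw [MulAction.mem_fixedPoints, MulAction.mem_fixedBy]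
      constructor
      · intro h
        have hyq : y • q = q := h ⟨y, Subgroup.mem_zpowers y⟩
        have hys : y ∈ MulAction.stabilizer M q := hyq
        have hcs : c ∈ MulAction.stabilizer M q := hcfix q
        have : x ∈ MulAction.stabilizer M q := by
          rw [hxcy]
          exact Subgroup.mul_mem _ (Subgroup.zpow_mem _ hcs _) (Subgroup.zpow_mem _ hys _)
        exact this
      · intro h g
        have hxs : x ∈ MulAction.stabilizer M q := h
        have hys : y ∈ MulAction.stabilizer M q := Subgroup.pow_mem _ hxs m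
        have : Subgroup.zpowers y ≤ MulAction.stabilizer M q := by
          rw [Subgroup.zpowers_le]
          exact hys
        exact this g.2
    refine ⟨Nat.card (MulAction.fixedBy (M ⧸ H') x), indFun_one_eq_card_fixedBy H' x, ?_⟩
    intro hdvd
    apply hidx
    rw [Subgroup.index_eq_card]
    rw [← hset] at hdvd
    exact (Nat.ModEq.dvd_iff hmod (dvd_refl p)).mpr hdvd

end NormalCase

section General

variable {G : Type u} [Group G] [Fintype G]

/-- Lemma 8.8: for every element `x` and prime `p` there is a `p`-quasi-elementary subgroup whose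
permutation character does not vanish mod `p` at `x`. -/
theorem exists_quasiElem {p : ℕ} [hp : Fact p.Prime] (x : G) :
    ∃ K : Subgroup G, IsQuasiElem p K ∧
      ∃ z : ℕ, indFun K (fun _ => (1 : ℂ)) x = z ∧ ¬ p ∣ z := by
  classical
  have hn : orderOf x ≠ 0 := (orderOf_pos x).ne'
  obtain ⟨a, m, hmp, hnm⟩ := Nat.exists_eq_pow_mul_and_not_dvd hn p hp.out.ne_one
  have hm : m.Coprime p := ((Nat.Prime.coprime_iff_not_dvd hp.out).mpr hmp).symm
  have hxo : x ^ (p ^ a * m) = 1 := by
    rw [← hnm]
    exact pow_orderOf_eq_one x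
  obtain ⟨c, hc⟩ : ∃ c, c = x ^ (p ^ a) := ⟨_, rfl⟩
  have hcm : c ^ m = 1 := by rw [hc, ← pow_mul, hxo]
  have hcop : ∀ g : G, orderOf g = orderOf c → Nat.Coprime (orderOf g) p := by
    intro g hg
    rw [hg]
    exact Nat.Coprime.coprime_dvd_left (orderOf_dvd_of_pow_eq_one hcm) hm
  have hxN : x ∈ Subgroup.normalizer (Subgroup.zpowers c : Set G) := by
    apply mem_normalizer_zpowers_of_conj_mem
    have : x * c * x⁻¹ = c := by
      rw [hc, ← pow_succ', pow_succ, mul_inv_cancel_right]
    rw [this]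
    exact Subgroup.mem_zpowers c
  haveI : Fintype (Subgroup.normalizer (Subgroup.zpowers c : Set G)) := Fintype.ofFinite _
  obtain ⟨x', hx'⟩ : ∃ x' : Subgroup.normalizer (Subgroup.zpowers c : Set G), x' = ⟨x, hxN⟩ :=
    ⟨_, rfl⟩
  have hx'c : (x' : G) = x := by rw [hx']
  have hx'o : x' ^ (p ^ a * m) = 1 := by
    apply Subtype.ext
    rw [Subgroup.coe_pow, hx'c, hxo]
    rfl
  have hcN : c ∈ Subgroup.normalizer (Subgroup.zpowers c : Set G) :=
    Subgroup.le_normalizer (Subgroup.mem_zpowers c)
  have hc' : x' ^ (p ^ a) = ⟨c, hcN⟩ := by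
    apply Subtype.ext
    rw [Subgroup.coe_pow, hx'c]
    exact hc.symm
  have hcn : (Subgroup.zpowers (x' ^ (p ^ a))).Normal := by
    rw [hc', zpowers_mk_eq_subgroupOf]
    exact Subgroup.normal_in_normalizer
  haveI := hcn
  obtain ⟨H', hCH', ⟨j, hj⟩, z, hz, hpz⟩ := exists_quasiElem_normal x' a m hm hx'o hcn
  -- elements of `H'` of order prime to `p` lie in the cyclic subgroup
  have hpprime : ∀ h : Subgroup.normalizer (Subgroup.zpowers c : Set G), h ∈ H' →
      Nat.Coprime (orderOf h) p → h ∈ Subgroup.zpowers (x' ^ (p ^ a)) := by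
    intro h hh hcoh
    have h1 := Subgroup.pow_index_mem ((Subgroup.zpowers (x' ^ (p ^ a))).subgroupOf H') ⟨h, hh⟩
    have h2 : ((Subgroup.zpowers (x' ^ (p ^ a))).subgroupOf H').index = p ^ j := hj
    rw [h2, Subgroup.mem_subgroupOf] at h1
    have h3 : h ^ (p ^ j) ∈ Subgroup.zpowers (x' ^ (p ^ a)) := by simpa using h1
    have h4 : Nat.Coprime (p ^ j) (orderOf h) := Nat.Coprime.pow_left j hcoh.symm
    obtain ⟨k, hk⟩ := exists_pow_eq_self_of_coprime h4
    rw [← hk]
    exact Subgroup.pow_mem _ h3 k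
  refine ⟨H'.map (Subgroup.normalizer (Subgroup.zpowers c : Set G)).subtype, ?_, z, ?_, hpz⟩
  · apply isQuasiElem_of_mulEquiv (Subgroup.equivMapOfInjective H' _ (Subgroup.subtype_injective _))
    refine ⟨⟨x' ^ (p ^ a), hCH' (Subgroup.mem_zpowers _)⟩, ?_, ?_, j, ?_⟩
    · rw [zpowers_mk_eq_subgroupOf]
      infer_instance
    · have h1 : orderOf (⟨x' ^ (p ^ a), hCH' (Subgroup.mem_zpowers _)⟩ : H') =
          orderOf (x' ^ (p ^ a)) := (Subgroup.orderOf_coe _).symm
      have h2 : orderOf (x' ^ (p ^ a)) = orderOf c := by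
        rw [hc']
        exact (Subgroup.orderOf_coe (⟨c, hcN⟩ :
          Subgroup.normalizer (Subgroup.zpowers c : Set G))).symm
      rw [h1, h2]
      exact hcop c rfl
    · rw [zpowers_mk_eq_subgroupOf]
      exact hj
  · rw [← hz, indFun_apply, indFun_apply]
    have hcard : Nat.card (H'.map (Subgroup.normalizer (Subgroup.zpowers c : Set G)).subtype) =
        Nat.card H' := Subgroup.card_map_of_injective (Subgroup.subtype_injective _)
    rw [hcard]
    congr 1
    rw [sum_eq_sum_subgroup (Subgroup.normalizer (Subgroup.zpowers c : Set G))]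
    · refine Finset.sum_congr rfl fun y _ => ?_
      by_cases hmem : y⁻¹ * x' * y ∈ H'
      · rw [extendByZero_of_mem _ _ hmem]
        have hmem' : (y : G)⁻¹ * x * (y : G) ∈
            H'.map (Subgroup.normalizer (Subgroup.zpowers c : Set G)).subtype := by
          refine Subgroup.mem_map.mpr ⟨y⁻¹ * x' * y, hmem, ?_⟩
          simp [hx'c]
        rw [extendByZero_of_mem _ _ hmem']
      · rw [extendByZero_of_not_mem _ _ hmem, extendByZero_of_not_mem]
        intro h
        apply hmem
        obtain ⟨w, hw, hwe⟩ := Subgroup.mem_map.mp h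
        have : w = y⁻¹ * x' * y := by
          apply Subtype.ext
          rw [← Subgroup.subtype_apply, hwe]
          simp [hx'c]
        rwa [← this]
    · intro y hy
      apply extendByZero_of_not_mem
      intro hK
      apply hy
      -- the conjugate of `c` lies in the cyclic subgroup
      have hK2 := Subgroup.pow_mem _ hK (p ^ a)
      have hconj : (y⁻¹ * x * y) ^ (p ^ a) = y⁻¹ * c * y := by
        rw [hc]
        have : y⁻¹ * x * y = (MulAut.conj y⁻¹) x := by simp
        rw [this, ← map_pow]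
        simp
      rw [hconj] at hK2
      obtain ⟨h, hh, hhe⟩ := Subgroup.mem_map.mp hK2
      have hho : orderOf h = orderOf c := by
        rw [← Subgroup.orderOf_coe h, ← Subgroup.subtype_apply, hhe]
        have : y⁻¹ * c * y = (MulAut.conj y⁻¹) c := by simp
        rw [this, MulEquiv.orderOf_eq]
      have hhz := hpprime h hh (by rw [hho]; exact hcop c rfl)
      have hcz : y⁻¹ * c * y ∈ Subgroup.zpowers c := by
        rw [← hhe]
        obtain ⟨i, hi⟩ := Subgroup.mem_zpowers_iff.mp hhz
        rw [← hi, hc']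
        rw [Subgroup.mem_zpowers_iff]
        exact ⟨i, by simp⟩
      have hyinv : y⁻¹ ∈ Subgroup.normalizer (Subgroup.zpowers c : Set G) := by
        apply mem_normalizer_zpowers_of_conj_mem
        rwa [inv_inv]
      exact (Subgroup.inv_mem_iff _).mp hyinv

end General

section Solomon

variable {G : Type u} [Group G] [Fintype G]

/-- The integer span of the generalized characters induced from quasi-elementary subgroups. -/
def quasiElemSpan (G : Type u) [Group G] [Fintype G] : AddSubgroup (G → ℂ) :=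
  AddSubgroup.closure {f | ∃ (K : Subgroup G) (ψ : K → ℂ),
    (∃ p : ℕ, p.Prime ∧ IsQuasiElem p K) ∧ IsGeneralizedCharacter K ψ ∧ f = indFun K ψ}

theorem isGenChar_of_mem_quasiElemSpan {f : G → ℂ} (hf : f ∈ quasiElemSpan G) :
    IsGeneralizedCharacter G f := by
  unfold quasiElemSpan at hf
  induction hf using AddSubgroup.closure_induction with
  | mem f hf =>
    obtain ⟨K, ψ, -, hψ, rfl⟩ := hf
    exact isGenChar_indFun K hψ
  | zero => exact isGenChar_zero
  | add a b _ _ ha hb => exact isGenChar_add ha hb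
  | neg a _ ha => exact isGenChar_neg ha

theorem mul_mem_quasiElemSpan {f g : G → ℂ} (hf : f ∈ quasiElemSpan G)
    (hg : IsGeneralizedCharacter G g) : f * g ∈ quasiElemSpan G := by
  unfold quasiElemSpan at hf
  induction hf using AddSubgroup.closure_induction with
  | mem f hf =>
    obtain ⟨K, ψ, hK, hψ, rfl⟩ := hf
    rw [← indFun_mul_restrict K ψ
      (Cfsg.Agent.Helper8.isClassFunction_of_isGeneralizedCharacter hg)]
    exact AddSubgroup.subset_closure
      ⟨K, _, hK, isGenChar_mul hψ (isGenChar_restrict K hg), rfl⟩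
  | zero =>
    rw [zero_mul]
    exact (quasiElemSpan G).zero_mem
  | add a b _ _ ha hb =>
    rw [add_mul]
    exact (quasiElemSpan G).add_mem ha hb
  | neg a _ ha =>
    rw [neg_mul]
    exact (quasiElemSpan G).neg_mem ha

/-- The integer-valued functions. -/
def intValued (G : Type u) : AddSubgroup (G → ℂ) where
  carrier := {f | ∀ x, ∃ z : ℤ, f x = z}
  add_mem' := by
    intro f g hf hg x
    obtain ⟨a, ha⟩ := hf x
    obtain ⟨b, hb⟩ := hg x
    exact ⟨a + b, by rw [Pi.add_apply, ha, hb]; push_cast; rfl⟩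
  zero_mem' := fun x => ⟨0, by simp⟩
  neg_mem' := by
    intro f hf x
    obtain ⟨a, ha⟩ := hf x
    exact ⟨-a, by rw [Pi.neg_apply, ha]; push_cast; rfl⟩

/-- **Solomon's induction theorem** (in the form used for Brauer's theorem): the principal
character is an integer combination of generalized characters induced from quasi-elementary
subgroups. -/
theorem one_mem_quasiElemSpan : (fun _ : G => (1 : ℂ)) ∈ quasiElemSpan G := by
  classical
  have key : (1 : G → ℂ) ∈ quasiElemSpan G ⊓ intValued G := by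
    apply one_mem_of_forall_prime
    · rintro f ⟨hf1, hf2⟩ g ⟨hg1, hg2⟩
      refine ⟨mul_mem_quasiElemSpan hf1 (isGenChar_of_mem_quasiElemSpan hg1), ?_⟩
      intro x
      obtain ⟨a, ha⟩ := hf2 x
      obtain ⟨b, hb⟩ := hg2 x
      exact ⟨a * b, by rw [Pi.mul_apply, ha, hb]; push_cast; rfl⟩
    · rintro f ⟨-, hf2⟩ x
      exact hf2 x
    · intro x p hp
      haveI : Fact p.Prime := ⟨hp⟩
      obtain ⟨K, hK, z, hz, hpz⟩ := exists_quasiElem (p := p) x
      refine ⟨indFun K (fun _ => (1 : ℂ)), ⟨?_, ?_⟩, (z : ℤ), ?_, ?_⟩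
      · exact AddSubgroup.subset_closure ⟨K, _, ⟨p, hp, hK⟩, isGenChar_one, rfl⟩
      · intro y
        exact ⟨(Nat.card (MulAction.fixedBy (G ⧸ K) y) : ℤ), by
          rw [indFun_one_eq_card_fixedBy]; push_cast; rfl⟩
      · rw [hz]
        push_cast
        rfl
      · intro h
        exact hpz (Int.natCast_dvd_natCast.mp h)
  exact key.1

end Solomon

end Cfsg.Agent.Helper18
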