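import Mathlib
import Cfsg.Prelude.Def_Blocks
import Cfsg.Agent.Lib.Helper18.QuasiElem
import Cfsg.Agent.Lib.Helper18.CliffordCorr
import Cfsg.Agent.Lib.Helper24.CharNormal

/-!
# The principal character of a quasi-elementary group (helper18's library)

Isaacs, Theorem 8.10: the principal character of a quasi-elementary group is an integer
combination of characters induced from linear characters of elementary subgroups.
-/

set_option autoImplicit false

namespace Cfsg.Agent.Helper18

open Cfsg Cfsg.Agent.Helper24 Cfsg.Agent.Helper5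

universe u

/-- The norm trick: an invariant homomorphism of a commutative group under a coprime action, trivial
on the fixed points, is trivial. -/
theorem hom_eq_one_of_coprime_action {A Q : Type*} [CommGroup A] [Fintype A] [Group Q]
    [Fintype Q] (act : Q → A → A) (h1 : ∀ q a b, act q (a * b) = act q a * act q b)
    (h2 : ∀ q q' a, act q (act q' a) = act (q * q') a)
    (hcop : Nat.Coprime (Fintype.card Q) (Fintype.card A))
    (μ : A →* ℂˣ) (hinv : ∀ q a, μ (act q a) = μ a)
    (hfix : ∀ a, (∀ q, act q a = a) → μ a = 1) : ∀ a, μ a = 1 := by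
  classical
  intro a
  have hone : ∀ q, act q 1 = 1 := by
    intro q
    have := h1 q 1 1
    rw [mul_one] at this
    exact (mul_eq_left.mp this.symm)
  have hprod : ∀ (q : Q) (s : Finset Q) (f : Q → A),
      act q (∏ x ∈ s, f x) = ∏ x ∈ s, act q (f x) := by
    intro q s f
    induction s using Finset.induction_on with
    | empty => simpa using hone q
    | insert b s hb ih => rw [Finset.prod_insert hb, Finset.prod_insert hb, h1, ih]
  have hNfix : ∀ q, act q (∏ x : Q, act x a) = ∏ x : Q, act x a := by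
    intro q
    rw [hprod]
    simp only [h2]
    exact Fintype.prod_equiv (Equiv.mulLeft q) _ _ (fun x => rfl)
  have hN := hfix _ hNfix
  rw [map_prod] at hN
  simp only [hinv, Finset.prod_const, Finset.card_univ] at hN
  have hA : μ a ^ Fintype.card A = 1 := by
    rw [← map_pow, pow_card_eq_one, map_one]
  have := pow_gcd_eq_one.mpr ⟨hN, hA⟩
  rw [Nat.Coprime] at hcop
  rwa [hcop, pow_one] at this

section Structure

variable {H : Type u} [Group H] [Finite H]

theorem sup_sylow_eq_top {p : ℕ} [hp : Fact p.Prime] (C : Subgroup H) {k : ℕ}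
    (hk : C.index = p ^ k) (P : Sylow p H) : C ⊔ (P : Subgroup H) = ⊤ := by
  rw [← Subgroup.index_eq_one]
  have h1 : (C ⊔ (P : Subgroup H)).index ∣ p ^ k := by
    rw [← hk]
    exact Subgroup.index_dvd_of_le le_sup_left
  have h2 : (C ⊔ (P : Subgroup H)).index ∣ (P : Subgroup H).index :=
    Subgroup.index_dvd_of_le le_sup_right
  obtain ⟨j, -, hj⟩ := (Nat.dvd_prime_pow hp.out).mp h1
  rcases Nat.eq_zero_or_pos j with h0 | hpos
  · rw [hj, h0, pow_zero]
  · exfalso
    apply P.not_dvd_index
    apply dvd_trans _ h2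
    rw [hj]
    exact dvd_pow_self p hpos.ne'

omit [Finite H] in
theorem inf_centralizer_le_center (C P : Subgroup H) (hC : ∀ a ∈ C, ∀ b ∈ C, a * b = b * a)
    (hCP : C ⊔ P = ⊤) : C ⊓ Subgroup.centralizer (P : Set H) ≤ Subgroup.center H := by
  intro z hz
  rw [Subgroup.mem_center_iff]
  have h1 : C ≤ Subgroup.centralizer ({z} : Set H) := by
    intro a ha
    rw [Subgroup.mem_centralizer_iff]
    intro w hw
    rw [Set.mem_singleton_iff] at hw
    rw [hw]
    exact hC z hz.1 a ha
  have h2 : P ≤ Subgroup.centralizer ({z} : Set H) := by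
    intro a ha
    rw [Subgroup.mem_centralizer_iff]
    intro w hw
    rw [Set.mem_singleton_iff] at hw
    rw [hw]
    exact ((Subgroup.mem_centralizer_iff.mp hz.2) a ha).symm
  have h3 : (⊤ : Subgroup H) ≤ Subgroup.centralizer ({z} : Set H) := by
    rw [← hCP]
    exact sup_le h1 h2
  intro g
  have := Subgroup.mem_centralizer_iff.mp (h3 (Subgroup.mem_top g)) z (Set.mem_singleton z)
  exact this.symm

end Structure

section Main

open scoped ComplexConjugate

variable {H : Type u} [Group H] [Fintype H]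

/-- The sum of an irreducible character over a subgroup containing a normal subgroup that is not
in its kernel vanishes. -/
theorem sum_subgroup_eq_zero_of_not_le_ker (Z E : Subgroup H) [Z.Normal] [Fintype Z] [Fintype E]
    (hZE : Z ≤ E) {χ : H → ℂ} (hχ : IsIrrCharacter H χ) (hZ : ∃ z ∈ Z, χ z ≠ χ 1) :
    ∑ e : E, χ e = 0 := by
  classical
  have h0 := sum_char_coset_eq_zero Z hχ hZ
  have h1 : ∀ m : Z, ∑ e : E, χ ((e : H) * (m : H)) = ∑ e : E, χ e := by
    intro m
    exact Fintype.sum_equiv (Equiv.mulRight (⟨m, hZE m.2⟩ : E)) _ _ (fun e => rfl)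
  have h2 : (Fintype.card Z : ℂ) * ∑ e : E, χ e = 0 := by
    have h3 : (Fintype.card Z : ℂ) * ∑ e : E, χ e = ∑ m : Z, ∑ e : E, χ ((e : H) * (m : H)) := by
      simp only [h1, Finset.sum_const, Finset.card_univ, nsmul_eq_mul]
    rw [h3, Finset.sum_comm]
    simp only [h0, Finset.sum_const_zero]
  have h4 : (Fintype.card Z : ℂ) ≠ 0 := by
    have : Fintype.card Z ≠ 0 := Fintype.card_ne_zero
    exact_mod_cast this
  exact (mul_eq_zero.mp h2).resolve_left h4

variable {p : ℕ} [hp : Fact p.Prime] (c : H) (P : Sylow p H)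

local notation "𝒞" => Subgroup.zpowers c
local notation "𝒵" => (Subgroup.zpowers c ⊓ Subgroup.centralizer ((P : Subgroup H) : Set H))

/-- The invariant case cannot occur. -/
theorem false_of_invariant [hcn : (𝒞).Normal] (hcp : (orderOf c).Coprime p)
    (hCP : 𝒞 ⊔ (P : Subgroup H) = ⊤) (E : Subgroup H) [Fintype E]
    (hE : E = 𝒵 ⊔ (P : Subgroup H))
    {χ : H → ℂ} (hχ : IsIrrCharacter H χ) (hne : χ ≠ fun _ => (1 : ℂ))
    (hcon : classInner (fun _ : E => (1 : ℂ)) (fun e : E => χ e) ≠ 0)
    [Fintype 𝒞] {lam : 𝒞 → ℂ} (hlam : IsIrrCharacter 𝒞 lam)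
    (hcon' : classInner (fun n : 𝒞 => χ n) lam ≠ 0)
    (hinv : ∀ g : H, Cfsg.Agent.Helper5.conjFun 𝒞 g lam = lam) : False := by
  classical
  have hCcomm : ∀ a ∈ 𝒞, ∀ b ∈ 𝒞, a * b = b * a := by
    intro a ha b hb
    have := mul_comm' (⟨a, ha⟩ : 𝒞) ⟨b, hb⟩
    exact congrArg Subtype.val this
  obtain ⟨e, he0, -, hres⟩ := restrict_eq_smul_of_invariant 𝒞 hχ hlam hinv hcon'
  have hZcen : 𝒵 ≤ Subgroup.center H := inf_centralizer_le_center 𝒞 (P : Subgroup H) hCcomm hCP
  haveI : (𝒵).Normal := normal_of_le_center hZcen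
  haveI : Fintype (𝒵 : Subgroup H) := Fintype.ofFinite _
  have hZE : 𝒵 ≤ E := by rw [hE]; exact le_sup_left
  have hPE : (P : Subgroup H) ≤ E := by rw [hE]; exact le_sup_right
  -- `Z` lies in the kernel of `χ`
  have hZker : ∀ z ∈ 𝒵, χ z = χ 1 := by
    by_contra hcontra
    push Not at hcontra
    have hsum := sum_subgroup_eq_zero_of_not_le_ker 𝒵 E hZE hχ hcontra
    apply hcon
    unfold classInner
    have : ∑ g : E, (fun _ : E => (1 : ℂ)) g * conj ((fun e : E => χ e) g) =
        conj (∑ g : E, χ g) := by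
      rw [map_sum]
      refine Finset.sum_congr rfl fun g _ => ?_
      rw [one_mul]
    rw [this, hsum, map_zero, mul_zero]
  have he0' : (e : ℂ) ≠ 0 := by exact_mod_cast he0
  letI : Fintype (IrrCharacter 𝒞) := irrFintype
  have hlam1 : lam 1 = 1 := by
    rw [irr_one_eq_charDegree hlam, charDegree_eq_one_of_comm (fun a b => mul_comm' a b) hlam,
      Nat.cast_one]
  have hχval : ∀ n : 𝒞, χ n = (e : ℂ) * lam n := by
    intro n
    have := congrFun hres n
    simpa using this
  have hχ1 : χ 1 = (e : ℂ) := by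
    have := hχval 1
    rw [hlam1, mul_one] at this
    exact this
  have hlamZ : ∀ n : 𝒞, (n : H) ∈ Subgroup.centralizer ((P : Subgroup H) : Set H) →
      lam n = 1 := by
    intro n hn
    have h1 := hZker n ⟨n.2, hn⟩
    rw [hχval n, hχ1] at h1
    exact mul_left_cancel₀ he0' (by rw [h1, mul_one])
  -- the norm trick
  have hlamC : ∀ n : 𝒞, lam n = 1 := by
    letI : CommGroup 𝒞 := IsCyclic.commGroup
    haveI : Fintype (P : Subgroup H) := Fintype.ofFinite _
    have key := hom_eq_one_of_coprime_action (A := 𝒞) (Q := (P : Subgroup H))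
      (fun u n => ⟨(u : H) * n * (u : H)⁻¹, hcn.conj_mem n n.2 u⟩)
      (by
        intro q a b
        apply Subtype.ext
        show (q : H) * ((a : H) * (b : H)) * (q : H)⁻¹ =
          ((q : H) * (a : H) * (q : H)⁻¹) * ((q : H) * (b : H) * (q : H)⁻¹)
        group)
      (by
        intro q q' a
        apply Subtype.ext
        show (q : H) * ((q' : H) * (a : H) * (q' : H)⁻¹) * (q : H)⁻¹ =
          ((q : H) * (q' : H)) * (a : H) * ((q : H) * (q' : H))⁻¹
        group)
      (by
        rw [← Nat.card_eq_fintype_card, ← Nat.card_eq_fintype_card, Nat.card_zpowers]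
        obtain ⟨n, hn⟩ := IsPGroup.iff_card.mp P.2
        rw [hn]
        exact Nat.Coprime.pow_left n hcp.symm)
      (linHom (isCharacter_of_isIrrCharacter hlam) hlam1)
      (by
        intro q a
        apply Units.ext
        rw [linHom_apply, linHom_apply]
        have := congrFun (hinv (q : H)) a
        rw [Cfsg.Agent.Helper5.conjFun_apply] at this
        exact this)
      (by
        intro a ha
        apply Units.ext
        rw [linHom_apply]
        show lam a = 1
        apply hlamZ
        rw [Subgroup.mem_centralizer_iff]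
        intro u hu
        have := congrArg Subtype.val (ha ⟨u, hu⟩)
        simp only at this
        calc u * (a : H) = (u * (a : H) * u⁻¹) * u := by group
          _ = (a : H) * u := by rw [this])
    intro n
    have := congrArg Units.val (key n)
    rwa [linHom_apply] at this
  have hCker : ∀ n ∈ 𝒞, χ n = χ 1 := by
    intro n hn
    rw [hχval ⟨n, hn⟩, hlamC, mul_one, hχ1]
  obtain ⟨ψ, hψ, hχψ⟩ := exists_deflate 𝒞 hχ hCker
  -- decomposition of elements
  have hdec : ∀ h : H, ∃ n ∈ 𝒞, ∃ u ∈ (P : Subgroup H), n * u = h := by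
    intro h
    have h1 : h ∈ ((𝒞 ⊔ (P : Subgroup H) : Subgroup H) : Set H) := by
      rw [hCP]
      exact Set.mem_univ h
    rw [Subgroup.normal_mul] at h1
    obtain ⟨n, hn, u, hu, hnu⟩ := Set.mem_mul.mp h1
    exact ⟨n, hn, u, hu, hnu⟩
  have hmk : ∀ n ∈ 𝒞, ∀ u : H, (QuotientGroup.mk (n * u) : H ⧸ 𝒞) = QuotientGroup.mk u := by
    intro n hn u
    rw [QuotientGroup.eq]
    have h1 := hcn.conj_mem n⁻¹ ((𝒞).inv_mem hn) u⁻¹
    rw [inv_inv] at h1
    have e1 : (n * u)⁻¹ * u = u⁻¹ * n⁻¹ * u := by group
    rw [e1]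
    exact h1
  let f : E →* H ⧸ 𝒞 := (QuotientGroup.mk' 𝒞).comp E.subtype
  have hf : Function.Surjective f := by
    intro q
    induction q using QuotientGroup.induction_on with
    | H h =>
      obtain ⟨n, hn, u, hu, rfl⟩ := hdec h
      refine ⟨⟨u, hPE hu⟩, ?_⟩
      exact (hmk n hn u).symm
  have hirrE : IsIrrCharacter E (ψ ∘ f) := isIrrCharacter_comp_of_surjective f hf hψ
  have heq : (fun e : E => χ e) = ψ ∘ f := by
    funext e
    rw [hχψ]
    rfl
  have horth := irr_orthogonality (isIrrCharacter_one (G := E)) hirrE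
  rw [heq, horth] at hcon
  have h1E : (fun _ : E => (1 : ℂ)) = ψ ∘ f := by
    by_contra hne'
    rw [if_neg hne'] at hcon
    exact hcon rfl
  apply hne
  funext h
  obtain ⟨n, hn, u, hu, rfl⟩ := hdec h
  have h2 : χ (n * u) = χ u := by
    rw [hχψ, Function.comp_apply, Function.comp_apply, hmk n hn u]
  rw [h2]
  have h3 := congrFun heq ⟨u, hPE hu⟩
  rw [← h1E] at h3
  exact h3

/-- Every nonprincipal irreducible constituent of the character induced from the principal
character of `E` lies in the span, assuming the statement for proper subgroups. -/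
theorem irr_mem_brauerSpan [hcn : (𝒞).Normal] (hcp : (orderOf c).Coprime p)
    (hCP : 𝒞 ⊔ (P : Subgroup H) = ⊤)
    (ih : ∀ (T : Subgroup H) [Fintype T], T ≠ ⊤ → (fun _ : T => (1 : ℂ)) ∈ brauerSpan T)
    (E : Subgroup H) [Fintype E] (hE : E = 𝒵 ⊔ (P : Subgroup H))
    {χ : H → ℂ} (hχ : IsIrrCharacter H χ) (hne : χ ≠ fun _ => (1 : ℂ))
    (hcon : classInner (fun _ : E => (1 : ℂ)) (fun e : E => χ e) ≠ 0) :
    χ ∈ brauerSpan H := by
  classical
  haveI : Fintype 𝒞 := Fintype.ofFinite _
  have hχC : IsCharacter 𝒞 (fun n : 𝒞 => χ n) :=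
    isCharacter_restrict 𝒞 (isCharacter_of_isIrrCharacter hχ)
  have hχC0 : (fun n : 𝒞 => χ n) ≠ 0 := by
    intro h
    have h1 := congrFun h 1
    have h2 : χ 1 = 0 := h1
    letI : Fintype (IrrCharacter H) := irrFintype
    rw [irr_one_eq_charDegree hχ] at h2
    have := charDegree_pos hχ
    have h3 : charDegree χ = 0 := by exact_mod_cast h2
    omega
  obtain ⟨lam, hlam, hcon'⟩ := exists_constituent hχC hχC0
  by_cases hT : inertia 𝒞 lam = ⊤
  · exfalso
    apply false_of_invariant c P hcp hCP E hE hχ hne hcon hlam hcon'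
    intro g
    rw [← mem_inertia, hT]
    exact Subgroup.mem_top g
  · haveI : Fintype (inertia 𝒞 lam) := Fintype.ofFinite _
    obtain ⟨ψ, hψ, hind, -⟩ := clifford_correspondence 𝒞 hχ hlam hcon'
    rw [← hind]
    apply indFun_mem_brauerSpan
    exact genChar_mem_brauerSpan (ih _ hT)
      (isGenChar_of_isCharacter (isCharacter_of_isIrrCharacter hψ))

end Main

section Final

/-- **Isaacs 8.10**: the principal character of a quasi-elementary group lies in the span of the
characters induced from linear characters of elementary subgroups. -/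
theorem one_mem_brauerSpan_of_isQuasiElem (n : ℕ) :
    ∀ (H : Type u) [Group H] [Fintype H] (p : ℕ), p.Prime → IsQuasiElem p H →
      Nat.card H = n → (fun _ : H => (1 : ℂ)) ∈ brauerSpan H := by
  classical
  induction n using Nat.strong_induction_on with
  | _ n ih =>
    intro H _ _ p hp hQE hn
    haveI : Fact p.Prime := ⟨hp⟩
    obtain ⟨c, hcn, hcp, k, hk⟩ := id hQE
    haveI := hcn
    obtain ⟨P⟩ : Nonempty (Sylow p H) := inferInstance
    have hCP : Subgroup.zpowers c ⊔ (P : Subgroup H) = ⊤ := sup_sylow_eq_top _ hk P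
    have hCcomm : ∀ a ∈ Subgroup.zpowers c, ∀ b ∈ Subgroup.zpowers c, a * b = b * a := by
      intro a ha b hb
      have := mul_comm' (⟨a, ha⟩ : Subgroup.zpowers c) ⟨b, hb⟩
      exact congrArg Subtype.val this
    have hZcen : Subgroup.zpowers c ⊓ Subgroup.centralizer ((P : Subgroup H) : Set H) ≤
        Subgroup.center H := inf_centralizer_le_center _ (P : Subgroup H) hCcomm hCP
    haveI hZn : (Subgroup.zpowers c ⊓ Subgroup.centralizer ((P : Subgroup H) : Set H)).Normal :=
      normal_of_le_center hZcen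
    obtain ⟨E, hE⟩ : ∃ E : Subgroup H, E =
        (Subgroup.zpowers c ⊓ Subgroup.centralizer ((P : Subgroup H) : Set H)) ⊔
          (P : Subgroup H) := ⟨_, rfl⟩
    haveI : Fintype E := Fintype.ofFinite _
    -- the induction hypothesis for proper subgroups
    have ih' : ∀ (T : Subgroup H) [Fintype T], T ≠ ⊤ →
        (fun _ : T => (1 : ℂ)) ∈ brauerSpan T := by
      intro T _ hT
      have hlt : Nat.card T < n := by
        rw [← hn]
        have h3 := Subgroup.card_le_card_group T
        have h4 : Nat.card T ≠ Nat.card H := fun h => hT (Subgroup.eq_top_of_card_eq T h)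
        omega
      exact ih _ hlt T p hp (isQuasiElem_subgroup hp hQE T) rfl
    -- `E` is elementary
    have hEel : IsElementary p E := by
      have hZE : Subgroup.zpowers c ⊓ Subgroup.centralizer ((P : Subgroup H) : Set H) ≤ E := by
        rw [hE]; exact le_sup_left
      haveI : IsCyclic
          (Subgroup.zpowers c ⊓ Subgroup.centralizer ((P : Subgroup H) : Set H) : Subgroup H) :=
        Subgroup.isCyclic_of_le (inf_le_left : _ ≤ Subgroup.zpowers c)
      obtain ⟨z, hz⟩ := isCyclic_iff_exists_zpowers_eq_top.mp (inferInstance : IsCyclic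
          (Subgroup.zpowers c ⊓ Subgroup.centralizer ((P : Subgroup H) : Set H) : Subgroup H))
      have hz' : Subgroup.zpowers (z : H) =
          Subgroup.zpowers c ⊓ Subgroup.centralizer ((P : Subgroup H) : Set H) :=
        (zpowers_coe_eq_top_iff _ z).mpr hz
      refine ⟨⟨(z : H), hZE z.2⟩, ?_, ?_, ?_⟩
      · rw [Subgroup.mem_center_iff]
        intro g
        apply Subtype.ext
        exact Subgroup.mem_center_iff.mp (hZcen z.2) (g : H)
      · have h1 : orderOf (⟨(z : H), hZE z.2⟩ : E) = orderOf (z : H) :=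
          (Subgroup.orderOf_coe (⟨(z : H), hZE z.2⟩ : E)).symm
        rw [h1]
        exact Nat.Coprime.coprime_dvd_left (orderOf_dvd_of_mem_zpowers z.2.1) hcp
      · rw [zpowers_mk_eq_subgroupOf, hz']
        have h2 : (Subgroup.zpowers c ⊓
            Subgroup.centralizer ((P : Subgroup H) : Set H)).relIndex E ∣
            Nat.card (P : Subgroup H) := by
          rw [hE, Subgroup.relIndex_sup_left]
          exact Subgroup.relIndex_dvd_card _ _
        obtain ⟨m, hm⟩ := IsPGroup.iff_card.mp P.2
        rw [hm] at h2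
        obtain ⟨j, -, hj⟩ := (Nat.dvd_prime_pow hp).mp h2
        exact ⟨j, hj⟩
    -- the induced character
    letI : Fintype (IrrCharacter H) := irrFintype
    obtain ⟨θ, hθdef⟩ : ∃ θ : H → ℂ, θ = indFun E (fun _ : E => (1 : ℂ)) := ⟨_, rfl⟩
    have hθmem : θ ∈ brauerSpan H := by
      have := indFun_hom_mem_brauerSpan E (1 : E →* ℂˣ) hp hEel
      rw [hθdef]
      simpa using this
    have hθchar : IsCharacter H θ := by
      rw [hθdef]
      exact isCharacter_indFun E isCharacter_one
    obtain ⟨hm, hdec⟩ := isCharacter_decomp hθchar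
    have hfrob : ∀ μ : IrrCharacter H, classInner θ (μ : H → ℂ) =
        classInner (fun _ : E => (1 : ℂ)) (fun e : E => (μ : H → ℂ) e) := fun μ => by
      rw [hθdef]
      exact frobenius_reciprocity E _ (isClassFunction_of_isIrrCharacter μ.2)
    have h11 : classInner θ
        ((⟨fun _ => 1, isIrrCharacter_one⟩ : IrrCharacter H) : H → ℂ) = 1 := by
      rw [hfrob]
      have := irr_orthogonality (isIrrCharacter_one (G := E)) (isIrrCharacter_one (G := E))
      rw [if_pos rfl] at this
      exact this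
    have h1eq : (fun _ : H => (1 : ℂ)) = θ -
        ∑ μ ∈ (Finset.univ : Finset (IrrCharacter H)).erase ⟨fun _ => 1, isIrrCharacter_one⟩,
          classInner θ (μ : H → ℂ) • (μ : H → ℂ) := by
      rw [eq_sub_iff_add_eq]
      conv_rhs => rw [hdec]
      rw [← Finset.add_sum_erase _ _
        (Finset.mem_univ (⟨fun _ => 1, isIrrCharacter_one⟩ : IrrCharacter H)), h11, one_smul]
    rw [h1eq]
    apply (brauerSpan H).sub_mem hθmem
    apply AddSubgroup.sum_mem
    intro μ hμ
    obtain ⟨m, hmμ⟩ := hm μ
    rw [hmμ]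
    have h1 : ((m : ℂ) • (μ : H → ℂ)) = m • (μ : H → ℂ) := by
      funext g
      simp
    rw [h1]
    by_cases hm0 : m = 0
    · rw [hm0, zero_smul]
      exact (brauerSpan H).zero_mem
    · apply AddSubgroup.nsmul_mem
      have hne : (μ : H → ℂ) ≠ fun _ => (1 : ℂ) := by
        intro h
        exact (Finset.mem_erase.mp hμ).1 (Subtype.ext h)
      have hcon : classInner (fun _ : E => (1 : ℂ)) (fun e : E => (μ : H → ℂ) e) ≠ 0 := by
        rw [← hfrob, hmμ]
        exact_mod_cast hm0
      exact irr_mem_brauerSpan c P hcp hCP ih' E hE μ.2 hne hcon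

end Final

end Cfsg.Agent.Helper18
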