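import Mathlib
import Cfsg.Prelude.Def_Blocks
import Cfsg.Agent.Lib.Helper18.BlockCover2
import Cfsg.Agent.Lib.Helper18.BlockPGroup
import Cfsg.Agent.Lib.Helper23.BlockNormalP

/-!
# Blocks and quotients by normal `p`-subgroups (helper18's library)
-/

set_option autoImplicit false

namespace Cfsg.Agent.Helper18

open Cfsg Cfsg.Agent.Helper24 Cfsg.Agent.Helper23.Blk
open scoped ComplexConjugate

universe u

section Regular

variable {G : Type u} [Group G] [Fintype G] {p : ℕ} {M : Ideal AlgInt}

/-- Two irreducible characters whose central characters agree on the `p`-regular elements lie in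
the same block. -/
theorem sameBlock_of_congr_on_pRegular (hM : IsPModular p M) {χ₁ χ₂ : IrrCharacter G}
    (h : ∀ g : G, ¬ p ∣ orderOf g → MemLocalIdeal M
      (centralChar (χ₁ : G → ℂ) g - centralChar (χ₂ : G → ℂ) g)) :
    SameBlock M (χ₁ : G → ℂ) (χ₂ : G → ℂ) := by
  classical
  have hMp : M.IsPrime := isPrime_of_isPModular hM
  haveI := hMp
  letI : Fintype (IrrCharacter G) := irrFintype
  haveI : Fintype (ConjClasses G) := Fintype.ofFinite _
  by_contra hnot
  obtain ⟨f, hf⟩ : ∃ f : G → ℂ, f = blockCoeff (blockOf M (χ₁ : G → ℂ)) := ⟨_, rfl⟩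
  have hfsynth : f = synth (fun μ : IrrCharacter G =>
      if μ ∈ blockOf M (χ₁ : G → ℂ) then (1 : ℂ) else 0) := by
    rw [hf]
    funext g
    exact blockCoeff_eq_synth _ g
  have hfcf : IsClassFunction G f := by
    rw [hfsynth]
    exact synth_isClassFunction _
  have hfR : ∀ g, MemLocalRing M (f g) := by
    rw [hf]
    exact memLocalRing_blockCoeff hMp ⟨χ₁, rfl⟩
  have hfnot : ∀ g : G, p ∣ orderOf g → f g = 0 := by
    intro g hg
    rw [hf]
    exact blockCoeff_eq_zero_of_pSingular hM ⟨χ₁, rfl⟩ hg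
  have h1 : omega (χ₁ : G → ℂ) f = 1 := by
    rw [hfsynth, omega_synth, if_pos (mem_blockOf_self χ₁)]
  have h2 : omega (χ₂ : G → ℂ) f = 0 := by
    have hnot' : χ₂ ∉ blockOf M (χ₁ : G → ℂ) := hnot
    rw [hfsynth, omega_synth, if_neg hnot']
  rw [omega_eq_sum_classes (isClassFunction_of_isIrrCharacter χ₁.2) hfcf] at h1
  rw [omega_eq_sum_classes (isClassFunction_of_isIrrCharacter χ₂.2) hfcf] at h2
  apply not_memLocalIdeal_one (M := M)
  have h3 : (1 : ℂ) = ∑ K : ConjClasses G, f (Quotient.out K) *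
      (centralChar (χ₁ : G → ℂ) (Quotient.out K) -
        centralChar (χ₂ : G → ℂ) (Quotient.out K)) := by
    simp only [mul_sub, Finset.sum_sub_distrib]
    rw [h1, h2]
    ring
  rw [h3]
  apply memLocalIdeal_sum
  intro K _
  by_cases hK : p ∣ orderOf (Quotient.out K)
  · rw [hfnot _ hK, zero_mul]
    exact memLocalIdeal_zero ne_top
  · exact memLocalIdeal_mul_left (hfR _) (h _ hK)

/-- Two irreducible characters whose central characters agree on the `p`-regular elements
centralizing a normal `p`-subgroup lie in the same block. -/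
theorem sameBlock_of_congr_on_centralizer (hM : IsPModular p M) (Q : Subgroup G) [Q.Normal]
    (hQ : IsPGroup p Q) {χ₁ χ₂ : IrrCharacter G}
    (h : ∀ g : G, ¬ p ∣ orderOf g → g ∈ Subgroup.centralizer (Q : Set G) → MemLocalIdeal M
      (centralChar (χ₁ : G → ℂ) g - centralChar (χ₂ : G → ℂ) g)) :
    SameBlock M (χ₁ : G → ℂ) (χ₂ : G → ℂ) := by
  classical
  have hMp : M.IsPrime := isPrime_of_isPModular hM
  haveI := hMp
  letI : Fintype (IrrCharacter G) := irrFintype
  haveI : Fintype (ConjClasses G) := Fintype.ofFinite _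
  by_contra hnot
  obtain ⟨f, hf⟩ : ∃ f : G → ℂ, f = blockCoeff (blockOf M (χ₁ : G → ℂ)) := ⟨_, rfl⟩
  have hfsynth : f = synth (fun μ : IrrCharacter G =>
      if μ ∈ blockOf M (χ₁ : G → ℂ) then (1 : ℂ) else 0) := by
    rw [hf]
    funext g
    exact blockCoeff_eq_synth _ g
  have hfcf : IsClassFunction G f := by
    rw [hfsynth]
    exact synth_isClassFunction _
  have hfR : ∀ g, MemLocalRing M (f g) := by
    rw [hf]
    exact memLocalRing_blockCoeff hMp ⟨χ₁, rfl⟩
  have hfnot : ∀ g : G, p ∣ orderOf g → f g = 0 := by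
    intro g hg
    rw [hf]
    exact blockCoeff_eq_zero_of_pSingular hM ⟨χ₁, rfl⟩ hg
  have hfnot' : ∀ g : G, g ∉ Subgroup.centralizer (Q : Set G) → f g = 0 := by
    intro g hg
    rw [hf]
    exact blockCoeff_eq_zero_of_not_mem_centralizer hM ⟨χ₁, rfl⟩ Q hQ hg
  have h1 : omega (χ₁ : G → ℂ) f = 1 := by
    rw [hfsynth, omega_synth, if_pos (mem_blockOf_self χ₁)]
  have h2 : omega (χ₂ : G → ℂ) f = 0 := by
    have hnot' : χ₂ ∉ blockOf M (χ₁ : G → ℂ) := hnot
    rw [hfsynth, omega_synth, if_neg hnot']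
  rw [omega_eq_sum_classes (isClassFunction_of_isIrrCharacter χ₁.2) hfcf] at h1
  rw [omega_eq_sum_classes (isClassFunction_of_isIrrCharacter χ₂.2) hfcf] at h2
  apply not_memLocalIdeal_one (M := M)
  have h3 : (1 : ℂ) = ∑ K : ConjClasses G, f (Quotient.out K) *
      (centralChar (χ₁ : G → ℂ) (Quotient.out K) -
        centralChar (χ₂ : G → ℂ) (Quotient.out K)) := by
    simp only [mul_sub, Finset.sum_sub_distrib]
    rw [h1, h2]
    ring
  rw [h3]
  apply memLocalIdeal_sum
  intro K _
  by_cases hK : p ∣ orderOf (Quotient.out K)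
  · rw [hfnot _ hK, zero_mul]
    exact memLocalIdeal_zero ne_top
  · by_cases hK' : Quotient.out K ∈ Subgroup.centralizer (Q : Set G)
    · exact memLocalIdeal_mul_left (hfR _) (h _ hK hK')
    · rw [hfnot' _ hK', zero_mul]
      exact memLocalIdeal_zero ne_top

end Regular

section Lift

variable {G : Type u} [Group G] [Finite G] (N : Subgroup G) [N.Normal]

/-- A `p`-regular element of a quotient group is the image of a `p`-regular element. -/
theorem exists_pRegular_lift {p : ℕ} (hp : p.Prime) (y : G ⧸ N) (hy : ¬ p ∣ orderOf y) :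
    ∃ g : G, ¬ p ∣ orderOf g ∧ (g : G ⧸ N) = y := by
  obtain ⟨x, rfl⟩ := QuotientGroup.mk_surjective y
  have hx0 : orderOf x ≠ 0 := (orderOf_pos x).ne'
  obtain ⟨a, m, hm, hxm⟩ := Nat.exists_eq_pow_mul_and_not_dvd hx0 p hp.ne_one
  have hcop : Nat.Coprime (p ^ a) m :=
    Nat.Coprime.pow_left _ ((Nat.Prime.coprime_iff_not_dvd hp).mpr hm)
  obtain ⟨k, hk1, hk2⟩ := Nat.chineseRemainder hcop 0 1
  have hdvd : orderOf (x : G ⧸ N) ∣ orderOf x := by
    apply orderOf_dvd_of_pow_eq_one
    rw [← QuotientGroup.mk_pow, pow_orderOf_eq_one, QuotientGroup.mk_one]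
  have hdvdm : orderOf (x : G ⧸ N) ∣ m := by
    rw [hxm] at hdvd
    have hc : Nat.Coprime (orderOf (x : G ⧸ N)) (p ^ a) :=
      Nat.Coprime.pow_right _ ((Nat.Prime.coprime_iff_not_dvd hp).mpr hy).symm
    exact hc.dvd_of_dvd_mul_left hdvd
  refine ⟨x ^ k, ?_, ?_⟩
  · -- the order of `x ^ k` divides `m`
    have h1 : (x ^ k) ^ m = 1 := by
      rw [← pow_mul]
      apply orderOf_dvd_iff_pow_eq_one.mp
      rw [hxm]
      have : p ^ a ∣ k := (Nat.modEq_zero_iff_dvd).mp hk1
      exact Nat.mul_dvd_mul this (dvd_refl m)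
    have h2 : orderOf (x ^ k) ∣ m := orderOf_dvd_of_pow_eq_one h1
    intro h3
    exact hm (dvd_trans h3 h2)
  · rw [QuotientGroup.mk_pow]
    have h1 : k ≡ 1 [MOD orderOf (x : G ⧸ N)] := hk2.of_dvd hdvdm
    rw [pow_eq_pow_iff_modEq.mpr h1, pow_one]

end Lift

section Quot

variable {G : Type u} [Group G] [Fintype G] (P : Subgroup G) [hPn : P.Normal] {p : ℕ}
  {M : Ideal AlgInt}

/-- For a `p`-regular element `g` centralizing the normal `p`-subgroup `P`, the class of `g` in
`G` and the class of its image in `G ⧸ P` have the same size. -/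
theorem index_centralizer_mk_eq (hp : p.Prime) (hP : IsPGroup p P) {g : G}
    (hg : ¬ p ∣ orderOf g) (hgP : g ∈ Subgroup.centralizer (P : Set G)) :
    (Subgroup.centralizer ({(g : G ⧸ P)} : Set (G ⧸ P))).index =
      (Subgroup.centralizer ({g} : Set G)).index := by
  haveI : Fact p.Prime := ⟨hp⟩
  have hcomap : (Subgroup.centralizer ({(g : G ⧸ P)} : Set (G ⧸ P))).comap (QuotientGroup.mk' P) =
      Subgroup.centralizer ({g} : Set G) := by
    ext x
    simp only [Subgroup.mem_comap, Subgroup.mem_centralizer_iff, Set.mem_singleton_iff,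
      forall_eq, QuotientGroup.mk'_apply]
    constructor
    · intro hx
      -- `x g x⁻¹ = g z` with `z ∈ P`
      have hz : g⁻¹ * (x * g * x⁻¹) ∈ P := by
        rw [← QuotientGroup.eq_one_iff]
        rw [QuotientGroup.mk_mul, QuotientGroup.mk_inv, QuotientGroup.mk_mul, QuotientGroup.mk_mul,
          QuotientGroup.mk_inv]
        have : (x : G ⧸ P) * (g : G ⧸ P) * (x : G ⧸ P)⁻¹ = (g : G ⧸ P) := by
          rw [← hx, mul_assoc, mul_inv_cancel, mul_one]
        rw [this, inv_mul_cancel]
      obtain ⟨z, hzdef⟩ : ∃ z : G, z = g⁻¹ * (x * g * x⁻¹) := ⟨_, rfl⟩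
      rw [← hzdef] at hz
      have hcomm : Commute g z := by
        rw [Subgroup.mem_centralizer_iff] at hgP
        exact (hgP z hz).symm
      have hgz : x * g * x⁻¹ = g * z := by
        rw [hzdef]
        group
      -- orders
      have hoz : ∃ k : ℕ, orderOf z = p ^ k := by
        obtain ⟨k, hk⟩ := (IsPGroup.iff_orderOf.mp hP) ⟨z, hz⟩
        exact ⟨k, by rw [← hk, Subgroup.orderOf_mk]⟩
      obtain ⟨k, hk⟩ := hoz
      have hcop : Nat.Coprime (orderOf g) (orderOf z) := by
        rw [hk]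
        exact Nat.Coprime.pow_right _ ((Nat.Prime.coprime_iff_not_dvd hp).mpr hg).symm
      have hord : orderOf (g * z) = orderOf g * orderOf z :=
        hcomm.orderOf_mul_eq_mul_orderOf_of_coprime hcop
      have hconj : orderOf (x * g * x⁻¹) = orderOf g := by
        have := (MulAut.conj x).orderOf_eq g
        rwa [MulAut.conj_apply] at this
      rw [hgz, hord] at hconj
      have hz1 : orderOf z = 1 := by
        have hg0 : 0 < orderOf g := orderOf_pos g
        nlinarith [Nat.eq_of_mul_eq_mul_left hg0 (by rw [hconj, mul_one] : orderOf g * orderOf z = orderOf g * 1)]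
      rw [orderOf_eq_one_iff] at hz1
      rw [hz1, mul_one] at hgz
      calc g * x = (x * g * x⁻¹) * x := by rw [hgz]
        _ = x * g := by group
    · intro hx
      rw [← QuotientGroup.mk_mul, ← QuotientGroup.mk_mul, hx]
  rw [← hcomap, Subgroup.index_comap_of_surjective _ (QuotientGroup.mk'_surjective P)]

/-- The central character of an inflated function at a `p`-regular element centralizing `P`. -/
theorem centralChar_comp_mk_eq (hp : p.Prime) (hP : IsPGroup p P) (χ : G ⧸ P → ℂ) {g : G}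
    (hg : ¬ p ∣ orderOf g) (hgP : g ∈ Subgroup.centralizer (P : Set G)) :
    centralChar (χ ∘ (QuotientGroup.mk : G → G ⧸ P)) g = centralChar χ (g : G ⧸ P) := by
  unfold centralChar
  rw [index_centralizer_mk_eq P hp hP hg hgP]
  simp

/-- Every block contains a character whose kernel contains the normal `p`-subgroup `P`. -/
theorem exists_mem_block_trivial_on (hM : IsPModular p M) (hP : IsPGroup p P)
    {B : Set (IrrCharacter G)} (hB : IsPBlock M B) :
    ∃ χ ∈ B, ∀ u ∈ P, (χ : G → ℂ) u = (χ : G → ℂ) 1 := by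
  classical
  haveI : Fintype P := Fintype.ofFinite P
  letI : Fintype (IrrCharacter G) := irrFintype
  letI : Fintype (IrrCharacter P) := irrFintype
  haveI : M.IsPrime := isPrime_of_isPModular hM
  have hp := hM.1
  by_contra hno
  push Not at hno
  -- no member of `B` lies over the trivial character of `P`
  have hzero : ∀ χ ∈ B, ∑ u : P, (χ : G → ℂ) u = 0 := by
    intro χ hχ
    by_contra hne
    have hcon : classInner (fun u : P => (χ : G → ℂ) u) (fun _ : P => (1 : ℂ)) ≠ 0 := by
      unfold classInner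
      simp only [map_one, mul_one]
      apply mul_ne_zero _ hne
      apply inv_ne_zero
      have : Nat.card P ≠ 0 := Nat.card_pos.ne'
      exact_mod_cast this
    obtain ⟨e, -, -, he⟩ := Cfsg.Agent.Helper5.restrict_eq_smul_of_invariant P χ.2
      (isIrrCharacter_one (G := P)) (fun g => rfl) hcon
    obtain ⟨u, hu, hne'⟩ := hno χ hχ
    apply hne'
    have h1 := congrFun he ⟨u, hu⟩
    have h2 := congrFun he 1
    simp only [Pi.smul_apply, smul_eq_mul, mul_one] at h1 h2
    rw [h1]
    exact h2.symm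
  have hone : ¬ p ∣ orderOf (1 : G) := by
    rw [orderOf_one]
    exact hp.one_lt.ne' ∘ Nat.dvd_one.mp
  have h1 := sum_blockCoeff_coset hM hB P hP hone
  simp only [one_mul] at h1
  have h2 : ∀ u : P, blockCoeff B (u : G) = (Nat.card G : ℂ)⁻¹ *
      ∑ χ : IrrCharacter G, if χ ∈ B then (χ : G → ℂ) 1 * conj ((χ : G → ℂ) u) else 0 := by
    intro u
    unfold blockCoeff
    rw [finsum_mem_def, finsum_eq_sum_of_fintype]
    congr 1
  have h3 : ∑ u : P, blockCoeff B (u : G) = 0 := by
    simp only [h2]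
    rw [← Finset.mul_sum, Finset.sum_comm]
    have h4 : ∀ χ : IrrCharacter G, ∑ u : P,
        (if χ ∈ B then (χ : G → ℂ) 1 * conj ((χ : G → ℂ) u) else 0) = 0 := by
      intro χ
      by_cases hχ : χ ∈ B
      · simp only [if_pos hχ]
        rw [← Finset.mul_sum, ← map_sum, hzero χ hχ, map_zero, mul_zero]
      · simp only [if_neg hχ]
        simp
    rw [Finset.sum_congr rfl (fun χ _ => h4 χ)]
    simp
  rw [h3] at h1
  -- but the coefficient at the identity is positive
  obtain ⟨χ₀, rfl⟩ := hB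
  have h5 : blockCoeff (blockOf M (χ₀ : G → ℂ)) 1 ≠ 0 := by
    unfold blockCoeff
    rw [finsum_mem_def, finsum_eq_sum_of_fintype]
    apply mul_ne_zero
    · apply inv_ne_zero
      have : Nat.card G ≠ 0 := Nat.card_pos.ne'
      exact_mod_cast this
    · have h6 : ∀ χ : IrrCharacter G, Set.indicator (blockOf M (χ₀ : G → ℂ))
          (fun χ : IrrCharacter G => (χ : G → ℂ) 1 * conj ((χ : G → ℂ) 1)) χ =
          (((if χ ∈ blockOf M (χ₀ : G → ℂ) then charDegree (χ : G → ℂ) ^ 2 else 0 : ℕ)) : ℂ) := by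
        intro χ
        by_cases hχ : χ ∈ blockOf M (χ₀ : G → ℂ)
        · rw [Set.indicator_of_mem hχ, if_pos hχ, conj_irr_one χ.2, irr_one_eq_charDegree χ.2]
          push_cast
          ring
        · rw [Set.indicator_of_notMem hχ, if_neg hχ]
          simp
      simp only [h6]
      rw [← Nat.cast_sum]
      have hpos : 0 < ∑ χ : IrrCharacter G,
          (if χ ∈ blockOf M (χ₀ : G → ℂ) then charDegree (χ : G → ℂ) ^ 2 else 0) := by
        apply Finset.sum_pos'
        · intro χ _
          exact Nat.zero_le _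
        · refine ⟨χ₀, Finset.mem_univ _, ?_⟩
          rw [if_pos (mem_blockOf_self χ₀)]
          exact pow_pos (charDegree_pos χ₀.2) 2
      exact_mod_cast hpos.ne'
  exact h5 h1.symm

end Quot

end Cfsg.Agent.Helper18
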