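import Mathlib
import Cfsg.Prelude.Def_Blocks
import Cfsg.Agent.Lib.Helper18.BlockQuotP
import Cfsg.Agent.Lib.Helper23.BlockDefectGroup2
import Cfsg.Agent.S0165

/-!
# Blocks with a normal defect group (helper18's library)

If the block `b` has the normal subgroup `P` as a defect group and the central character of `b`
does not vanish (modulo the local ideal) at `y`, then the `p`-part of `y` lies in `P`.
-/

set_option autoImplicit false

namespace Cfsg.Agent.Helper18

open Cfsg Cfsg.Agent.Helper24 Cfsg.Agent.Helper23.Blk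
open scoped ComplexConjugate

universe u

section NormalDefect

variable {G : Type u} [Group G] [Finite G] {p : ℕ} {M : Ideal AlgInt}

/-- the degrees in a block are divisible by `|G|_p / |D|` -/
theorem le_factorization_charDegree_of_defectGroup (hM : IsPModular p M)
    {B : Set (IrrCharacter G)} (hB : IsPBlock M B) {D : Subgroup G}
    (hD : IsDefectGroup p M B D) {χ : IrrCharacter G} (hχ : χ ∈ B) :
    (Nat.card G).factorization p - (Nat.card D).factorization p ≤
      (charDegree (χ : G → ℂ)).factorization p := by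
  have hp : p.Prime := hM.1
  have h1 := card_defectGroup hM hB hD
  have h2 : (Nat.card D).factorization p = blockDefect p B := by
    rw [h1, hp.factorization_pow]
    simp
  rw [h2]
  unfold blockDefect
  have h3 : sInf ((fun χ : IrrCharacter G => (charDegree (χ : G → ℂ)).factorization p) '' B) ≤
      (charDegree (χ : G → ℂ)).factorization p := Nat.sInf_le ⟨χ, hχ, rfl⟩
  omega

/-- **Normal defect groups**: if the normal subgroup `P` is a defect group of the block `b` and
the central character of `b` does not vanish at `y`, then the `p`-part of `y` lies in `P`. -/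
theorem ppart_mem_of_normal_defectGroup [Fact p.Prime] (hM : IsPModular p M) (P : Subgroup G)
    [hPn : P.Normal] {b : Set (IrrCharacter G)} (hb : IsPBlock M b)
    (hD : IsDefectGroup p M b P) {y : G}
    (hy : ∃ θ ∈ b, ¬ MemLocalIdeal M (centralChar (θ : G → ℂ) y)) {z : G}
    (hz : IsPPart p y z) : z ∈ P := by
  classical
  haveI : Fintype G := Fintype.ofFinite G
  haveI hMp : M.IsPrime := hM.2.1.isPrime
  have hp : p.Prime := hM.1
  have hPp : IsPGroup p P := isPGroup_of_isDefectGroup hM hD
  obtain ⟨χ₀, hχ₀, hker⟩ := exists_mem_block_trivial_on P hM hPp hb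
  obtain ⟨θ, hθ, hθy⟩ := hy
  have hsame : SameBlock M (χ₀ : G → ℂ) (θ : G → ℂ) := by
    obtain ⟨χ₁, rfl⟩ := hb
    exact sameBlock_trans (sameBlock_symm hχ₀) hθ
  have hχ₀y : ¬ MemLocalIdeal M (centralChar (χ₀ : G → ℂ) y) := by
    intro h
    apply hθy
    have h1 := memLocalIdeal_sub h (hsame y)
    rwa [sub_sub_cancel] at h1
  by_contra hzP
  apply hχ₀y
  -- the character vanishes at `y`
  obtain ⟨ψ, hψ, hχψ⟩ := exists_deflate P χ₀.2 hker
  obtain ⟨n, ρ, hρ, hρψ⟩ := hψ
  obtain ⟨a, ha⟩ : ∃ a : ℕ, a = (Nat.card (G ⧸ P)).factorization p := ⟨_, rfl⟩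
  have hcard : Nat.card G = Nat.card (G ⧸ P) * Nat.card P :=
    Subgroup.card_eq_card_quotient_mul_card_subgroup P
  have hfac : (Nat.card G).factorization p =
      (Nat.card (G ⧸ P)).factorization p + (Nat.card P).factorization p := by
    rw [hcard, Nat.factorization_mul Nat.card_pos.ne' Nat.card_pos.ne']
    rfl
  have hdeg := le_factorization_charDegree_of_defectGroup hM hb hD hχ₀
  have hn1 : (χ₀ : G → ℂ) 1 = (n : ℂ) := by
    rw [hχψ, ← hρψ]
    show ρ.character ((1 : G) : G ⧸ P) = n
    rw [QuotientGroup.mk_one, Representation.char_one]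
    simp
  have hdegn : charDegree (χ₀ : G → ℂ) = n := charDegree_natCast n hn1
  have hpa : p ^ a ∣ n := by
    have hn0 : n ≠ 0 := by
      rw [← hdegn]
      exact (charDegree_pos χ₀.2).ne'
    rw [hp.pow_dvd_iff_le_factorization hn0, ← hdegn, ha]
    omega
  -- `y P` is `p`-singular
  obtain ⟨u, hzu, hcomm, ⟨k, hk⟩, hu⟩ := hz
  have hsing : p ∣ orderOf ((y : G) : G ⧸ P) := by
    have hy' : ((y : G) : G ⧸ P) = ((z : G) : G ⧸ P) * ((u : G) : G ⧸ P) := by
      rw [← QuotientGroup.mk_mul, hzu]
    have hcomm' : Commute ((z : G) : G ⧸ P) ((u : G) : G ⧸ P) := by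
      show ((z : G) : G ⧸ P) * ((u : G) : G ⧸ P) = ((u : G) : G ⧸ P) * ((z : G) : G ⧸ P)
      rw [← QuotientGroup.mk_mul, ← QuotientGroup.mk_mul, hcomm.eq]
    have hoz : orderOf ((z : G) : G ⧸ P) ∣ p ^ k := by
      rw [← hk]
      exact orderOf_map_dvd (QuotientGroup.mk' P) z
    have hou : orderOf ((u : G) : G ⧸ P) ∣ orderOf u := orderOf_map_dvd (QuotientGroup.mk' P) u
    obtain ⟨j, -, hj⟩ := (Nat.dvd_prime_pow hp).mp hoz
    have hj0 : j ≠ 0 := by
      rintro rfl
      rw [pow_zero, orderOf_eq_one_iff, QuotientGroup.eq_one_iff] at hj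
      exact hzP hj
    have hcop : Nat.Coprime (orderOf ((z : G) : G ⧸ P)) (orderOf ((u : G) : G ⧸ P)) := by
      rw [hj]
      apply Nat.Coprime.pow_left
      rw [Nat.Prime.coprime_iff_not_dvd hp]
      exact fun h => hu (h.trans hou)
    rw [hy', hcomm'.orderOf_mul_eq_mul_orderOf_of_coprime hcop, hj]
    exact Dvd.dvd.mul_right (dvd_pow_self p hj0) _
  haveI := hρ
  have hvan := Cfsg.Agent.S0165.result ρ p a hp (by rw [ha]; exact Nat.ordProj_dvd _ _)
    (by rw [ha]; exact Nat.pow_succ_factorization_not_dvd Nat.card_pos.ne' hp)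
    (by simpa using hpa) ((y : G) : G ⧸ P) hsing
  have h0 : (χ₀ : G → ℂ) y = 0 := by
    rw [hχψ, ← hρψ]
    exact hvan
  unfold centralChar
  rw [h0, mul_zero, zero_div]
  exact memLocalIdeal_zero ne_top

end NormalDefect

end Cfsg.Agent.Helper18
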