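import Mathlib
import Cfsg.Prelude.Def_Blocks
import Cfsg.Prelude.Def_BlockLocal
import Cfsg.Prelude.Def_BrauerPairs
import Cfsg.Agent.Lib.Helper18.BlockCover
import Cfsg.Agent.Lib.Helper18.BlockCover2
import Cfsg.Agent.Lib.Helper23.BlockFirstMain
import Cfsg.Agent.Lib.Helper23.BlockMinMax
import Cfsg.Agent.S0929

/-!
# Stable blocks of normal subgroups (helper18's library)

Let `c` be a `G`-stable block of the normal subgroup `N` and `B` a block of `G` with the same
idempotent.  Then `B` is the set of characters over `c`, every defect class `x` of `B` lies in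
`N` and is a defect class of `c`, and the number of `N`-classes in the `G`-class of `x`, which
is the index of `N C_G(x)`, is prime to `p` (Fong).
-/

set_option autoImplicit false

namespace Cfsg.Agent.Helper18

open Cfsg Cfsg.Agent.Helper24 Cfsg.Agent.Helper23.Blk
open scoped ComplexConjugate

universe u

section Stable

variable {G : Type u} [Group G] [Fintype G] (N : Subgroup G) [hN : N.Normal] [Fintype N]
  {p : ℕ} {M : Ideal AlgInt}

/-- a stable set of characters is closed under `conjIrr` -/
theorem conjIrr_mem_of_stabilizes {c : Set (IrrCharacter N)}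
    (hst : ∀ x : G, StabilizesBlock N c x) (g : G) {θ : IrrCharacter N} (hθ : θ ∈ c) :
    conjIrr N g θ ∈ c := by
  obtain ⟨-, h⟩ := hst g⁻¹
  obtain ⟨θ', hθ', hconj⟩ := h θ hθ
  have : conjIrr N g θ = θ' := by
    apply Subtype.ext
    funext n
    rw [conjIrr_coe, Cfsg.Agent.Helper5.conjFun_apply]
    exact (hconj ⟨g * n * g⁻¹, hN.conj_mem (n : G) n.2 g⟩ n (by simp [mul_assoc])).symm
  rw [this]
  exact hθ'

/-- two sets of irreducible characters with the same idempotent are equal -/
theorem eq_of_blockCoeff_eq {A A' : Set (IrrCharacter G)}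
    (h : ∀ g : G, blockCoeff A g = blockCoeff A' g) : A = A' := by
  classical
  letI : Fintype (IrrCharacter G) := irrFintype
  have hfun : blockCoeff A = blockCoeff A' := funext h
  ext χ
  have h1 := omega_blockCoeff χ A
  have h2 := omega_blockCoeff χ A'
  rw [hfun, h2] at h1
  by_cases hχ : χ ∈ A
  · rw [if_pos hχ] at h1
    by_cases hχ' : χ ∈ A'
    · exact ⟨fun _ => hχ', fun _ => hχ⟩
    · rw [if_neg hχ'] at h1
      exact absurd h1 zero_ne_one
  · rw [if_neg hχ] at h1
    by_cases hχ' : χ ∈ A'
    · rw [if_pos hχ'] at h1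
      exact absurd h1 one_ne_zero
    · exact ⟨fun h => absurd h hχ, fun h => absurd h hχ'⟩

/-- a block with the idempotent of the stable block `c` of `N` is the set of characters over
`c` -/
theorem eq_overSet_of_blockCoeff_eq {c : Set (IrrCharacter N)}
    (hst : ∀ x : G, StabilizesBlock N c x) {B : Set (IrrCharacter G)}
    (hBc : ∀ g : G, blockCoeff B g = subgroupBlockCoeff N c g) : B = overSet N c := by
  classical
  apply eq_of_blockCoeff_eq
  intro g
  rw [hBc g, blockCoeff_overSet N (fun y θ hθ => conjIrr_mem_of_stabilizes N hst y hθ) g]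
  unfold subgroupBlockCoeff
  congr

end Stable

section Action

variable {G : Type u} [Group G] (N : Subgroup G) [hN : N.Normal]

/-- conjugation by `g` as an endomorphism of the normal subgroup `N` -/
def conjHomN (g : G) : N →* N where
  toFun a := ⟨g * a * g⁻¹, hN.conj_mem (a : G) a.2 g⟩
  map_one' := by
    apply Subtype.ext
    simp
  map_mul' a b := by
    apply Subtype.ext
    simp [mul_assoc]

theorem conjHomN_apply (g : G) (a : N) :
    conjHomN N g a = ⟨g * a * g⁻¹, hN.conj_mem (a : G) a.2 g⟩ := rfl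

/-- the action of `G` on the conjugacy classes of the normal subgroup `N` -/
noncomputable def conjClassesAction : MulAction G (ConjClasses N) where
  smul g C := ConjClasses.map (conjHomN N g) C
  one_smul C := by
    obtain ⟨a, rfl⟩ := ConjClasses.exists_rep C
    show ConjClasses.mk (conjHomN N 1 a) = ConjClasses.mk a
    congr 1
    apply Subtype.ext
    simp [conjHomN_apply]
  mul_smul g h C := by
    obtain ⟨a, rfl⟩ := ConjClasses.exists_rep C
    show ConjClasses.mk (conjHomN N (g * h) a) =
      ConjClasses.mk (conjHomN N g (conjHomN N h a))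
    congr 1
    apply Subtype.ext
    simp [conjHomN_apply, mul_assoc]

theorem conjClassesAction_smul_mk (g : G) (a : N) :
    (conjClassesAction N).smul g (ConjClasses.mk a) =
      ConjClasses.mk ⟨g * a * g⁻¹, hN.conj_mem (a : G) a.2 g⟩ := rfl

/-- the stabilizer of the class of `a` -/
noncomputable def fongStab (a : N) : Subgroup G :=
  letI := conjClassesAction N
  MulAction.stabilizer G (ConjClasses.mk a)

/-- the orbit of the class of `a` -/
noncomputable def fongOrbit (a : N) : Set (ConjClasses N) :=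
  letI := conjClassesAction N
  MulAction.orbit G (ConjClasses.mk a)

theorem index_fongStab (a : N) : (fongStab N a).index = (fongOrbit N a).ncard := by
  letI := conjClassesAction N
  exact MulAction.index_stabilizer G (ConjClasses.mk a)

theorem mem_fongStab_iff (a : N) (g : G) :
    g ∈ fongStab N a ↔ IsConj (⟨g * a * g⁻¹, hN.conj_mem (a : G) a.2 g⟩ : N) a := by
  letI := conjClassesAction N
  unfold fongStab
  rw [MulAction.mem_stabilizer_iff]
  show ConjClasses.mk (conjHomN N g a) = ConjClasses.mk a ↔ _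
  rw [ConjClasses.mk_eq_mk_iff_isConj]
  rfl

/-- the normal subgroup acts trivially on its classes -/
theorem le_fongStab (a : N) : N ≤ fongStab N a := by
  intro n hn
  rw [mem_fongStab_iff, isConj_comm, isConj_iff]
  refine ⟨⟨n, hn⟩, ?_⟩
  apply Subtype.ext
  simp

/-- the orbit of the class of `a` consists of the classes of the `G`-conjugates of `a` -/
theorem mem_fongOrbit_iff (a : N) (C : ConjClasses N) :
    C ∈ fongOrbit N a ↔ IsConj (a : G) ((Quotient.out C : N) : G) := by
  letI := conjClassesAction N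
  unfold fongOrbit
  constructor
  · rintro ⟨g, hg⟩
    have h1 : ConjClasses.mk (conjHomN N g a) = C := hg
    have h2 : ConjClasses.mk (Quotient.out C) = C := Quotient.out_eq C
    rw [← h2, ConjClasses.mk_eq_mk_iff_isConj, isConj_iff] at h1
    obtain ⟨n, hn⟩ := h1
    rw [isConj_iff]
    refine ⟨(n : G) * g, ?_⟩
    have := congrArg Subtype.val hn
    rw [← this]
    simp [conjHomN_apply, mul_assoc]
  · intro h
    rw [isConj_iff] at h
    obtain ⟨g, hg⟩ := h
    refine ⟨g, ?_⟩
    show ConjClasses.mk (conjHomN N g a) = C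
    have h2 : ConjClasses.mk (Quotient.out C) = C := Quotient.out_eq C
    rw [← h2]
    congr 1
    apply Subtype.ext
    rw [← hg]
    rfl

end Action

section Fong

variable {G : Type u} [Group G] [Fintype G] (N : Subgroup G) [hN : N.Normal] [Fintype N]
  {p : ℕ} {M : Ideal AlgInt}

/-- the induced central character of a member of a stable block at an element `a` of `N` is
congruent to the number of `N`-classes in the `G`-class of `a` times the central character -/
theorem inducedCentralChar_cong_index_mul (hMp : M.IsPrime) {c : Set (IrrCharacter N)}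
    (hc : IsPBlock M c) (hst : ∀ x : G, StabilizesBlock N c x) {θ : IrrCharacter N}
    (hθ : θ ∈ c) (a : N) :
    MemLocalIdeal M (inducedCentralChar N (θ : N → ℂ) (a : G) -
      ((fongStab N a).index : ℂ) * centralChar (θ : N → ℂ) a) := by
  classical
  haveI := hMp
  haveI : Fintype (ConjClasses N) := Fintype.ofFinite _
  have hθcf : IsClassFunction N (θ : N → ℂ) := isClassFunction_of_isIrrCharacter θ.2
  unfold inducedCentralChar
  rw [finsum_mem_def, finsum_eq_sum_of_fintype]
  have hcf : IsClassFunction N (fun y : N =>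
      ({h : N | IsConj (a : G) (h : G)} : Set N).indicator
        (fun h : N => (θ : N → ℂ) h / (θ : N → ℂ) 1) y) := by
    intro y x
    have hiff : IsConj (a : G) ((x * y * x⁻¹ : N) : G) ↔ IsConj (a : G) (y : G) := by
      have hc' : IsConj ((x * y * x⁻¹ : N) : G) (y : G) := by
        rw [isConj_comm, isConj_iff]
        exact ⟨(x : G), by push_cast; rfl⟩
      constructor
      · intro h1
        exact h1.trans hc'
      · intro h1
        exact h1.trans hc'.symm
    beta_reduce
    by_cases hy : IsConj (a : G) (y : G)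
    · rw [Set.indicator_of_mem (show (x * y * x⁻¹ : N) ∈ {h : N | IsConj (a : G) (h : G)} from
        hiff.2 hy), Set.indicator_of_mem (show y ∈ {h : N | IsConj (a : G) (h : G)} from hy),
        hθcf y x]
    · rw [Set.indicator_of_notMem (show (x * y * x⁻¹ : N) ∉ {h : N | IsConj (a : G) (h : G)}
        from fun h1 => hy (hiff.1 h1)),
        Set.indicator_of_notMem (show y ∉ {h : N | IsConj (a : G) (h : G)} from hy)]
  rw [sum_classFunction_eq hcf]
  obtain ⟨𝒦, h𝒦⟩ : ∃ 𝒦 : Finset (ConjClasses N), 𝒦 = Finset.univ.filter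
      (fun K : ConjClasses N => IsConj (a : G) ((Quotient.out K : N) : G)) := ⟨_, rfl⟩
  have h1 : ∑ K : ConjClasses N,
      ((Subgroup.centralizer ({Quotient.out K} : Set N)).index : ℂ) *
        ({h : N | IsConj (a : G) (h : G)} : Set N).indicator
          (fun h : N => (θ : N → ℂ) h / (θ : N → ℂ) 1) (Quotient.out K) =
      ∑ K ∈ 𝒦, centralChar (θ : N → ℂ) (Quotient.out K) := by
    rw [h𝒦, Finset.sum_filter]
    apply Finset.sum_congr rfl
    intro K _
    by_cases hK : IsConj (a : G) ((Quotient.out K : N) : G)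
    · rw [if_pos hK, Set.indicator_of_mem (show (Quotient.out K : N) ∈
        {h : N | IsConj (a : G) (h : G)} from hK)]
      unfold centralChar
      rw [mul_div_assoc]
    · rw [if_neg hK, Set.indicator_of_notMem (show (Quotient.out K : N) ∉
        {h : N | IsConj (a : G) (h : G)} from hK), mul_zero]
  rw [h1]
  have h2 : 𝒦.card = (fongStab N a).index := by
    rw [index_fongStab, ← Set.ncard_coe_finset 𝒦]
    congr 1
    ext K
    rw [h𝒦, Finset.coe_filter, Set.mem_setOf_eq, mem_fongOrbit_iff]
    simp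
  have h3 : ∀ K ∈ 𝒦, MemLocalIdeal M (centralChar (θ : N → ℂ) (Quotient.out K) -
      centralChar (θ : N → ℂ) a) := by
    intro K hK
    rw [h𝒦, Finset.mem_filter] at hK
    obtain ⟨g, hg⟩ := isConj_iff.mp hK.2
    have h4 : (Quotient.out K : N) = ⟨g * (a : G) * g⁻¹, hN.conj_mem (a : G) a.2 g⟩ :=
      Subtype.ext hg.symm
    rw [h4, ← centralChar_conjFun N g (θ : N → ℂ) a]
    have hmem : conjIrr N g θ ∈ c := conjIrr_mem_of_stabilizes N hst g hθ
    have hsame : SameBlock M ((conjIrr N g θ : IrrCharacter N) : N → ℂ) (θ : N → ℂ) := by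
      obtain ⟨θ₀, rfl⟩ := hc
      exact sameBlock_trans (sameBlock_symm hmem) hθ
    exact hsame a
  have h5 : ∑ K ∈ 𝒦, centralChar (θ : N → ℂ) (Quotient.out K) -
      ((fongStab N a).index : ℂ) * centralChar (θ : N → ℂ) a =
      ∑ K ∈ 𝒦, (centralChar (θ : N → ℂ) (Quotient.out K) - centralChar (θ : N → ℂ) a) := by
    rw [Finset.sum_sub_distrib, Finset.sum_const, nsmul_eq_mul, h2]
  rw [h5]
  exact memLocalIdeal_sum _ _ h3

/-- **Fong's lemma**: if the block `B` of `G` has the idempotent of the stable block `c` of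
the normal subgroup `N`, a defect class `x` of `B` lies in `N`, is a defect class of `c`, and
the index of the stabilizer of its `N`-class (that is, of `N C_G(x)`) is prime to `p`. -/
theorem fong_defectClass (hM : IsPModular p M) {c : Set (IrrCharacter N)}
    (hc : IsPBlock M c) (hst : ∀ x : G, StabilizesBlock N c x) {B : Set (IrrCharacter G)}
    (hB : IsPBlock M B) (hBc : ∀ g : G, blockCoeff B g = subgroupBlockCoeff N c g) {x : G}
    (hx : IsDefectClass M B x) :
    ∃ hxN : x ∈ N, IsDefectClass M c ⟨x, hxN⟩ ∧ ¬ p ∣ (fongStab N (⟨x, hxN⟩ : N)).index := by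
  classical
  letI : Fintype (IrrCharacter N) := irrFintype
  letI : Fintype (IrrCharacter G) := irrFintype
  haveI hMp : M.IsPrime := hM.2.1.isPrime
  have hxN : x ∈ N := by
    by_contra hnot
    apply hx.2.1
    rw [hBc x]
    unfold subgroupBlockCoeff
    rw [dif_neg hnot]
    exact memLocalIdeal_zero ne_top
  refine ⟨hxN, ?_⟩
  have hcoeff : blockCoeff c (⟨x, hxN⟩ : N) = blockCoeff B x := by
    rw [hBc x]
    unfold subgroupBlockCoeff
    rw [dif_pos hxN]
  have hBover := eq_overSet_of_blockCoeff_eq N hst hBc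
  obtain ⟨χ, hχ⟩ := block_nonempty hM hB
  have hχ' : χ ∈ overSet N c := by
    rw [← hBover]
    exact hχ
  obtain ⟨θ₁, hθ₁, hcon⟩ := hχ'
  have hpass := passman_of_cover N hMp hB hc hχ hθ₁ hcon χ hχ θ₁ hθ₁ ⟨x, hxN⟩
  have hcong := inducedCentralChar_cong_index_mul N hMp hc hst hθ₁ (⟨x, hxN⟩ : N)
  have hnot : ¬ MemLocalIdeal M (((fongStab N (⟨x, hxN⟩ : N)).index : ℂ) *
      centralChar (θ₁ : N → ℂ) (⟨x, hxN⟩ : N)) := by
    intro h
    apply hx.2.2 χ hχ
    have h1 := memLocalIdeal_add (memLocalIdeal_add hpass hcong) h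
    have h2 : centralChar (χ : G → ℂ) ((⟨x, hxN⟩ : N) : G) -
        inducedCentralChar N (θ₁ : N → ℂ) ((⟨x, hxN⟩ : N) : G) +
        (inducedCentralChar N (θ₁ : N → ℂ) ((⟨x, hxN⟩ : N) : G) -
          ((fongStab N (⟨x, hxN⟩ : N)).index : ℂ) * centralChar (θ₁ : N → ℂ) (⟨x, hxN⟩ : N)) +
        ((fongStab N (⟨x, hxN⟩ : N)).index : ℂ) * centralChar (θ₁ : N → ℂ) (⟨x, hxN⟩ : N) =
        centralChar (χ : G → ℂ) x := by ring
    rwa [h2] at h1
  have hwR : MemLocalRing M (centralChar (θ₁ : N → ℂ) (⟨x, hxN⟩ : N)) :=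
    memLocalRing_centralChar θ₁ _
  have hw : ¬ MemLocalIdeal M (centralChar (θ₁ : N → ℂ) (⟨x, hxN⟩ : N)) := by
    intro h
    exact hnot (memLocalIdeal_mul_left (memLocalRing_natCast _) h)
  have ht : ¬ p ∣ (fongStab N (⟨x, hxN⟩ : N)).index := by
    intro h
    apply hnot
    exact memLocalIdeal_mul_right ((memLocalIdeal_natCast_iff hM _).2 h) hwR
  refine ⟨⟨?_, ?_, ?_⟩, ht⟩
  · rw [hcoeff]
    exact hx.1
  · rw [hcoeff]
    exact hx.2.1
  · intro θ hθ
    exact not_memLocalIdeal_centralChar_of_block hM hc ⟨θ₁, hθ₁, hw⟩ hθ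

end Fong

end Cfsg.Agent.Helper18
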