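import Mathlib
import Cfsg.Agent.Lib.Helper23.BlockConj4

/-!
# Brauer pairs above a fixed pair `(Q, f)`, read inside the group `C_G(Q)` (helper18)
-/

set_option autoImplicit false
set_option linter.unusedSectionVars false

namespace Cfsg.Agent.Helper18.PairRel

open Cfsg Cfsg.Agent.Helper24 Cfsg.Agent.Helper23.Blk

universe u

section Equiv

variable {G : Type u} [Group G]

/-- for `P ≤ H` with `C_G(P) ≤ H`: the centralizer of `P` computed inside `H` is `C_G(P)` -/
def relCentEquiv (H P : Subgroup G) (hPH : P ≤ H)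
    (hCH : Subgroup.centralizer (P : Set G) ≤ H) :
    Subgroup.centralizer ((P.subgroupOf H : Subgroup H) : Set H) ≃*
      Subgroup.centralizer (P : Set G) where
  toFun c := ⟨((c : H) : G), by
    rw [Subgroup.mem_centralizer_iff]
    intro w hw
    have h1 := (Subgroup.mem_centralizer_iff.1 c.2) ⟨w, hPH hw⟩ (by
      show (⟨w, hPH hw⟩ : H) ∈ P.subgroupOf H
      rw [Subgroup.mem_subgroupOf]
      exact hw)
    have h2 := congrArg Subtype.val h1
    push_cast at h2
    exact h2⟩
  invFun d := ⟨⟨(d : G), hCH d.2⟩, by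
    rw [Subgroup.mem_centralizer_iff]
    intro w hw
    have hw' : (w : G) ∈ P := by
      have : w ∈ P.subgroupOf H := hw
      rwa [Subgroup.mem_subgroupOf] at this
    have h1 := (Subgroup.mem_centralizer_iff.1 d.2) (w : G) hw'
    apply Subtype.ext
    push_cast
    exact h1⟩
  left_inv c := by
    apply Subtype.ext
    apply Subtype.ext
    rfl
  right_inv d := by
    apply Subtype.ext
    rfl
  map_mul' a b := by
    apply Subtype.ext
    rfl

theorem relCentEquiv_coe (H P : Subgroup G) (hPH : P ≤ H)
    (hCH : Subgroup.centralizer (P : Set G) ≤ H)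
    (c : Subgroup.centralizer ((P.subgroupOf H : Subgroup H) : Set H)) :
    ((relCentEquiv H P hPH hCH c : Subgroup.centralizer (P : Set G)) : G) = ((c : H) : G) := rfl

theorem relCentEquiv_symm_coe (H P : Subgroup G) (hPH : P ≤ H)
    (hCH : Subgroup.centralizer (P : Set G) ≤ H) (d : Subgroup.centralizer (P : Set G)) :
    ((((relCentEquiv H P hPH hCH).symm d :
      Subgroup.centralizer ((P.subgroupOf H : Subgroup H) : Set H)) : H) : G) = (d : G) := rfl

/-- **transport of the Brauer map**: the Brauer-map central character at `P` inside `H` of a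
coefficient function on `H` equals the one computed in `G` on the extension by zero -/
theorem brauerOmega_rel (H P : Subgroup G) (hPH : P ≤ H)
    (hCH : Subgroup.centralizer (P : Set G) ≤ H) (f : Set (IrrCharacter H))
    (ξ : Subgroup.centralizer (P : Set G) → ℂ) :
    brauerOmega (P.subgroupOf H) (blockCoeff f)
      (fun c => ξ (relCentEquiv H P hPH hCH c)) =
      brauerOmega P (subgroupBlockCoeff H f) ξ := by
  unfold brauerOmega
  rw [← finsum_comp_equiv (relCentEquiv H P hPH hCH).toEquiv]
  apply finsum_congr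
  intro c
  show blockCoeff f (c : H) * ξ (relCentEquiv H P hPH hCH c) / ξ (relCentEquiv H P hPH hCH 1) =
    subgroupBlockCoeff H f ((relCentEquiv H P hPH hCH c : Subgroup.centralizer (P : Set G)) : G) *
      ξ (relCentEquiv H P hPH hCH c) / ξ 1
  rw [map_one, relCentEquiv_coe]
  congr 2
  unfold subgroupBlockCoeff
  rw [dif_pos (c : H).2]

end Equiv

section Transport

variable {G : Type u} [Group G] [Fintype G] {M : Ideal AlgInt} {p : ℕ}

/-- a normal inclusion `(Q, f) ⊴ (P, e)` with `P ≤ C_G(Q)` makes `(P, e)` a Brauer pair of the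
block `f` of the group `C_G(Q)` -/
theorem isBrauerPairOf_rel {Q P : Subgroup G}
    {f : Set (IrrCharacter (Subgroup.centralizer (Q : Set G)))}
    {e : Set (IrrCharacter (Subgroup.centralizer (P : Set G)))}
    (h : IsNormalSubpair p M Q f P e) (hPH : P ≤ Subgroup.centralizer (Q : Set G)) :
    IsBrauerPairOf p M f (P.subgroupOf (Subgroup.centralizer (Q : Set G)))
      (irrComp (relCentEquiv (Subgroup.centralizer (Q : Set G)) P hPH
        (Subgroup.centralizer_le h.2.2.1)) '' e) := by
  obtain ⟨⟨hQ, hf⟩, ⟨hP, he⟩, hQP, hPN, hst, hbr⟩ := h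
  refine ⟨⟨hP.comap_subtype, isPBlock_image_irrComp _ he⟩, hf, ?_⟩
  rintro _ ⟨ξ, hξ, rfl⟩
  have h1 := hbr ξ hξ
  rw [← brauerOmega_rel (Subgroup.centralizer (Q : Set G)) P hPH
    (Subgroup.centralizer_le hQP)] at h1
  exact h1

/-- **`P` is a defect group of `f`** when `(Q, f) ≤ (P, e)`, `P` is a defect group of `B`,
and `P` centralizes `Q` -/
theorem isDefectGroup_rel (hM : IsPModular p M) [Fact p.Prime]
    {B : Set (IrrCharacter G)} {Q P : Subgroup G}
    {f : Set (IrrCharacter (Subgroup.centralizer (Q : Set G)))}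
    {e : Set (IrrCharacter (Subgroup.centralizer (P : Set G)))}
    (hBe : IsBrauerPairOf p M B P e) (hPD : IsDefectGroup p M B P)
    (hle : SubpairLE p M Q f P e) (hPH : P ≤ Subgroup.centralizer (Q : Set G)) :
    IsDefectGroup p M f (P.subgroupOf (Subgroup.centralizer (Q : Set G))) := by
  classical
  haveI hMp : M.IsPrime := hM.2.1.isPrime
  haveI : Fintype (Subgroup.centralizer (Q : Set G)) := Fintype.ofFinite _
  have hPe : IsBrauerPair p M P e := hBe.1
  have hQf : IsBrauerPair p M Q f := chain_isBrauerPair hle hPe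
  obtain ⟨hQ, hf⟩ := hQf
  obtain ⟨Df, hDf⟩ := exists_isDefectGroup hM hf
  obtain ⟨y', hy'cls, hDle, hDc⟩ := (isDefectGroup_iff hM hf).1 hDf
  set D' : Subgroup G := Df.map (Subgroup.centralizer (Q : Set G)).subtype with hD'
  have hD'p : IsPGroup p D' := (isPGroup_of_isDefectGroup hM hDf).map _
  have hD'K : D' ≤ Subgroup.centralizer (Q : Set G) := Subgroup.map_subtype_le _
  have hD'N : D' ≤ Subgroup.normalizer (Q : Set G) :=
    hD'K.trans (Subgroup.centralizer_le_normalizer _)
  set R : Subgroup G := D' ⊔ Q with hR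
  have hRp : IsPGroup p R := hD'p.to_sup_of_normal_right' hQ hD'N
  have hQR : Q ≤ R := le_sup_right
  have hD'R : D' ≤ R := le_sup_left
  have hRN : R ≤ Subgroup.normalizer (Q : Set G) := sup_le hD'N Subgroup.le_normalizer
  have hne : f.Nonempty := block_nonempty hM hf
  have hRstab : R ≤ blockStab (Subgroup.centralizer (Q : Set G)) f := by
    apply sup_le
    · intro x hx
      exact mem_blockStab_of_stabilizesBlock hf hne (stabilizesBlock_of_mem _ f (hD'K hx))
    · intro x hx
      exact mem_blockStab_of_stabilizesBlock hf hne (stabilizesBlock_of_commute Q f hx)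
  have hstab : ∀ x ∈ R, StabilizesBlock (Subgroup.centralizer (Q : Set G)) f x :=
    fun x hx => stabilizesBlock_of_mem_blockStab (hRstab hx)
  have hRy : R ≤ Subgroup.centralizer ({(y' : G)} : Set G) := by
    apply sup_le
    · rintro _ ⟨d, hd, rfl⟩
      have h1 := hDle hd
      rw [Subgroup.mem_centralizer_singleton_iff] at h1 ⊢
      have h2 := congrArg Subtype.val h1
      push_cast at h2
      exact h2
    · intro q hq
      rw [Subgroup.mem_centralizer_singleton_iff]
      exact (Subgroup.mem_centralizer_iff.1 y'.2) q hq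
  have hyC : (y' : G) ∈ Subgroup.centralizer (R : Set G) := by
    rw [Subgroup.mem_centralizer_iff]
    intro r hr
    have h1 := hRy hr
    rw [Subgroup.mem_centralizer_singleton_iff] at h1
    exact h1
  have hfy : ¬ MemLocalIdeal M
      (ext0 (Subgroup.centralizer (Q : Set G)) (blockCoeff f) (y' : G)) := by
    rw [ext0_coe]
    exact hy'cls.2.1
  obtain ⟨g, hsub⟩ := exists_normal_superpair hM ⟨hQ, hf⟩ hRp hQR hRN hstab hyC hfy
  have hBQ : IsBrauerPairOf p M B Q f := isBrauerPairOf_of_subpairLE_down hM hle hBe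
  have hBR : IsBrauerPairOf p M B R g := isBrauerPairOf_of_isNormalSubpair hM hsub hBQ
  have hc0 : Nat.card R ≤ Nat.card P := card_le_of_subConj (subConj_of_isBrauerPairOf hM hBR hPD)
  have hc1 : Nat.card D' ≤ Nat.card R := Subgroup.card_le_of_le hD'R
  obtain ⟨D'', hD'', hle''⟩ := centralizer_le_defectGroup_of_subpairLE hM hPe hle
  have hc2 : Nat.card D'' = Nat.card D' := by
    rw [card_defectGroup hM hf hD'',
      Subgroup.card_map_of_injective (Subgroup.subtype_injective _), hDc]
  have hinf : P ⊓ Subgroup.centralizer (Q : Set G) = P := inf_eq_left.2 hPH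
  rw [hinf] at hle''
  have hc3 : Nat.card (P.subgroupOf (Subgroup.centralizer (Q : Set G))) = Nat.card P :=
    Nat.card_congr (Subgroup.subgroupOfEquivOfLe hPH).toEquiv
  have heq := Subgroup.eq_of_le_of_card_ge hle'' (by omega)
  rw [heq]
  exact hD''

/-- **relative conjugacy**: two pairs `(P, e)`, `(P, e')` above `(Q, f)` with `P ≤ C_G(Q)` a
defect group of `f` are conjugate under `N_G(P) ∩ C_G(Q)` -/
theorem exists_conj_rel (hM : IsPModular p M) [Fact p.Prime] {Q P : Subgroup G}
    {f : Set (IrrCharacter (Subgroup.centralizer (Q : Set G)))}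
    {e e' : Set (IrrCharacter (Subgroup.centralizer (P : Set G)))}
    (hsub : IsNormalSubpair p M Q f P e) (hsub' : IsNormalSubpair p M Q f P e')
    (hPH : P ≤ Subgroup.centralizer (Q : Set G))
    (hPD : IsDefectGroup p M f (P.subgroupOf (Subgroup.centralizer (Q : Set G)))) :
    ∃ (n : G) (_ : n ∈ Subgroup.centralizer (Q : Set G))
      (hn : n ∈ Subgroup.normalizer (P : Set G)),
      conjIrr (Subgroup.centralizer (P : Set G)) n
        (normalizer_le_normalizer_centralizer P hn) '' e = e' := by
  classical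
  haveI hMp : M.IsPrime := hM.2.1.isPrime
  haveI : Fintype (Subgroup.centralizer (Q : Set G)) := Fintype.ofFinite _
  have he : IsPBlock M e := hsub.2.1.2
  have he' : IsPBlock M e' := hsub'.2.1.2
  have hBe := isBrauerPairOf_rel hsub hPH
  have hBe' := isBrauerPairOf_rel hsub' hPH
  have hno : ∀ e₀ : Set (IrrCharacter (Subgroup.centralizer
      ((P.subgroupOf (Subgroup.centralizer (Q : Set G)) :
        Subgroup (Subgroup.centralizer (Q : Set G))) : Set (Subgroup.centralizer (Q : Set G))))),
      IsBrauerPairOf p M f (P.subgroupOf (Subgroup.centralizer (Q : Set G))) e₀ →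
      ∀ (R : Subgroup (Subgroup.centralizer (Q : Set G)))
        (g : Set (IrrCharacter (Subgroup.centralizer (R : Set (Subgroup.centralizer (Q : Set G)))))),
        IsNormalSubpair p M (P.subgroupOf (Subgroup.centralizer (Q : Set G))) e₀ R g →
          R = P.subgroupOf (Subgroup.centralizer (Q : Set G)) := by
    intro e₀ he₀ R g hs
    have hBS := isBrauerPairOf_of_isNormalSubpair hM hs he₀
    have hc := card_le_of_subConj (subConj_of_isBrauerPairOf hM hBS hPD)
    exact (Subgroup.eq_of_le_of_card_ge hs.2.2.1 hc).symm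
  obtain ⟨n, hn, hconj⟩ := exists_conj_of_maxPairs hM hBe hBe' (hno _ hBe) (hno _ hBe')
  have hnP : (n : G) ∈ Subgroup.normalizer (P : Set G) := by
    rw [Subgroup.mem_normalizer_iff]
    intro g
    have hn' := Subgroup.mem_normalizer_iff.1 hn
    constructor
    · intro hg
      have h1 := (hn' ⟨g, hPH hg⟩).1 (by
        show (⟨g, hPH hg⟩ : Subgroup.centralizer (Q : Set G)) ∈
          P.subgroupOf (Subgroup.centralizer (Q : Set G))
        rw [Subgroup.mem_subgroupOf]
        exact hg)
      rw [Subgroup.mem_subgroupOf] at h1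
      exact h1
    · intro hg
      have hgH : g ∈ Subgroup.centralizer (Q : Set G) := by
        have h2 := hPH hg
        have h3 : g = (n : G)⁻¹ * ((n : G) * g * (n : G)⁻¹) * (n : G) := by group
        rw [h3]
        exact Subgroup.mul_mem _ (Subgroup.mul_mem _ (Subgroup.inv_mem _ n.2) h2) n.2
      have h1 := (hn' ⟨g, hgH⟩).2 (by
        show n * (⟨g, hgH⟩ : Subgroup.centralizer (Q : Set G)) * n⁻¹ ∈
          P.subgroupOf (Subgroup.centralizer (Q : Set G))
        rw [Subgroup.mem_subgroupOf]
        exact hg)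
      rw [Subgroup.mem_subgroupOf] at h1
      exact h1
  refine ⟨(n : G), n.2, hnP, ?_⟩
  obtain ⟨ξ, hξ⟩ := block_nonempty hM he
  have h1 : conjIrr _ n (normalizer_le_normalizer_centralizer _ hn)
      (irrComp (relCentEquiv (Subgroup.centralizer (Q : Set G)) P hPH
        (Subgroup.centralizer_le hsub.2.2.1)) ξ) ∈
      irrComp (relCentEquiv (Subgroup.centralizer (Q : Set G)) P hPH
        (Subgroup.centralizer_le hsub'.2.2.1)) '' e' := by
    rw [← hconj]
    exact ⟨_, ⟨ξ, hξ, rfl⟩, rfl⟩
  obtain ⟨ξ', hξ', h2⟩ := h1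
  have h4 : conjIrr (Subgroup.centralizer (P : Set G)) (n : G)
      (normalizer_le_normalizer_centralizer P hnP) ξ = ξ' := by
    apply Subtype.ext
    funext k
    have h3 := congrArg (fun χ : IrrCharacter (Subgroup.centralizer
      ((P.subgroupOf (Subgroup.centralizer (Q : Set G)) :
        Subgroup (Subgroup.centralizer (Q : Set G))) : Set (Subgroup.centralizer (Q : Set G)))) =>
      (χ : _ → ℂ) ((relCentEquiv (Subgroup.centralizer (Q : Set G)) P hPH
        (Subgroup.centralizer_le hsub.2.2.1)).symm k)) h2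
    simp only [irrComp_apply, MulEquiv.apply_symm_apply] at h3
    rw [h3, conjIrr_apply, conjIrr_apply, irrComp_apply]
    congr 1
  exact isPBlock_eq_of_mem (isPBlock_image_conjIrr _ _ he) he' ⟨ξ, hξ, rfl⟩ (h4 ▸ hξ')

end Transport

end Cfsg.Agent.Helper18.PairRel
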