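import Mathlib
import Cfsg.Agent.Lib.Helper18.PairRel

/-!
# The conjugation action on Brauer pairs, and the Frattini argument above a pair (helper18)
-/

set_option autoImplicit false
set_option linter.unusedSectionVars false

namespace Cfsg.Agent.Helper18.PairRel

open Cfsg Cfsg.Agent.Helper24 Cfsg.Agent.Helper23.Blk

universe u

section Act

variable {G : Type u} [Group G] [Fintype G] {M : Ideal AlgInt} {p : ℕ}

theorem conjPair_mul (x y : G) (a : BrauerPairIdx G) :
    conjPair (x * y) a = conjPair x (conjPair y a) := by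
  obtain ⟨Q, f⟩ := a
  unfold conjPair
  apply pair_ext (map_conj_mul Q x y)
  rw [extSet_conjBlock, extSet_conjBlock, extSet_conjBlock, Set.image_image]
  apply Set.image_congr
  intro φ _
  funext g
  congr 1
  group

theorem conjPair_normalizer {P : Subgroup G} {n : G}
    (hn : n ∈ Subgroup.normalizer (P : Set G))
    (e : Set (IrrCharacter (Subgroup.centralizer (P : Set G)))) :
    conjPair n ⟨P, e⟩ = (⟨P, conjIrr (Subgroup.centralizer (P : Set G)) n
      (normalizer_le_normalizer_centralizer P hn) '' e⟩ : BrauerPairIdx G) := by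
  unfold conjPair
  apply pair_ext (map_conj_eq_of_mem_normalizer hn)
  rw [extSet_conjBlock, extSet_image_conjIrr]

theorem conjPair_one (a : BrauerPairIdx G) : conjPair 1 a = a := by
  obtain ⟨Q, f⟩ := a
  rw [conjPair_normalizer (Subgroup.one_mem _)]
  have : conjIrr (Subgroup.centralizer (Q : Set G)) 1
      (normalizer_le_normalizer_centralizer Q (Subgroup.one_mem _)) = id := by
    funext χ
    exact conjIrr_one' _ χ
  rw [this, Set.image_id]

theorem mem_normalizer_of_map_conj_eq {Q : Subgroup G} {x : G}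
    (h : Q.map (MulAut.conj x).toMonoidHom = Q) : x ∈ Subgroup.normalizer (Q : Set G) := by
  rw [Subgroup.mem_normalizer_iff]
  intro g
  constructor
  · intro hg
    rw [← h]
    exact ⟨g, hg, rfl⟩
  · intro hg
    rw [← h] at hg
    obtain ⟨q, hq, hqe⟩ := hg
    simp only [MulEquiv.coe_toMonoidHom, MulAut.conj_apply] at hqe
    have : q = g := by
      have h2 : x⁻¹ * (x * q * x⁻¹) * x = x⁻¹ * (x * g * x⁻¹) * x := by rw [hqe]
      have h3 : x⁻¹ * (x * q * x⁻¹) * x = q := by group
      have h4 : x⁻¹ * (x * g * x⁻¹) * x = g := by group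
      rw [h3, h4] at h2
      exact h2
    rw [← this]
    exact hq

theorem conjPair_eq_self_of_stabilizes (hM : IsPModular p M) {Q : Subgroup G}
    {f : Set (IrrCharacter (Subgroup.centralizer (Q : Set G)))} (hf : IsPBlock M f) {x : G}
    (hx : x ∈ Subgroup.normalizer (Q : Set G))
    (hst : StabilizesBlock (Subgroup.centralizer (Q : Set G)) f x) :
    conjPair x ⟨Q, f⟩ = (⟨Q, f⟩ : BrauerPairIdx G) := by
  haveI hMp : M.IsPrime := hM.2.1.isPrime
  have hne : f.Nonempty := block_nonempty hM hf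
  rw [conjPair_normalizer hx]
  have h1 := image_conjIrr_eq_of_stabilizes _ hf hne hst
  rw [h1]

theorem stabilizes_of_conjPair_eq_self {Q : Subgroup G}
    {f : Set (IrrCharacter (Subgroup.centralizer (Q : Set G)))} {x : G}
    (h : conjPair x ⟨Q, f⟩ = (⟨Q, f⟩ : BrauerPairIdx G)) :
    x ∈ Subgroup.normalizer (Q : Set G) ∧
      StabilizesBlock (Subgroup.centralizer (Q : Set G)) f x := by
  have hQ : Q.map (MulAut.conj x).toMonoidHom = Q := congrArg Sigma.fst h
  have hx := mem_normalizer_of_map_conj_eq hQ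
  refine ⟨hx, ?_⟩
  rw [conjPair_normalizer hx] at h
  have h0 := extSet_eq_of_pair_eq h
  have h1 := eq_of_extSet_eq h0
  exact stabilizesBlock_of_image_subset _ _ (le_of_eq h1)

/-- **Frattini argument for Brauer pairs above `(Q, f)`, abelian defect groups.** -/
theorem frattini_pairs (hM : IsPModular p M) [Fact p.Prime] {B : Set (IrrCharacter G)}
    {P Q : Subgroup G}
    {e : Set (IrrCharacter (Subgroup.centralizer (P : Set G)))}
    {f : Set (IrrCharacter (Subgroup.centralizer (Q : Set G)))}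
    (hBe : IsBrauerPairOf p M B P e) (hPD : IsDefectGroup p M B P)
    (hab : ∀ x ∈ P, ∀ y ∈ P, x * y = y * x)
    (hle : SubpairLE p M Q f P e) {x : G}
    (hx : conjPair x ⟨Q, f⟩ = (⟨Q, f⟩ : BrauerPairIdx G)) :
    ∃ c ∈ Subgroup.centralizer (Q : Set G),
      conjPair (c * x) ⟨P, e⟩ = (⟨P, e⟩ : BrauerPairIdx G) := by
  classical
  haveI hMp : M.IsPrime := hM.2.1.isPrime
  haveI : Fintype (Subgroup.centralizer (Q : Set G)) := Fintype.ofFinite _
  have hB : IsPBlock M B := hBe.2.1
  have hPe : IsBrauerPair p M P e := hBe.1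
  have hQP : Q ≤ P := chain_le hle
  have hQf : IsBrauerPair p M Q f := chain_isBrauerPair hle hPe
  have hf : IsPBlock M f := hQf.2
  have hPH : P ≤ Subgroup.centralizer (Q : Set G) := by
    intro w hw
    rw [Subgroup.mem_centralizer_iff]
    intro q hq
    exact hab q (hQP hq) w hw
  have hle₂ : SubpairLE p M Q f (P.map (MulAut.conj x).toMonoidHom) (conjBlock P x e) := by
    have h1 := subpairLE_conj (p := p) (M := M) x hle
    unfold SubpairLE at h1 ⊢
    have h2 : (⟨Q.map (MulAut.conj x).toMonoidHom, conjBlock Q x f⟩ : BrauerPairIdx G) =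
        ⟨Q, f⟩ := hx
    rw [h2] at h1
    exact h1
  have hQP₂ : Q ≤ P.map (MulAut.conj x).toMonoidHom := chain_le hle₂
  have hP₂H : P.map (MulAut.conj x).toMonoidHom ≤ Subgroup.centralizer (Q : Set G) := by
    rintro _ ⟨w, hw, rfl⟩
    rw [Subgroup.mem_centralizer_iff]
    intro q hq
    obtain ⟨q', hq', rfl⟩ := hQP₂ hq
    simp only [MulEquiv.coe_toMonoidHom, MulAut.conj_apply]
    have h1 := hab q' hq' w hw
    calc x * q' * x⁻¹ * (x * w * x⁻¹) = x * (q' * w) * x⁻¹ := by group
      _ = x * (w * q') * x⁻¹ := by rw [h1]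
      _ = x * w * x⁻¹ * (x * q' * x⁻¹) := by group
  have hD₁ := isDefectGroup_rel hM hBe hPD hle hPH
  have hD₂ := isDefectGroup_rel hM (isBrauerPairOf_conj x hBe) (isDefectGroup_conj hM hB hPD x)
    hle₂ hP₂H
  obtain ⟨c, hc⟩ := isDefectGroup_conj_of hM hf hD₁ hD₂
  have hcP : (P.map (MulAut.conj x).toMonoidHom).map (MulAut.conj (c : G)).toMonoidHom = P := by
    ext g
    constructor
    · rintro ⟨q, hq, rfl⟩
      have h1 : (MulAut.conj c).toMonoidHom (⟨q, hP₂H hq⟩ : Subgroup.centralizer (Q : Set G)) ∈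
          P.subgroupOf (Subgroup.centralizer (Q : Set G)) := by
        rw [← hc]
        refine ⟨_, ?_, rfl⟩
        show (⟨q, hP₂H hq⟩ : Subgroup.centralizer (Q : Set G)) ∈
          (P.map (MulAut.conj x).toMonoidHom).subgroupOf (Subgroup.centralizer (Q : Set G))
        rw [Subgroup.mem_subgroupOf]
        exact hq
      rw [Subgroup.mem_subgroupOf] at h1
      exact h1
    · intro hg
      have h1 : (⟨g, hPH hg⟩ : Subgroup.centralizer (Q : Set G)) ∈
          P.subgroupOf (Subgroup.centralizer (Q : Set G)) := by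
        rw [Subgroup.mem_subgroupOf]
        exact hg
      rw [← hc] at h1
      obtain ⟨q', hq', hq'e⟩ := h1
      rw [SetLike.mem_coe, Subgroup.mem_subgroupOf] at hq'
      refine ⟨(q' : G), hq', ?_⟩
      have h2 := congrArg Subtype.val hq'e
      exact h2
  have hzP : P.map (MulAut.conj ((c : G) * x)).toMonoidHom = P := by
    rw [map_conj_mul]
    exact hcP
  have hzN : (c : G) * x ∈ Subgroup.normalizer (P : Set G) := mem_normalizer_of_map_conj_eq hzP
  have hcQ : conjPair (c : G) ⟨Q, f⟩ = (⟨Q, f⟩ : BrauerPairIdx G) :=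
    conjPair_eq_self_of_stabilizes hM hf (Subgroup.centralizer_le_normalizer _ c.2)
      (stabilizesBlock_of_mem _ f c.2)
  have hzQ : conjPair ((c : G) * x) ⟨Q, f⟩ = (⟨Q, f⟩ : BrauerPairIdx G) := by
    rw [conjPair_mul, hx, hcQ]
  have hze := conjPair_normalizer hzN e
  have hle' : SubpairLE p M Q f P (conjIrr (Subgroup.centralizer (P : Set G)) ((c : G) * x)
      (normalizer_le_normalizer_centralizer P hzN) '' e) := by
    have h1 := subpairLE_conj (p := p) (M := M) ((c : G) * x) hle
    unfold SubpairLE at h1 ⊢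
    have h2 : Relation.ReflTransGen (NormalSubpairRel p M) (conjPair ((c : G) * x) ⟨Q, f⟩)
        (conjPair ((c : G) * x) ⟨P, e⟩) := h1
    rw [hzQ, hze] at h2
    exact h2
  have hPN : P ≤ Subgroup.normalizer (Q : Set G) :=
    hPH.trans (Subgroup.centralizer_le_normalizer _)
  have he' := isPBlock_image_conjIrr (Subgroup.centralizer (P : Set G))
    (normalizer_le_normalizer_centralizer P hzN) hPe.2
  have hsub := isNormalSubpair_of_chain hM hPe hle hPN
  have hsub' := isNormalSubpair_of_chain hM ⟨hPe.1, he'⟩ hle' hPN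
  obtain ⟨n, hnH, hnP, hne⟩ := exists_conj_rel hM hsub hsub' hPH hD₁
  have hna : conjPair n ⟨P, e⟩ = (⟨P, conjIrr (Subgroup.centralizer (P : Set G)) ((c : G) * x)
      (normalizer_le_normalizer_centralizer P hzN) '' e⟩ : BrauerPairIdx G) := by
    rw [conjPair_normalizer hnP, hne]
  refine ⟨n⁻¹ * (c : G), Subgroup.mul_mem _ (Subgroup.inv_mem _ hnH) c.2, ?_⟩
  have h5 : n⁻¹ * (c : G) * x = n⁻¹ * ((c : G) * x) := by group
  rw [h5, conjPair_mul, hze, ← hna, ← conjPair_mul, inv_mul_cancel, conjPair_one]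

end Act

end Cfsg.Agent.Helper18.PairRel
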