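import Mathlib
import Cfsg.Agent.Lib.Helper18.PairAct
import Cfsg.Agent.Lib.Helper18.BlockFong

/-!
# Blocks of subgroups between `P C_G(P)` and `N_G(P)` and Brauer pairs on `P` (helper18)
-/

set_option autoImplicit false
set_option linter.unusedSectionVars false

namespace Cfsg.Agent.Helper18.PairRel

open Cfsg Cfsg.Agent.Helper24 Cfsg.Agent.Helper23.Blk

universe u

section Bridge

variable {G : Type u} [Group G] [Fintype G] {M : Ideal AlgInt} {p : ℕ}

/-- **a block of `L` inducing `B` gives Brauer pairs of `B`**: for `P C_G(P) ≤ L ≤ N_G(P)`, if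
the idempotent of the block `b` of `L` is the orbit sum of the block `e` of `C_G(P)` and `b`
induces `B`, then `(P, e)` is a Brauer pair of `B` -/
theorem isBrauerPairOf_of_induced (hM : IsPModular p M) {P L : Subgroup G} (hP : IsPGroup p P)
    (hPL : P ≤ L) (hCL : Subgroup.centralizer (P : Set G) ≤ L)
    (hLN : L ≤ Subgroup.normalizer (P : Set G))
    {e : Set (IrrCharacter (Subgroup.centralizer (P : Set G)))} (he : IsPBlock M e)
    {b : Set (IrrCharacter L)} (hb : IsPBlock M b)
    (hbc : ∀ t : L, blockCoeff b t =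
      orbitSum (Subgroup.centralizer (P : Set G)) L
        (hLN.trans (normalizer_le_normalizer_centralizer P)) e (t : G))
    {B : Set (IrrCharacter G)} (hind : IsInducedBlock M L b B) :
    IsBrauerPairOf p M B P e := by
  classical
  haveI hMp : M.IsPrime := hM.2.1.isPrime
  haveI : Fintype (Subgroup.centralizer (P : Set G)) := Fintype.ofFinite _
  haveI : Fintype L := Fintype.ofFinite _
  letI : Fintype (IrrCharacter G) := irrFintype
  letI : Fintype (IrrCharacter (Subgroup.centralizer (P : Set G))) := irrFintype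
  letI : Fintype (IrrCharacter L) := irrFintype
  have hNN : L ≤ Subgroup.normalizer
      ((Subgroup.centralizer (P : Set G) : Subgroup G) : Set G) :=
    hLN.trans (normalizer_le_normalizer_centralizer P)
  have hB' : IsPBlock M B := hind.2.1
  refine ⟨⟨hP, he⟩, hB', ?_⟩
  intro ξ hξ
  rw [brauerOmega_eq_omega]
  have hcf' := isClassFunction_blockCoeff B
  have hR' : ∀ g, MemLocalRing M (blockCoeff B g) := memLocalRing_blockCoeff hMp hB'
  obtain ⟨ψ, hψ⟩ := block_nonempty hM hb
  obtain ⟨χ', hχ'⟩ := block_nonempty hM hB'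
  set z : L → ℂ := resC P L (blockCoeff B) with hz
  set zC : Subgroup.centralizer (P : Set G) → ℂ :=
    resC P (Subgroup.centralizer (P : Set G)) (blockCoeff B) with hzC
  set sC : Subgroup.centralizer (P : Set G) → ℂ := orbitSumC _ _ hNN e with hsC
  have hzcf : IsClassFunction _ z := isClassFunction_resC P _ hLN hcf'
  have hzCcf : IsClassFunction _ zC :=
    isClassFunction_resC P _ (Subgroup.centralizer_le_normalizer _) hcf'
  have hscf : IsClassFunction _ sC := isClassFunction_orbitSumC _ _ hNN e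
  have hzR : ∀ t, MemLocalRing M (z t) := by
    intro t
    rw [hz]
    unfold resC
    split_ifs
    · exact hR' _
    · exact memLocalRing_zero ne_top
  have hzidem : ∀ t, MemLocalIdeal M (conv z z t - z t) := by
    intro t
    have h1 := resC_conv_cong P L hM hP hCL hcf' hcf' hR' hR' t
    rw [conv_blockCoeff hB' hB', if_pos rfl] at h1
    exact cong_symm h1
  have hω : ∀ ψ' ∈ b, MemLocalIdeal M (omega (ψ' : L → ℂ) z - 1) := by
    intro ψ' hψ'
    have h1 := IsInducedBlock.omega_cong _ hind hψ' hχ' hcf' hR'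
    rw [omega_blockCoeff, if_pos hχ'] at h1
    have h2 := induced_cong_brauer P _ hM hP hPL hLN ψ' hcf' hR'
    exact cong_trans (cong_symm h2) h1
  have habs := conv_blockCoeff_cong hzcf hzR hzidem hb hω
  have hzG : z = fun t : L =>
      ext0 (Subgroup.centralizer (P : Set G)) zC (t : G) := by
    funext t
    rw [hz]
    unfold resC
    by_cases ht : (t : G) ∈ Subgroup.centralizer (P : Set G)
    · rw [if_pos ht, ext0_of_mem _ _ ht, hzC]
      unfold resC
      rw [if_pos ht]
    · rw [if_neg ht, ext0_of_not_mem _ _ ht]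
  have hbG : blockCoeff b = fun t : L =>
      ext0 (Subgroup.centralizer (P : Set G)) sC (t : G) := by
    funext t
    rw [hbc t, orbitSum_eq_ext0']
  have hpt : ∀ c : Subgroup.centralizer (P : Set G),
      MemLocalIdeal M (sC c - conv zC sC c) := by
    intro c
    have h1 := habs ⟨(c : G), hCL c.2⟩
    rw [hzG, hbG] at h1
    have hsuppz : ∀ g, g ∉ L →
        ext0 (Subgroup.centralizer (P : Set G)) zC g = 0 :=
      fun g hg => ext0_of_not_mem _ _ (fun h => hg (hCL h))
    have hsupps : ∀ g, g ∉ L →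
        ext0 (Subgroup.centralizer (P : Set G)) sC g = 0 :=
      fun g hg => ext0_of_not_mem _ _ (fun h => hg (hCL h))
    rw [conv_comp_subtype _ hsuppz hsupps, conv_ext0] at h1
    simp only [ext0_coe] at h1
    exact h1
  have h4 : MemLocalIdeal M (omega (ξ : Subgroup.centralizer (P : Set G) → ℂ)
      (sC - conv zC sC)) := by
    apply memLocalIdeal_omega ξ
    · intro c x
      rw [Pi.sub_apply, Pi.sub_apply, hscf c x, isClassFunction_conv hzCcf hscf c x]
    · intro c
      rw [Pi.sub_apply]
      exact hpt c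
  rw [omega_sub, omega_conv ξ hzCcf hscf, hsC, omega_orbitSumC _ _ hNN he,
    if_pos ⟨e, self_mem_blockOrbit _ _ hNN e, hξ⟩, mul_one] at h4
  exact cong_symm h4

/-- **every block of `L` is an orbit sum of a block of `C_G(P)`**, for
`P C_G(P) ≤ L ≤ N_G(P)` -/
theorem exists_block_centralizer_of_block (hM : IsPModular p M) {P L : Subgroup G}
    (hP : IsPGroup p P) (hPL : P ≤ L) (hCL : Subgroup.centralizer (P : Set G) ≤ L)
    (hLN : L ≤ Subgroup.normalizer (P : Set G))
    {b : Set (IrrCharacter L)} (hb : IsPBlock M b) :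
    ∃ e : Set (IrrCharacter (Subgroup.centralizer (P : Set G))), IsPBlock M e ∧
      ∀ t : L, blockCoeff b t =
        orbitSum (Subgroup.centralizer (P : Set G)) L
          (hLN.trans (normalizer_le_normalizer_centralizer P)) e (t : G) := by
  classical
  haveI hMp : M.IsPrime := hM.2.1.isPrime
  haveI : Fintype (Subgroup.centralizer (P : Set G)) := Fintype.ofFinite _
  haveI : Fintype L := Fintype.ofFinite _
  letI : Fintype (IrrCharacter (Subgroup.centralizer (P : Set G))) := irrFintype
  letI : Fintype (IrrCharacter L) := irrFintype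
  have hNN : L ≤ Subgroup.normalizer
      ((Subgroup.centralizer (P : Set G) : Subgroup G) : Set G) :=
    hLN.trans (normalizer_le_normalizer_centralizer P)
  have hsupp : ∀ B' : Set (IrrCharacter L), IsPBlock M B' → ∀ t : L,
      (t : G) ∉ Subgroup.centralizer (P : Set G) → blockCoeff B' t = 0 :=
    fun B' hB' t ht => blockCoeff_eq_zero_of_not_mem_centralizer' hM P L hP hPL hLN hB' t ht
  set uC : Subgroup.centralizer (P : Set G) → ℂ :=
    fun c => blockCoeff b ⟨(c : G), hCL c.2⟩ with huC
  have hab : blockCoeff b = fun t : L =>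
      ext0 (Subgroup.centralizer (P : Set G)) uC (t : G) := by
    funext t
    by_cases ht : (t : G) ∈ Subgroup.centralizer (P : Set G)
    · rw [ext0_of_mem _ _ ht]
    · rw [ext0_of_not_mem _ _ ht, hsupp b hb t ht]
  have hsuppz : ∀ g, g ∉ L → ext0 (Subgroup.centralizer (P : Set G)) uC g = 0 :=
    fun g hg => ext0_of_not_mem _ _ (fun h => hg (hCL h))
  have hucf : IsClassFunction (Subgroup.centralizer (P : Set G)) uC := by
    intro c x
    have h1 := isClassFunction_blockCoeff b ⟨(c : G), hCL c.2⟩ ⟨(x : G), hCL x.2⟩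
    exact h1
  have huR : ∀ c, MemLocalRing M (uC c) := fun c => memLocalRing_blockCoeff hMp hb _
  have hidem : conv uC uC = uC := by
    funext c
    have h1 := congrFun (conv_blockCoeff hb hb) ⟨(c : G), hCL c.2⟩
    rw [if_pos rfl] at h1
    have h2 : conv (blockCoeff b) (blockCoeff b) ⟨(c : G), hCL c.2⟩ = conv uC uC c := by
      conv_lhs => rw [hab]
      rw [conv_comp_subtype _ hsuppz hsuppz, conv_ext0]
      simp only [ext0_coe]
    rw [h2] at h1
    exact h1
  obtain ⟨y, hy⟩ := exists_isDefectClass hMp hb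
  have hyC : (y : G) ∈ Subgroup.centralizer (P : Set G) := by
    by_contra h
    apply hy.2.1
    rw [hsupp b hb y h]
    exact memLocalIdeal_zero ne_top
  have hex : ∃ ξ : IrrCharacter (Subgroup.centralizer (P : Set G)),
      ¬ MemLocalIdeal M (omega (ξ : Subgroup.centralizer (P : Set G) → ℂ) uC) := by
    by_contra hcon
    push Not at hcon
    have h1 := null_of_idem_of_omega hucf huR (fun c => by
      rw [hidem, sub_self]
      exact memLocalIdeal_zero ne_top) hcon ⟨(y : G), hyC⟩
    exact hy.2.1 h1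
  obtain ⟨ξ, hξ⟩ := hex
  have he : IsPBlock M (blockOf M (ξ : Subgroup.centralizer (P : Set G) → ℂ)) := ⟨ξ, rfl⟩
  have hξe : ξ ∈ blockOf M (ξ : Subgroup.centralizer (P : Set G) → ℂ) := mem_blockOf_self ξ
  obtain ⟨E, hE, hEc⟩ := exists_block_orbitSum _ L hNN hM hCL hsupp he
  have hbE : b = E := by
    by_contra hne
    have h1 := congrFun (conv_blockCoeff hb hE)
    rw [if_neg hne] at h1
    set sC : Subgroup.centralizer (P : Set G) → ℂ := orbitSumC _ _ hNN
      (blockOf M (ξ : Subgroup.centralizer (P : Set G) → ℂ)) with hsC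
    have hscf : IsClassFunction _ sC := isClassFunction_orbitSumC _ _ hNN _
    have hEG : blockCoeff E = fun t : L =>
        ext0 (Subgroup.centralizer (P : Set G)) sC (t : G) := by
      funext t
      rw [hEc t, orbitSum_eq_ext0']
    have hsupps : ∀ g, g ∉ L → ext0 (Subgroup.centralizer (P : Set G)) sC g = 0 :=
      fun g hg => ext0_of_not_mem _ _ (fun h => hg (hCL h))
    have h2 : conv uC sC = 0 := by
      funext c
      have h3 := h1 ⟨(c : G), hCL c.2⟩
      rw [hab, hEG, conv_comp_subtype _ hsuppz hsupps, conv_ext0] at h3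
      simp only [ext0_coe] at h3
      exact h3
    have h3 : omega (ξ : Subgroup.centralizer (P : Set G) → ℂ) (conv uC sC) = 0 := by
      rw [h2, omega_zero]
    rw [omega_conv ξ hucf hscf, hsC, omega_orbitSumC _ _ hNN he,
      if_pos ⟨_, self_mem_blockOrbit _ _ hNN _, hξe⟩, mul_one] at h3
    apply hξ
    rw [h3]
    exact memLocalIdeal_zero ne_top
  refine ⟨_, he, fun t => ?_⟩
  rw [hbE]
  exact hEc t

end Bridge

section StabGen

variable {G : Type u} [Group G] [Fintype G] {M : Ideal AlgInt} {p : ℕ}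

/-- **the inertial index is prime to `p`**: for a Brauer pair `(P, e)` of `B` without proper
normal superpairs, `p` does not divide `|N_G(P, e) : P C_G(P)|` -/
theorem not_dvd_index_sup_centralizer_stab (hM : IsPModular p M) [Fact p.Prime]
    {B : Set (IrrCharacter G)} {P : Subgroup G}
    {e : Set (IrrCharacter (Subgroup.centralizer (P : Set G)))}
    (hBe : IsBrauerPairOf p M B P e)
    (hno : ∀ (R : Subgroup G) (g : Set (IrrCharacter (Subgroup.centralizer (R : Set G)))),
      IsNormalSubpair p M P e R g → R = P)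
    (T : Subgroup G)
    (hT : ∀ y : G, y ∈ T ↔ y ∈ Subgroup.normalizer (P : Set G) ∧
      StabilizesBlock (Subgroup.centralizer (P : Set G)) e y) :
    ¬ p ∣ ((P ⊔ Subgroup.centralizer (P : Set G)).subgroupOf T).index := by
  classical
  haveI hMp : M.IsPrime := hM.2.1.isPrime
  haveI : Fintype T := Fintype.ofFinite _
  haveI : Fintype (Subgroup.centralizer (P : Set G)) := Fintype.ofFinite _
  obtain ⟨⟨hP, he⟩, hB, -⟩ := hBe
  have hPT : P ≤ T :=
    fun x hx => (hT x).2 ⟨Subgroup.le_normalizer hx, stabilizesBlock_of_commute P e hx⟩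
  have hCT : Subgroup.centralizer (P : Set G) ≤ T := fun c hc =>
    (hT c).2 ⟨Subgroup.centralizer_le_normalizer _ hc, stabilizesBlock_of_mem _ e hc⟩
  have hTNP : T ≤ Subgroup.normalizer (P : Set G) := fun x hx => ((hT x).1 hx).1
  have hTNC : T ≤ Subgroup.normalizer
      ((Subgroup.centralizer (P : Set G) : Subgroup G) : Set G) :=
    fun x hx => ((hT x).1 hx).2.1
  obtain ⟨F, hF, hFc⟩ := exists_block_of_stab hM hP he T hT
  obtain ⟨DF, hDF⟩ := exists_isDefectGroup hM hF
  have hDFp : IsPGroup p DF := isPGroup_of_isDefectGroup hM hDF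
  obtain ⟨y', hy'cls, hSyl⟩ := hDF
  set C : Subgroup T := Subgroup.centralizer ({y'} : Set T) with hC
  obtain ⟨Syl, hDFeq⟩ := hSyl
  haveI hPTn : (P.subgroupOf T).Normal := Subgroup.normal_subgroupOf_of_le_normalizer hTNP
  have hQD := normal_pgroup_le_defectGroup hM hF (P.subgroupOf T) hP.comap_subtype hy'cls Syl
  rw [← hDFeq] at hQD
  have hDle : DF ≤ C := by
    rw [hDFeq]
    exact Subgroup.map_subtype_le _
  -- the image of the defect group in `G` is `P`
  have hDP : DF = P.subgroupOf T := by
    set D' : Subgroup G := DF.map T.subtype with hD'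
    have hD'p : IsPGroup p D' := hDFp.map _
    have hD'T : D' ≤ T := Subgroup.map_subtype_le _
    have hQR : P ≤ D' := by
      intro w hw
      refine ⟨⟨w, hPT hw⟩, hQD ?_, rfl⟩
      show (⟨w, hPT hw⟩ : T) ∈ P.subgroupOf T
      rw [Subgroup.mem_subgroupOf]
      exact hw
    have hRN : D' ≤ Subgroup.normalizer (P : Set G) := hD'T.trans hTNP
    have hstab : ∀ x ∈ D', StabilizesBlock (Subgroup.centralizer (P : Set G)) e x :=
      fun x hx => ((hT x).1 (hD'T hx)).2
    have hyC : (y' : G) ∈ Subgroup.centralizer (D' : Set G) := by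
      rw [Subgroup.mem_centralizer_iff]
      rintro _ ⟨d, hd, rfl⟩
      have h1 := hDle hd
      rw [hC, Subgroup.mem_centralizer_singleton_iff] at h1
      have h3 := congrArg Subtype.val h1
      push_cast at h3
      exact h3
    have hfy : ¬ MemLocalIdeal M
        (ext0 (Subgroup.centralizer (P : Set G)) (blockCoeff e) (y' : G)) := by
      rw [← subgroupBlockCoeff_eq_ext0, ← hFc y']
      exact hy'cls.2.1
    obtain ⟨g, hsub⟩ := exists_normal_superpair hM ⟨hP, he⟩ hD'p hQR hRN hstab hyC hfy
    have hD'P : D' = P := hno D' g hsub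
    apply le_antisymm
    · intro d hd
      rw [Subgroup.mem_subgroupOf, ← hD'P]
      exact ⟨d, hd, rfl⟩
    · exact hQD
  -- Fong's lemma in the group `T`
  set N' : Subgroup T := (Subgroup.centralizer (P : Set G)).subgroupOf T with hN'
  haveI hN'n : N'.Normal := Subgroup.normal_subgroupOf_of_le_normalizer hTNC
  haveI : Fintype N' := Fintype.ofFinite _
  set σ : N' ≃* Subgroup.centralizer (P : Set G) := Subgroup.subgroupOfEquivOfLe hCT with hσ
  have hσc : ∀ k : N', ((σ k : Subgroup.centralizer (P : Set G)) : G) = ((k : T) : G) :=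
    fun k => rfl
  set c' : Set (IrrCharacter N') := irrComp σ '' e with hc'
  have hc'b : IsPBlock M c' := isPBlock_image_irrComp σ he
  have hst : ∀ t : T, StabilizesBlock N' c' t := by
    intro t
    refine ⟨(Subgroup.normalizer_eq_top_iff.mpr hN'n) ▸ Subgroup.mem_top t, ?_⟩
    rintro _ ⟨χ, hχ, rfl⟩
    obtain ⟨χ₂, hχ₂, hconj⟩ := ((hT (t : G)).1 t.2).2.2 χ hχ
    refine ⟨irrComp σ χ₂, ⟨χ₂, hχ₂, rfl⟩, ?_⟩
    intro k k' hk
    rw [irrComp_apply, irrComp_apply]
    apply hconj
    rw [hσc, hσc, hk]
    push_cast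
    rfl
  have hBc : ∀ t : T, blockCoeff F t = subgroupBlockCoeff N' c' t := by
    intro t
    rw [hFc t]
    unfold subgroupBlockCoeff
    by_cases ht : (t : G) ∈ Subgroup.centralizer (P : Set G)
    · have ht' : t ∈ N' := by
        rw [hN', Subgroup.mem_subgroupOf]
        exact ht
      rw [dif_pos ht, dif_pos ht', hc', blockCoeff_image_irrComp]
      rfl
    · have ht' : t ∉ N' := by
        rw [hN', Subgroup.mem_subgroupOf]
        exact ht
      rw [dif_neg ht, dif_neg ht']
  obtain ⟨hyN, -, hind⟩ := Cfsg.Agent.Helper18.fong_defectClass N' hM hc'b hst hF hBc hy'cls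
  -- the stabilizer of the class is contained in `N' C_T(y')`
  set S : Subgroup T := Cfsg.Agent.Helper18.fongStab N' (⟨y', hyN⟩ : N') with hS
  have hSle : S ≤ C ⊔ N' := by
    intro g hg
    rw [hS, Cfsg.Agent.Helper18.mem_fongStab_iff, isConj_iff] at hg
    obtain ⟨n, hn⟩ := hg
    have h1 : (n : T) * g * y' * ((n : T) * g)⁻¹ = y' := by
      have h2 := congrArg Subtype.val hn
      push_cast at h2
      calc (n : T) * g * y' * ((n : T) * g)⁻¹ = (n : T) * (g * y' * g⁻¹) * (n : T)⁻¹ := by group
        _ = y' := h2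
    have h3 : (n : T) * g ∈ C := by
      rw [hC, Subgroup.mem_centralizer_singleton_iff]
      calc (n : T) * g * y' = (n : T) * g * y' * ((n : T) * g)⁻¹ * ((n : T) * g) := by group
        _ = y' * ((n : T) * g) := by rw [h1]
    have h4 : g = (n : T)⁻¹ * ((n : T) * g) := by group
    rw [h4]
    exact Subgroup.mul_mem _ (Subgroup.mem_sup_right (Subgroup.inv_mem _ n.2))
      (Subgroup.mem_sup_left h3)
  have hN'S : N' ≤ S := Cfsg.Agent.Helper18.le_fongStab N' _
  -- index computations
  have hCS : C ≤ S := by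
    intro c hc
    rw [hS, Cfsg.Agent.Helper18.mem_fongStab_iff]
    rw [hC, Subgroup.mem_centralizer_singleton_iff] at hc
    have h1 : (⟨c * y' * c⁻¹, hN'n.conj_mem y' hyN c⟩ : N') = ⟨y', hyN⟩ := by
      apply Subtype.ext
      show c * y' * c⁻¹ = y'
      rw [hc, mul_inv_cancel_right]
    rw [h1]
  haveI hDFn : DF.Normal := hDP ▸ hPTn
  set H' : Subgroup T := N' ⊔ DF with hH'
  haveI hH'n : H'.Normal := inferInstance
  have hDH : DF ≤ H' ⊓ C := le_inf le_sup_right hDle
  have h1 : ¬ p ∣ DF.relIndex C := by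
    have h2 : DF.subgroupOf C = (Syl : Subgroup C) := by
      rw [hDFeq]
      ext c
      rw [Subgroup.mem_subgroupOf]
      constructor
      · rintro ⟨c', hc', hcc⟩
        have : c' = c := Subtype.ext hcc
        rw [← this]
        exact hc'
      · intro hc
        exact ⟨c, hc, rfl⟩
    show ¬ p ∣ (DF.subgroupOf C).index
    rw [h2]
    exact Syl.not_dvd_index
  have h3 : ¬ p ∣ (H' ⊓ C).relIndex C := by
    intro hdvd
    apply h1
    rw [← Subgroup.relIndex_mul_relIndex DF (H' ⊓ C) C hDH inf_le_right]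
    exact Dvd.dvd.mul_left hdvd _
  have h4 : H'.relIndex (C ⊔ H') = (H' ⊓ C).relIndex C := by
    rw [Subgroup.relIndex_sup_right, Subgroup.inf_relIndex_right]
  have hH'S : H' ≤ S := sup_le hN'S (hDle.trans hCS)
  have hSle' : S ≤ C ⊔ H' := hSle.trans (sup_le_sup_left le_sup_left C)
  have h5 : ¬ p ∣ H'.relIndex S := by
    intro hdvd
    apply h3
    rw [← h4, ← Subgroup.relIndex_mul_relIndex H' S (C ⊔ H') hH'S hSle']
    exact Dvd.dvd.mul_right hdvd _
  have h6 : H'.index = H'.relIndex S * S.index := (Subgroup.relIndex_mul_index hH'S).symm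
  have h7 : (P ⊔ Subgroup.centralizer (P : Set G)).subgroupOf T = H' := by
    rw [Subgroup.subgroupOf_sup hPT hCT, ← hDP, sup_comm]
  rw [h7, h6]
  intro hdvd
  rcases (Nat.Prime.dvd_mul hM.1).1 hdvd with h | h
  · exact h5 h
  · exact hind h

end StabGen

section StabIff

variable {G : Type u} [Group G] [Fintype G] {M : Ideal AlgInt} {p : ℕ}

/-- a set of characters of `K` is fixed by `x ∈ N_G(K)` iff its idempotent is -/
theorem image_conjIrr_eq_iff_ext0 (K : Subgroup G) {x : G}
    (hx : x ∈ Subgroup.normalizer (K : Set G)) (f : Set (IrrCharacter K)) :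
    Cfsg.Agent.Helper24.conjIrr K x hx '' f = f ↔
      ∀ g, ext0 K (blockCoeff f) (x⁻¹ * g * x) = ext0 K (blockCoeff f) g := by
  haveI : Fintype K := Fintype.ofFinite _
  constructor
  · intro h g
    rw [← ext0_blockCoeff_image_conjIrr K hx f g, h]
  · intro h
    apply Cfsg.Agent.Helper23.Blk.eq_of_blockCoeff_eq
    intro k
    have h1 := ext0_blockCoeff_image_conjIrr K hx f (k : G)
    rw [h (k : G), ext0_coe, ext0_coe] at h1
    exact h1

/-- every element of `P C_G(P)` fixes every block of `C_G(P)` -/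
theorem image_conjIrr_eq_of_mem_sup (hM : IsPModular p M) {P : Subgroup G}
    {e : Set (IrrCharacter (Subgroup.centralizer (P : Set G)))} (he : IsPBlock M e) {x : G}
    (hx : x ∈ P ⊔ Subgroup.centralizer (P : Set G))
    (hxN : x ∈ Subgroup.normalizer
      ((Subgroup.centralizer (P : Set G) : Subgroup G) : Set G)) :
    Cfsg.Agent.Helper24.conjIrr (Subgroup.centralizer (P : Set G)) x hxN '' e = e := by
  haveI hMp : M.IsPrime := hM.2.1.isPrime
  have hne : e.Nonempty := block_nonempty hM he
  have hle : P ⊔ Subgroup.centralizer (P : Set G) ≤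
      blockStab (Subgroup.centralizer (P : Set G)) e := by
    apply sup_le
    · intro w hw
      exact mem_blockStab_of_stabilizesBlock he hne (stabilizesBlock_of_commute P e hw)
    · intro w hw
      exact mem_blockStab_of_stabilizesBlock he hne (stabilizesBlock_of_mem _ e hw)
  obtain ⟨_, h⟩ := hle hx
  exact h

/-- blocks of `L = P C_G(P)` and blocks of `C_G(P)` have the same idempotents -/
theorem exists_block_centralizer_of_block_sup (hM : IsPModular p M) {P L : Subgroup G}
    (hP : IsPGroup p P) (hL : L = P ⊔ Subgroup.centralizer (P : Set G))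
    {b : Set (IrrCharacter L)} (hb : IsPBlock M b) :
    ∃ e : Set (IrrCharacter (Subgroup.centralizer (P : Set G))), IsPBlock M e ∧
      (∀ t : L, blockCoeff b t =
        subgroupBlockCoeff (Subgroup.centralizer (P : Set G)) e (t : G)) ∧
      ∀ B : Set (IrrCharacter G), IsInducedBlock M L b B → IsBrauerPairOf p M B P e := by
  classical
  have hPL : P ≤ L := hL ▸ le_sup_left
  have hCL : Subgroup.centralizer (P : Set G) ≤ L := hL ▸ le_sup_right
  have hLN : L ≤ Subgroup.normalizer (P : Set G) :=
    hL ▸ sup_le Subgroup.le_normalizer (Subgroup.centralizer_le_normalizer _)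
  obtain ⟨e, he, hbc⟩ := exists_block_centralizer_of_block hM hP hPL hCL hLN hb
  have hNN := hLN.trans (normalizer_le_normalizer_centralizer P)
  have hstable : ∀ x : L, Cfsg.Agent.Helper24.conjIrr _ (x : G) (hNN x.2) '' e = e :=
    fun x => image_conjIrr_eq_of_mem_sup hM he (hL ▸ x.2) _
  refine ⟨e, he, ?_, ?_⟩
  · intro t
    rw [hbc t, orbitSum_of_stable _ L hNN hstable, subgroupBlockCoeff_eq_ext0]
  · intro B hind
    exact isBrauerPairOf_of_induced hM hP hPL hCL hLN he hb hbc hind

/-- the stabilizers of a block of `L` and of the block of `C ≤ L` with the same idempotent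
coincide -/
theorem image_conjIrr_eq_iff_of_blockCoeff_eq {C L : Subgroup G} (hCL : C ≤ L)
    {b : Set (IrrCharacter L)} {e : Set (IrrCharacter C)}
    (hbe : ∀ t : L, blockCoeff b t = subgroupBlockCoeff C e (t : G)) {g : G}
    (hgL : g ∈ Subgroup.normalizer (L : Set G)) (hgC : g ∈ Subgroup.normalizer (C : Set G)) :
    Cfsg.Agent.Helper24.conjIrr L g hgL '' b = b ↔
      Cfsg.Agent.Helper24.conjIrr C g hgC '' e = e := by
  have hext : ext0 L (blockCoeff b) = ext0 C (blockCoeff e) := by
    funext x
    by_cases hx : x ∈ L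
    · rw [ext0_of_mem _ _ hx, hbe ⟨x, hx⟩, subgroupBlockCoeff_eq_ext0]
    · rw [ext0_of_not_mem _ _ hx, ext0_of_not_mem _ _ (fun h => hx (hCL h))]
  rw [image_conjIrr_eq_iff_ext0, image_conjIrr_eq_iff_ext0, hext]

theorem ext0_eq_of_blockCoeff_eq {C L : Subgroup G} (hCL : C ≤ L)
    {b : Set (IrrCharacter L)} {e : Set (IrrCharacter C)}
    (hbe : ∀ t : L, blockCoeff b t = subgroupBlockCoeff C e (t : G)) :
    ext0 L (blockCoeff b) = ext0 C (blockCoeff e) := by
  funext x
  by_cases hx : x ∈ L
  · rw [ext0_of_mem _ _ hx, hbe ⟨x, hx⟩, subgroupBlockCoeff_eq_ext0]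
  · rw [ext0_of_not_mem _ _ hx, ext0_of_not_mem _ _ (fun h => hx (hCL h))]

/-- conjugate blocks of `C` give conjugate blocks of `L` when the idempotents agree -/
theorem image_conjIrr_eq_of_blockCoeff_eq {C L : Subgroup G} (hCL : C ≤ L)
    {b b' : Set (IrrCharacter L)} {e e' : Set (IrrCharacter C)}
    (hbe : ∀ t : L, blockCoeff b t = subgroupBlockCoeff C e (t : G))
    (hbe' : ∀ t : L, blockCoeff b' t = subgroupBlockCoeff C e' (t : G)) {g : G}
    (hgL : g ∈ Subgroup.normalizer (L : Set G)) (hgC : g ∈ Subgroup.normalizer (C : Set G))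
    (h : Cfsg.Agent.Helper24.conjIrr C g hgC '' e = e') :
    Cfsg.Agent.Helper24.conjIrr L g hgL '' b = b' := by
  haveI : Fintype L := Fintype.ofFinite _
  apply Cfsg.Agent.Helper23.Blk.eq_of_blockCoeff_eq
  intro t
  have h1 := ext0_blockCoeff_image_conjIrr L hgL b (t : G)
  rw [ext0_eq_of_blockCoeff_eq hCL hbe, ← ext0_blockCoeff_image_conjIrr C hgC e (t : G), h,
    ← ext0_eq_of_blockCoeff_eq hCL hbe', ext0_coe, ext0_coe] at h1
  exact h1

/-- a block of `L = P C_G(P)` whose block of `C_G(P)` forms a pair without proper normal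
superpairs has defect group `P` -/
theorem isDefectGroup_of_no_superpair_sup (hM : IsPModular p M) [Fact p.Prime] {P L : Subgroup G}
    (hP : IsPGroup p P) (hL : L = P ⊔ Subgroup.centralizer (P : Set G))
    {b : Set (IrrCharacter L)} (hb : IsPBlock M b)
    {e : Set (IrrCharacter (Subgroup.centralizer (P : Set G)))} (he : IsPBlock M e)
    (hbe : ∀ t : L, blockCoeff b t =
      subgroupBlockCoeff (Subgroup.centralizer (P : Set G)) e (t : G))
    (hno : ∀ (R : Subgroup G) (g : Set (IrrCharacter (Subgroup.centralizer (R : Set G)))),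
      IsNormalSubpair p M P e R g → R = P) :
    IsDefectGroup p M b (P.subgroupOf L) := by
  classical
  haveI hMp : M.IsPrime := hM.2.1.isPrime
  haveI : Fintype L := Fintype.ofFinite _
  have hPL : P ≤ L := hL ▸ le_sup_left
  have hCL : Subgroup.centralizer (P : Set G) ≤ L := hL ▸ le_sup_right
  have hLN : L ≤ Subgroup.normalizer (P : Set G) :=
    hL ▸ sup_le Subgroup.le_normalizer (Subgroup.centralizer_le_normalizer _)
  have hne : e.Nonempty := block_nonempty hM he
  obtain ⟨DF, hDF⟩ := exists_isDefectGroup hM hb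
  have hDFp : IsPGroup p DF := isPGroup_of_isDefectGroup hM hDF
  have hDF' := hDF
  obtain ⟨y', hy'cls, Syl, hDFeq⟩ := hDF
  haveI hPLn : (P.subgroupOf L).Normal := Subgroup.normal_subgroupOf_of_le_normalizer hLN
  have hQD := normal_pgroup_le_defectGroup hM hb (P.subgroupOf L) hP.comap_subtype hy'cls Syl
  rw [← hDFeq] at hQD
  have hDle : DF ≤ Subgroup.centralizer ({y'} : Set L) := by
    rw [hDFeq]
    exact Subgroup.map_subtype_le _
  set D' : Subgroup G := DF.map L.subtype with hD'
  have hD'p : IsPGroup p D' := hDFp.map _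
  have hD'L : D' ≤ L := Subgroup.map_subtype_le _
  have hQR : P ≤ D' := by
    intro w hw
    refine ⟨⟨w, hPL hw⟩, hQD ?_, rfl⟩
    show (⟨w, hPL hw⟩ : L) ∈ P.subgroupOf L
    rw [Subgroup.mem_subgroupOf]
    exact hw
  have hRN : D' ≤ Subgroup.normalizer (P : Set G) := hD'L.trans hLN
  have hstab : ∀ x ∈ D', StabilizesBlock (Subgroup.centralizer (P : Set G)) e x := by
    intro x hx
    have hxN := normalizer_le_normalizer_centralizer P (hRN hx)
    have h1 := image_conjIrr_eq_of_mem_sup hM he (hL ▸ hD'L hx) hxN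
    exact stabilizesBlock_of_image_subset _ hxN (le_of_eq h1)
  have hyC : (y' : G) ∈ Subgroup.centralizer (D' : Set G) := by
    rw [Subgroup.mem_centralizer_iff]
    rintro _ ⟨d, hd, rfl⟩
    have h1 := hDle hd
    rw [Subgroup.mem_centralizer_singleton_iff] at h1
    have h3 := congrArg Subtype.val h1
    push_cast at h3
    exact h3
  have hfy : ¬ MemLocalIdeal M
      (ext0 (Subgroup.centralizer (P : Set G)) (blockCoeff e) (y' : G)) := by
    rw [← subgroupBlockCoeff_eq_ext0, ← hbe y']
    exact hy'cls.2.1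
  obtain ⟨g, hsub⟩ := exists_normal_superpair hM ⟨hP, he⟩ hD'p hQR hRN hstab hyC hfy
  have hD'P : D' = P := hno D' g hsub
  have hDP : DF = P.subgroupOf L := by
    apply le_antisymm
    · intro d hd
      rw [Subgroup.mem_subgroupOf, ← hD'P]
      exact ⟨d, hd, rfl⟩
    · exact hQD
  rw [← hDP]
  exact hDF'

end StabIff

end Cfsg.Agent.Helper18.PairRel
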