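import Mathlib
import Cfsg.Agent.Lib.Helper18.BlockFong

/-!
# Fong's theorem on blocks covering a stable block (helper18's library)

Let `b` be a `G`-stable block of the normal subgroup `N`.  There is `x ∈ N`, a defect class of
`b`, such that the number of `N`-classes in the `G`-class of `x` is prime to `p`, every block of
`G` covering `b` has a central character not vanishing at `x`, and some block covering `b` has
`x` as a defect class.
-/

set_option autoImplicit false

namespace Cfsg.Agent.Helper18

open Cfsg Cfsg.Agent.Helper24 Cfsg.Agent.Helper23.Blk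
open scoped ComplexConjugate

universe u

section Closed2

variable {H : Type u} [Group H] [Finite H] {M : Ideal AlgInt}

/-- A union of blocks whose idempotent has a coefficient outside the local ideal contains a block
with the same property. -/
theorem exists_block_of_not_memLocalIdeal (hMp : M.IsPrime) {U : Set (IrrCharacter H)}
    (hU : ∀ θ ∈ U, blockOf M (θ : H → ℂ) ⊆ U) (h : H)
    (hne : ¬ MemLocalIdeal M (blockCoeff U h)) :
    ∃ θ ∈ U, ¬ MemLocalIdeal M (blockCoeff (blockOf M (θ : H → ℂ)) h) := by
  classical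
  haveI : Fintype H := Fintype.ofFinite H
  letI : Fintype (IrrCharacter H) := irrFintype
  haveI := hMp
  obtain ⟨n, hn⟩ : ∃ n, U.ncard = n := ⟨_, rfl⟩
  induction n using Nat.strong_induction_on generalizing U with
  | _ n ih =>
    by_cases hemp : U = ∅
    · exfalso
      apply hne
      rw [hemp, blockCoeff_empty]
      exact memLocalIdeal_zero ne_top
    · obtain ⟨θ, hθ⟩ := Set.nonempty_iff_ne_empty.mpr hemp
      have hBU := hU θ hθ
      have hθB : θ ∈ blockOf M (θ : H → ℂ) := mem_blockOf_self θ
      have hU' : ∀ θ' ∈ U \ blockOf M (θ : H → ℂ),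
          blockOf M (θ' : H → ℂ) ⊆ U \ blockOf M (θ : H → ℂ) := by
        intro θ' hθ' θ'' hθ''
        refine ⟨hU θ' hθ'.1 hθ'', fun hB => hθ'.2 ?_⟩
        exact sameBlock_trans hB (sameBlock_symm hθ'')
      have hlt : (U \ blockOf M (θ : H → ℂ)).ncard < n := by
        rw [← hn]
        apply Set.ncard_lt_ncard _ (Set.toFinite _)
        exact ⟨Set.diff_subset, fun hsub => (hsub hθ).2 hθB⟩
      have hsplit : U = blockOf M (θ : H → ℂ) ∪ (U \ blockOf M (θ : H → ℂ)) := by
        rw [Set.union_diff_cancel hBU]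
      by_cases hθne : MemLocalIdeal M (blockCoeff (blockOf M (θ : H → ℂ)) h)
      · have hrest : ¬ MemLocalIdeal M (blockCoeff (U \ blockOf M (θ : H → ℂ)) h) := by
          intro hrest
          apply hne
          rw [hsplit, blockCoeff_union Set.disjoint_sdiff_right]
          exact memLocalIdeal_add hθne hrest
        obtain ⟨θ', hθ', hθ'ne⟩ := ih _ hlt hU' hrest rfl
        exact ⟨θ', hθ'.1, hθ'ne⟩
      · exact ⟨θ, hθ, hθne⟩

end Closed2

section Fong2

variable {G : Type u} [Group G] [Fintype G] (N : Subgroup G) [hN : N.Normal] [Fintype N]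
  {p : ℕ} {M : Ideal AlgInt}

/-- the set of characters over a stable block is a union of blocks -/
theorem overSet_closed (hMp : M.IsPrime) {b : Set (IrrCharacter N)} (hb : IsPBlock M b)
    (hst : ∀ x : G, StabilizesBlock N b x) :
    ∀ χ ∈ overSet N b, blockOf M (χ : G → ℂ) ⊆ overSet N b := by
  classical
  haveI := hMp
  intro χ hχ
  apply blockOf_subset_of_memLocalRing hMp _ hχ
  intro g
  rw [blockCoeff_overSet N (fun y θ hθ => conjIrr_mem_of_stabilizes N hst y hθ) g]
  split_ifs with h
  · exact memLocalRing_blockCoeff hMp hb _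
  · exact memLocalRing_zero ne_top

/-- the central character of a character over a stable block `b`, at an element `a` of `N`, is
congruent to the number of `N`-classes in the `G`-class of `a` times the central character of
`b` -/
theorem centralChar_cong_index_mul (hM : IsPModular p M) {b : Set (IrrCharacter N)}
    (hb : IsPBlock M b) (hst : ∀ x : G, StabilizesBlock N b x) {B : Set (IrrCharacter G)}
    (hB : IsPBlock M B) {χ₁ : IrrCharacter G} (hχ₁ : χ₁ ∈ B) {θ₁ : IrrCharacter N} (hθ₁ : θ₁ ∈ b)
    (hcon : classInner (fun n : N => (χ₁ : G → ℂ) n) (θ₁ : N → ℂ) ≠ 0)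
    {χ : IrrCharacter G} (hχ : χ ∈ B) {θ : IrrCharacter N} (hθ : θ ∈ b) (a : N) :
    MemLocalIdeal M (centralChar (χ : G → ℂ) (a : G) -
      ((fongStab N a).index : ℂ) * centralChar (θ : N → ℂ) a) := by
  haveI hMp : M.IsPrime := hM.2.1.isPrime
  have hpass := passman_of_cover N hMp hB hb hχ₁ hθ₁ hcon χ hχ θ hθ a
  have hcong := inducedCentralChar_cong_index_mul N hMp hb hst hθ a
  have h1 := memLocalIdeal_add hpass hcong
  have h2 : centralChar (χ : G → ℂ) (a : G) - inducedCentralChar N (θ : N → ℂ) (a : G) +
      (inducedCentralChar N (θ : N → ℂ) (a : G) -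
        ((fongStab N a).index : ℂ) * centralChar (θ : N → ℂ) a) =
      centralChar (χ : G → ℂ) (a : G) -
        ((fongStab N a).index : ℂ) * centralChar (θ : N → ℂ) a := by ring
  rwa [h2] at h1

/-- an element at which the idempotent of the characters over the stable block `b` and the
central character of a character over `b` do not vanish lies in `N`, is a defect class of `b`,
and its `N`-class has a number of `G`-conjugates prime to `p` -/
theorem fong_class_of (hM : IsPModular p M) {b : Set (IrrCharacter N)}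
    (hb : IsPBlock M b) (hst : ∀ x : G, StabilizesBlock N b x) {B : Set (IrrCharacter G)}
    (hB : IsPBlock M B) {χ : IrrCharacter G} (hχ : χ ∈ B) {θ : IrrCharacter N} (hθ : θ ∈ b)
    (hcon : classInner (fun n : N => (χ : G → ℂ) n) (θ : N → ℂ) ≠ 0) (k : G)
    (haJ : ¬ MemLocalIdeal M (blockCoeff (overSet N b) k))
    (hωJ : ¬ MemLocalIdeal M (centralChar (χ : G → ℂ) k)) :
    ∃ hkN : k ∈ N, IsDefectClass M b ⟨k, hkN⟩ ∧ ¬ p ∣ (fongStab N (⟨k, hkN⟩ : N)).index := by
  classical
  letI : Fintype (IrrCharacter N) := irrFintype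
  letI : Fintype (IrrCharacter G) := irrFintype
  haveI hMp : M.IsPrime := hM.2.1.isPrime
  have hU : ∀ g : G, ∀ θ ∈ b, conjIrr N g θ ∈ b :=
    fun y θ hθ => conjIrr_mem_of_stabilizes N hst y hθ
  have hkN : k ∈ N := by
    by_contra hnot
    apply haJ
    rw [blockCoeff_overSet N hU, dif_neg hnot]
    exact memLocalIdeal_zero ne_top
  refine ⟨hkN, ?_⟩
  have hcoeff : blockCoeff (overSet N b) k = blockCoeff b (⟨k, hkN⟩ : N) := by
    rw [blockCoeff_overSet N hU, dif_pos hkN]
  have hcong := centralChar_cong_index_mul N hM hb hst hB hχ hθ hcon hχ hθ (⟨k, hkN⟩ : N)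
  have hprod : ¬ MemLocalIdeal M (((fongStab N (⟨k, hkN⟩ : N)).index : ℂ) *
      centralChar (θ : N → ℂ) (⟨k, hkN⟩ : N)) := by
    intro h
    apply hωJ
    have h3 := memLocalIdeal_add hcong h
    rwa [sub_add_cancel] at h3
  have hwR : MemLocalRing M (centralChar (θ : N → ℂ) (⟨k, hkN⟩ : N)) :=
    memLocalRing_centralChar θ _
  have hw : ¬ MemLocalIdeal M (centralChar (θ : N → ℂ) (⟨k, hkN⟩ : N)) := by
    intro h
    exact hprod (memLocalIdeal_mul_left (memLocalRing_natCast _) h)
  have ht : ¬ p ∣ (fongStab N (⟨k, hkN⟩ : N)).index := by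
    intro h
    apply hprod
    exact memLocalIdeal_mul_right ((memLocalIdeal_natCast_iff hM _).2 h) hwR
  refine ⟨⟨?_, ?_, ?_⟩, ht⟩
  · exact memLocalRing_blockCoeff hMp hb _
  · rw [← hcoeff]
    exact haJ
  · intro θ' hθ'
    exact not_memLocalIdeal_centralChar_of_block hM hb ⟨θ, hθ, hw⟩ hθ'

/-- **Fong**: for a character `χ` over a stable block `b` of the normal subgroup `N` there is an
element at which neither the idempotent of the characters over `b` nor the central character of
`χ` vanishes. -/
theorem exists_fong_class (hM : IsPModular p M) {b : Set (IrrCharacter N)}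
    (hb : IsPBlock M b) (hst : ∀ x : G, StabilizesBlock N b x)
    {χ : IrrCharacter G} {θ : IrrCharacter N} (hθ : θ ∈ b)
    (hcon : classInner (fun n : N => (χ : G → ℂ) n) (θ : N → ℂ) ≠ 0) :
    ∃ k : G, ¬ MemLocalIdeal M (blockCoeff (overSet N b) k) ∧
      ¬ MemLocalIdeal M (centralChar (χ : G → ℂ) k) := by
  classical
  letI : Fintype (IrrCharacter N) := irrFintype
  letI : Fintype (IrrCharacter G) := irrFintype
  haveI : Fintype (ConjClasses G) := Fintype.ofFinite _
  haveI hMp : M.IsPrime := hM.2.1.isPrime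
  have hU : ∀ g : G, ∀ θ ∈ b, conjIrr N g θ ∈ b :=
    fun y θ hθ => conjIrr_mem_of_stabilizes N hst y hθ
  have hχA : χ ∈ overSet N b := ⟨θ, hθ, hcon⟩
  have hAR : ∀ g : G, MemLocalRing M (blockCoeff (overSet N b) g) := by
    intro g
    rw [blockCoeff_overSet N hU g]
    split_ifs with h
    · exact memLocalRing_blockCoeff hMp hb _
    · exact memLocalRing_zero ne_top
  have h1 : omega (χ : G → ℂ) (blockCoeff (overSet N b)) = 1 := by
    rw [omega_blockCoeff, if_pos hχA]
  rw [omega_eq_sum_classes (isClassFunction_of_isIrrCharacter χ.2)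
    (isClassFunction_blockCoeff _)] at h1
  by_contra hno
  push Not at hno
  apply not_memLocalIdeal_one (M := M)
  rw [← h1]
  apply memLocalIdeal_sum
  intro K _
  by_contra hK
  have hωR := memLocalRing_centralChar (M := M) χ (Quotient.out K)
  have haJ : ¬ MemLocalIdeal M (blockCoeff (overSet N b) (Quotient.out K)) := by
    intro hmem
    exact hK (memLocalIdeal_mul_right hmem hωR)
  exact hK (memLocalIdeal_mul_left (hAR _) (hno _ haJ))

/-- every block covering the stable block `b` has central characters not vanishing at a Fong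
class -/
theorem not_memLocalIdeal_centralChar_of_cover (hM : IsPModular p M) {b : Set (IrrCharacter N)}
    (hb : IsPBlock M b) (hst : ∀ x : G, StabilizesBlock N b x) {B : Set (IrrCharacter G)}
    (hB : IsPBlock M B) {χ₁ : IrrCharacter G} (hχ₁ : χ₁ ∈ B) {θ₁ : IrrCharacter N} (hθ₁ : θ₁ ∈ b)
    (hcon : classInner (fun n : N => (χ₁ : G → ℂ) n) (θ₁ : N → ℂ) ≠ 0)
    {x : N} (hx : IsDefectClass M b x) (hidx : ¬ p ∣ (fongStab N x).index)
    {χ : IrrCharacter G} (hχ : χ ∈ B) :
    ¬ MemLocalIdeal M (centralChar (χ : G → ℂ) (x : G)) := by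
  classical
  letI : Fintype (IrrCharacter N) := irrFintype
  haveI hMp : M.IsPrime := hM.2.1.isPrime
  intro hmem
  have hcong := centralChar_cong_index_mul N hM hb hst hB hχ₁ hθ₁ hcon hχ hθ₁ x
  have h1 : MemLocalIdeal M (((fongStab N x).index : ℂ) * centralChar (θ₁ : N → ℂ) x) := by
    have h2 := memLocalIdeal_sub hmem hcong
    rwa [sub_sub_cancel] at h2
  rcases memLocalIdeal_or_of_mul (memLocalRing_natCast _) (memLocalRing_centralChar θ₁ _) h1
    with h | h
  · exact hidx ((memLocalIdeal_natCast_iff hM _).1 h)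
  · exact hx.2.2 θ₁ hθ₁ h

/-- the stabilizer of the `N`-class of `x` is `N C_G(x)` -/
theorem fongStab_eq_sup (x : N) :
    fongStab N x = N ⊔ Subgroup.centralizer ({(x : G)} : Set G) := by
  apply le_antisymm
  · intro g hg
    rw [mem_fongStab_iff, isConj_iff] at hg
    obtain ⟨n, hn⟩ := hg
    have h1 : (n : G) * (g * (x : G) * g⁻¹) * (n : G)⁻¹ = (x : G) := by
      have := congrArg Subtype.val hn
      simpa using this
    have h2 : (n : G) * g ∈ Subgroup.centralizer ({(x : G)} : Set G) := by
      rw [Subgroup.mem_centralizer_iff]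
      intro y hy
      rw [Set.mem_singleton_iff] at hy
      rw [hy]
      calc (x : G) * ((n : G) * g)
          = ((n : G) * (g * (x : G) * g⁻¹) * (n : G)⁻¹) * ((n : G) * g) := by rw [h1]
        _ = (n : G) * g * (x : G) := by group
    have h3 : g = (n : G)⁻¹ * ((n : G) * g) := by group
    rw [h3]
    exact Subgroup.mul_mem_sup (N.inv_mem n.2) h2
  · apply sup_le (le_fongStab N x)
    intro g hg
    rw [mem_fongStab_iff]
    rw [Subgroup.mem_centralizer_iff] at hg
    have h1 : g * (x : G) * g⁻¹ = (x : G) := by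
      have := hg (x : G) (Set.mem_singleton _)
      rw [← this, mul_inv_cancel_right]
    have h2 : (⟨g * (x : G) * g⁻¹, hN.conj_mem (x : G) x.2 g⟩ : N) = x := Subtype.ext h1
    rw [h2]

/-- the intersection of `N` with the centralizer of an element of `N` -/
theorem map_centralizer_eq_inf (x : N) :
    (Subgroup.centralizer ({x} : Set N)).map N.subtype =
      N ⊓ Subgroup.centralizer ({(x : G)} : Set G) := by
  ext g
  simp only [Subgroup.mem_map, Subgroup.mem_inf, Subgroup.mem_centralizer_iff,
    Set.mem_singleton_iff, forall_eq, Subgroup.coe_subtype]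
  constructor
  · rintro ⟨n, hn, rfl⟩
    refine ⟨n.2, ?_⟩
    have := congrArg Subtype.val hn
    simpa using this
  · rintro ⟨hgN, hg⟩
    exact ⟨⟨g, hgN⟩, Subtype.ext hg, rfl⟩

/-- the `p`-part of the order of the centralizer of a Fong class -/
theorem factorization_card_centralizer_of_fong (hp : p.Prime) (x : N)
    (hidx : ¬ p ∣ (fongStab N x).index) :
    (Nat.card (Subgroup.centralizer ({(x : G)} : Set G))).factorization p =
      (Nat.card (Subgroup.centralizer ({x} : Set N))).factorization p +
        N.index.factorization p := by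
  obtain ⟨C, hC⟩ : ∃ C : Subgroup G, C = Subgroup.centralizer ({(x : G)} : Set G) := ⟨_, rfl⟩
  rw [← hC]
  have h1 : N.relIndex (fongStab N x) * (fongStab N x).index = N.index :=
    Subgroup.relIndex_mul_index (le_fongStab N x)
  have h2 : N.relIndex (fongStab N x) = N.relIndex C := by
    rw [fongStab_eq_sup, ← hC, Subgroup.relIndex_sup_left]
  have h3 : Nat.card (N ⊓ C : Subgroup G) * N.relIndex C = Nat.card C := by
    have h := Subgroup.card_mul_index ((N ⊓ C).subgroupOf C)
    have e : Nat.card ((N ⊓ C).subgroupOf C) = Nat.card (N ⊓ C : Subgroup G) :=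
      Nat.card_congr (Subgroup.subgroupOfEquivOfLe inf_le_right).toEquiv
    rw [e] at h
    have e2 : ((N ⊓ C).subgroupOf C).index = N.relIndex C := by
      show (N ⊓ C).relIndex C = N.relIndex C
      exact Subgroup.inf_relIndex_right N C
    rw [e2] at h
    exact h
  have h4 : Nat.card (N ⊓ C : Subgroup G) = Nat.card (Subgroup.centralizer ({x} : Set N)) := by
    rw [hC, ← map_centralizer_eq_inf, Subgroup.card_map_of_injective N.subtype_injective]
  have hr0 : N.relIndex C ≠ 0 := by
    intro h0
    rw [h0, mul_zero] at h3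
    exact Nat.card_pos.ne' h3.symm
  have ht0 : (fongStab N x).index ≠ 0 := Subgroup.index_ne_zero_of_finite
  have hc0 : Nat.card (N ⊓ C : Subgroup G) ≠ 0 := Nat.card_pos.ne'
  have h5 : N.index.factorization p = (N.relIndex C).factorization p := by
    rw [← h1, h2, Nat.factorization_mul hr0 ht0, Finsupp.add_apply,
      Nat.factorization_eq_zero_of_not_dvd hidx, add_zero]
  rw [← h3, Nat.factorization_mul hc0 hr0, Finsupp.add_apply, h4, h5]

end Fong2

end Cfsg.Agent.Helper18
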