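import Mathlib
import Cfsg.Prelude.Def_Blocks
import Cfsg.Agent.Lib.Helper18.BlockQuotP
import Cfsg.Agent.Lib.Helper24.CharQuotient
import Cfsg.Agent.Lib.Helper24.CharCentral
import Cfsg.Agent.Lib.Helper24.CharLinear
import Cfsg.Agent.Lib.Helper23.BlockDefectGroup2

/-!
# Blocks of quotient groups and their defect groups (helper18's library)
-/

set_option autoImplicit false

namespace Cfsg.Agent.Helper18

open Cfsg Cfsg.Agent.Helper24 Cfsg.Agent.Helper23.Blk
open scoped ComplexConjugate

universe u

section CentralCharQuot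

variable {G : Type u} [Group G] [Finite G] (N : Subgroup G) [N.Normal]

/-- The central character of an inflated function is a natural multiple of the central character
in the quotient; the multiplier compares the two centralizers. -/
theorem centralChar_comp_mk_mul (χ : G ⧸ N → ℂ) (g : G) :
    ∃ c : ℕ, centralChar (χ ∘ (QuotientGroup.mk : G → G ⧸ N)) g =
        (c : ℂ) * centralChar χ (g : G ⧸ N) ∧
      Nat.card (Subgroup.centralizer ({(g : G ⧸ N)} : Set (G ⧸ N))) * Nat.card N =
        c * Nat.card (Subgroup.centralizer ({g} : Set G)) := by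
  set C := Subgroup.centralizer ({g} : Set G) with hC
  set Cbar := Subgroup.centralizer ({(g : G ⧸ N)} : Set (G ⧸ N)) with hCbar
  set C' := Cbar.comap (QuotientGroup.mk' N) with hC'
  have hle : C ≤ C' := by
    intro x hx
    rw [hC', Subgroup.mem_comap, hCbar, Subgroup.mem_centralizer_iff]
    intro z hz
    rw [Set.mem_singleton_iff] at hz
    rw [hz]
    have := Subgroup.mem_centralizer_iff.mp hx g (Set.mem_singleton g)
    show (g : G ⧸ N) * (x : G ⧸ N) = (x : G ⧸ N) * (g : G ⧸ N)
    rw [← QuotientGroup.mk_mul, ← QuotientGroup.mk_mul, this]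
  have hidx : C'.index = Cbar.index :=
    Subgroup.index_comap_of_surjective _ (QuotientGroup.mk'_surjective N)
  have hrel : C.relIndex C' * C'.index = C.index := Subgroup.relIndex_mul_index hle
  refine ⟨C.relIndex C', ?_, ?_⟩
  · unfold centralChar
    simp only [Function.comp_apply, QuotientGroup.mk_one]
    rw [← hC, ← hCbar, ← hrel, hidx]
    push_cast
    ring
  · have h1 : Nat.card G = Nat.card C * C.index := (Subgroup.card_mul_index C).symm
    have h2 : Nat.card (G ⧸ N) = Nat.card Cbar * Cbar.index := (Subgroup.card_mul_index Cbar).symm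
    have h3 : Nat.card G = Nat.card (G ⧸ N) * Nat.card N :=
      Subgroup.card_eq_card_quotient_mul_card_subgroup N
    have hpos : 0 < Cbar.index := Nat.pos_of_ne_zero Subgroup.index_ne_zero_of_finite
    have h4 : (Nat.card Cbar * Nat.card N) * Cbar.index =
        (C.relIndex C' * Nat.card C) * Cbar.index := by
      calc (Nat.card Cbar * Nat.card N) * Cbar.index
          = (Nat.card Cbar * Cbar.index) * Nat.card N := by ring
        _ = Nat.card G := by rw [← h2, ← h3]
        _ = Nat.card C * (C.relIndex C' * C'.index) := by rw [hrel, ← h1]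
        _ = (C.relIndex C' * Nat.card C) * Cbar.index := by rw [hidx]; ring
    exact Nat.eq_of_mul_eq_mul_right hpos h4

end CentralCharQuot

section DefectQuot

variable {G : Type u} [Group G] [Finite G] {p : ℕ} {M : Ideal AlgInt}

/-- cardinality of the image of a `p`-subgroup in a quotient -/
theorem card_map_mk_ge [Fact p.Prime] (N : Subgroup G) [N.Normal] {P : Subgroup G}
    (hP : IsPGroup p P) {a : ℕ} (ha : Nat.card P = p ^ a) :
    p ^ (a - (Nat.card N).factorization p) ≤ Nat.card (P.map (QuotientGroup.mk' N)) := by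
  have hp : p.Prime := Fact.out
  set f : P →* G ⧸ N := (QuotientGroup.mk' N).domRestrict P with hf
  have hrange : f.range = P.map (QuotientGroup.mk' N) := MonoidHom.domRestrict_range _ _
  have hker : f.ker = N.subgroupOf P := by
    rw [hf, MonoidHom.ker_domRestrict, QuotientGroup.ker_mk']
  have h1 : Nat.card P = Nat.card f.ker * Nat.card f.range := by
    rw [← Subgroup.index_ker f]
    exact (Subgroup.card_mul_index f.ker).symm
  have hkp : IsPGroup p f.ker := hP.to_subgroup _
  obtain ⟨k, hk⟩ := IsPGroup.iff_card.mp hkp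
  have hkle : k ≤ (Nat.card N).factorization p := by
    have hdvd : Nat.card f.ker ∣ Nat.card N := by
      rw [hker]
      have e : (N ⊓ P).subgroupOf P = N.subgroupOf P := Subgroup.inf_subgroupOf_right N P
      rw [← e, Nat.card_congr (Subgroup.subgroupOfEquivOfLe (inf_le_right : N ⊓ P ≤ P)).toEquiv]
      exact Subgroup.card_dvd_of_le inf_le_left
    rw [hk] at hdvd
    exact (hp.pow_dvd_iff_le_factorization (Nat.card_pos).ne').mp hdvd
  rw [← hrange]
  rw [ha, hk] at h1
  set n := (Nat.card N).factorization p
  set X := Nat.card f.range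
  by_cases hna : n ≤ a
  · have h2 : p ^ (a - n) * p ^ k ≤ X * p ^ k := by
      calc p ^ (a - n) * p ^ k ≤ p ^ (a - n) * p ^ n :=
            Nat.mul_le_mul_left _ (Nat.pow_le_pow_right hp.pos hkle)
        _ = p ^ a := by rw [← pow_add, Nat.sub_add_cancel hna]
        _ = X * p ^ k := by rw [h1, mul_comm]
    exact Nat.le_of_mul_le_mul_right h2 (pow_pos hp.pos k)
  · push Not at hna
    rw [Nat.sub_eq_zero_of_le hna.le, pow_zero]
    exact Nat.card_pos

/-- If a block `B̄` of `G ⧸ N` is contained in the block `B` of `G`, then every defect group of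
`B̄` is contained in the image of a defect group of `B`.  More precisely, every defect group
of `B` has a conjugate doing the job. -/
theorem subConj_defectGroup_quot (hM : IsPModular p M) (N : Subgroup G) [N.Normal]
    {Bbar : Set (IrrCharacter (G ⧸ N))} (hBbar : IsPBlock M Bbar)
    {B : Set (IrrCharacter G)} (hB : IsPBlock M B)
    (hsub : ∀ χ ∈ Bbar, ∀ ψ : IrrCharacter G,
      (ψ : G → ℂ) = (χ : G ⧸ N → ℂ) ∘ QuotientGroup.mk → ψ ∈ B)
    {Dbar : Subgroup (G ⧸ N)} (hDbar : IsDefectGroup p M Bbar Dbar)
    {P : Subgroup G} (hP : IsDefectGroup p M B P) :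
    SubConj Dbar (P.map (QuotientGroup.mk' N)) := by
  classical
  haveI : Fact p.Prime := ⟨hM.1⟩
  haveI hMp : M.IsPrime := hM.2.1.isPrime
  have hp := hM.1
  obtain ⟨h, hh, hPle, hPc⟩ := (isDefectGroup_iff hM hB).1 hP
  obtain ⟨χbar, hχbar⟩ := block_nonempty hM hBbar
  have hχB : ((inflateEquiv N χbar).1 : IrrCharacter G) ∈ B := hsub χbar hχbar _ rfl
  have hω := hh.2.2 _ hχB
  rw [inflateEquiv_coe] at hω
  obtain ⟨c, hc2, hc3⟩ := centralChar_comp_mk_mul N (χbar : G ⧸ N → ℂ) h
  rw [hc2] at hω
  have hωbar : ¬ MemLocalIdeal M (centralChar (χbar : G ⧸ N → ℂ) (h : G ⧸ N)) :=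
    fun hcon => hω (memLocalIdeal_mul_left (memLocalRing_natCast c) hcon)
  have hcp : ¬ p ∣ c := by
    intro hd
    apply hω
    haveI : Fintype (G ⧸ N) := Fintype.ofFinite _
    letI : Fintype (IrrCharacter (G ⧸ N)) := irrFintype
    exact memLocalIdeal_mul_right ((memLocalIdeal_natCast_iff hM c).2 hd)
      (memLocalRing_centralChar χbar _)
  set Cbar := Subgroup.centralizer ({(h : G ⧸ N)} : Set (G ⧸ N)) with hCbar
  have hPp : IsPGroup p P := isPGroup_of_isDefectGroup hM hP
  have hPbar_le : P.map (QuotientGroup.mk' N) ≤ Cbar := by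
    rintro _ ⟨x, hx, rfl⟩
    rw [hCbar, Subgroup.mem_centralizer_iff]
    intro z hz
    rw [Set.mem_singleton_iff] at hz
    rw [hz]
    have := Subgroup.mem_centralizer_iff.mp (hPle hx) h (Set.mem_singleton h)
    show (h : G ⧸ N) * (x : G ⧸ N) = (x : G ⧸ N) * (h : G ⧸ N)
    rw [← QuotientGroup.mk_mul, ← QuotientGroup.mk_mul, this]
  have hPbar_p : IsPGroup p (P.map (QuotientGroup.mk' N)) := hPp.map _
  obtain ⟨Q, hQ⟩ := (hPbar_p.comap_subtype (K := Cbar)).exists_le_sylow
  have hsc := subConj_of_centralChar hM hBbar hDbar ⟨χbar, hχbar, hωbar⟩ Q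
  have heq : (Q : Subgroup Cbar).map Cbar.subtype = P.map (QuotientGroup.mk' N) := by
    symm
    apply Subgroup.eq_of_le_of_card_ge
    · intro x hx
      refine ⟨⟨x, hPbar_le hx⟩, hQ ?_, rfl⟩
      rw [Subgroup.mem_comap]
      exact hx
    · rw [Subgroup.card_map_of_injective (Subgroup.subtype_injective _), Q.card_eq_multiplicity]
      have hd : blockDefect p B = (Nat.card (Subgroup.centralizer ({h} : Set G))).factorization p :=
        blockDefect_eq_of_isDefectClass hM hB hh
      rw [hd] at hPc
      have hfac : (Nat.card Cbar).factorization p + (Nat.card N).factorization p =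
          (Nat.card (Subgroup.centralizer ({h} : Set G))).factorization p := by
        have h0 : c ≠ 0 := by
          rintro rfl
          exact hcp (dvd_zero p)
        have := congrArg (fun m => m.factorization p) hc3
        rw [Nat.factorization_mul (Nat.card_pos).ne' (Nat.card_pos).ne',
          Nat.factorization_mul h0 (Nat.card_pos).ne', Finsupp.add_apply, Finsupp.add_apply,
          Nat.factorization_eq_zero_of_not_dvd hcp, zero_add] at this
        exact this
      have hge := card_map_mk_ge N hPp hPc
      have : (Nat.card Cbar).factorization p =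
          (Nat.card (Subgroup.centralizer ({h} : Set G))).factorization p -
            (Nat.card N).factorization p := by omega
      rw [this]
      exact hge
  rw [heq] at hsc
  exact hsc

end DefectQuot

end Cfsg.Agent.Helper18
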