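import Mathlib
import Cfsg.Prelude.Def_Blocks
import Cfsg.Agent.Lib.Helper18.BlockQuot2
import Cfsg.Agent.Lib.Helper18.BlockFong2
import Cfsg.Agent.Lib.Helper23.BlockFirstMain

/-!
# Block idempotents and quotient groups (helper18's library)
-/

set_option autoImplicit false

namespace Cfsg.Agent.Helper18

open Cfsg Cfsg.Agent.Helper24 Cfsg.Agent.Helper23.Blk
open scoped ComplexConjugate

universe u

section CosetSum

variable {G : Type u} [Group G] [Fintype G] (N : Subgroup G) [N.Normal]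

open scoped Classical in
/-- The sum of an irreducible character over a coset of a normal subgroup. -/
theorem sum_coset_irr [Fintype N] (χ : IrrCharacter G) (y : G) :
    ∑ u : N, (χ : G → ℂ) (y * u) =
      if (∀ n ∈ N, (χ : G → ℂ) n = (χ : G → ℂ) 1) then
        (Nat.card N : ℂ) * (χ : G → ℂ) y else 0 := by
  classical
  haveI : Fintype (G ⧸ N) := Fintype.ofFinite _
  letI : Fintype (IrrCharacter (G ⧸ N)) := irrFintype
  have hA : ∑ u : N, (χ : G → ℂ) (y * u) =
      ∑ g : G, (χ : G → ℂ) (y * g) * (if (g : G ⧸ N) = 1 then (1 : ℂ) else 0) := by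
    simp only [mul_ite, mul_one, mul_zero, QuotientGroup.eq_one_iff]
    rw [← Finset.sum_filter]
    exact (Finset.sum_subtype (Finset.univ.filter (· ∈ N)) (fun x => by simp)
      (fun g => (χ : G → ℂ) (y * g))).symm
  have hB : ∀ g : G, (if (g : G ⧸ N) = 1 then (1 : ℂ) else 0) =
      ∑ ψ : IrrCharacter (G ⧸ N), idemCoeff (ψ : G ⧸ N → ℂ) (g : G ⧸ N) := by
    intro g
    rw [← synth_one (G := G ⧸ N) (g : G ⧸ N)]
    unfold synth
    simp only [one_mul]
  rw [hA]
  simp only [hB, Finset.mul_sum]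
  rw [Finset.sum_comm]
  have hχc := isClassFunction_of_isIrrCharacter χ.2
  have hC : ∀ ψ : IrrCharacter (G ⧸ N),
      ∑ g : G, (χ : G → ℂ) (y * g) * idemCoeff (ψ : G ⧸ N → ℂ) (g : G ⧸ N) =
      if ((inflateEquiv N ψ).1 : IrrCharacter G) = χ then
        (Nat.card N : ℂ) * (χ : G → ℂ) y else 0 := by
    intro ψ
    obtain ⟨ψ', hψ'⟩ : ∃ ψ' : IrrCharacter G, ψ' = (inflateEquiv N ψ).1 := ⟨_, rfl⟩
    have hval : ∀ g : G, (ψ : G ⧸ N → ℂ) (g : G ⧸ N) = (ψ' : G → ℂ) g := by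
      intro g
      rw [hψ', inflateEquiv_coe]
      rfl
    have hone : (ψ : G ⧸ N → ℂ) 1 = (ψ' : G → ℂ) 1 := by
      rw [← hval 1, QuotientGroup.mk_one]
    unfold idemCoeff
    have h1 : ∀ g : G, (χ : G → ℂ) (y * g) * ((Nat.card (G ⧸ N) : ℂ)⁻¹ *
        ((ψ : G ⧸ N → ℂ) 1 * conj ((ψ : G ⧸ N → ℂ) (g : G ⧸ N)))) =
        (Nat.card (G ⧸ N) : ℂ)⁻¹ * (ψ' : G → ℂ) 1 *
          ((ψ' : G → ℂ) g⁻¹ * (χ : G → ℂ) ((g⁻¹)⁻¹ * y)) := by
      intro g
      rw [hval, hone, irr_inv (isCharacter_of_isIrrCharacter ψ'.2) g, inv_inv]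
      have hcl : (χ : G → ℂ) (y * g) = (χ : G → ℂ) (g * y) := by
        have := hχc (y * g) g
        rw [← this]
        congr 1
        group
      rw [hcl]
      ring
    rw [Finset.sum_congr rfl (fun g _ => h1 g), ← Finset.mul_sum]
    have hre := Equiv.sum_comp (Equiv.inv G) (fun g => (ψ' : G → ℂ) g * (χ : G → ℂ) (g⁻¹ * y))
    simp only [Equiv.inv_apply] at hre
    rw [hre]
    rw [generalized_orthogonality χ.2 ψ'.2 y, ← hψ']
    by_cases he : ψ' = χ
    · have he' : (ψ' : G → ℂ) = (χ : G → ℂ) := congrArg _ he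
      rw [if_pos he', if_pos he, he']
      have hχ1 := irr_one_ne_zero χ.2
      have hcard : (Nat.card G : ℂ) = (Nat.card (G ⧸ N) : ℂ) * (Nat.card N : ℂ) := by
        have := Subgroup.card_eq_card_quotient_mul_card_subgroup N
        exact_mod_cast this
      have hq : (Nat.card (G ⧸ N) : ℂ) ≠ 0 := card_ne_zero
      rw [hcard]
      field_simp
    · have he' : ¬ (ψ' : G → ℂ) = (χ : G → ℂ) := fun h => he (Subtype.ext h)
      rw [if_neg he', if_neg he, mul_zero]
  rw [Finset.sum_congr rfl (fun ψ _ => hC ψ)]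
  by_cases hk : ∀ n ∈ N, (χ : G → ℂ) n = (χ : G → ℂ) 1
  · rw [if_pos hk]
    set ψ₀ := (inflateEquiv N).symm ⟨χ, hk⟩ with hψ₀
    have h0 : ((inflateEquiv N ψ₀).1 : IrrCharacter G) = χ := by
      rw [hψ₀, Equiv.apply_symm_apply]
    rw [Finset.sum_eq_single ψ₀]
    · rw [if_pos h0]
    · intro ψ _ hne
      rw [if_neg]
      intro h
      apply hne
      apply (inflateEquiv N).injective
      apply Subtype.ext
      rw [h, h0]
    · intro h
      exact absurd (Finset.mem_univ _) h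
  · rw [if_neg hk]
    apply Finset.sum_eq_zero
    intro ψ _
    rw [if_neg]
    intro h
    apply hk
    rw [← h]
    exact (inflateEquiv N ψ).2

/-- The image in the group algebra of `G ⧸ N` of the idempotent of a set `B` of irreducible
characters of `G`. -/
theorem blockCoeff_quot_eq_sum [Fintype N] (B : Set (IrrCharacter G)) (y : G) :
    blockCoeff {ψ : IrrCharacter (G ⧸ N) | ((inflateEquiv N ψ).1 : IrrCharacter G) ∈ B}
      (y : G ⧸ N) = ∑ u : N, blockCoeff B (y * u) := by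
  classical
  haveI : Fintype (G ⧸ N) := Fintype.ofFinite _
  letI : Fintype (IrrCharacter (G ⧸ N)) := irrFintype
  letI : Fintype (IrrCharacter G) := irrFintype
  have hfs : ∀ z : G, blockCoeff B z = (Nat.card G : ℂ)⁻¹ *
      ∑ χ : IrrCharacter G, if χ ∈ B then (χ : G → ℂ) 1 * conj ((χ : G → ℂ) z) else 0 := by
    intro z
    unfold blockCoeff
    rw [finsum_mem_def, finsum_eq_sum_of_fintype]
    congr 1
  have hfq : blockCoeff {ψ : IrrCharacter (G ⧸ N) | ((inflateEquiv N ψ).1 : IrrCharacter G) ∈ B}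
      (y : G ⧸ N) = (Nat.card (G ⧸ N) : ℂ)⁻¹ *
      ∑ ψ : IrrCharacter (G ⧸ N), if ((inflateEquiv N ψ).1 : IrrCharacter G) ∈ B then
        (ψ : G ⧸ N → ℂ) 1 * conj ((ψ : G ⧸ N → ℂ) (y : G ⧸ N)) else 0 := by
    unfold blockCoeff
    rw [finsum_mem_def, finsum_eq_sum_of_fintype]
    congr 1
  rw [hfq]
  simp only [hfs]
  rw [← Finset.mul_sum, Finset.sum_comm]
  have h1 : ∀ χ : IrrCharacter G, ∑ u : N,
      (if χ ∈ B then (χ : G → ℂ) 1 * conj ((χ : G → ℂ) (y * u)) else 0) =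
      if (∀ n ∈ N, (χ : G → ℂ) n = (χ : G → ℂ) 1) then
        (if χ ∈ B then (Nat.card N : ℂ) * ((χ : G → ℂ) 1 * conj ((χ : G → ℂ) y)) else 0)
      else 0 := by
    intro χ
    by_cases hχ : χ ∈ B
    · simp only [if_pos hχ]
      rw [← Finset.mul_sum, ← map_sum, sum_coset_irr N χ y]
      split_ifs
      · rw [map_mul, Complex.conj_natCast]
        ring
      · rw [map_zero, mul_zero]
    · simp only [if_neg hχ]
      simp
  rw [Finset.sum_congr rfl (fun χ _ => h1 χ)]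
  have h2 : (∑ χ : IrrCharacter G, if (∀ n ∈ N, (χ : G → ℂ) n = (χ : G → ℂ) 1) then
        (if χ ∈ B then (Nat.card N : ℂ) * ((χ : G → ℂ) 1 * conj ((χ : G → ℂ) y)) else 0)
      else 0) = ∑ ψ : IrrCharacter (G ⧸ N),
        (if ((inflateEquiv N ψ).1 : IrrCharacter G) ∈ B then
          (Nat.card N : ℂ) * ((((inflateEquiv N ψ).1 : IrrCharacter G) : G → ℂ) 1 *
            conj ((((inflateEquiv N ψ).1 : IrrCharacter G) : G → ℂ) y)) else 0) := by
    rw [← Finset.sum_filter]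
    rw [Finset.sum_subtype (p := fun χ : IrrCharacter G =>
        ∀ n ∈ N, (χ : G → ℂ) n = (χ : G → ℂ) 1) (Finset.univ.filter
      (fun χ : IrrCharacter G => ∀ n ∈ N, (χ : G → ℂ) n = (χ : G → ℂ) 1))
      (fun x => by simp)
      (fun χ => if χ ∈ B then (Nat.card N : ℂ) * ((χ : G → ℂ) 1 * conj ((χ : G → ℂ) y)) else 0)]
    exact (Equiv.sum_comp (inflateEquiv N) (fun x : {χ : IrrCharacter G //
      ∀ n ∈ N, (χ : G → ℂ) n = (χ : G → ℂ) 1} => if (x.1 : IrrCharacter G) ∈ B then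
        (Nat.card N : ℂ) * (((x.1 : IrrCharacter G) : G → ℂ) 1 *
          conj (((x.1 : IrrCharacter G) : G → ℂ) y)) else 0)).symm
  rw [h2, Finset.mul_sum, Finset.mul_sum]
  apply Finset.sum_congr rfl
  intro ψ _
  by_cases hψ : ((inflateEquiv N ψ).1 : IrrCharacter G) ∈ B
  · rw [if_pos hψ, if_pos hψ, inflateEquiv_coe]
    simp only [Function.comp_apply, QuotientGroup.mk_one]
    have hcard : (Nat.card G : ℂ) = (Nat.card (G ⧸ N) : ℂ) * (Nat.card N : ℂ) := by
      have := Subgroup.card_eq_card_quotient_mul_card_subgroup N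
      exact_mod_cast this
    have hq : (Nat.card (G ⧸ N) : ℂ) ≠ 0 := card_ne_zero
    have hn : (Nat.card N : ℂ) ≠ 0 := card_ne_zero
    rw [hcard]
    field_simp
  · rw [if_neg hψ, if_neg hψ, mul_zero, mul_zero]

end CosetSum

section ConjMap

variable {G : Type u} [Group G] (N : Subgroup G) [N.Normal]

/-- conjugation commutes with the passage to the quotient group -/
theorem map_mk_map_conj (P : Subgroup G) (c : G) :
    (P.map (MulAut.conj c).toMonoidHom).map (QuotientGroup.mk' N) =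
      (P.map (QuotientGroup.mk' N)).map (MulAut.conj (c : G ⧸ N)).toMonoidHom := by
  rw [Subgroup.map_map, Subgroup.map_map]
  congr 1

end ConjMap

section NormalP

variable {G : Type u} [Group G] [Finite G] {p : ℕ} {M : Ideal AlgInt}

/-- For a normal `p`-subgroup `N`, every block `B` of `G` contains a block of `G ⧸ N` one of
whose defect groups is the image of a defect group of `B`. -/
theorem exists_block_quot_defectGroup (hM : IsPModular p M) (N : Subgroup G) [N.Normal]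
    (hN : IsPGroup p N) {B : Set (IrrCharacter G)} (hB : IsPBlock M B) :
    ∃ Bbar : Set (IrrCharacter (G ⧸ N)), IsPBlock M Bbar ∧
      (∀ χ ∈ Bbar, ∀ ψ : IrrCharacter G,
        (ψ : G → ℂ) = (χ : G ⧸ N → ℂ) ∘ QuotientGroup.mk → ψ ∈ B) ∧
      ∃ P : Subgroup G, IsDefectGroup p M B P ∧
        IsDefectGroup p M Bbar (P.map (QuotientGroup.mk' N)) := by
  classical
  haveI : Fintype G := Fintype.ofFinite G
  haveI : Fintype N := Fintype.ofFinite N
  haveI hMp : M.IsPrime := hM.2.1.isPrime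
  obtain ⟨P, hP⟩ := exists_isDefectGroup hM hB
  obtain ⟨h, hh, hPle, hPc⟩ := (isDefectGroup_iff hM hB).1 hP
  have hreg : ¬ p ∣ orderOf h := by
    intro hd
    apply hh.2.1
    rw [blockCoeff_eq_zero_of_pSingular hM hB hd]
    exact memLocalIdeal_zero ne_top
  obtain ⟨A, hA⟩ : ∃ A : Set (IrrCharacter (G ⧸ N)),
      A = {ψ | ((inflateEquiv N ψ).1 : IrrCharacter G) ∈ B} := ⟨_, rfl⟩
  have hAcoeff : blockCoeff A (h : G ⧸ N) = blockCoeff B h := by
    rw [hA, blockCoeff_quot_eq_sum N B h, sum_blockCoeff_coset hM hB N hN hreg]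
  have hAU : ∀ θ ∈ A, blockOf M (θ : G ⧸ N → ℂ) ⊆ A := by
    intro θ hθ θ' hθ'
    have h1 := sameBlock_comp_mk N hθ'
    rw [hA] at hθ ⊢
    obtain ⟨χ₀, rfl⟩ := hB
    exact sameBlock_trans hθ h1
  obtain ⟨θ, hθA, hθ⟩ := exists_block_of_not_memLocalIdeal hMp hAU (h : G ⧸ N)
    (by rw [hAcoeff]; exact hh.2.1)
  have hBbar : IsPBlock M (blockOf M (θ : G ⧸ N → ℂ)) := ⟨θ, rfl⟩
  have hsub : ∀ χ ∈ blockOf M (θ : G ⧸ N → ℂ), ∀ ψ : IrrCharacter G,
      (ψ : G → ℂ) = (χ : G ⧸ N → ℂ) ∘ QuotientGroup.mk → ψ ∈ B := by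
    intro χ hχ ψ hψ
    have h1 : ψ = (inflateEquiv N χ).1 := Subtype.ext hψ
    have h2 := hAU θ hθA hχ
    rw [hA] at h2
    rw [h1]
    exact h2
  refine ⟨blockOf M (θ : G ⧸ N → ℂ), hBbar, hsub, ?_⟩
  obtain ⟨D0, hD0⟩ := exists_isDefectGroup hM hBbar
  have hsc1 := subConj_defectGroup_quot hM N hBbar hB hsub hD0 hP
  have hPbar_le : P.map (QuotientGroup.mk' N) ≤
      Subgroup.centralizer ({(h : G ⧸ N)} : Set (G ⧸ N)) := by
    rintro _ ⟨x, hx, rfl⟩
    rw [Subgroup.mem_centralizer_iff]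
    intro z hz
    rw [Set.mem_singleton_iff] at hz
    rw [hz]
    have := Subgroup.mem_centralizer_iff.mp (hPle hx) h (Set.mem_singleton h)
    show (h : G ⧸ N) * (x : G ⧸ N) = (x : G ⧸ N) * (h : G ⧸ N)
    rw [← QuotientGroup.mk_mul, ← QuotientGroup.mk_mul, this]
  have hsc2 := subConj_of_blockCoeff hM hBbar hD0 hθ
    ((isPGroup_of_isDefectGroup hM hP).map (QuotientGroup.mk' N)) hPbar_le
  obtain ⟨cbar, hc⟩ := map_conj_eq_of_subConj hsc2 (card_le_of_subConj hsc1)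
  obtain ⟨c, rfl⟩ := QuotientGroup.mk_surjective cbar
  refine ⟨P.map (MulAut.conj c).toMonoidHom, isDefectGroup_conj hM hB hP c, ?_⟩
  rw [map_mk_map_conj, hc]
  exact hD0

/-- For a normal `p`-subgroup `N`, every block `B` of `G` contains a block of `G ⧸ N` whose
defect groups are exactly the images of the defect groups of `B`. -/
theorem exists_block_quot_defectGroup_iff (hM : IsPModular p M) (N : Subgroup G) [N.Normal]
    (hN : IsPGroup p N) {B : Set (IrrCharacter G)} (hB : IsPBlock M B) :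
    ∃ Bbar : Set (IrrCharacter (G ⧸ N)), IsPBlock M Bbar ∧
      (∀ χ ∈ Bbar, ∀ ψ : IrrCharacter G,
        (ψ : G → ℂ) = (χ : G ⧸ N → ℂ) ∘ QuotientGroup.mk → ψ ∈ B) ∧
      ∀ Dbar : Subgroup (G ⧸ N), IsDefectGroup p M Bbar Dbar ↔
        ∃ P : Subgroup G, IsDefectGroup p M B P ∧ Dbar = P.map (QuotientGroup.mk' N) := by
  obtain ⟨Bbar, hBbar, hsub, P, hP, hPbar⟩ := exists_block_quot_defectGroup hM N hN hB
  refine ⟨Bbar, hBbar, hsub, fun Dbar => ⟨fun hD => ?_, ?_⟩⟩
  · obtain ⟨cbar, hc⟩ := isDefectGroup_conj_of hM hBbar hD hPbar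
    obtain ⟨c, rfl⟩ := QuotientGroup.mk_surjective cbar
    refine ⟨P.map (MulAut.conj c).toMonoidHom, isDefectGroup_conj hM hB hP c, ?_⟩
    rw [map_mk_map_conj, hc]
  · rintro ⟨P', hP', rfl⟩
    obtain ⟨c, hc⟩ := isDefectGroup_conj_of hM hB hP' hP
    rw [← hc, map_mk_map_conj]
    exact isDefectGroup_conj hM hBbar hPbar _

end NormalP

end Cfsg.Agent.Helper18
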