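import Mathlib
import Cfsg.Prelude.Def_Blocks
import Cfsg.Agent.Lib.Helper5.CharBasic
import Cfsg.Agent.Lib.Helper23.Schur
import Cfsg.Agent.Lib.Helper23.BlockDefectGroup
import Cfsg.Agent.Lib.Helper23.BlockSecondMain
import Cfsg.Agent.Lib.Helper24.CharIntegral
import Cfsg.Agent.S0165
import Cfsg.Agent.Lib.Helper27.Timmesfeld
import Cfsg.Agent.Lib.Helper5.CharCenter

/-!
# Twisting a character by a character of a normal `p`-subgroup (helper18's library)

`P` is a normal `p`-subgroup of `G` centralized by all `p`-regular elements.  Every element of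
`G` has at most one decomposition `u * y` with `u ∈ P` and `y` `p`-regular; for functions `a`
(supported on `P`) and `β` the function `twist p a β` takes the value `a u * β y` at `u * y` and
vanishes at the elements without such a decomposition.
-/

set_option autoImplicit false
set_option linter.unusedSectionVars false

namespace Cfsg.Agent.Helper18.Twist

open Cfsg Cfsg.Agent.Helper24 Cfsg.Agent.Helper5
open scoped ComplexConjugate

universe u

section Basic

variable {G : Type u} [Group G] [Fintype G]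

/-- the twist of `β` by `a` -/
noncomputable def twist (p : ℕ) (a β : G → ℂ) : G → ℂ :=
  fun g => ∑ u : G, if p ∣ orderOf (u⁻¹ * g) then 0 else a u * β (u⁻¹ * g)

/-- the standing hypotheses on the normal `p`-subgroup `P` -/
structure Setup (p : ℕ) (P : Subgroup G) : Prop where
  hp : p.Prime
  hP : IsPGroup p P
  normal : P.Normal
  reg : ∀ y : G, ¬ p ∣ orderOf y → y ∈ Subgroup.centralizer (P : Set G)

variable {p : ℕ} {P : Subgroup G}

theorem Setup.commute (S : Setup p P) {u y : G} (hu : u ∈ P) (hy : ¬ p ∣ orderOf y) :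
    Commute u y := by
  have := Subgroup.mem_centralizer_iff.mp (S.reg y hy) u hu
  exact this

theorem Setup.orderOf_eq (S : Setup p P) {u : G} (hu : u ∈ P) : ∃ k : ℕ, orderOf u = p ^ k := by
  haveI : Fact p.Prime := ⟨S.hp⟩
  obtain ⟨k, hk⟩ := (IsPGroup.iff_orderOf.mp S.hP) ⟨u, hu⟩
  exact ⟨k, by rw [← hk, Subgroup.orderOf_mk]⟩

/-- a decomposition `g = u * y` is unique -/
theorem Setup.dvd_orderOf (S : Setup p P) {u u₀ y : G} (hu : u ∈ P) (hu₀ : u₀ ∈ P)
    (hy : ¬ p ∣ orderOf y) (hne : u ≠ u₀) : p ∣ orderOf (u⁻¹ * (u₀ * y)) := by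
  have hw : u⁻¹ * u₀ ∈ P := P.mul_mem (P.inv_mem hu) hu₀
  have hw1 : u⁻¹ * u₀ ≠ 1 := by
    intro h
    apply hne
    have : u₀ = u := by
      calc u₀ = u * (u⁻¹ * u₀) := by group
        _ = u := by rw [h, mul_one]
    exact this.symm
  rw [← mul_assoc]
  exact Cfsg.Agent.Helper23.Blk.dvd_orderOf_mul_of_commute S.hp hw1 (S.orderOf_eq hw) hy
    (S.commute hw hy)

theorem twist_apply_mul (S : Setup p P) {a : G → ℂ} (ha : ∀ u, u ∉ P → a u = 0) (β : G → ℂ)
    {u₀ y : G} (hu₀ : u₀ ∈ P) (hy : ¬ p ∣ orderOf y) :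
    twist p a β (u₀ * y) = a u₀ * β y := by
  classical
  unfold twist
  rw [Finset.sum_eq_single u₀]
  · rw [inv_mul_cancel_left, if_neg hy]
  · intro u _ hne
    by_cases hu : u ∈ P
    · rw [if_pos (S.dvd_orderOf hu hu₀ hy hne)]
    · rw [ha u hu, zero_mul]
      simp
  · intro h
    exact absurd (Finset.mem_univ _) h

theorem twist_eq_zero {a : G → ℂ} (ha : ∀ u, u ∉ P → a u = 0) (β : G → ℂ) {g : G}
    (hg : ∀ u ∈ P, p ∣ orderOf (u⁻¹ * g)) : twist p a β g = 0 := by
  classical
  unfold twist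
  apply Finset.sum_eq_zero
  intro u _
  by_cases hu : u ∈ P
  · rw [if_pos (hg u hu)]
  · rw [ha u hu, zero_mul]
    simp

/-- the value of a twist in terms of a decomposition -/
theorem twist_eq_of_decomp (S : Setup p P) {a : G → ℂ} (ha : ∀ u, u ∉ P → a u = 0)
    (β : G → ℂ) {g u : G} (hu : u ∈ P) (hg : ¬ p ∣ orderOf (u⁻¹ * g)) :
    twist p a β g = a u * β (u⁻¹ * g) := by
  have h := twist_apply_mul S ha β hu hg
  rwa [mul_inv_cancel_left] at h

theorem twist_isClassFunction {a β : G → ℂ} (ha : ∀ g u : G, a (g * u * g⁻¹) = a u)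
    (hβ : IsClassFunction G β) : IsClassFunction G (twist p a β) := by
  intro g x
  unfold twist
  rw [← Equiv.sum_comp (MulAut.conj x).toEquiv]
  apply Finset.sum_congr rfl
  intro u _
  have h1 : ((MulAut.conj x).toEquiv u)⁻¹ * (x * g * x⁻¹) = x * (u⁻¹ * g) * x⁻¹ := by
    simp only [MulEquiv.toEquiv_eq_coe, MulEquiv.coe_toEquiv, MulAut.conj_apply]
    group
  have h2 : orderOf (x * (u⁻¹ * g) * x⁻¹) = orderOf (u⁻¹ * g) := by
    have := (MulAut.conj x).orderOf_eq (u⁻¹ * g)
    rwa [MulAut.conj_apply] at this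
  rw [h1, h2, hβ]
  congr 2
  simp only [MulEquiv.toEquiv_eq_coe, MulEquiv.coe_toEquiv, MulAut.conj_apply]
  exact ha x u

theorem twist_add_left (a a' β : G → ℂ) : twist p (a + a') β = twist p a β + twist p a' β := by
  funext g
  unfold twist
  rw [Pi.add_apply, ← Finset.sum_add_distrib]
  apply Finset.sum_congr rfl
  intro u _
  split_ifs
  · rw [add_zero]
  · rw [Pi.add_apply, add_mul]

theorem twist_smul_left (c : ℂ) (a β : G → ℂ) : twist p (c • a) β = c • twist p a β := by
  funext g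
  unfold twist
  rw [Pi.smul_apply, smul_eq_mul, Finset.mul_sum]
  apply Finset.sum_congr rfl
  intro u _
  split_ifs
  · rw [mul_zero]
  · rw [Pi.smul_apply, smul_eq_mul, mul_assoc]

end Basic

section Divisibility

variable {G : Type u} [Group G] [Fintype G]

/-- **Core divisibility**: for an irreducible character `β` of `G` whose degree is divisible by
`p ^ (n - s)` (`p ^ n` the `p`-part of the group order), a `p'`-group `Q₀` mapping to `G` all of
whose elements have centralizers in `G` of order divisible by `p ^ (j + s)`, and a character `ψ`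
of `Q₀`: the inner product over `Q₀` of `β` and `ψ` is divisible by `p ^ j`. -/
theorem dvd_inner_of_centralizer {p n m s j d' : ℕ} (hp : p.Prime)
    (hcard : Nat.card G = p ^ n * m) (hpm : ¬ p ∣ m) (hsn : s ≤ n)
    {β : G → ℂ} (hβ : IsIrrCharacter G β) (hdeg : β 1 = ((p ^ (n - s) * d' : ℕ) : ℂ))
    {Q₀ : Type u} [Group Q₀] [Fintype Q₀] (ι : Q₀ →* G) (hQ₀ : ¬ p ∣ Nat.card Q₀)
    {ψ : Q₀ → ℂ} (hψ : IsCharacter Q₀ ψ)
    (hc : ∀ y : Q₀, p ^ (j + s) ∣ Nat.card (Subgroup.centralizer ({ι y} : Set G))) :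
    ∃ N' : ℕ, ∑ y : Q₀, β (ι y) * conj (ψ y) = (Nat.card Q₀ : ℂ) * ((p ^ j * N' : ℕ) : ℂ) := by
  classical
  letI : Fintype (IrrCharacter Q₀) := irrFintype
  have hβc := isCharacter_of_isIrrCharacter hβ
  obtain ⟨N, hN⟩ := classInner_char_nat (isCharacter_comp ι hβc) hψ
  have hQ0 : (Nat.card Q₀ : ℂ) ≠ 0 := by
    have : Nat.card Q₀ ≠ 0 := Nat.card_pos.ne'
    exact_mod_cast this
  have hsumQ : ∑ y : Q₀, β (ι y) * conj (ψ y) = (Nat.card Q₀ : ℂ) * N := by
    rw [← hN]
    unfold classInner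
    rw [← mul_assoc, mul_inv_cancel₀ hQ0, one_mul]
    rfl
  have hpj0 : ((p : ℂ) ^ j) ≠ 0 := pow_ne_zero _ (by exact_mod_cast hp.ne_zero)
  have hps0 : ((p : ℂ) ^ s) ≠ 0 := pow_ne_zero _ (by exact_mod_cast hp.ne_zero)
  have hpn0 : ((p : ℂ) ^ (n - s)) ≠ 0 := pow_ne_zero _ (by exact_mod_cast hp.ne_zero)
  have hd'0 : (d' : ℂ) ≠ 0 := by
    intro h
    obtain ⟨k, hk, hk1⟩ := irr_one_eq hβ
    rw [hdeg] at hk1
    have : (p ^ (n - s) * d' : ℕ) = k := by exact_mod_cast hk1
    have h3 : d' = 0 := by exact_mod_cast h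
    rw [h3, mul_zero] at this
    omega
  have hint : ∀ y : Q₀, IsIntegral ℤ ((m : ℂ) * β (ι y) / (p : ℂ) ^ j) := by
    intro y
    obtain ⟨c', hc'⟩ := hc y
    have hidx := Subgroup.card_mul_index (Subgroup.centralizer ({ι y} : Set G))
    rw [hcard, hc'] at hidx
    have hns : p ^ n = p ^ (n - s) * p ^ s := by
      rw [← pow_add, Nat.sub_add_cancel hsn]
    have hidxC : (p : ℂ) ^ j * c' *
        ((Subgroup.centralizer ({ι y} : Set G)).index : ℂ) = (p : ℂ) ^ (n - s) * m := by
      have h1 : p ^ (j + s) * c' * (Subgroup.centralizer ({ι y} : Set G)).index =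
          p ^ (n - s) * p ^ s * m := by rw [hidx, hns]
      have h2 : p ^ s * (p ^ j * c' * (Subgroup.centralizer ({ι y} : Set G)).index) =
          p ^ s * (p ^ (n - s) * m) := by
        rw [pow_add] at h1
        linarith
      have h3 := Nat.eq_of_mul_eq_mul_left (pow_pos hp.pos s) h2
      exact_mod_cast h3
    have h2 : (m : ℂ) * β (ι y) / (p : ℂ) ^ j =
        ((d' * c' : ℕ) : ℂ) * centralChar β (ι y) := by
      unfold centralChar
      rw [hdeg, div_eq_iff hpj0]
      push_cast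
      have h3 : (d' : ℂ) * c' * (((Subgroup.centralizer ({ι y} : Set G)).index : ℂ) *
          β (ι y) / ((p : ℂ) ^ (n - s) * d')) * (p : ℂ) ^ j =
          ((p : ℂ) ^ j * c' * ((Subgroup.centralizer ({ι y} : Set G)).index : ℂ)) *
            β (ι y) / (p : ℂ) ^ (n - s) := by
        field_simp
      rw [h3, hidxC]
      field_simp
    rw [h2]
    exact IsIntegral.mul (isIntegral_natCast _) (isIntegral_centralChar hβ _)
  have hS : IsIntegral ℤ (∑ y : Q₀, ((m : ℂ) * β (ι y) / (p : ℂ) ^ j) * conj (ψ y)) := by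
    refine IsIntegral.sum _ fun y _ => IsIntegral.mul (hint y) ?_
    have := isIntegral_of_isCharacter hψ y⁻¹
    rwa [irr_inv hψ] at this
  have hSval : (∑ y : Q₀, ((m : ℂ) * β (ι y) / (p : ℂ) ^ j) * conj (ψ y)) =
      ((m * Nat.card Q₀ * N : ℕ) : ℂ) / (p : ℂ) ^ j := by
    have : ∀ y : Q₀, ((m : ℂ) * β (ι y) / (p : ℂ) ^ j) * conj (ψ y) =
        ((m : ℂ) / (p : ℂ) ^ j) * (β (ι y) * conj (ψ y)) := by
      intro y
      ring
    simp only [this]
    rw [← Finset.mul_sum, hsumQ]
    push_cast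
    ring
  rw [hSval] at hS
  have hdiv : p ^ j ∣ N := by
    have h2 : ((m * Nat.card Q₀ * N : ℕ) : ℂ) / (p : ℂ) ^ j =
        algebraMap ℚ ℂ (((m * Nat.card Q₀ * N : ℕ) : ℚ) / ((p ^ j : ℕ) : ℚ)) := by
      simp
    rw [h2, isIntegral_algebraMap_iff (algebraMap ℚ ℂ).injective] at hS
    obtain ⟨k, hk⟩ := IsIntegrallyClosed.isIntegral_iff.mp hS
    have hpjq : ((p ^ j : ℕ) : ℚ) ≠ 0 := by
      have : p ^ j ≠ 0 := pow_ne_zero _ hp.ne_zero
      exact_mod_cast this
    have h3 : (k : ℚ) * ((p ^ j : ℕ) : ℚ) = ((m * Nat.card Q₀ * N : ℕ) : ℚ) := by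
      have : (algebraMap ℤ ℚ k) = (k : ℚ) := rfl
      rw [this] at hk
      rw [hk]
      field_simp
    have h4 : k * ((p ^ j : ℕ) : ℤ) = ((m * Nat.card Q₀ * N : ℕ) : ℤ) := by exact_mod_cast h3
    have h5 : ((p ^ j : ℕ) : ℤ) ∣ ((m * Nat.card Q₀ * N : ℕ) : ℤ) := ⟨k, by rw [← h4]; ring⟩
    have h6 : p ^ j ∣ m * Nat.card Q₀ * N := by exact_mod_cast h5
    have hcop : Nat.Coprime (p ^ j) (m * Nat.card Q₀) := by
      apply Nat.Coprime.pow_left
      apply Nat.Coprime.mul_right
      · exact (Nat.Prime.coprime_iff_not_dvd hp).mpr hpm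
      · exact (Nat.Prime.coprime_iff_not_dvd hp).mpr hQ₀
    exact hcop.dvd_of_dvd_mul_left h6
  obtain ⟨N', hN'⟩ := hdiv
  refine ⟨N', ?_⟩
  rw [hsumQ, hN']

end Divisibility

section Elementary

variable {G : Type u} [Group G] [Fintype G]

/-- In an elementary group the `p`-regular elements form a subgroup of `p`-power index, and
either this subgroup is central or all the `p`-elements are central. -/
theorem elementary_structure {p q : ℕ} (hp : p.Prime) (hq : q.Prime) (E : Subgroup G)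
    (hE : IsElementary q E) :
    ∃ (Q : Subgroup E) (j₀ : ℕ), (∀ e : E, e ∈ Q ↔ ¬ p ∣ orderOf e) ∧ Q.index = p ^ j₀ ∧
      (Q ≤ Subgroup.center E ∨
        ∀ u : E, (∃ k : ℕ, orderOf u = p ^ k) → u ∈ Subgroup.center E) := by
  classical
  have hE' := hE
  obtain ⟨x, hxc, hxp, k, hk⟩ := hE'
  have hCcen : Subgroup.zpowers x ≤ Subgroup.center E := by
    rw [Subgroup.zpowers_le]
    exact hxc
  haveI : (Subgroup.zpowers x).Normal := Cfsg.Agent.Helper18.normal_of_le_center hCcen
  have hmem : ∀ e : E, Nat.Coprime (q ^ k) (orderOf e) → e ∈ Subgroup.zpowers x := by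
    intro e hcop
    have h1 := Subgroup.pow_index_mem (Subgroup.zpowers x) e
    rw [hk] at h1
    obtain ⟨t, ht⟩ := exists_pow_eq_self_of_coprime hcop
    rw [← ht]
    exact Subgroup.pow_mem _ h1 t
  by_cases hpq : p = q
  · subst hpq
    obtain ⟨Q, j, hQ, hidx, -⟩ := Cfsg.Agent.S0165.exists_Q_same hp E hE
    refine ⟨Q, j, hQ, hidx, Or.inl ?_⟩
    intro y hy
    apply hCcen
    apply hmem
    exact Nat.Coprime.pow_left k ((Nat.Prime.coprime_iff_not_dvd hp).mpr ((hQ y).mp hy))
  · obtain ⟨Q, j, hQ, hidx, -⟩ := Cfsg.Agent.S0165.exists_Q_ne hp hq hpq E hE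
    refine ⟨Q, j, hQ, hidx, Or.inr ?_⟩
    rintro u ⟨k', hk'⟩
    apply hCcen
    apply hmem
    rw [hk']
    apply Nat.Coprime.pow
    exact (Nat.coprime_primes hq hp).mpr (Ne.symm hpq)

end Elementary

section Restrict

variable {G : Type u} [Group G] [Fintype G] {p : ℕ} {P : Subgroup G}

/-- the `p`-regular elements of `E` form a `p'`-group -/
theorem not_dvd_card_of_forall (hp : p.Prime) {E : Type u} [Group E] [Finite E] (Q : Subgroup E)
    (hQ : ∀ e : E, e ∈ Q → ¬ p ∣ orderOf e) : ¬ p ∣ Nat.card Q := by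
  classical
  haveI : Fact p.Prime := ⟨hp⟩
  haveI : Fintype Q := Fintype.ofFinite Q
  intro h
  rw [Nat.card_eq_fintype_card] at h
  obtain ⟨y, hy⟩ := exists_prime_orderOf_dvd_card p h
  have h2 := hQ (y : E) y.2
  rw [Subgroup.orderOf_coe, hy] at h2
  exact h2 (dvd_refl p)

/-- the centralizers of the `p`-regular elements of an elementary subgroup are large -/
theorem pow_dvd_card_centralizer (S : Setup p P) {s : ℕ} (hPs : Nat.card P = p ^ s)
    (E : Subgroup G) (Q : Subgroup E) {j₀ r : ℕ}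
    (hQ : ∀ e : E, e ∈ Q ↔ ¬ p ∣ orderOf e) (hidx : Q.index = p ^ j₀)
    (hcen : Q ≤ Subgroup.center E ∨
      ∀ u : E, (∃ k : ℕ, orderOf u = p ^ k) → u ∈ Subgroup.center E)
    (hr : Nat.card (P ⊓ E : Subgroup G) = p ^ r) (y : Q) :
    p ^ (j₀ - r + s) ∣ Nat.card (Subgroup.centralizer ({((y : E) : G)} : Set G)) := by
  classical
  haveI : Fact p.Prime := ⟨S.hp⟩
  haveI := S.normal
  have hp := S.hp
  have hpQ : ¬ p ∣ Nat.card Q := not_dvd_card_of_forall hp Q (fun e he => (hQ e).mp he)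
  have hEcard : Nat.card E = Nat.card Q * p ^ j₀ := by
    rw [← hidx]
    exact (Subgroup.card_mul_index Q).symm
  obtain ⟨Sy⟩ : Nonempty (Sylow p E) := inferInstance
  have hSycard : Nat.card (Sy : Subgroup E) = p ^ j₀ := by
    rw [Sy.card_eq_multiplicity, hEcard,
      Nat.factorization_mul (Nat.card_pos).ne' (pow_pos hp.pos j₀).ne', Finsupp.add_apply,
      Nat.factorization_eq_zero_of_not_dvd hpQ, zero_add, hp.factorization_pow,
      Finsupp.single_eq_same]
  set T : Subgroup G := (Sy : Subgroup E).map E.subtype with hT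
  have hTcard : Nat.card T = p ^ j₀ := by
    rw [hT, Subgroup.card_map_of_injective E.subtype_injective, hSycard]
  have hy : ¬ p ∣ orderOf ((y : E) : G) := by
    rw [Subgroup.orderOf_coe]
    exact (hQ y).mp y.2
  have hTle : T ≤ Subgroup.centralizer ({((y : E) : G)} : Set G) := by
    rintro _ ⟨e, he, rfl⟩
    rw [Subgroup.mem_centralizer_iff]
    intro z hz
    rw [Set.mem_singleton_iff] at hz
    rw [hz]
    have hcomm : (y : E) * e = e * (y : E) := by
      rcases hcen with h | h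
      · exact (Subgroup.mem_center_iff.mp (h y.2) e).symm
      · have hek : ∃ k : ℕ, orderOf e = p ^ k := by
          obtain ⟨k, hk⟩ := (IsPGroup.iff_orderOf.mp Sy.2) ⟨e, he⟩
          refine ⟨k, ?_⟩
          rw [← hk]
          exact Subgroup.orderOf_coe (⟨e, he⟩ : (Sy : Subgroup E))
        exact Subgroup.mem_center_iff.mp (h e hek) (y : E)
    have := congrArg (fun w : E => (w : G)) hcomm
    simpa using this
  have hPle : P ≤ Subgroup.centralizer ({((y : E) : G)} : Set G) := by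
    intro u hu
    rw [Subgroup.mem_centralizer_iff]
    intro z hz
    rw [Set.mem_singleton_iff] at hz
    rw [hz]
    exact (S.commute hu hy).symm
  have hXle : T ⊔ P ≤ Subgroup.centralizer ({((y : E) : G)} : Set G) := sup_le hTle hPle
  have hcardX := Cfsg.Agent.Helper27.card_sup_mul_card_inf T P (by
    intro t _
    rw [Subgroup.normalizer_eq_top]
    exact Subgroup.mem_top t)
  rw [hTcard, hPs] at hcardX
  have hinfle : (T ⊓ P : Subgroup G) ≤ (P ⊓ E : Subgroup G) := by
    intro g hg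
    refine ⟨hg.2, ?_⟩
    obtain ⟨e, -, rfl⟩ := hg.1
    exact e.2
  have hinfdvd : Nat.card (T ⊓ P : Subgroup G) ∣ p ^ r := by
    rw [← hr]
    exact Subgroup.card_dvd_of_le hinfle
  obtain ⟨r', hr'r, hr'⟩ := (Nat.dvd_prime_pow hp).mp hinfdvd
  rw [hr'] at hcardX
  -- `|T ⊔ P| * p ^ r' = p ^ j₀ * p ^ s`
  have hr'j : r' ≤ j₀ + s := by
    have h1 : p ^ r' ∣ p ^ j₀ * p ^ s := ⟨_, by rw [← hcardX]; ring⟩
    rw [← pow_add] at h1
    exact (Nat.pow_dvd_pow_iff_le_right hp.one_lt).mp h1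
  have hX : Nat.card (T ⊔ P : Subgroup G) = p ^ (j₀ + s - r') := by
    have h1 : Nat.card (T ⊔ P : Subgroup G) * p ^ r' = p ^ (j₀ + s - r') * p ^ r' := by
      rw [hcardX, ← pow_add, ← pow_add, Nat.sub_add_cancel hr'j]
    exact Nat.eq_of_mul_eq_mul_right (pow_pos hp.pos r') h1
  have hr'j₀ : r' ≤ j₀ := by
    have h1 : Nat.card (T ⊓ P : Subgroup G) ∣ Nat.card T := Subgroup.card_dvd_of_le inf_le_left
    rw [hr', hTcard] at h1
    exact (Nat.pow_dvd_pow_iff_le_right hp.one_lt).mp h1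
  have hdvd : p ^ (j₀ - r + s) ∣ Nat.card (T ⊔ P : Subgroup G) := by
    rw [hX]
    apply pow_dvd_pow
    omega
  exact dvd_trans hdvd (Subgroup.card_dvd_of_le hXle)

/-- multiplicativity of an irreducible character along a commuting pair one of whose members is
central -/
theorem irr_mul_of_center {E : Type u} [Group E] [Fintype E] {μ : E → ℂ}
    (hμ : IsIrrCharacter E μ) {u y : E}
    (h : u ∈ Subgroup.center E ∨ y ∈ Subgroup.center E) : μ (u * y) = μ u * μ y / μ 1 := by
  rcases h with h | h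
  · rw [Cfsg.Agent.Helper23.irr_central_mul μ hμ u h y]
    ring
  · have hc : u * y = y * u := Subgroup.mem_center_iff.mp h u
    rw [hc, Cfsg.Agent.Helper23.irr_central_mul μ hμ y h u]
    ring

/-- the restriction of a twist to an elementary subgroup, as a double sum -/
theorem sum_twist_mul_conj (S : Setup p P) {a β : G → ℂ} (ha0 : ∀ u, u ∉ P → a u = 0)
    (E : Subgroup G) (Q : Subgroup E) [Fintype E] [Fintype Q]
    (hQ : ∀ e : E, e ∈ Q ↔ ¬ p ∣ orderOf e)
    (hcen : Q ≤ Subgroup.center E ∨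
      ∀ u : E, (∃ k : ℕ, orderOf u = p ^ k) → u ∈ Subgroup.center E)
    {μ : E → ℂ} (hμ : IsIrrCharacter E μ) :
    ∑ e : E, twist p a β e * conj (μ e) =
      (∑ u : E, a u * conj (μ u)) * (∑ y : Q, β ((y : E) : G) * conj (μ y)) / μ 1 := by
  classical
  have hp := S.hp
  -- Step A
  have hA : ∀ e : E, twist p a β e = ∑ u : E,
      if p ∣ orderOf ((u : G)⁻¹ * (e : G)) then 0 else a u * β ((u : G)⁻¹ * (e : G)) := by
    intro e
    unfold twist
    apply sum_eq_sum_subgroup E
    intro u hu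
    by_cases h1 : p ∣ orderOf (u⁻¹ * (e : G))
    · rw [if_pos h1]
    · rw [if_neg h1]
      by_cases huP : u ∈ P
      · exfalso
        apply hu
        have hpp : IsPPart p (e : G) u :=
          ⟨u⁻¹ * (e : G), by group, S.commute huP h1, S.orderOf_eq huP, h1⟩
        have hz := Cfsg.Agent.Helper23.Blk.IsPPart.mem_zpowers_pow hp hpp 1 (by
          intro h
          exact hp.one_lt.ne' (Nat.dvd_one.mp h))
        rw [pow_one] at hz
        obtain ⟨i, rfl⟩ := hz
        exact E.zpow_mem e.2 i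
      · rw [ha0 u huP, zero_mul]
  -- Step B
  have hB : ∑ e : E, twist p a β e * conj (μ e) = ∑ u : E, a u *
      ∑ y : E, (if p ∣ orderOf (y : G) then 0 else β (y : G) * conj (μ (u * y))) := by
    simp only [hA, Finset.sum_mul]
    rw [Finset.sum_comm]
    apply Finset.sum_congr rfl
    intro u _
    rw [Finset.mul_sum]
    rw [← Equiv.sum_comp (Equiv.mulLeft u)]
    apply Finset.sum_congr rfl
    intro y _
    simp only [Equiv.coe_mulLeft, Subgroup.coe_mul, inv_mul_cancel_left]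
    split_ifs
    · simp
    · ring
  -- Step C
  have hC : ∀ u : E, ∑ y : E, (if p ∣ orderOf (y : G) then 0 else
      β (y : G) * conj (μ (u * y))) = ∑ y : Q, β ((y : E) : G) * conj (μ (u * (y : E))) := by
    intro u
    rw [sum_eq_sum_subgroup Q]
    · apply Finset.sum_congr rfl
      intro y _
      have hy : ¬ p ∣ orderOf (((y : E) : G)) := by
        rw [Subgroup.orderOf_coe]
        exact (hQ y).mp y.2
      rw [if_neg hy]
    · intro y hy
      have hy' : p ∣ orderOf (y : G) := by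
        rw [Subgroup.orderOf_coe]
        by_contra h
        exact hy ((hQ y).mpr h)
      rw [if_pos hy']
  rw [hB]
  simp only [hC]
  rw [Finset.sum_mul, Finset.sum_div]
  apply Finset.sum_congr rfl
  intro u _
  by_cases huP : (u : G) ∈ P
  · have hu : ∀ y : Q, μ (u * (y : E)) = μ u * μ (y : E) / μ 1 := by
      intro y
      apply irr_mul_of_center hμ
      rcases hcen with h | h
      · exact Or.inr (h y.2)
      · left
        apply h
        obtain ⟨k, hk⟩ := S.orderOf_eq huP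
        exact ⟨k, by rw [← hk, Subgroup.orderOf_coe]⟩
    simp only [hu]
    have h1 : conj (μ 1) = μ 1 := Cfsg.Agent.Helper23.Blk.conj_irr_one hμ
    have hμ1 : μ 1 ≠ 0 := Cfsg.Agent.Helper23.Blk.irr_one_ne_zero hμ
    rw [Finset.mul_sum, Finset.mul_sum, Finset.sum_div]
    apply Finset.sum_congr rfl
    intro y _
    rw [map_div₀, map_mul, h1]
    field_simp
  · rw [ha0 _ huP]
    simp

/-- **The restriction of a twist to an elementary subgroup is a generalized character.** -/
theorem isGenChar_twist_restrict (S : Setup p P) {n m s d' : ℕ}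
    (hcard : Nat.card G = p ^ n * m) (hpm : ¬ p ∣ m) (hPs : Nat.card P = p ^ s)
    {β : G → ℂ} (hβ : IsIrrCharacter G β) (hdeg : β 1 = ((p ^ (n - s) * d' : ℕ) : ℂ))
    {α : P → ℂ} (hα : IsCharacter P α)
    (hinv : ∀ g u : G, extendByZero P α (g * u * g⁻¹) = extendByZero P α u)
    (E : Subgroup G) (Q : Subgroup E) (j₀ : ℕ)
    (hQ : ∀ e : E, e ∈ Q ↔ ¬ p ∣ orderOf e) (hidx : Q.index = p ^ j₀)
    (hcen : Q ≤ Subgroup.center E ∨
      ∀ u : E, (∃ k : ℕ, orderOf u = p ^ k) → u ∈ Subgroup.center E) :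
    IsGeneralizedCharacter E (fun e : E => twist p (extendByZero P α) β e) := by
  classical
  haveI : Fact p.Prime := ⟨S.hp⟩
  haveI := S.normal
  have hp := S.hp
  haveI : Fintype E := Fintype.ofFinite E
  haveI : Fintype Q := Fintype.ofFinite Q
  letI : Fintype (IrrCharacter E) := irrFintype
  obtain ⟨a, ha_def⟩ : ∃ a : G → ℂ, a = extendByZero P α := ⟨_, rfl⟩
  rw [← ha_def] at hinv ⊢
  have ha0 : ∀ u, u ∉ P → a u = 0 := by
    intro u hu
    rw [ha_def]
    exact extendByZero_of_not_mem P α u hu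
  have hsn : s ≤ n := by
    have h1 : p ^ s ∣ p ^ n * m := by
      rw [← hPs, ← hcard]
      exact Subgroup.card_subgroup_dvd_card P
    have h2 : Nat.Coprime (p ^ s) m :=
      Nat.Coprime.pow_left s ((Nat.Prime.coprime_iff_not_dvd hp).mpr hpm)
    exact (Nat.pow_dvd_pow_iff_le_right hp.one_lt).mp (h2.dvd_of_dvd_mul_right h1)
  have hcf : IsClassFunction E (fun e : E => twist p a β e) := fun g h =>
    twist_isClassFunction hinv (isClassFunction_of_isIrrCharacter hβ) (g : G) (h : G)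
  apply isGenChar_of_int_inner hcf
  intro μ
  have hμc := isCharacter_of_isIrrCharacter μ.2
  have hμ1 : (μ : E → ℂ) 1 ≠ 0 := Cfsg.Agent.Helper23.Blk.irr_one_ne_zero μ.2
  have hconj1 : conj ((μ : E → ℂ) 1) = (μ : E → ℂ) 1 := Cfsg.Agent.Helper23.Blk.conj_irr_one μ.2
  -- the subgroup `R = P ∩ E` of `E`
  set R : Subgroup E := P.subgroupOf E with hR
  haveI : Fintype R := Fintype.ofFinite R
  letI : Fintype (IrrCharacter R) := irrFintype
  let ι : R →* P :=
    { toFun := fun r => ⟨((r : E) : G), r.2⟩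
      map_one' := rfl
      map_mul' := fun _ _ => rfl }
  have hαR : IsCharacter R (α ∘ ι) := isCharacter_comp ι hα
  have hRp : IsPGroup p R := by
    have : IsPGroup p (P.comap E.subtype) := S.hP.comap_of_injective E.subtype E.subtype_injective
    exact this
  obtain ⟨r, hr⟩ := IsPGroup.iff_card.mp hRp
  have hr' : Nat.card (P ⊓ E : Subgroup G) = p ^ r := by
    rw [← hr]
    have e1 : (P ⊓ E : Subgroup G) = R.map E.subtype := by
      rw [hR, Subgroup.subgroupOf_map_subtype]
    rw [e1, Subgroup.card_map_of_injective E.subtype_injective]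
  have hpQ : ¬ p ∣ Nat.card Q := not_dvd_card_of_forall hp Q (fun e he => (hQ e).mp he)
  have hEcard : Nat.card E = Nat.card Q * p ^ j₀ := by
    rw [← hidx]
    exact (Subgroup.card_mul_index Q).symm
  have hrj : r ≤ j₀ := by
    have h1 : p ^ r ∣ Nat.card Q * p ^ j₀ := by
      rw [← hr, ← hEcard]
      exact Subgroup.card_subgroup_dvd_card R
    have h2 : Nat.Coprime (p ^ r) (Nat.card Q) :=
      Nat.Coprime.pow_left r ((Nat.Prime.coprime_iff_not_dvd hp).mpr hpQ)
    exact (Nat.pow_dvd_pow_iff_le_right hp.one_lt).mp (h2.dvd_of_dvd_mul_left h1)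
  -- the sum over `E` of `a` against `μ`
  have hAsum : ∑ u : E, a u * conj ((μ : E → ℂ) u) =
      ∑ z : R, (α ∘ ι) z * conj ((μ : E → ℂ) (z : E)) := by
    rw [sum_eq_sum_subgroup R]
    · apply Finset.sum_congr rfl
      intro z _
      have : a (((z : E) : G)) = α (ι z) := by
        rw [ha_def]
        exact extendByZero_of_mem P α _ z.2
      rw [this]
      rfl
    · intro u hu
      have : ((u : E) : G) ∉ P := hu
      rw [ha0 _ this, zero_mul]
  -- the hom of `Q` into `G`
  let ιQ : Q →* G := E.subtype.comp Q.subtype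
  have hcQ : ∀ y : Q, p ^ (j₀ - r + s) ∣
      Nat.card (Subgroup.centralizer ({ιQ y} : Set G)) := fun y =>
    pow_dvd_card_centralizer S hPs E Q hQ hidx hcen hr' y
  have hsum := sum_twist_mul_conj (β := β) S ha0 E Q hQ hcen μ.2
  have hE0 : (Nat.card E : ℂ) ≠ 0 := by
    have : Nat.card E ≠ 0 := Nat.card_pos.ne'
    exact_mod_cast this
  have hpowcard : (Nat.card E : ℂ) = (Nat.card Q : ℂ) * (Nat.card R : ℂ) * (p : ℂ) ^ (j₀ - r) := by
    rw [hEcard, hr]
    push_cast
    rw [mul_assoc, ← pow_add, Nat.add_sub_cancel' hrj]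
  have hQ0 : (Nat.card Q : ℂ) ≠ 0 := by
    have : Nat.card Q ≠ 0 := Nat.card_pos.ne'
    exact_mod_cast this
  have hR0 : (Nat.card R : ℂ) ≠ 0 := by
    have : Nat.card R ≠ 0 := Nat.card_pos.ne'
    exact_mod_cast this
  have hpj0 : ((p : ℂ) ^ (j₀ - r)) ≠ 0 := pow_ne_zero _ (by exact_mod_cast hp.ne_zero)
  rcases hcen with hcQcen | hcpcen
  · -- `Q` is central
    haveI : Q.Normal := Cfsg.Agent.Helper18.normal_of_le_center hcQcen
    obtain ⟨φ, hφ, hφ1, hμQ⟩ := restrict_central_eq Q hcQcen μ.2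
    obtain ⟨N', hN'⟩ := dvd_inner_of_centralizer (j := j₀ - r) hp hcard hpm hsn hβ hdeg ιQ hpQ
      (isCharacter_of_isIrrCharacter hφ) hcQ
    obtain ⟨aN, haN⟩ := classInner_char_nat hαR (isCharacter_restrict R hμc)
    have hAval : ∑ z : R, (α ∘ ι) z * conj ((μ : E → ℂ) (z : E)) = (Nat.card R : ℂ) * aN := by
      rw [← haN]
      unfold classInner
      rw [← mul_assoc, mul_inv_cancel₀ hR0, one_mul]
    have hBval : ∑ y : Q, β ((y : E) : G) * conj ((μ : E → ℂ) (y : E)) =
        (μ : E → ℂ) 1 * ((Nat.card Q : ℂ) * ((p ^ (j₀ - r) * N' : ℕ) : ℂ)) := by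
      rw [← hN', Finset.mul_sum]
      apply Finset.sum_congr rfl
      intro y _
      have h1 := congrFun hμQ y
      simp only [Pi.smul_apply, smul_eq_mul] at h1
      rw [h1, map_mul, hconj1]
      show β ((y : E) : G) * ((μ : E → ℂ) 1 * conj (φ y)) = _
      have : ιQ y = ((y : E) : G) := rfl
      rw [this]
      ring
    refine ⟨((aN * N' : ℕ) : ℤ), ?_⟩
    unfold classInner
    rw [hsum, hAsum, hAval, hBval, hpowcard]
    push_cast
    field_simp
  · -- the `p`-elements are central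
    have hRcen : R ≤ Subgroup.center E := by
      intro z hz
      apply hcpcen
      have hzP : ((z : E) : G) ∈ P := hz
      obtain ⟨k, hk⟩ := S.orderOf_eq hzP
      exact ⟨k, by rw [← hk, Subgroup.orderOf_coe]⟩
    haveI : R.Normal := Cfsg.Agent.Helper18.normal_of_le_center hRcen
    obtain ⟨φ, hφ, hφ1, hμR⟩ := restrict_central_eq R hRcen μ.2
    obtain ⟨N', hN'⟩ := dvd_inner_of_centralizer (j := j₀ - r) hp hcard hpm hsn hβ hdeg ιQ hpQ
      (isCharacter_restrict Q hμc) hcQ
    obtain ⟨aN, haN⟩ := classInner_char_nat hαR (isCharacter_of_isIrrCharacter hφ)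
    have hAval : ∑ z : R, (α ∘ ι) z * conj ((μ : E → ℂ) (z : E)) =
        (μ : E → ℂ) 1 * ((Nat.card R : ℂ) * aN) := by
      have h0 : ∑ z : R, (α ∘ ι) z * conj (φ z) = (Nat.card R : ℂ) * aN := by
        rw [← haN]
        unfold classInner
        rw [← mul_assoc, mul_inv_cancel₀ hR0, one_mul]
      rw [← h0, Finset.mul_sum]
      apply Finset.sum_congr rfl
      intro z _
      have h1 := congrFun hμR z
      simp only [Pi.smul_apply, smul_eq_mul] at h1
      rw [h1, map_mul, hconj1]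
      ring
    have hBval : ∑ y : Q, β ((y : E) : G) * conj ((μ : E → ℂ) (y : E)) =
        (Nat.card Q : ℂ) * ((p ^ (j₀ - r) * N' : ℕ) : ℂ) := by
      rw [← hN']
      rfl
    refine ⟨((aN * N' : ℕ) : ℤ), ?_⟩
    unfold classInner
    rw [hsum, hAsum, hAval, hBval, hpowcard]
    push_cast
    field_simp

end Restrict

end Cfsg.Agent.Helper18.Twist
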