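import Mathlib
import Cfsg.Prelude.Def_Blocks
import Cfsg.Agent.Lib.Helper18.TwistChar
import Cfsg.Agent.Lib.Helper8.CharExtra

/-!
# Twisting a character by a character of a normal `p`-subgroup, II (helper18's library)

The twists are generalized characters (Brauer's characterization), their inner products are
those of the twisting characters, and the twisted character vanishes off the elements having a
decomposition.
-/

set_option autoImplicit false
set_option linter.unusedSectionVars false

namespace Cfsg.Agent.Helper18.Twist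

open Cfsg Cfsg.Agent.Helper24 Cfsg.Agent.Helper5
open scoped ComplexConjugate

universe u

section Global

variable {G : Type u} [Group G] [Fintype G] {p : ℕ} {P : Subgroup G}

/-- the numerical data attached to the degree hypothesis -/
theorem exists_data (S : Setup p P) {β : G → ℂ} (hβ : IsIrrCharacter G β)
    (hdeg : (charDegree β).factorization p = P.index.factorization p) :
    ∃ n m s d' : ℕ, Nat.card G = p ^ n * m ∧ ¬ p ∣ m ∧ Nat.card P = p ^ s ∧
      β 1 = ((p ^ (n - s) * d' : ℕ) : ℂ) := by
  have hp := S.hp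
  haveI : Fact p.Prime := ⟨hp⟩
  obtain ⟨s, hs⟩ := IsPGroup.iff_card.mp S.hP
  have hG0 : Nat.card G ≠ 0 := Nat.card_pos.ne'
  obtain ⟨n, m, hm, hnm⟩ := Nat.exists_eq_pow_mul_and_not_dvd hG0 p hp.ne_one
  have hidx : P.index * p ^ s = p ^ n * m := by
    rw [← hs, ← hnm, mul_comm]
    exact Subgroup.card_mul_index P
  have hsn : s ≤ n := by
    have h1 : p ^ s ∣ p ^ n * m := ⟨P.index, by rw [← hidx]; ring⟩
    have h2 : Nat.Coprime (p ^ s) m :=
      Nat.Coprime.pow_left s ((Nat.Prime.coprime_iff_not_dvd hp).mpr hm)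
    exact (Nat.pow_dvd_pow_iff_le_right hp.one_lt).mp (h2.dvd_of_dvd_mul_right h1)
  have hidx' : P.index = p ^ (n - s) * m := by
    have h1 : P.index * p ^ s = (p ^ (n - s) * m) * p ^ s := by
      rw [hidx]
      calc p ^ n * m = p ^ (n - s + s) * m := by rw [Nat.sub_add_cancel hsn]
        _ = p ^ (n - s) * m * p ^ s := by rw [pow_add]; ring
    exact Nat.eq_of_mul_eq_mul_right (pow_pos hp.pos s) h1
  have hfac : P.index.factorization p = n - s := by
    have hm0 : m ≠ 0 := by
      rintro rfl
      exact hm (dvd_zero p)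
    rw [hidx', Nat.factorization_mul (pow_pos hp.pos _).ne' hm0, Finsupp.add_apply,
      hp.factorization_pow, Finsupp.single_eq_same, Nat.factorization_eq_zero_of_not_dvd hm,
      add_zero]
  rw [hfac] at hdeg
  obtain ⟨d', hd'⟩ : p ^ (n - s) ∣ charDegree β := by
    rw [← hdeg]
    exact Nat.ordProj_dvd _ _
  refine ⟨n, m, s, d', hnm, hm, hs, ?_⟩
  rw [irr_one_eq_charDegree hβ, hd']

/-- **A twist is a generalized character.** -/
theorem isGenChar_twist (S : Setup p P) {β : G → ℂ} (hβ : IsIrrCharacter G β)
    (hdeg : (charDegree β).factorization p = P.index.factorization p)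
    {α : P → ℂ} (hα : IsCharacter P α)
    (hinv : ∀ g u : G, extendByZero P α (g * u * g⁻¹) = extendByZero P α u) :
    IsGeneralizedCharacter G (twist p (extendByZero P α) β) := by
  obtain ⟨n, m, s, d', hcard, hpm, hPs, hd⟩ := exists_data S hβ hdeg
  apply Cfsg.Agent.S0164.result _
    (twist_isClassFunction hinv (isClassFunction_of_isIrrCharacter hβ))
  intro E q hq hE
  obtain ⟨Q, j₀, hQ, hidx, hcen⟩ := elementary_structure S.hp hq E hE
  exact isGenChar_twist_restrict S hcard hpm hPs hβ hd hα hinv E Q j₀ hQ hidx hcen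

/-- Fubini for twists -/
theorem sum_twist_mul (a β F : G → ℂ) :
    ∑ g : G, twist p a β g * F g =
      ∑ u : G, a u * ∑ y : G, (if p ∣ orderOf y then 0 else β y * F (u * y)) := by
  unfold twist
  simp only [Finset.sum_mul]
  rw [Finset.sum_comm]
  apply Finset.sum_congr rfl
  intro u _
  rw [Finset.mul_sum, ← Equiv.sum_comp (Equiv.mulLeft u)]
  apply Finset.sum_congr rfl
  intro y _
  simp only [Equiv.coe_mulLeft, inv_mul_cancel_left]
  split_ifs
  · simp
  · ring

/-- `β` is multiplied by the linear character `lam` under left translation by `P` -/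
structure Mult (P : Subgroup G) (β : G → ℂ) (lam : P → ℂ) : Prop where
  char : IsCharacter P lam
  inv : ∀ g u : G, extendByZero P lam (g * u * g⁻¹) = extendByZero P lam u
  mul : ∀ (u : P) (g : G), β ((u : G) * g) = lam u * β g
  norm : ∀ u : P, lam u * conj (lam u) = 1

/-- sums over `G` of functions vanishing off `P`, against an inner sum -/
theorem sum_ext_mul [Fintype P] (α : P → ℂ) (F : G → ℂ) :
    ∑ u : G, extendByZero P α u * F u = ∑ u : P, α u * F u := by
  rw [sum_eq_sum_subgroup P]
  · apply Finset.sum_congr rfl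
    intro u _
    rw [Cfsg.Agent.Helper5.extendByZero_coe]
  · intro u hu
    rw [extendByZero_of_not_mem P α u hu, zero_mul]

/-- **Vanishing and counting**: the character `β` vanishes at the elements without a
decomposition, and the sum of `|β|²` over the `p`-regular elements is `|G| / |P|`. -/
theorem vanish_and_count (S : Setup p P) {β : G → ℂ} (hβ : IsIrrCharacter G β)
    (hdeg : (charDegree β).factorization p = P.index.factorization p)
    {lam : P → ℂ} (L : Mult P β lam) :
    (∀ g : G, (∀ u ∈ P, p ∣ orderOf (u⁻¹ * g)) → β g = 0) ∧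
      (Nat.card P : ℂ) * ∑ y : G, (if p ∣ orderOf y then 0 else β y * conj (β y)) =
        (Nat.card G : ℂ) := by
  classical
  haveI : Fintype P := Fintype.ofFinite P
  letI : Fintype (IrrCharacter G) := irrFintype
  have ha0 : ∀ u, u ∉ P → extendByZero P lam u = 0 := fun u hu =>
    extendByZero_of_not_mem P lam u hu
  have hgen := isGenChar_twist S hβ hdeg L.char L.inv
  set F₀ := twist p (extendByZero P lam) β with hF₀def
  set W : ℂ := ∑ y : G, (if p ∣ orderOf y then 0 else β y * conj (β y)) with hW
  -- pointwise description of `F₀`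
  have hF₀ : ∀ g : G, F₀ g = if (∃ u ∈ P, ¬ p ∣ orderOf (u⁻¹ * g)) then β g else 0 := by
    intro g
    by_cases hD : ∃ u ∈ P, ¬ p ∣ orderOf (u⁻¹ * g)
    · rw [if_pos hD]
      obtain ⟨u, hu, hreg⟩ := hD
      rw [hF₀def, twist_eq_of_decomp S ha0 β hu hreg, extendByZero_of_mem P lam u hu,
        ← L.mul ⟨u, hu⟩ (u⁻¹ * g)]
      congr 1
      simp
    · rw [if_neg hD]
      push Not at hD
      exact twist_eq_zero ha0 β hD
  -- the inner product with `β`, computed by Fubini
  have hkey1 : ∑ g : G, F₀ g * conj (β g) = (Nat.card P : ℂ) * W := by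
    rw [hF₀def, sum_twist_mul (extendByZero P lam) β (fun g => conj (β g)), sum_ext_mul]
    have h1 : ∀ u : P, lam u * ∑ y : G, (if p ∣ orderOf y then 0 else
        β y * conj (β ((u : G) * y))) = W := by
      intro u
      rw [hW, Finset.mul_sum]
      apply Finset.sum_congr rfl
      intro y _
      split_ifs
      · rw [mul_zero]
      · rw [L.mul u y, map_mul]
        have := L.norm u
        linear_combination (β y * conj (β y)) * this
    rw [Finset.sum_congr rfl (fun u _ => h1 u), Finset.sum_const, Finset.card_univ,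
      nsmul_eq_mul, Nat.card_eq_fintype_card]
  -- integrality
  obtain ⟨z, hz⟩ := Cfsg.Agent.Helper8.genChar_inner_int hgen ⟨β, hβ⟩
  have hG0 : (Nat.card G : ℂ) ≠ 0 := by
    have : Nat.card G ≠ 0 := Nat.card_pos.ne'
    exact_mod_cast this
  have hkey2 : (Nat.card P : ℂ) * W = (z : ℂ) * (Nat.card G : ℂ) := by
    rw [← hkey1]
    unfold classInner at hz
    rw [← hz]
    field_simp
  -- real sums
  set A : ℝ := ∑ g : G, (if (∃ u ∈ P, ¬ p ∣ orderOf (u⁻¹ * g)) then Complex.normSq (β g)
    else 0) with hA
  set B : ℝ := ∑ g : G, (if (∃ u ∈ P, ¬ p ∣ orderOf (u⁻¹ * g)) then 0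
    else Complex.normSq (β g)) with hB
  have hAB : A + B = (Nat.card G : ℝ) := by
    rw [hA, hB, ← Finset.sum_add_distrib]
    have h1 : ∀ g : G, ((if (∃ u ∈ P, ¬ p ∣ orderOf (u⁻¹ * g)) then Complex.normSq (β g)
        else 0) + (if (∃ u ∈ P, ¬ p ∣ orderOf (u⁻¹ * g)) then 0
        else Complex.normSq (β g)) : ℝ) = Complex.normSq (β g) := by
      intro g
      split_ifs <;> simp
    rw [Finset.sum_congr rfl (fun g _ => h1 g)]
    have h2 := sum_mul_conj_irr hβ
    have h3 : ((∑ g : G, Complex.normSq (β g) : ℝ) : ℂ) = (Nat.card G : ℂ) := by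
      rw [← h2]
      push_cast
      apply Finset.sum_congr rfl
      intro g _
      rw [Complex.mul_conj]
    exact_mod_cast h3
  have hAz : (A : ℂ) = (z : ℂ) * (Nat.card G : ℂ) := by
    rw [← hkey2, ← hkey1, hA]
    push_cast
    apply Finset.sum_congr rfl
    intro g _
    rw [hF₀ g]
    split_ifs
    · rw [Complex.mul_conj]
    · rw [zero_mul]
      simp
  have hAz' : A = (z : ℝ) * (Nat.card G : ℝ) := by exact_mod_cast hAz
  have hBnonneg : 0 ≤ B := by
    rw [hB]
    apply Finset.sum_nonneg
    intro g _
    split_ifs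
    · exact le_refl _
    · exact Complex.normSq_nonneg _
  have hApos : 0 < A := by
    rw [hA]
    apply Finset.sum_pos'
    · intro g _
      split_ifs
      · exact Complex.normSq_nonneg _
      · exact le_refl _
    · refine ⟨1, Finset.mem_univ _, ?_⟩
      have hD1 : ∃ u ∈ P, ¬ p ∣ orderOf (u⁻¹ * (1 : G)) := by
        refine ⟨1, P.one_mem, ?_⟩
        rw [inv_one, mul_one, orderOf_one]
        intro h
        exact S.hp.one_lt.ne' (Nat.dvd_one.mp h)
      rw [if_pos hD1]
      apply Complex.normSq_pos.mpr
      exact Cfsg.Agent.Helper23.Blk.irr_one_ne_zero hβ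
  have hGpos : (0 : ℝ) < (Nat.card G : ℝ) := by exact_mod_cast Nat.card_pos
  have hz1 : z = 1 := by
    have h1 : (0 : ℝ) < (z : ℝ) := by
      by_contra h
      push Not at h
      have : (z : ℝ) * (Nat.card G : ℝ) ≤ 0 := mul_nonpos_of_nonpos_of_nonneg h hGpos.le
      linarith
    have h2 : (z : ℝ) ≤ 1 := by
      by_contra h
      push Not at h
      have : (Nat.card G : ℝ) < (z : ℝ) * (Nat.card G : ℝ) := by nlinarith
      linarith
    have h1' : 0 < z := by exact_mod_cast h1
    have h2' : z ≤ 1 := by exact_mod_cast h2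
    omega
  have hB0 : B = 0 := by
    rw [hz1] at hAz'
    have : A = (Nat.card G : ℝ) := by rw [hAz']; simp
    linarith
  constructor
  · intro g hg
    have h1 := (Finset.sum_eq_zero_iff_of_nonneg (fun g _ => by
      split_ifs
      · exact le_refl _
      · exact Complex.normSq_nonneg _)).mp hB0 g (Finset.mem_univ g)
    have hnD : ¬ ∃ u ∈ P, ¬ p ∣ orderOf (u⁻¹ * g) := by
      rintro ⟨u, hu, h⟩
      exact h (hg u hu)
    rw [if_neg hnD] at h1
    exact Complex.normSq_eq_zero.mp h1
  · rw [hkey2, hz1]
    simp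

/-- **Inner products of twists.** -/
theorem inner_twist (S : Setup p P) [Fintype P] {β : G → ℂ} (hβ : IsIrrCharacter G β)
    (hdeg : (charDegree β).factorization p = P.index.factorization p)
    {lam : P → ℂ} (L : Mult P β lam) (α α' : P → ℂ) :
    classInner (twist p (extendByZero P α) β) (twist p (extendByZero P α') β) =
      classInner α α' := by
  classical
  have ha0 : ∀ u, u ∉ P → extendByZero P α' u = 0 := fun u hu =>
    extendByZero_of_not_mem P α' u hu
  obtain ⟨-, hW⟩ := vanish_and_count S hβ hdeg L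
  set W : ℂ := ∑ y : G, (if p ∣ orderOf y then 0 else β y * conj (β y)) with hWdef
  have hsum : ∑ g : G, twist p (extendByZero P α) β g *
      conj (twist p (extendByZero P α') β g) = (∑ u : P, α u * conj (α' u)) * W := by
    rw [sum_twist_mul (extendByZero P α) β (fun g => conj (twist p (extendByZero P α') β g)),
      sum_ext_mul, Finset.sum_mul]
    apply Finset.sum_congr rfl
    intro u _
    rw [hWdef, mul_assoc, Finset.mul_sum (a := conj (α' u))]
    congr 1
    apply Finset.sum_congr rfl
    intro y _
    split_ifs with hy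
    · rw [mul_zero]
    · rw [twist_apply_mul S ha0 β u.2 hy, Cfsg.Agent.Helper5.extendByZero_coe, map_mul]
      ring
  have hP0 : (Nat.card P : ℂ) ≠ 0 := by
    have : Nat.card P ≠ 0 := Nat.card_pos.ne'
    exact_mod_cast this
  have hG0 : (Nat.card G : ℂ) ≠ 0 := by
    have : Nat.card G ≠ 0 := Nat.card_pos.ne'
    exact_mod_cast this
  have hWval : W = (Nat.card G : ℂ) / (Nat.card P : ℂ) := by
    rw [eq_div_iff hP0, mul_comm]
    exact hW
  unfold classInner
  rw [hsum, hWval]
  field_simp

/-- the value of a twist at the identity -/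
theorem twist_one (S : Setup p P) (α : P → ℂ) (β : G → ℂ) :
    twist p (extendByZero P α) β 1 = α 1 * β 1 := by
  have ha0 : ∀ u, u ∉ P → extendByZero P α u = 0 := fun u hu =>
    extendByZero_of_not_mem P α u hu
  have h1 : ¬ p ∣ orderOf (1 : G) := by
    rw [orderOf_one]
    intro h
    exact S.hp.one_lt.ne' (Nat.dvd_one.mp h)
  have := twist_apply_mul S ha0 β P.one_mem h1
  rw [mul_one] at this
  rw [this]
  congr 1
  exact Cfsg.Agent.Helper5.extendByZero_coe P α 1

/-- **The twist of `β` by an invariant irreducible character of `P` is irreducible.** -/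
theorem isIrr_twist (S : Setup p P) {β : G → ℂ} (hβ : IsIrrCharacter G β)
    (hdeg : (charDegree β).factorization p = P.index.factorization p)
    {lam : P → ℂ} (L : Mult P β lam) {ζ : P → ℂ} (hζ : IsIrrCharacter P ζ)
    (hinv : ∀ g u : G, extendByZero P ζ (g * u * g⁻¹) = extendByZero P ζ u) :
    IsIrrCharacter G (twist p (extendByZero P ζ) β) := by
  classical
  haveI : Fintype P := Fintype.ofFinite P
  have hgen := isGenChar_twist S hβ hdeg (isCharacter_of_isIrrCharacter hζ) hinv
  have hnorm : classInner (twist p (extendByZero P ζ) β) (twist p (extendByZero P ζ) β) = 1 := by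
    rw [inner_twist S hβ hdeg L ζ ζ, irr_orthogonality hζ hζ, if_pos rfl]
  rcases Cfsg.Agent.Helper8.genChar_norm_one hgen hnorm with h | h
  · exact h
  · exfalso
    obtain ⟨k, hk, hk1⟩ := irr_one_eq h
    obtain ⟨a, ha, ha1⟩ := irr_one_eq hζ
    obtain ⟨b, hb, hb1⟩ := irr_one_eq hβ
    rw [Pi.neg_apply, twist_one S ζ β, ha1, hb1] at hk1
    have : ((a * b + k : ℕ) : ℂ) = 0 := by
      push_cast
      rw [← hk1]
      ring
    have h0 : a * b + k = 0 := by exact_mod_cast this
    omega

end Global

end Cfsg.Agent.Helper18.Twist
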