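import Mathlib
import Cfsg.Prelude.Def_Blocks
import Cfsg.Agent.Lib.Helper18.TwistChar2
import Cfsg.Agent.Lib.Helper5.CenterDvd
import Cfsg.Agent.Lib.Helper23.BlockBrauer2
import Cfsg.Agent.Lib.Helper23.BlockDefectGroup2

/-!
# Characters of central defect (helper18's library): Laradji's theorem
-/

set_option autoImplicit false
set_option linter.unusedSectionVars false

namespace Cfsg.Agent.Helper18.Twist

open Cfsg Cfsg.Agent.Helper24 Cfsg.Agent.Helper5 Cfsg.Agent.Helper23.Blk
open scoped ComplexConjugate

universe u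

section Local

variable {M : Ideal AlgInt} {p : ℕ}

/-- a quotient of two natural numbers with the same `p`-adic valuation is a unit modulo the
local ideal -/
theorem not_memLocalIdeal_natCast_div (hM : IsPModular p M) {A B : ℕ} (hA : A ≠ 0) (hB : B ≠ 0)
    (h : A.factorization p = B.factorization p) : ¬ MemLocalIdeal M ((A : ℂ) / (B : ℂ)) := by
  haveI hMp : M.IsPrime := hM.2.1.isPrime
  have hp : p.Prime := hM.1
  intro hcon
  have hA' := Nat.ordProj_mul_ordCompl_eq_self A p
  have hB' := Nat.ordProj_mul_ordCompl_eq_self B p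
  have hpA : ¬ p ∣ A / p ^ A.factorization p := Nat.not_dvd_ordCompl hp hA
  have hB0 : (B : ℂ) ≠ 0 := by exact_mod_cast hB
  have hpk : ((p ^ B.factorization p : ℕ) : ℂ) ≠ 0 := by
    have : p ^ B.factorization p ≠ 0 := pow_ne_zero _ hp.ne_zero
    exact_mod_cast this
  have hB'0 : ((B / p ^ B.factorization p : ℕ) : ℂ) ≠ 0 := by
    intro h0
    have h1 : B / p ^ B.factorization p = 0 := by exact_mod_cast h0
    rw [h1, mul_zero] at hB'
    exact hB hB'.symm
  have h1 : ((A / p ^ A.factorization p : ℕ) : ℂ) =
      ((B / p ^ B.factorization p : ℕ) : ℂ) * ((A : ℂ) / (B : ℂ)) := by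
    have e1 : (A : ℂ) = ((p ^ A.factorization p : ℕ) : ℂ) * ((A / p ^ A.factorization p : ℕ) : ℂ) := by
      exact_mod_cast hA'.symm
    have e2 : (B : ℂ) = ((p ^ B.factorization p : ℕ) : ℂ) * ((B / p ^ B.factorization p : ℕ) : ℂ) := by
      exact_mod_cast hB'.symm
    rw [h] at e1 ⊢
    conv_rhs => rw [e1, e2]
    field_simp
  apply hpA
  rw [← memLocalIdeal_natCast_iff hM, h1]
  exact memLocalIdeal_mul_left (memLocalRing_natCast _) hcon

end Local

section Central

variable {G : Type u} [Group G] [Fintype G] {p : ℕ} {D : Subgroup G}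

theorem setup_of_central (hp : p.Prime) (hD : IsPGroup p D) (hDZ : D ≤ Subgroup.center G) :
    Setup p D where
  hp := hp
  hP := hD
  normal := Cfsg.Agent.Helper18.normal_of_le_center hDZ
  reg := by
    intro y _
    rw [Subgroup.mem_centralizer_iff]
    intro u hu
    exact (Subgroup.mem_center_iff.mp (hDZ hu) y).symm

/-- functions on a central subgroup are invariant -/
theorem ext_inv_of_central (hDZ : D ≤ Subgroup.center G) (α : D → ℂ) (g u : G) :
    extendByZero D α (g * u * g⁻¹) = extendByZero D α u := by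
  haveI : D.Normal := Cfsg.Agent.Helper18.normal_of_le_center hDZ
  by_cases hu : u ∈ D
  · have : g * u * g⁻¹ = u := by
      have := Subgroup.mem_center_iff.mp (hDZ hu) g
      rw [this]
      group
    rw [this]
  · have h2 : g * u * g⁻¹ ∉ D := by
      intro h
      apply hu
      have := ‹D.Normal›.conj_mem _ h g⁻¹
      simpa [mul_assoc] using this
    rw [extendByZero_of_not_mem D α u hu, extendByZero_of_not_mem D α _ h2]

/-- an irreducible character is multiplied by a linear character under translation by a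
central subgroup -/
theorem exists_mult_of_central (hDZ : D ≤ Subgroup.center G) {χ : G → ℂ}
    (hχ : IsIrrCharacter G χ) : ∃ lam : D → ℂ, IsIrrCharacter D lam ∧ Mult D χ lam := by
  classical
  haveI : D.Normal := Cfsg.Agent.Helper18.normal_of_le_center hDZ
  haveI : Fintype D := Fintype.ofFinite D
  obtain ⟨φ, hφ, hφ1, hχD⟩ := restrict_central_eq D hDZ hχ
  have hχ1 : χ 1 ≠ 0 := irr_one_ne_zero hχ
  refine ⟨φ, hφ, isCharacter_of_isIrrCharacter hφ, ext_inv_of_central hDZ φ, ?_, ?_⟩
  · intro u g
    rw [Cfsg.Agent.Helper23.irr_central_mul χ hχ u (hDZ u.2) g]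
    have h1 := congrFun hχD u
    simp only [Pi.smul_apply, smul_eq_mul] at h1
    rw [h1]
    field_simp
  · intro u
    have hcen : u ∈ Subgroup.center D := by
      rw [Subgroup.mem_center_iff]
      intro v
      apply Subtype.ext
      have := Subgroup.mem_center_iff.mp (hDZ u.2) (v : G)
      exact this
    have := irr_central_normSq hφ u hcen
    rw [this, hφ1, mul_one]

end Central

section Laradji

variable {G : Type u} [Group G] [Fintype G] {p : ℕ} {M : Ideal AlgInt} {D : Subgroup G}

/-- **Laradji, degrees**: every character in the block of a character `χ` of central defect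
`D` has degree divisible by the `p`-part of the index of `D`. -/
theorem factorization_degree_ge_of_central (hM : IsPModular p M) (hD : IsPGroup p D)
    (hDZ : D ≤ Subgroup.center G) (χ : IrrCharacter G)
    (hdeg : (charDegree (χ : G → ℂ)).factorization p = D.index.factorization p)
    {ψ : IrrCharacter G} (hψ : ψ ∈ blockOf M (χ : G → ℂ)) :
    D.index.factorization p ≤ (charDegree (ψ : G → ℂ)).factorization p := by
  classical
  haveI hMp : M.IsPrime := hM.2.1.isPrime
  haveI : Fintype D := Fintype.ofFinite D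
  letI : Fintype (IrrCharacter G) := irrFintype
  have hp := hM.1
  have S := setup_of_central hp hD hDZ
  obtain ⟨lam, -, L⟩ := exists_mult_of_central hDZ χ.2
  obtain ⟨lamψ, hlamψ, Lψ⟩ := exists_mult_of_central hDZ ψ.2
  obtain ⟨-, hW⟩ := vanish_and_count S χ.2 hdeg L
  by_contra hlt
  push Not at hlt
  -- the class function `a`
  set a : G → ℂ := fun g => if p ∣ orderOf g then 0 else conj ((χ : G → ℂ) g) with ha
  have hχc := isCharacter_of_isIrrCharacter χ.2
  have hacf : IsClassFunction G a := by
    intro g x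
    simp only [ha]
    have h1 : orderOf (x * g * x⁻¹) = orderOf g := by
      have := (MulAut.conj x).orderOf_eq g
      rwa [MulAut.conj_apply] at this
    rw [h1, isClassFunction_of_isIrrCharacter χ.2 g x]
  have haR : ∀ g, MemLocalRing M (a g) := by
    intro g
    simp only [ha]
    split_ifs
    · exact memLocalRing_zero ne_top
    · have := isIntegral_of_isCharacter hχc g⁻¹
      rw [irr_inv hχc] at this
      exact memLocalRing_of_isIntegral this ne_top
  have hcong := memLocalIdeal_omega_sub (χ := χ) (ψ := ψ) hψ hacf haR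
  -- `ω_χ(a)` is a unit
  have hD0 : (Nat.card D : ℂ) ≠ 0 := by
    have : Nat.card D ≠ 0 := Nat.card_pos.ne'
    exact_mod_cast this
  have hidx : (Nat.card G : ℂ) = (Nat.card D : ℂ) * (D.index : ℂ) := by
    have := Subgroup.card_mul_index D
    exact_mod_cast this.symm
  have hωχ : omega (χ : G → ℂ) a = (D.index : ℂ) / (charDegree (χ : G → ℂ) : ℂ) := by
    unfold omega
    rw [← irr_one_eq_charDegree χ.2]
    congr 1
    have h1 : ∑ g : G, a g * (χ : G → ℂ) g =
        ∑ y : G, (if p ∣ orderOf y then 0 else (χ : G → ℂ) y * conj ((χ : G → ℂ) y)) := by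
      apply Finset.sum_congr rfl
      intro g _
      simp only [ha]
      split_ifs
      · rw [zero_mul]
      · ring
    rw [h1]
    rw [hidx] at hW
    exact mul_left_cancel₀ hD0 hW
  have hunit : ¬ MemLocalIdeal M (omega (χ : G → ℂ) a) := by
    rw [hωχ]
    apply not_memLocalIdeal_natCast_div hM Subgroup.index_ne_zero_of_finite
      (charDegree_pos χ.2).ne' hdeg.symm
  have hunitψ : ¬ MemLocalIdeal M (omega (ψ : G → ℂ) a) := by
    apply not_memLocalIdeal_of_cong _ hunit
    have := memLocalIdeal_neg hcong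
    rwa [neg_sub] at this
  apply hunitψ
  -- `ω_ψ(a)` through a twist
  have hgen := isGenChar_twist S χ.2 hdeg (isCharacter_of_isIrrCharacter hlamψ)
    (ext_inv_of_central hDZ lamψ)
  obtain ⟨z, hz⟩ := Cfsg.Agent.Helper8.genChar_inner_int hgen ψ
  have hG0 : (Nat.card G : ℂ) ≠ 0 := by
    have : Nat.card G ≠ 0 := Nat.card_pos.ne'
    exact_mod_cast this
  have hX : ∑ y : G, (if p ∣ orderOf y then 0 else
      (χ : G → ℂ) y * conj ((ψ : G → ℂ) y)) = (z : ℂ) * (D.index : ℂ) := by
    have h1 : ∑ g : G, twist p (extendByZero D lamψ) (χ : G → ℂ) g * conj ((ψ : G → ℂ) g) =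
        (Nat.card D : ℂ) * ∑ y : G, (if p ∣ orderOf y then 0 else
          (χ : G → ℂ) y * conj ((ψ : G → ℂ) y)) := by
      rw [sum_twist_mul (extendByZero D lamψ) (χ : G → ℂ) (fun g => conj ((ψ : G → ℂ) g)),
        sum_ext_mul]
      have h2 : ∀ u : D, lamψ u * ∑ y : G, (if p ∣ orderOf y then 0 else
          (χ : G → ℂ) y * conj ((ψ : G → ℂ) ((u : G) * y))) =
          ∑ y : G, (if p ∣ orderOf y then 0 else
            (χ : G → ℂ) y * conj ((ψ : G → ℂ) y)) := by
        intro u
        rw [Finset.mul_sum]
        apply Finset.sum_congr rfl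
        intro y _
        split_ifs
        · rw [mul_zero]
        · rw [Lψ.mul u y, map_mul]
          have := Lψ.norm u
          linear_combination ((χ : G → ℂ) y * conj ((ψ : G → ℂ) y)) * this
      rw [Finset.sum_congr rfl (fun u _ => h2 u), Finset.sum_const, Finset.card_univ,
        nsmul_eq_mul, Nat.card_eq_fintype_card]
    unfold classInner at hz
    have h3 : ∑ g : G, twist p (extendByZero D lamψ) (χ : G → ℂ) g * conj ((ψ : G → ℂ) g) =
        (z : ℂ) * (Nat.card G : ℂ) := by
      rw [← hz]
      field_simp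
    rw [h1, hidx] at h3
    have h4 : (Nat.card D : ℂ) * ∑ y : G, (if p ∣ orderOf y then 0 else
        (χ : G → ℂ) y * conj ((ψ : G → ℂ) y)) = (Nat.card D : ℂ) * ((z : ℂ) * (D.index : ℂ)) := by
      rw [h3]
      ring
    exact mul_left_cancel₀ hD0 h4
  have hωψ : omega (ψ : G → ℂ) a =
      (z : ℂ) * ((D.index : ℂ) / (charDegree (ψ : G → ℂ) : ℂ)) := by
    unfold omega
    rw [← irr_one_eq_charDegree ψ.2]
    have h1 : ∑ g : G, a g * (ψ : G → ℂ) g = conj (∑ y : G, (if p ∣ orderOf y then 0 else
        (χ : G → ℂ) y * conj ((ψ : G → ℂ) y))) := by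
      rw [map_sum]
      apply Finset.sum_congr rfl
      intro g _
      simp only [ha]
      split_ifs
      · rw [zero_mul, map_zero]
      · rw [map_mul, Complex.conj_conj]
    rw [h1, hX, map_mul, Complex.conj_natCast, map_intCast]
    ring
  rw [hωψ]
  apply memLocalIdeal_mul_left (memLocalRing_intCast z)
  exact memLocalIdeal_natCast_div hM Subgroup.index_ne_zero_of_finite
    (charDegree_pos ψ.2).ne' hlt

end Laradji

end Cfsg.Agent.Helper18.Twist
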