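import Mathlib
import Cfsg.Prelude.Def_Blocks
import Cfsg.Agent.Lib.Helper18.TwistChar3
import Cfsg.Agent.Lib.Helper18.BlockQuot3
import Cfsg.Agent.Lib.Helper23.BlockDefectZero

/-!
# Blocks of `G = D · C_G(D)` with defect group `D` (helper18's library)
-/

set_option autoImplicit false
set_option linter.unusedSectionVars false

namespace Cfsg.Agent.Helper18.Twist

open Cfsg Cfsg.Agent.Helper24 Cfsg.Agent.Helper5 Cfsg.Agent.Helper23.Blk Cfsg.Agent.Helper18
open scoped ComplexConjugate

universe u

section SetupPC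

variable {G : Type u} [Group G] [Fintype G] {p : ℕ} {D : Subgroup G}

/-- every element of `G = D · C_G(D)` is a product -/
theorem exists_mul_of_sup_eq_top (hG : D ⊔ Subgroup.centralizer (D : Set G) = ⊤) (g : G) :
    ∃ d ∈ D, ∃ c ∈ Subgroup.centralizer (D : Set G), g = d * c := by
  have hg : g ∈ ((D ⊔ Subgroup.centralizer (D : Set G) : Subgroup G) : Set G) := by
    rw [hG]
    exact Subgroup.mem_top g
  rw [Subgroup.coe_mul_of_right_le_normalizer_left D _
    (Subgroup.centralizer_le_normalizer (D : Set G))] at hg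
  obtain ⟨d, hd, c, hc, rfl⟩ := hg
  exact ⟨d, hd, c, hc, rfl⟩

theorem normal_of_sup_eq_top (hG : D ⊔ Subgroup.centralizer (D : Set G) = ⊤) : D.Normal := by
  rw [← Subgroup.normalizer_eq_top_iff, eq_top_iff, ← hG]
  exact sup_le Subgroup.le_normalizer (Subgroup.centralizer_le_normalizer (D : Set G))

/-- conjugation by an element of `G = D · C_G(D)` acts on `D` as an inner automorphism -/
theorem exists_conj_eq (hG : D ⊔ Subgroup.centralizer (D : Set G) = ⊤) (g : G) :
    ∃ d ∈ D, ∀ u ∈ D, g * u * g⁻¹ = d * u * d⁻¹ := by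
  obtain ⟨d, hd, c, hc, rfl⟩ := exists_mul_of_sup_eq_top hG g
  refine ⟨d, hd, fun u hu => ?_⟩
  have := Subgroup.mem_centralizer_iff.mp hc u hu
  calc d * c * u * (d * c)⁻¹ = d * (c * u) * c⁻¹ * d⁻¹ := by group
    _ = d * (u * c) * c⁻¹ * d⁻¹ := by rw [this]
    _ = d * u * d⁻¹ := by group

theorem setup_of_sup_eq_top (hp : p.Prime) (hD : IsPGroup p D)
    (hG : D ⊔ Subgroup.centralizer (D : Set G) = ⊤) : Setup p D where
  hp := hp
  hP := hD
  normal := normal_of_sup_eq_top hG
  reg := by
    intro y hy
    haveI : Fact p.Prime := ⟨hp⟩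
    obtain ⟨d, hd, hconj⟩ := exists_conj_eq hG y
    -- conjugation by `y ^ k` is conjugation by `d ^ k`
    have hpow : ∀ k : ℕ, ∀ u ∈ D, y ^ k * u * (y ^ k)⁻¹ = d ^ k * u * (d ^ k)⁻¹ := by
      intro k
      induction k with
      | zero => intro u _; simp
      | succ k ih =>
        intro u hu
        have h1 : y ^ (k + 1) * u * (y ^ (k + 1))⁻¹ = y * (y ^ k * u * (y ^ k)⁻¹) * y⁻¹ := by
          rw [pow_succ']
          group
        have h2 : d ^ k * u * (d ^ k)⁻¹ ∈ D :=
          D.mul_mem (D.mul_mem (D.pow_mem hd k) hu) (D.inv_mem (D.pow_mem hd k))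
        rw [h1, ih u hu, hconj _ h2, pow_succ']
        group
    obtain ⟨j, hj⟩ := (IsPGroup.iff_orderOf.mp hD) ⟨d, hd⟩
    have hdj : d ^ (p ^ j) = 1 := by
      have h1 : orderOf d = p ^ j := by rw [← hj, Subgroup.orderOf_mk]
      rw [← h1]
      exact pow_orderOf_eq_one d
    have hcen : y ^ (p ^ j) ∈ Subgroup.centralizer (D : Set G) := by
      rw [Subgroup.mem_centralizer_iff]
      intro u hu
      have := hpow (p ^ j) u hu
      rw [hdj, one_mul, inv_one, mul_one] at this
      calc u * y ^ (p ^ j) = (y ^ (p ^ j) * u * (y ^ (p ^ j))⁻¹) * y ^ (p ^ j) := by rw [this]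
        _ = y ^ (p ^ j) * u := by group
    have hcop : Nat.Coprime (p ^ j) (orderOf y) :=
      Nat.Coprime.pow_left j ((Nat.Prime.coprime_iff_not_dvd hp).mpr hy)
    obtain ⟨t, ht⟩ := exists_pow_eq_self_of_coprime hcop
    rw [← ht]
    exact Subgroup.pow_mem _ hcen t

/-- class functions of `D` are `G`-invariant -/
theorem ext_inv_of_sup_eq_top (hG : D ⊔ Subgroup.centralizer (D : Set G) = ⊤) {α : D → ℂ}
    (hα : IsClassFunction D α) (g u : G) :
    extendByZero D α (g * u * g⁻¹) = extendByZero D α u := by
  haveI : D.Normal := normal_of_sup_eq_top hG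
  by_cases hu : u ∈ D
  · obtain ⟨d, hd, hconj⟩ := exists_conj_eq hG g
    rw [hconj u hu]
    have h1 : d * u * d⁻¹ ∈ D := D.mul_mem (D.mul_mem hd hu) (D.inv_mem hd)
    rw [extendByZero_of_mem D α _ h1, extendByZero_of_mem D α u hu]
    exact hα ⟨u, hu⟩ ⟨d, hd⟩
  · have h2 : g * u * g⁻¹ ∉ D := by
      intro h
      apply hu
      have := ‹D.Normal›.conj_mem _ h g⁻¹
      simpa [mul_assoc] using this
    rw [extendByZero_of_not_mem D α u hu, extendByZero_of_not_mem D α _ h2]

/-- a character with `D` in its kernel is multiplied by the trivial character under translation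
by `D` -/
theorem mult_of_le_ker (hG : D ⊔ Subgroup.centralizer (D : Set G) = ⊤) {χ : G → ℂ}
    (hχ : IsIrrCharacter G χ) (hχD : ∀ y ∈ D, χ y = χ 1) :
    Mult D χ (fun _ : D => (1 : ℂ)) where
  char := isCharacter_of_isIrrCharacter isIrrCharacter_one
  inv := ext_inv_of_sup_eq_top hG (fun _ _ => rfl)
  mul := by
    intro u g
    have hχc := isCharacter_of_isIrrCharacter hχ
    have hk : (u : G) ∈ charKer hχc := hχD u u.2
    have h1 := char_mul_of_mem_charKer hχc hk g
    have h2 : χ ((u : G) * g) = χ (g * (u : G)) := by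
      have := isClassFunction_of_isIrrCharacter hχ ((u : G) * g) g
      rw [← this]
      congr 1
      group
    rw [h2, h1, one_mul]
  norm := by
    intro u
    simp

end SetupPC

section Degree

variable {G : Type u} [Group G] [Fintype G] {p : ℕ} {M : Ideal AlgInt} {D : Subgroup G}

/-- the `p`-part of the degree of a member of `B` is at least the `p`-part of the index of a
defect group -/
theorem factorization_index_le (hM : IsPModular p M) {B : Set (IrrCharacter G)}
    (hB : IsPBlock M B) (hBD : IsDefectGroup p M B D) {χ : IrrCharacter G} (hχ : χ ∈ B) :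
    D.index.factorization p ≤ (charDegree (χ : G → ℂ)).factorization p := by
  have hp := hM.1
  have hcard := card_defectGroup hM hB hBD
  have hidx := Subgroup.card_mul_index D
  have hfac : (Nat.card G).factorization p = blockDefect p B + D.index.factorization p := by
    rw [← hidx, Nat.factorization_mul Nat.card_pos.ne' Subgroup.index_ne_zero_of_finite, hcard]
    simp [hp.factorization_self, Nat.Prime.factorization_pow hp]
  have hsInf : sInf ((fun χ : IrrCharacter G => (charDegree (χ : G → ℂ)).factorization p) '' B)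
      ≤ (charDegree (χ : G → ℂ)).factorization p := Nat.sInf_le ⟨χ, hχ, rfl⟩
  have hle : (charDegree (χ : G → ℂ)).factorization p ≤ (Nat.card G).factorization p := by
    have h1 := charDegree_dvd_card χ.2
    exact (Nat.factorization_le_iff_dvd (charDegree_pos χ.2).ne' Nat.card_pos.ne').mpr h1 p
  unfold blockDefect at hfac
  omega

/-- **The canonical character has height zero**: a member of `B` with the normal defect group
`D` in its kernel has degree with `p`-part that of the index of `D`. -/
theorem factorization_degree_of_le_ker (hM : IsPModular p M) [D.Normal]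
    {B : Set (IrrCharacter G)}
    (hB : IsPBlock M B) (hBD : IsDefectGroup p M B D) {χ : IrrCharacter G} (hχ : χ ∈ B)
    (hχD : ∀ y ∈ D, (χ : G → ℂ) y = (χ : G → ℂ) 1) :
    (charDegree (χ : G → ℂ)).factorization p = D.index.factorization p := by
  apply le_antisymm _ (factorization_index_le hM hB hBD hχ)
  obtain ⟨ψ, hψ, hχψ⟩ := exists_deflate D χ.2 hχD
  rw [hχψ, charDegree_inflate]
  haveI : Fintype (G ⧸ D) := Fintype.ofFinite _
  have h1 := charDegree_dvd_card hψ
  have h2 : Nat.card (G ⧸ D) = D.index := (Subgroup.index_eq_card D).symm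
  rw [h2] at h1
  exact (Nat.factorization_le_iff_dvd (charDegree_pos hψ).ne'
    Subgroup.index_ne_zero_of_finite).mpr h1 p

end Degree

end Cfsg.Agent.Helper18.Twist
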