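import Mathlib
import Cfsg.Prelude.Def_Blocks
import Cfsg.Agent.Lib.Helper18.BlockPC
import Cfsg.Agent.Lib.Helper18.BlockQuotP
import Cfsg.Agent.S0942

/-!
# Blocks of `G = D · C_G(D)` with defect group `D`, II (helper18's library)

The members of the block are the twists of the canonical character by the irreducible characters
of `D`.
-/

set_option autoImplicit false
set_option linter.unusedSectionVars false

namespace Cfsg.Agent.Helper18.Twist

open Cfsg Cfsg.Agent.Helper24 Cfsg.Agent.Helper5 Cfsg.Agent.Helper23.Blk Cfsg.Agent.Helper18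
open scoped ComplexConjugate

universe u

section Theta

variable {G : Type u} [Group G] [Fintype G] {p : ℕ} {M : Ideal AlgInt} {D : Subgroup G}

/-- the two properties characterizing the twist of `χ` by `ζ` -/
def IsTwistOf (p : ℕ) (D : Subgroup G) (θ : G → ℂ) (ζ : D → ℂ) (χ : G → ℂ) : Prop :=
  (∀ (y : D) (x : G), ¬ p ∣ orderOf x → Commute (y : G) x → θ ((y : G) * x) = ζ y * χ x) ∧
  (∀ z : G, (∀ y : G, IsPPart p z y → y ∉ D) → θ z = 0)

theorem isTwistOf_twist (S : Setup p D) (ζ : D → ℂ) (χ : G → ℂ) :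
    IsTwistOf p D (twist p (extendByZero D ζ) χ) ζ χ := by
  have ha0 : ∀ u, u ∉ D → extendByZero D ζ u = 0 := fun u hu =>
    extendByZero_of_not_mem D ζ u hu
  constructor
  · intro y x hx _
    rw [twist_apply_mul S ha0 χ y.2 hx, Cfsg.Agent.Helper5.extendByZero_coe]
  · intro z hz
    apply twist_eq_zero ha0
    intro u hu
    by_contra hreg
    apply hz u _ hu
    exact ⟨u⁻¹ * z, mul_inv_cancel_left u z, S.commute hu hreg, S.orderOf_eq hu, hreg⟩

theorem eq_twist_of_isTwistOf (S : Setup p D) {θ : G → ℂ} {ζ : D → ℂ} {χ : G → ℂ}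
    (h : IsTwistOf p D θ ζ χ) : θ = twist p (extendByZero D ζ) χ := by
  have ha0 : ∀ u, u ∉ D → extendByZero D ζ u = 0 := fun u hu =>
    extendByZero_of_not_mem D ζ u hu
  funext g
  obtain ⟨z, hz⟩ := exists_isPPart S.hp g (orderOf_pos g)
  obtain ⟨y, hzy, hc, hk, hy⟩ := hz
  by_cases hzD : z ∈ D
  · rw [← hzy, twist_apply_mul S ha0 χ hzD hy, extendByZero_of_mem D ζ z hzD]
    exact h.1 ⟨z, hzD⟩ y hy hc
  · have hall : ∀ z' : G, IsPPart p g z' → z' ∉ D := by
      intro z' hz'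
      rw [← hzy] at hz'
      rw [Cfsg.Agent.S0942.isPPart_unique S.hp hk hy hc hz']
      exact hzD
    rw [h.2 g hall, (isTwistOf_twist S ζ χ).2 g hall]

/-- the standing hypotheses -/
structure PCData (p : ℕ) (M : Ideal AlgInt) (D : Subgroup G) (B : Set (IrrCharacter G))
    (χ : IrrCharacter G) : Prop where
  hM : IsPModular p M
  hD : IsPGroup p D
  hG : D ⊔ Subgroup.centralizer (D : Set G) = ⊤
  hB : IsPBlock M B
  hBD : IsDefectGroup p M B D
  hχ : χ ∈ B
  hχD : ∀ y ∈ D, (χ : G → ℂ) y = (χ : G → ℂ) 1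

variable {B : Set (IrrCharacter G)} {χ : IrrCharacter G}

theorem PCData.setup (h : PCData p M D B χ) : Setup p D :=
  setup_of_sup_eq_top h.hM.1 h.hD h.hG

theorem PCData.hdeg (h : PCData p M D B χ) :
    (charDegree (χ : G → ℂ)).factorization p = D.index.factorization p := by
  haveI : D.Normal := normal_of_sup_eq_top h.hG
  exact factorization_degree_of_le_ker h.hM h.hB h.hBD h.hχ h.hχD

theorem PCData.isIrr (h : PCData p M D B χ) (ζ : IrrCharacter D) :
    IsIrrCharacter G (twist p (extendByZero D (ζ : D → ℂ)) (χ : G → ℂ)) :=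
  isIrr_twist h.setup χ.2 h.hdeg (mult_of_le_ker h.hG χ.2 h.hχD) ζ.2
    (ext_inv_of_sup_eq_top h.hG (isClassFunction_of_isIrrCharacter ζ.2))

/-- the twist of the canonical character by `ζ` -/
noncomputable def PCData.theta (h : PCData p M D B χ) (ζ : IrrCharacter D) : IrrCharacter G :=
  ⟨twist p (extendByZero D (ζ : D → ℂ)) (χ : G → ℂ), h.isIrr ζ⟩

theorem PCData.theta_coe (h : PCData p M D B χ) (ζ : IrrCharacter D) :
    ((h.theta ζ : IrrCharacter G) : G → ℂ) =
      twist p (extendByZero D (ζ : D → ℂ)) (χ : G → ℂ) := rfl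

theorem PCData.theta_one (h : PCData p M D B χ) (ζ : IrrCharacter D) :
    ((h.theta ζ : IrrCharacter G) : G → ℂ) 1 = (ζ : D → ℂ) 1 * (χ : G → ℂ) 1 := by
  rw [h.theta_coe, twist_one h.setup]

theorem PCData.theta_reg (h : PCData p M D B χ) (ζ : IrrCharacter D) {g : G}
    (hg : ¬ p ∣ orderOf g) :
    ((h.theta ζ : IrrCharacter G) : G → ℂ) g = (ζ : D → ℂ) 1 * (χ : G → ℂ) g := by
  have h1 := (isTwistOf_twist h.setup (ζ : D → ℂ) (χ : G → ℂ)).1 1 g hg (Commute.one_left g)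
  rw [OneMemClass.coe_one, one_mul] at h1
  rw [h.theta_coe, h1]

theorem PCData.theta_mem (h : PCData p M D B χ) (ζ : IrrCharacter D) : h.theta ζ ∈ B := by
  haveI : M.IsPrime := h.hM.2.1.isPrime
  haveI : Fintype D := Fintype.ofFinite D
  obtain ⟨χ₀, hB0⟩ := h.hB
  have hχ0 : χ ∈ blockOf M (χ₀ : G → ℂ) := hB0 ▸ h.hχ
  have key : ∀ θ' : IrrCharacter G, θ' ∈ blockOf M (χ : G → ℂ) → θ' ∈ B := by
    intro θ' hθ'
    rw [hB0, ← blockOf_eq_of_mem hχ0]
    exact hθ'
  apply key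
  apply sameBlock_of_congr_on_pRegular h.hM
  intro g hg
  have hζ1 : (ζ : D → ℂ) 1 ≠ 0 := irr_one_ne_zero ζ.2
  have hχ1 : (χ : G → ℂ) 1 ≠ 0 := irr_one_ne_zero χ.2
  have : centralChar (χ : G → ℂ) g = centralChar ((h.theta ζ : IrrCharacter G) : G → ℂ) g := by
    unfold centralChar
    rw [h.theta_reg ζ hg, h.theta_one]
    field_simp
  rw [this, sub_self]
  exact memLocalIdeal_zero ne_top

theorem PCData.theta_injective (h : PCData p M D B χ) : Function.Injective h.theta := by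
  intro ζ₁ ζ₂ h12
  apply Subtype.ext
  funext y
  have hχ1 : (χ : G → ℂ) 1 ≠ 0 := irr_one_ne_zero χ.2
  have hone : ¬ p ∣ orderOf (1 : G) := by
    rw [orderOf_one]
    exact h.hM.1.one_lt.ne' ∘ Nat.dvd_one.mp
  have h1 := (isTwistOf_twist h.setup (ζ₁ : D → ℂ) (χ : G → ℂ)).1 y 1 hone (Commute.one_right _)
  have h2 := (isTwistOf_twist h.setup (ζ₂ : D → ℂ) (χ : G → ℂ)).1 y 1 hone (Commute.one_right _)
  rw [← h.theta_coe, h12, h.theta_coe, h2] at h1
  exact (mul_right_cancel₀ hχ1 h1).symm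

/-- **Uniqueness of the canonical character.** -/
theorem PCData.eq_of_le_ker (h : PCData p M D B χ) {θ : IrrCharacter G} (hθ : θ ∈ B)
    (hθD : ∀ y ∈ D, (θ : G → ℂ) y = (θ : G → ℂ) 1) : θ = χ := by
  classical
  haveI : M.IsPrime := h.hM.2.1.isPrime
  haveI : D.Normal := normal_of_sup_eq_top h.hG
  haveI : Fintype (G ⧸ D) := Fintype.ofFinite _
  have hp := h.hM.1
  haveI : Fact p.Prime := ⟨hp⟩
  set χb : IrrCharacter (G ⧸ D) := (inflateEquiv D).symm ⟨χ, h.hχD⟩ with hχb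
  set η : IrrCharacter (G ⧸ D) := (inflateEquiv D).symm ⟨θ, hθD⟩ with hη
  have hχ' : ((inflateEquiv D χb).1 : IrrCharacter G) = χ := by
    rw [hχb, Equiv.apply_symm_apply]
  have hθ' : ((inflateEquiv D η).1 : IrrCharacter G) = θ := by
    rw [hη, Equiv.apply_symm_apply]
  have hχc : (χ : G → ℂ) = (χb : G ⧸ D → ℂ) ∘ (QuotientGroup.mk : G → G ⧸ D) := by
    rw [← inflateEquiv_coe, hχ']
  have hθc : (θ : G → ℂ) = (η : G ⧸ D → ℂ) ∘ (QuotientGroup.mk : G → G ⧸ D) := by
    rw [← inflateEquiv_coe, hθ']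
  -- `χb` has defect zero
  have hdz : ¬ p ∣ Nat.card (G ⧸ D) / charDegree (χb : G ⧸ D → ℂ) := by
    have hdeg := h.hdeg
    rw [hχc, charDegree_inflate] at hdeg
    have hcard : Nat.card (G ⧸ D) = D.index := (Subgroup.index_eq_card D).symm
    rw [hcard]
    obtain ⟨q, hq⟩ : charDegree (χb : G ⧸ D → ℂ) ∣ D.index := by
      rw [← hcard]
      exact charDegree_dvd_card χb.2
    have hpos := charDegree_pos χb.2
    rw [hq, Nat.mul_div_cancel_left _ hpos]
    intro hpq
    have hq0 : q ≠ 0 := by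
      rintro rfl
      rw [mul_zero] at hq
      exact Subgroup.index_ne_zero_of_finite hq
    have h1 : 1 ≤ q.factorization p :=
      (hp.dvd_iff_one_le_factorization hq0).mp hpq
    rw [hq, Nat.factorization_mul hpos.ne' hq0] at hdeg
    simp only [Finsupp.coe_add, Pi.add_apply] at hdeg
    omega
  have hsing := (not_dvd_iff_blockOf_eq_singleton h.hM χb).mp hdz
  have hηmem : η ∈ blockOf M (χb : G ⧸ D → ℂ) := by
    apply sameBlock_of_congr_on_pRegular h.hM
    intro yb hyb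
    obtain ⟨y, hy, rfl⟩ := exists_pRegular_lift D hp yb hyb
    have hyc := h.setup.reg y hy
    rw [← centralChar_comp_mk_eq D hp h.hD (χb : G ⧸ D → ℂ) hy hyc,
      ← centralChar_comp_mk_eq D hp h.hD (η : G ⧸ D → ℂ) hy hyc, ← hχc, ← hθc]
    obtain ⟨χ₀, hB0⟩ := h.hB
    have hχ0 : χ ∈ blockOf M (χ₀ : G → ℂ) := hB0 ▸ h.hχ
    have hθ0 : θ ∈ blockOf M (χ₀ : G → ℂ) := hB0 ▸ hθ
    exact sameBlock_trans (sameBlock_symm hχ0) hθ0 y
  rw [hsing] at hηmem
  have : η = χb := hηmem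
  rw [← hθ', ← hχ', this]

end Theta

end Cfsg.Agent.Helper18.Twist
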