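import Mathlib
import Cfsg.Prelude.Def_Blocks
import Cfsg.Agent.Lib.Helper18.BlockPC2

/-!
# Blocks of `G = D · C_G(D)` with defect group `D`, III (helper18's library)

Counting: every member of the block is a twist of the canonical character.
-/

set_option autoImplicit false
set_option linter.unusedSectionVars false

namespace Cfsg.Agent.Helper18.Twist

open Cfsg Cfsg.Agent.Helper24 Cfsg.Agent.Helper5 Cfsg.Agent.Helper23.Blk Cfsg.Agent.Helper18
open scoped ComplexConjugate

universe u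

section Count

variable {G : Type u} [Group G] [Fintype G] {p : ℕ} {M : Ideal AlgInt} {D : Subgroup G}
  {B : Set (IrrCharacter G)} {χ : IrrCharacter G}

theorem PCData.charDegree_theta (h : PCData p M D B χ) (ζ : IrrCharacter D) :
    charDegree ((h.theta ζ : IrrCharacter G) : G → ℂ) =
      charDegree (ζ : D → ℂ) * charDegree (χ : G → ℂ) := by
  haveI : Fintype D := Fintype.ofFinite D
  have h1 := h.theta_one ζ
  rw [irr_one_eq_charDegree (h.theta ζ).2, irr_one_eq_charDegree ζ.2,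
    irr_one_eq_charDegree χ.2] at h1
  exact_mod_cast h1

/-- **The members of the block are the twists of the canonical character.** -/
theorem PCData.mem_iff (h : PCData p M D B χ) (θ : IrrCharacter G) :
    θ ∈ B ↔ ∃ ζ : IrrCharacter D, θ = h.theta ζ := by
  classical
  constructor
  swap
  · rintro ⟨ζ, rfl⟩
    exact h.theta_mem ζ
  intro hθB
  haveI : M.IsPrime := h.hM.2.1.isPrime
  haveI : D.Normal := normal_of_sup_eq_top h.hG
  haveI : Fintype D := Fintype.ofFinite D
  haveI : Fintype (G ⧸ D) := Fintype.ofFinite _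
  letI : Fintype (IrrCharacter G) := irrFintype
  letI : Fintype (IrrCharacter D) := irrFintype
  have hp := h.hM.1
  set χb : IrrCharacter (G ⧸ D) := (inflateEquiv D).symm ⟨χ, h.hχD⟩ with hχb
  have hχ' : ((inflateEquiv D χb).1 : IrrCharacter G) = χ := by
    rw [hχb, Equiv.apply_symm_apply]
  have hχc : (χ : G → ℂ) = (χb : G ⧸ D → ℂ) ∘ (QuotientGroup.mk : G → G ⧸ D) := by
    rw [← inflateEquiv_coe, hχ']
  have hA : {ψ : IrrCharacter (G ⧸ D) | ((inflateEquiv D ψ).1 : IrrCharacter G) ∈ B} = {χb} := by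
    ext ψ
    simp only [Set.mem_setOf_eq, Set.mem_singleton_iff]
    constructor
    · intro hψ
      have h1 := h.eq_of_le_ker hψ (inflateEquiv D ψ).2
      apply (inflateEquiv D).injective
      apply Subtype.ext
      rw [h1, hχ']
    · rintro rfl
      rw [hχ']
      exact h.hχ
  have hone : ¬ p ∣ orderOf (1 : G) := by
    rw [orderOf_one]
    exact hp.one_lt.ne' ∘ Nat.dvd_one.mp
  have h1 := blockCoeff_quot_eq_sum D B (1 : G)
  rw [hA] at h1
  have h2 := sum_blockCoeff_coset h.hM h.hB D h.hD hone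
  rw [h2, blockCoeff_singleton] at h1
  have h3 : blockCoeff B 1 = (Nat.card G : ℂ)⁻¹ *
      ∑ θ : IrrCharacter G, if θ ∈ B then (θ : G → ℂ) 1 * conj ((θ : G → ℂ) 1) else 0 := by
    unfold blockCoeff
    rw [finsum_mem_def, finsum_eq_sum_of_fintype]
    congr 1
  have hdegθ : ∀ θ : IrrCharacter G, (θ : G → ℂ) 1 * conj ((θ : G → ℂ) 1) =
      ((charDegree (θ : G → ℂ) ^ 2 : ℕ) : ℂ) := by
    intro θ
    rw [conj_irr_one θ.2, irr_one_eq_charDegree θ.2]
    push_cast
    ring
  have hχb1 : (χb : G ⧸ D → ℂ) 1 = (χ : G → ℂ) 1 := by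
    rw [hχc]
    simp
  have hχb1' : (χb : G ⧸ D → ℂ) ((1 : G) : G ⧸ D) = (χ : G → ℂ) 1 := by
    rw [hχc]
    simp
  rw [h3, hχb1, hχb1', hdegθ] at h1
  have hcardG : (Nat.card G : ℂ) = (Nat.card (G ⧸ D) : ℂ) * (Nat.card D : ℂ) := by
    have := Subgroup.card_eq_card_quotient_mul_card_subgroup D
    exact_mod_cast this
  have hQ0 : (Nat.card (G ⧸ D) : ℂ) ≠ 0 := by
    have : Nat.card (G ⧸ D) ≠ 0 := Nat.card_pos.ne'
    exact_mod_cast this
  have hD0 : (Nat.card D : ℂ) ≠ 0 := by
    have : Nat.card D ≠ 0 := Nat.card_pos.ne'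
    exact_mod_cast this
  -- the sum over the block
  have hsumB : ∑ θ : IrrCharacter G, (if θ ∈ B then charDegree (θ : G → ℂ) ^ 2 else 0) =
      Nat.card D * charDegree (χ : G → ℂ) ^ 2 := by
    have hc : ((∑ θ : IrrCharacter G, (if θ ∈ B then charDegree (θ : G → ℂ) ^ 2 else 0) : ℕ) : ℂ)
        = ((Nat.card D * charDegree (χ : G → ℂ) ^ 2 : ℕ) : ℂ) := by
      have h4 : ∑ θ : IrrCharacter G,
          (if θ ∈ B then (θ : G → ℂ) 1 * conj ((θ : G → ℂ) 1) else 0) =
          ((∑ θ : IrrCharacter G, (if θ ∈ B then charDegree (θ : G → ℂ) ^ 2 else 0) : ℕ) : ℂ) := by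
        rw [Nat.cast_sum]
        apply Finset.sum_congr rfl
        intro θ _
        split_ifs
        · rw [hdegθ]
        · simp
      rw [h4, hcardG] at h1
      set X : ℂ := ((∑ θ : IrrCharacter G,
        (if θ ∈ B then charDegree (θ : G → ℂ) ^ 2 else 0) : ℕ) : ℂ) with hX
      rw [Nat.cast_mul]
      have h5 : (Nat.card (G ⧸ D) : ℂ)⁻¹ * ((charDegree (χ : G → ℂ) ^ 2 : ℕ) : ℂ) =
          ((Nat.card (G ⧸ D) : ℂ) * (Nat.card D : ℂ))⁻¹ * X := h1
      field_simp at h5
      rw [← h5]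
      ring
    exact_mod_cast hc
  -- the sum over the twists
  have hsumT : ∑ ζ : IrrCharacter D, charDegree ((h.theta ζ : IrrCharacter G) : G → ℂ) ^ 2 =
      Nat.card D * charDegree (χ : G → ℂ) ^ 2 := by
    rw [← sum_charDegree_sq (G := D), Finset.sum_mul]
    apply Finset.sum_congr rfl
    intro ζ _
    rw [h.charDegree_theta, mul_pow]
  by_contra hno
  push Not at hno
  set f : IrrCharacter G → ℕ := fun θ => charDegree (θ : G → ℂ) ^ 2 with hf
  set SB : Finset (IrrCharacter G) := Finset.univ.filter (· ∈ B) with hSB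
  set T : Finset (IrrCharacter G) := Finset.univ.image h.theta with hT
  have hsub : T ⊆ SB := by
    intro θ' hθ'
    rw [hT, Finset.mem_image] at hθ'
    obtain ⟨ζ, -, rfl⟩ := hθ'
    rw [hSB, Finset.mem_filter]
    exact ⟨Finset.mem_univ _, h.theta_mem ζ⟩
  have hsd := Finset.sum_sdiff (f := f) hsub
  have hST : ∑ θ' ∈ T, f θ' = Nat.card D * charDegree (χ : G → ℂ) ^ 2 := by
    rw [hT, Finset.sum_image (fun a _ b _ hab => h.theta_injective hab)]
    exact hsumT
  have hSS : ∑ θ' ∈ SB, f θ' = Nat.card D * charDegree (χ : G → ℂ) ^ 2 := by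
    rw [hSB, Finset.sum_filter]
    exact hsumB
  rw [hST, hSS] at hsd
  have hzero : ∑ θ' ∈ SB \ T, f θ' = 0 := by omega
  have hmem : θ ∈ SB \ T := by
    rw [Finset.mem_sdiff, hSB, Finset.mem_filter, hT, Finset.mem_image]
    refine ⟨⟨Finset.mem_univ _, hθB⟩, ?_⟩
    rintro ⟨ζ, -, hζ⟩
    exact hno ζ hζ.symm
  have := (Finset.sum_eq_zero_iff.mp hzero) θ hmem
  have hpos := charDegree_pos θ.2
  simp only [hf] at this
  have h6 : charDegree (θ : G → ℂ) = 0 := by
    exact pow_eq_zero_iff (two_ne_zero) |>.mp this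
  omega

/-- the number of members of the block -/
theorem PCData.card_eq (h : PCData p M D B χ) : Nat.card B = Nat.card (ConjClasses D) := by
  classical
  haveI : Fintype D := Fintype.ofFinite D
  letI : Fintype (IrrCharacter D) := irrFintype
  rw [← card_irr_eq_card_conjClasses]
  symm
  apply Nat.card_congr
  refine Equiv.ofBijective (fun ζ => ⟨h.theta ζ, h.theta_mem ζ⟩) ⟨?_, ?_⟩
  · intro a b hab
    apply h.theta_injective
    exact congrArg Subtype.val hab
  · rintro ⟨θ, hθ⟩
    obtain ⟨ζ, rfl⟩ := (h.mem_iff θ).mp hθ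
    exact ⟨ζ, rfl⟩

end Count

end Cfsg.Agent.Helper18.Twist
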