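import Mathlib
import Cfsg.Prelude.Def_Blocks
import Cfsg.Agent.Lib.Helper5.TLRDefs
import Cfsg.Agent.Lib.Helper5.TLDDefs
import Cfsg.Agent.Lib.Helper24.CharComplete
import Cfsg.Agent.Lib.Helper24.CharHom
import Cfsg.Agent.Lib.Helper24.CharQuotient
import Cfsg.Agent.Lib.Helper1.TLDFPK
import Cfsg.Agent.Lib.Helper2.TLDGT2

/-!
# S4442 Layer D, piece DEXP (helper18): expansion of `c ↦ χ (a c)` on the `p`-regular elements of
`C = P × K` in terms of the irreducible characters of `C` with `P` in their kernel.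
-/

set_option autoImplicit false
set_option linter.unusedSectionVars false
set_option linter.unusedVariables false
set_option linter.style.haveILetI false

namespace Cfsg.Agent.Helper5.TLD

open scoped ComplexConjugate
open Cfsg Cfsg.Agent.Helper5.TLR Cfsg.Agent.Helper24

universe u

section Congr

variable {A B : Type u} [Group A] [Group B]

/-- transport of irreducible characters along a group isomorphism -/
noncomputable def dexpIrrCongr (e : A ≃* B) : IrrCharacter B ≃ IrrCharacter A where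
  toFun ψ := ⟨(ψ : B → ℂ) ∘ e, isIrrCharacter_comp_of_surjective e.toMonoidHom e.surjective ψ.2⟩
  invFun ψ := ⟨(ψ : A → ℂ) ∘ e.symm,
    isIrrCharacter_comp_of_surjective e.symm.toMonoidHom e.symm.surjective ψ.2⟩
  left_inv ψ := by
    apply Subtype.ext
    funext x
    simp
  right_inv ψ := by
    apply Subtype.ext
    funext x
    simp

theorem dexpIrrCongr_apply (e : A ≃* B) (ψ : IrrCharacter B) (x : A) :
    ((dexpIrrCongr e ψ : IrrCharacter A) : A → ℂ) x = (ψ : B → ℂ) (e x) := rfl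

theorem dexpIrrCongr_symm_apply (e : A ≃* B) (ψ : IrrCharacter A) (x : B) :
    (((dexpIrrCongr e).symm ψ : IrrCharacter B) : B → ℂ) x = (ψ : A → ℂ) (e.symm x) := rfl

end Congr

variable (p : ℕ) [Fact p.Prime] {G : Type u} [Group G] [Finite G]

/-- the data `K ≃* C ⧸ P` -/
theorem dexp_iso (P : Sylow p G) (hP : Nat.card P = p) (K : Subgroup G)
    (hK1 : ∀ y : G, y ∈ K ↔
      (y ∈ Subgroup.centralizer ((P : Subgroup G) : Set G) ∧ ¬ p ∣ orderOf y))
    (hdec : ∀ c : G, (∀ u ∈ (P : Subgroup G), c * u = u * c) →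
        ∃ u k : G, u ∈ (P : Subgroup G) ∧ k ∈ K ∧ c = u * k)
    [((P : Subgroup G).subgroupOf (Subgroup.centralizer ((P : Subgroup G) : Set G))).Normal] :
    ∃ ι : K ≃* (Subgroup.centralizer ((P : Subgroup G) : Set G)) ⧸
        ((P : Subgroup G).subgroupOf (Subgroup.centralizer ((P : Subgroup G) : Set G))),
      ∀ k : K, ι k = QuotientGroup.mk
        (⟨(k : G), ((hK1 k).1 k.2).1⟩ : Subgroup.centralizer ((P : Subgroup G) : Set G)) := by
  classical
  have hp : p.Prime := Fact.out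
  set C := Subgroup.centralizer ((P : Subgroup G) : Set G) with hC
  set P' := (P : Subgroup G).subgroupOf C with hP'
  have hKC : K ≤ C := fun k hk => ((hK1 k).1 hk).1
  set f : K →* C ⧸ P' := (QuotientGroup.mk' P').comp (Subgroup.inclusion hKC) with hf
  have hfk : ∀ k : K, f k = QuotientGroup.mk (⟨(k : G), ((hK1 k).1 k.2).1⟩ : C) := fun k => rfl
  have hinj : Function.Injective f := by
    rw [injective_iff_map_eq_one]
    intro k hk
    rw [hfk, QuotientGroup.eq_one_iff, hP', Subgroup.mem_subgroupOf] at hk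
    -- `k ∈ P` and `k` is `p`-regular
    have hk2 : ¬ p ∣ orderOf (k : G) := ((hK1 k).1 k.2).2
    have hk3 : orderOf (⟨(k : G), hk⟩ : (P : Subgroup G)) ∣ p := by
      have h0 := orderOf_dvd_natCard (⟨(k : G), hk⟩ : (P : Subgroup G))
      rw [hP] at h0
      exact h0
    rw [Subgroup.orderOf_mk] at hk3
    rcases (Nat.dvd_prime hp).1 hk3 with h1 | h1
    · apply Subtype.ext
      exact orderOf_eq_one_iff.1 h1
    · exact absurd (h1 ▸ dvd_rfl) hk2
  have hsurj : Function.Surjective f := by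
    intro x
    obtain ⟨c, rfl⟩ := QuotientGroup.mk_surjective x
    have hc : ∀ u ∈ (P : Subgroup G), (c : G) * u = u * (c : G) := by
      intro u hu
      have := Subgroup.mem_centralizer_iff.1 c.2 u hu
      exact this.symm
    obtain ⟨u, k, hu, hk, huk⟩ := hdec (c : G) hc
    refine ⟨⟨k, hk⟩, ?_⟩
    rw [hfk]
    have huC : u ∈ C := by
      have hkC : k ∈ C := hKC hk
      have : u = (c : G) * k⁻¹ := by rw [huk]; group
      rw [this]
      exact C.mul_mem c.2 (C.inv_mem hkC)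
    have hcu : c = (⟨u, huC⟩ : C) * ⟨k, hKC hk⟩ := Subtype.ext huk
    rw [hcu]
    symm
    rw [QuotientGroup.mk_mul]
    have : (QuotientGroup.mk (⟨u, huC⟩ : C) : C ⧸ P') = 1 := by
      rw [QuotientGroup.eq_one_iff, hP', Subgroup.mem_subgroupOf]
      exact hu
    rw [this, one_mul]
  exact ⟨MulEquiv.ofBijective f ⟨hinj, hsurj⟩, fun k => rfl⟩

variable (P : Sylow p G)

local notation "𝒞" => Subgroup.centralizer ((P : Subgroup G) : Set G)
local notation "𝒫" => Subgroup.subgroupOf (P : Subgroup G) (Subgroup.centralizer ((P : Subgroup G) : Set G))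

/-- PIECE DEXP: expansion of `c ↦ χ (a c)` on the `p`-regular elements of `C = P × K` in terms of
the irreducible characters of `C` with `P` in their kernel. -/
theorem expand_FP (hP : Nat.card P = p) (χ : G → ℂ) (hχ : IsClassFunction G χ)
    (a : G) (ha : a ∈ (P : Subgroup G))
    (c : Subgroup.centralizer ((P : Subgroup G) : Set G)) (hc : ¬ p ∣ orderOf c) :
    χ (a * (c : G)) =
      ∑ᶠ φ ∈ {φ : IrrCharacter (Subgroup.centralizer ((P : Subgroup G) : Set G)) |
          ∀ x : Subgroup.centralizer ((P : Subgroup G) : Set G), (x : G) ∈ (P : Subgroup G) →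
            (φ : Subgroup.centralizer ((P : Subgroup G) : Set G) → ℂ) x =
              (φ : Subgroup.centralizer ((P : Subgroup G) : Set G) → ℂ) 1},
        FP p P (φ : Subgroup.centralizer ((P : Subgroup G) : Set G) → ℂ) χ a *
          (φ : Subgroup.centralizer ((P : Subgroup G) : Set G) → ℂ) c := by
  classical
  obtain ⟨K, n₀, hK1, hKp, -, hdec, -, -, -, -⟩ := exists_pcore' p P hP
  have hKC : K ≤ 𝒞 := fun k hk => ((hK1 k).1 hk).1
  haveI hnorm : Subgroup.Normal 𝒫 := by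
    constructor
    intro n hn g
    rw [Subgroup.mem_subgroupOf] at hn ⊢
    have h1 := Subgroup.mem_centralizer_iff.1 g.2 (n : G) hn
    have h2 : ((g * n * g⁻¹ : 𝒞) : G) = (n : G) := by
      push_cast
      rw [← h1]
      group
    rw [h2]
    exact hn
  obtain ⟨ι, hι⟩ := dexp_iso p P hP K hK1 hdec
  haveI : Fintype K := Fintype.ofFinite K
  haveI : Fintype (IrrCharacter K) := irrFintype
  -- the bijection
  set E : IrrCharacter K ≃ {φ : IrrCharacter 𝒞 // ∀ n ∈ 𝒫, (φ : 𝒞 → ℂ) n = (φ : 𝒞 → ℂ) 1} :=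
    (dexpIrrCongr ι).symm.trans (inflateEquiv 𝒫) with hE
  have hEk : ∀ (ϑ : IrrCharacter K) (k : K),
      (((E ϑ).1 : IrrCharacter 𝒞) : 𝒞 → ℂ) ⟨(k : G), hKC k.2⟩ = (ϑ : K → ℂ) k := by
    intro ϑ k
    rw [hE, Equiv.trans_apply, inflateEquiv_coe, Function.comp_apply, ← hι k,
      dexpIrrCongr_symm_apply, MulEquiv.symm_apply_apply]
  -- the class function
  set ψ : K → ℂ := fun k => χ (a * (k : G)) with hψ
  have hψcf : IsClassFunction K ψ := by
    intro g h
    show χ (a * ((h * g * h⁻¹ : K) : G)) = χ (a * (g : G))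
    have hcomm : (h : G) * a = a * (h : G) :=
      Subgroup.mem_centralizer_iff.1 (hKC h.2) a ha |>.symm
    have : a * ((h * g * h⁻¹ : K) : G) = (h : G) * (a * (g : G)) * (h : G)⁻¹ := by
      push_cast
      rw [mul_assoc (h : G), ← mul_assoc (h : G) a, hcomm]
      group
    rw [this, hχ]
  have hexp := classFunction_expansion hψcf
  -- `c` lies in `K`
  have hcK : (c : G) ∈ K := by
    rw [hK1]
    refine ⟨c.2, ?_⟩
    rw [Subgroup.orderOf_coe]
    exact hc
  have h1 := congrFun hexp ⟨(c : G), hcK⟩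
  rw [Finset.sum_apply] at h1
  have h2 : ψ ⟨(c : G), hcK⟩ = χ (a * (c : G)) := rfl
  rw [h2] at h1
  rw [h1]
  -- the right hand side
  have hset : {φ : IrrCharacter 𝒞 | ∀ x : 𝒞, (x : G) ∈ (P : Subgroup G) →
      (φ : 𝒞 → ℂ) x = (φ : 𝒞 → ℂ) 1} = {φ : IrrCharacter 𝒞 | ∀ n ∈ 𝒫, (φ : 𝒞 → ℂ) n = (φ : 𝒞 → ℂ) 1} := by
    ext φ
    rfl
  rw [hset, ← finsum_set_coe_eq_finsum_mem]
  have hfin : (∑ᶠ j : ↑{φ : IrrCharacter 𝒞 | ∀ n ∈ 𝒫, (φ : 𝒞 → ℂ) n = (φ : 𝒞 → ℂ) 1},
      FP p P ((j : IrrCharacter 𝒞) : 𝒞 → ℂ) χ a * ((j : IrrCharacter 𝒞) : 𝒞 → ℂ) c) =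
      ∑ ϑ : IrrCharacter K, FP p P (((E ϑ).1 : IrrCharacter 𝒞) : 𝒞 → ℂ) χ a *
        (((E ϑ).1 : IrrCharacter 𝒞) : 𝒞 → ℂ) c := by
    rw [← finsum_eq_sum_of_fintype]
    exact (finsum_comp_equiv E (f := fun j : {φ : IrrCharacter 𝒞 // ∀ n ∈ 𝒫,
      (φ : 𝒞 → ℂ) n = (φ : 𝒞 → ℂ) 1} =>
      FP p P ((j.1 : IrrCharacter 𝒞) : 𝒞 → ℂ) χ a * ((j.1 : IrrCharacter 𝒞) : 𝒞 → ℂ) c)).symm
  rw [hfin]
  refine Finset.sum_congr rfl fun ϑ _ => ?_
  rw [Pi.smul_apply, smul_eq_mul]
  have h3 : (((E ϑ).1 : IrrCharacter 𝒞) : 𝒞 → ℂ) c = (ϑ : K → ℂ) ⟨(c : G), hcK⟩ := by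
    rw [← hEk ϑ ⟨(c : G), hcK⟩]
  have h4 : FP p P (((E ϑ).1 : IrrCharacter 𝒞) : 𝒞 → ℂ) χ a = classInner ψ (ϑ : K → ℂ) := by
    rw [FP_eq_sum p P K hK1, classInner, Nat.card_eq_fintype_card]
    congr 1
    refine Finset.sum_congr rfl fun k _ => ?_
    rw [← hEk ϑ k]
  show classInner ψ (ϑ : K → ℂ) * (ϑ : K → ℂ) ⟨(c : G), hcK⟩ = _
  rw [← h3, ← h4]

end Cfsg.Agent.Helper5.TLD
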