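import Mathlib
import Cfsg.Prelude.Def_Blocks
import Cfsg.Agent.Lib.Helper5.TLRDefs
import Cfsg.Agent.Lib.Helper5.TLDDefs
import Cfsg.Agent.Lib.Helper24.CharComplete
import Cfsg.Agent.Lib.Helper1.TLDDCHAR
import Cfsg.Agent.Lib.Helper1.TLDDCONJ
import Cfsg.Agent.Lib.Helper2.TLDDORB
import Cfsg.Agent.Lib.Helper2.TLDDVAN
import Cfsg.Agent.Lib.Helper18.TLDDEXP

/-!
# S4442 Layer D, piece DDEG, core (helper18): `χ 1 ≡ (f / e) θ 1 F_χ 1 (mod p)`, with the dichotomy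
(piece DDICH) as a hypothesis.
-/

set_option autoImplicit false
set_option linter.unusedSectionVars false
set_option linter.unusedVariables false
set_option linter.style.haveILetI false

namespace Cfsg.Agent.Helper5.TLD

open scoped ComplexConjugate
open Cfsg Cfsg.Agent.Helper5.TLR Cfsg.Agent.Helper24

variable (p : ℕ) [Fact p.Prime] {G : Type*} [Group G] [Finite G]

variable (P : Sylow p G)

local notation "𝒞" => Subgroup.centralizer ((P : Subgroup G) : Set G)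
local notation "𝒩" => Subgroup.normalizer ((P : Subgroup G) : Set G)

/-- DDEG with DDICH as a hypothesis -/
theorem degree_congr_of (hP : Nat.card P = p)
    (θ : IrrCharacter 𝒞)
    (hθP : ∀ x : 𝒞, (x : G) ∈ (P : Subgroup G) → (θ : 𝒞 → ℂ) x = (θ : 𝒞 → ℂ) 1)
    (T : Subgroup G)
    (hT : ∀ g : G, g ∈ T ↔ (g ∈ 𝒩 ∧
      ∀ c c' : 𝒞, (c' : G) = g * c * g⁻¹ → (θ : 𝒞 → ℂ) c' = (θ : 𝒞 → ℂ) c))
    (e f : ℕ) (he : (𝒞).relIndex T = e) (hf : (𝒞).relIndex 𝒩 = f)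
    (χ : IrrCharacter G)
    (hdich : ∀ φ : IrrCharacter 𝒞,
      (∀ x : 𝒞, (x : G) ∈ (P : Subgroup G) → (φ : 𝒞 → ℂ) x = (φ : 𝒞 → ℂ) 1) →
      (∃ n ∈ 𝒩, ∀ c c' : 𝒞, (c' : G) = n * c * n⁻¹ → (φ : 𝒞 → ℂ) c = (θ : 𝒞 → ℂ) c') ∨
      (∀ a : G, a ∈ (P : Subgroup G) → a ≠ 1 → FP p P (φ : 𝒞 → ℂ) (χ : G → ℂ) a = 0))
    (z : ℤ) (hz : FP p P (θ : 𝒞 → ℂ) (χ : G → ℂ) 1 = (z : ℂ)) :
    (charDegree (χ : G → ℂ) : ℤ) ≡
      ((f / e * charDegree (θ : 𝒞 → ℂ) : ℕ) : ℤ) * z [ZMOD p] := by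
  classical
  haveI : Fintype (IrrCharacter 𝒞) := irrFintype
  have hχcf : IsClassFunction G (χ : G → ℂ) := isClassFunction_of_isIrrCharacter χ.2
  -- the expansion at `a = 1`, `c = 1`
  have h1 := expand_FP p P hP (χ : G → ℂ) hχcf 1 (P : Subgroup G).one_mem (1 : 𝒞)
    (by
      rw [orderOf_one]
      exact (Fact.out : p.Prime).not_dvd_one)
  rw [Subgroup.coe_one, mul_one] at h1
  -- the orbit of `θ`
  set O : Set (IrrCharacter 𝒞) := {φ | ∃ n ∈ 𝒩, ∀ c c' : 𝒞, (c' : G) = n * c * n⁻¹ →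
    (φ : 𝒞 → ℂ) c = (θ : 𝒞 → ℂ) c'} with hO
  set S : Set (IrrCharacter 𝒞) := {φ | ∀ x : 𝒞, (x : G) ∈ (P : Subgroup G) →
    (φ : 𝒞 → ℂ) x = (φ : 𝒞 → ℂ) 1} with hS
  have hcardO : Nat.card O = f / e := card_orbit_theta p P θ T hT e f he hf
  -- values on the orbit
  have hOval : ∀ φ ∈ O, (φ : 𝒞 → ℂ) 1 = (θ : 𝒞 → ℂ) 1 ∧
      FP p P (φ : 𝒞 → ℂ) (χ : G → ℂ) 1 = (z : ℂ) := by
    rintro φ ⟨n, hn, hφ⟩
    constructor
    · exact hφ 1 1 (by simp)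
    · rw [FP_conj p P (θ : 𝒞 → ℂ) (φ : 𝒞 → ℂ) (χ : G → ℂ) hχcf n hn hφ 1]
      have : n * 1 * n⁻¹ = 1 := by group
      rw [this, hz]
  have hOS : O ⊆ S := by
    rintro φ ⟨n, hn, hφ⟩ x hx
    have hx' : n * (x : G) * n⁻¹ ∈ (P : Subgroup G) :=
      (Subgroup.mem_normalizer_iff.1 hn (x : G)).1 hx
    have hxC : n * (x : G) * n⁻¹ ∈ 𝒞 := by
      have hnC : ∀ y ∈ 𝒞, n * y * n⁻¹ ∈ 𝒞 := by
        intro y hy
        rw [Subgroup.mem_centralizer_iff] at hy ⊢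
        intro u hu
        have hu' : n⁻¹ * u * n ∈ (P : Subgroup G) := by
          have := (Subgroup.mem_normalizer_iff.1 (Subgroup.inv_mem _ hn) u).1 hu
          simpa using this
        have h2 := hy _ hu'
        calc u * (n * y * n⁻¹) = n * ((n⁻¹ * u * n) * y) * n⁻¹ := by group
          _ = n * (y * (n⁻¹ * u * n)) * n⁻¹ := by rw [h2]
          _ = n * y * n⁻¹ * u := by group
      exact hnC _ x.2
    rw [hφ x ⟨n * (x : G) * n⁻¹, hxC⟩ rfl, hφ 1 1 (by simp)]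
    exact hθP _ hx'
  -- values off the orbit
  have hoff : ∀ φ ∈ S, φ ∉ O → ∃ m : ℕ,
      FP p P (φ : 𝒞 → ℂ) (χ : G → ℂ) 1 * (φ : 𝒞 → ℂ) 1 = (((p * m : ℕ) : ℤ) : ℂ) := by
    intro φ hφS hφO
    rcases hdich φ hφS with h | h
    · exact absurd h hφO
    · have hch := isCharacter_FP p P hP φ hφS χ
      obtain ⟨m, hm⟩ := isCharacter_vanish_dvd
        (fun a : (P : Subgroup G) => FP p P (φ : 𝒞 → ℂ) (χ : G → ℂ) (a : G)) hch
        (by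
          intro a ha
          exact h (a : G) a.2 (fun h0 => ha (Subtype.ext h0)))
      have hm' : FP p P (φ : 𝒞 → ℂ) (χ : G → ℂ) 1 = ((p * m : ℕ) : ℂ) := by
        have := hm
        simp only [Subgroup.coe_one] at this
        rw [this, hP]
      refine ⟨m * charDegree (φ : 𝒞 → ℂ), ?_⟩
      rw [hm', irr_one_eq_charDegree φ.2]
      push_cast
      ring
  choose! mm hmm using hoff
  -- split the sum
  have hSfin : S.Finite := Set.toFinite S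
  rw [finsum_mem_eq_finite_toFinset_sum _ hSfin,
    ← Finset.sum_filter_add_sum_filter_not hSfin.toFinset (fun φ => φ ∈ O)] at h1
  have hsum1 : ∑ φ ∈ hSfin.toFinset.filter (fun φ => φ ∈ O),
      FP p P (φ : 𝒞 → ℂ) (χ : G → ℂ) 1 * (φ : 𝒞 → ℂ) 1 =
      (((f / e * charDegree (θ : 𝒞 → ℂ) : ℕ) : ℤ) * z : ℤ) := by
    have hconst : ∀ φ ∈ hSfin.toFinset.filter (fun φ => φ ∈ O),
        FP p P (φ : 𝒞 → ℂ) (χ : G → ℂ) 1 * (φ : 𝒞 → ℂ) 1 = (z : ℂ) * (θ : 𝒞 → ℂ) 1 := by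
      intro φ hφ
      rw [Finset.mem_filter] at hφ
      obtain ⟨h2, h3⟩ := hOval φ hφ.2
      rw [h2, h3]
    rw [Finset.sum_congr rfl hconst, Finset.sum_const, nsmul_eq_mul]
    have hcard : (hSfin.toFinset.filter (fun φ => φ ∈ O)).card = f / e := by
      rw [← hcardO, Nat.card_eq_fintype_card, ← Set.toFinset_card]
      congr 1
      ext φ
      rw [Finset.mem_filter, Set.Finite.mem_toFinset, Set.mem_toFinset]
      exact ⟨fun h => h.2, fun h => ⟨hOS h, h⟩⟩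
    rw [hcard, irr_one_eq_charDegree θ.2, Int.cast_mul, Int.cast_natCast, Nat.cast_mul]
    ring
  have hsum2 : ∑ φ ∈ hSfin.toFinset.filter (fun φ => ¬ φ ∈ O),
      FP p P (φ : 𝒞 → ℂ) (χ : G → ℂ) 1 * (φ : 𝒞 → ℂ) 1 =
      (((p : ℤ) * ∑ φ ∈ hSfin.toFinset.filter (fun φ => ¬ φ ∈ O), (mm φ : ℤ) : ℤ) : ℂ) := by
    rw [Finset.mul_sum]
    push_cast
    refine Finset.sum_congr rfl fun φ hφ => ?_
    rw [Finset.mem_filter, Set.Finite.mem_toFinset] at hφ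
    rw [hmm φ hφ.1 hφ.2]
    push_cast
    ring
  rw [hsum1, hsum2, irr_one_eq_charDegree χ.2] at h1
  have h3 : (charDegree (χ : G → ℂ) : ℤ) =
      ((f / e * charDegree (θ : 𝒞 → ℂ) : ℕ) : ℤ) * z +
        (p : ℤ) * ∑ φ ∈ hSfin.toFinset.filter (fun φ => ¬ φ ∈ O), (mm φ : ℤ) := by
    have : (((charDegree (χ : G → ℂ) : ℤ)) : ℂ) =
        ((((f / e * charDegree (θ : 𝒞 → ℂ) : ℕ) : ℤ) * z +
        (p : ℤ) * ∑ φ ∈ hSfin.toFinset.filter (fun φ => ¬ φ ∈ O), (mm φ : ℤ) : ℤ) : ℂ) := by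
      rw [Int.cast_add, ← h1]
      norm_cast
    exact_mod_cast this
  rw [h3]
  exact (Int.modEq_iff_dvd.2 ⟨-(∑ φ ∈ hSfin.toFinset.filter (fun φ => ¬ φ ∈ O), (mm φ : ℤ)),
    by ring⟩)

end Cfsg.Agent.Helper5.TLD
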