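import Mathlib
import Cfsg.Prelude.Def_Blocks
import Cfsg.Agent.Lib.Helper5.TLRDefs
import Cfsg.Agent.Lib.Helper5.TLDDefs
import Cfsg.Agent.Lib.Helper20.TLDDDICH
import Cfsg.Agent.Lib.Helper18.TLDDDEGCore

/-!
# S4442 Layer D, piece DDEG (helper18): `χ 1 ≡ (f / e) θ 1 F_χ 1 (mod p)` for `χ ∈ B`.
-/

set_option autoImplicit false

namespace Cfsg.Agent.Helper5.TLD

open scoped ComplexConjugate
open Cfsg Cfsg.Agent.Helper5.TLR

variable (p : ℕ) [Fact p.Prime] {G : Type*} [Group G] [Finite G]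

/-- PIECE DDEG: `χ 1 ≡ (f / e) θ 1 F_χ 1 (mod p)` for `χ ∈ B`. -/
theorem degree_congr (M : Ideal AlgInt) (hM : IsPModular p M) (P : Sylow p G)
    (hP : Nat.card P = p) (B : Set (IrrCharacter G)) (hB : IsPBlock M B)
    (b : Set (IrrCharacter (Subgroup.centralizer ((P : Subgroup G) : Set G))))
    (hind : IsInducedBlock M (Subgroup.centralizer ((P : Subgroup G) : Set G)) b B)
    (θ : IrrCharacter (Subgroup.centralizer ((P : Subgroup G) : Set G))) (hθ : θ ∈ b)
    (hθP : ∀ x : Subgroup.centralizer ((P : Subgroup G) : Set G), (x : G) ∈ (P : Subgroup G) →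
      (θ : Subgroup.centralizer ((P : Subgroup G) : Set G) → ℂ) x =
        (θ : Subgroup.centralizer ((P : Subgroup G) : Set G) → ℂ) 1)
    (T : Subgroup G)
    (hT : ∀ g : G, g ∈ T ↔ (g ∈ Subgroup.normalizer ((P : Subgroup G) : Set G) ∧
      ∀ c c' : Subgroup.centralizer ((P : Subgroup G) : Set G), (c' : G) = g * c * g⁻¹ →
        (θ : Subgroup.centralizer ((P : Subgroup G) : Set G) → ℂ) c' =
          (θ : Subgroup.centralizer ((P : Subgroup G) : Set G) → ℂ) c))
    (e f : ℕ) (he : (Subgroup.centralizer ((P : Subgroup G) : Set G)).relIndex T = e)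
    (hf : (Subgroup.centralizer ((P : Subgroup G) : Set G)).relIndex
      (Subgroup.normalizer ((P : Subgroup G) : Set G)) = f)
    (χ : IrrCharacter G) (hχ : χ ∈ B) (z : ℤ)
    (hz : FP p P (θ : Subgroup.centralizer ((P : Subgroup G) : Set G) → ℂ) (χ : G → ℂ) 1 = (z : ℂ)) :
    (charDegree (χ : G → ℂ) : ℤ) ≡
      ((f / e * charDegree (θ : Subgroup.centralizer ((P : Subgroup G) : Set G) → ℂ) : ℕ) : ℤ) * z
        [ZMOD p] :=
  degree_congr_of p P hP θ hθP T hT e f he hf χ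
    (fun φ hφP => FP_dichotomy p M hM P hP B hB b hind θ hθ hθP χ hχ φ hφP) z hz

end Cfsg.Agent.Helper5.TLD
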