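import Mathlib

set_option autoImplicit false

/-!
# S4442 Layer D, piece TPKG (helper18): the automorphism `ν` of `P` induced by a generator of `T / C`
-/

namespace Cfsg.Agent.Helper5.TLD

variable (p : ℕ) [Fact p.Prime] {G : Type*} [Group G] [Finite G]

/-- the automorphism group of a group of prime order is cyclic -/
theorem tpkg_isCyclic_mulAut {A : Type*} [Group A] (hA : Nat.card A = p) : IsCyclic (MulAut A) := by
  haveI : IsCyclic A := isCyclic_of_prime_card hA
  have e := IsCyclic.mulAutMulEquiv A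
  rw [hA] at e
  exact isCyclic_of_surjective e.symm e.symm.surjective

/-- an automorphism of a group of prime order fixing a nonidentity element is trivial -/
theorem tpkg_eq_one_of_fix {A : Type*} [Group A] (hA : Nat.card A = p) (β : MulAut A) (a : A)
    (ha : a ≠ 1) (hβ : β a = a) : β = 1 := by
  haveI : Finite A := Nat.finite_of_card_ne_zero (by rw [hA]; exact (Fact.out : p.Prime).ne_zero)
  have htop : Subgroup.zpowers a = ⊤ := zpowers_eq_top_of_prime_card hA ha
  ext x
  have hx : x ∈ Subgroup.zpowers a := by rw [htop]; exact Subgroup.mem_top x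
  obtain ⟨j, rfl⟩ := Subgroup.mem_zpowers_iff.1 hx
  rw [map_zpow, hβ]
  rfl

/-- PIECE TPKG: the automorphism `ν` of `P` induced by a generator of `T / C`. -/
theorem exists_T_package (P : Sylow p G) (hP : Nat.card P = p) (T : Subgroup G)
    (hCT : Subgroup.centralizer ((P : Subgroup G) : Set G) ≤ T)
    (hTN : T ≤ Subgroup.normalizer ((P : Subgroup G) : Set G)) (e : ℕ)
    (he : (Subgroup.centralizer ((P : Subgroup G) : Set G)).relIndex T = e) :
    ∃ ν : MulAut (P : Subgroup G), ν ^ e = 1 ∧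
      (∀ k : ℕ, 0 < k → k < e → ∀ a : (P : Subgroup G), (ν ^ k) a = a → a = 1) ∧
      (∀ t ∈ T, ∃ k < e, ∀ a : (P : Subgroup G),
        t * (a : G) * t⁻¹ = (((ν ^ k) a : (P : Subgroup G)) : G)) ∧
      (∀ k : ℕ, ∃ t ∈ T, ∀ a : (P : Subgroup G),
        t * (a : G) * t⁻¹ = (((ν ^ k) a : (P : Subgroup G)) : G)) := by
  classical
  set N := Subgroup.normalizer ((P : Subgroup G) : Set G) with hN
  set C := Subgroup.centralizer ((P : Subgroup G) : Set G) with hC
  set φ := (P : Subgroup G).normalizerMonoidHom with hφ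
  have hker : φ.ker = C.subgroupOf N := Subgroup.normalizerMonoidHom_ker _
  have hνG : ∀ (n : N) (x : (P : Subgroup G)),
      ((φ n x : (P : Subgroup G)) : G) = (n : G) * x * (n : G)⁻¹ := fun _ _ => rfl
  -- the restriction to `T`
  set ψ : T →* MulAut (P : Subgroup G) := φ.comp (Subgroup.inclusion hTN) with hψ
  have hψG : ∀ (t : T) (x : (P : Subgroup G)),
      ((ψ t x : (P : Subgroup G)) : G) = (t : G) * x * (t : G)⁻¹ := fun _ _ => rfl
  have hψker : ψ.ker = C.subgroupOf T := by
    ext t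
    rw [MonoidHom.mem_ker, hψ, MonoidHom.comp_apply, ← MonoidHom.mem_ker, hker,
      Subgroup.mem_subgroupOf, Subgroup.mem_subgroupOf]
    rfl
  have he0 : 0 < e := by
    rw [← he]
    exact Nat.pos_of_ne_zero (Subgroup.index_ne_zero_of_finite (H := C.subgroupOf T))
  have hcard : Nat.card ψ.range = e := by
    rw [← he, Subgroup.relIndex, ← hψker, Subgroup.index_ker]
  haveI hcycA : IsCyclic (MulAut (P : Subgroup G)) := tpkg_isCyclic_mulAut p hP
  haveI : IsCyclic ψ.range := Subgroup.isCyclic _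
  obtain ⟨g, hg⟩ := IsCyclic.exists_generator (α := ψ.range)
  set ν : MulAut (P : Subgroup G) := (g : MulAut (P : Subgroup G)) with hν
  have hrange : ψ.range = Subgroup.zpowers ν := by
    apply le_antisymm
    · intro β hβ
      have h1 := hg ⟨β, hβ⟩
      obtain ⟨j, hj⟩ := Subgroup.mem_zpowers_iff.1 h1
      rw [Subgroup.mem_zpowers_iff]
      refine ⟨j, ?_⟩
      have := congrArg Subtype.val hj
      rw [Subgroup.coe_zpow] at this
      exact this
    · rw [Subgroup.zpowers_le]
      exact g.2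
  have hord : orderOf ν = e := by
    rw [← hcard, hrange, Nat.card_zpowers]
  have hνe : ν ^ e = 1 := by
    rw [← hord]
    exact pow_orderOf_eq_one ν
  have hpow_of_range : ∀ β ∈ ψ.range, ∃ k < e, β = ν ^ k := by
    intro β hβ
    rw [hrange, Subgroup.mem_zpowers_iff] at hβ
    obtain ⟨j, hj⟩ := hβ
    have h1 : 0 ≤ j % (e : ℤ) := Int.emod_nonneg _ (by exact_mod_cast he0.ne')
    have h2 : j % (e : ℤ) < e := Int.emod_lt_of_pos _ (by exact_mod_cast he0)
    refine ⟨(j % (e : ℤ)).toNat, by omega, ?_⟩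
    rw [← hj, ← zpow_natCast, Int.toNat_of_nonneg h1, ← hord, zpow_mod_orderOf]
  refine ⟨ν, hνe, ?_, ?_, ?_⟩
  · intro k hk0 hke a ha
    by_contra ha1
    have h3 : ν ^ k = 1 := tpkg_eq_one_of_fix p hP (ν ^ k) a ha1 ha
    have h4 := orderOf_dvd_of_pow_eq_one h3
    rw [hord] at h4
    exact absurd (Nat.le_of_dvd hk0 h4) (by omega)
  · intro t ht
    obtain ⟨k, hk, hk'⟩ := hpow_of_range (ψ ⟨t, ht⟩) ⟨_, rfl⟩
    refine ⟨k, hk, fun a => ?_⟩
    rw [← hk', hψG]
  · intro k
    have hmem : ν ^ k ∈ ψ.range := by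
      rw [hrange]
      exact Subgroup.pow_mem _ (Subgroup.mem_zpowers ν) k
    obtain ⟨t, ht⟩ := hmem
    refine ⟨(t : G), t.2, fun a => ?_⟩
    rw [← ht, hψG]

end Cfsg.Agent.Helper5.TLD
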