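import Mathlib
import Cfsg.Agent.S4425
import Cfsg.Agent.Lib.Helper23.CharValues
import Cfsg.Agent.Lib.Helper8.CharExtra
import Cfsg.Agent.Lib.Helper8.InnerExtra
import Cfsg.Agent.Lib.Helper8.Proj
import Cfsg.Agent.Lib.Helper24.CharAlgebra
import Cfsg.Agent.Lib.Helper24.CharIntegral
import Cfsg.Agent.Lib.Helper24.CharHom

/-!
# The number of `p`-conjugates of an irreducible character (helper18)
-/

set_option autoImplicit false
set_option linter.unusedSectionVars false

namespace Cfsg.Agent.Helper18.PConj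

open Cfsg Cfsg.Agent.Helper24
open scoped ComplexConjugate

universe u

variable {G : Type u} [Group G] [Fintype G]

/-- character values at elements of order dividing `m` are fixed by the ring automorphisms fixing
a primitive `m`-th root of unity -/
theorem map_char_eq_of_pow_eq_one {χ : G → ℂ} (hχ : IsCharacter G χ) (σ : ℂ ≃+* ℂ) {m : ℕ}
    (hm : 0 < m) {ζ : ℂ} (hζ : IsPrimitiveRoot ζ m) (hσ : σ ζ = ζ) {g : G} (hg : g ^ m = 1) :
    σ (χ g) = χ g := by
  haveI : NeZero m := ⟨hm.ne'⟩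
  obtain ⟨n, ρ, rfl⟩ := hχ
  obtain ⟨s, -, hs, hsum⟩ := Cfsg.Agent.Helper23.exists_multiset_roots_of_unity ρ g m hg
  rw [hsum, map_multiset_sum]
  congr 1
  conv_rhs => rw [← Multiset.map_id s]
  apply Multiset.map_congr rfl
  intro μ hμ
  obtain ⟨i, -, hi⟩ := hζ.eq_pow_of_pow_eq_one (hs μ hμ)
  rw [id, ← hi, map_pow, hσ]

set_option maxHeartbeats 1600000 in
theorem main (p : ℕ) [Fact p.Prime] (χ : IrrCharacter G) (S : Finset (IrrCharacter G))
    (hχS : χ ∈ S)
    (hS : ∀ ψ ∈ S, ∃ σ : ℂ ≃+* ℂ,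
      (∀ g : G, ¬ p ∣ orderOf g → σ ((χ : G → ℂ) g) = (χ : G → ℂ) g) ∧
      (ψ : G → ℂ) = fun g => σ ((χ : G → ℂ) g)) :
    (S.card * charDegree (χ : G → ℂ)).factorization p ≤ (Nat.card G).factorization p ∧
      (p ^ (Nat.card G).factorization p ∣ S.card * charDegree (χ : G → ℂ) →
        p ^ (Nat.card G).factorization p ∣ charDegree (χ : G → ℂ)) := by
  classical
  letI : Fintype (IrrCharacter G) := irrFintype
  have hp : p.Prime := Fact.out
  obtain ⟨a, ha⟩ : ∃ a, a = (Nat.card G).factorization p := ⟨_, rfl⟩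
  obtain ⟨d, hd⟩ : ∃ d, d = charDegree (χ : G → ℂ) := ⟨_, rfl⟩
  obtain ⟨b, hb⟩ : ∃ b, b = d.factorization p := ⟨_, rfl⟩
  obtain ⟨r, hr⟩ : ∃ r, r = S.card := ⟨_, rfl⟩
  rw [← ha, ← hd, ← hr]
  have hd0 : d ≠ 0 := by
    rw [hd]
    exact (charDegree_pos χ.2).ne'
  have hdG : d ∣ Nat.card G := by
    rw [hd]
    exact charDegree_dvd_card χ.2
  have hba : b ≤ a := by
    rw [hb, ha]
    exact (Nat.factorization_le_iff_dvd hd0 (Nat.card_pos (α := G)).ne').2 hdG p
  have hr1 : 1 ≤ r := by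
    rw [hr]
    exact Finset.card_pos.2 ⟨χ, hχS⟩
  -- the truncated character
  obtain ⟨θ, hθdef⟩ : ∃ θ : G → ℂ, θ = fun x : G => if p ∣ orderOf x then (0 : ℂ) else
      ((p ^ (a - b) : ℕ) : ℂ) * (χ : G → ℂ) x := ⟨_, rfl⟩
  have hθ : IsGeneralizedCharacter G θ := by
    have h1 := (Cfsg.Agent.S4425.result p χ).1
    rw [← ha, ← hd, ← hb] at h1
    rw [hθdef]
    exact h1
  have hθp : ∀ g : G, p ∣ orderOf g → θ g = 0 := by
    intro g hg
    rw [hθdef]
    simp only [if_pos hg]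
  have hθr : ∀ g : G, ¬ p ∣ orderOf g → θ g = ((p ^ (a - b) : ℕ) : ℂ) * (χ : G → ℂ) g := by
    intro g hg
    rw [hθdef]
    simp only [if_neg hg]
  -- the common multiplicity
  obtain ⟨t, ht⟩ := Cfsg.Agent.Helper8.genChar_inner_int hθ χ
  have hTψ : ∀ ψ ∈ S, classInner θ (ψ : G → ℂ) = (t : ℂ) := by
    intro ψ hψ
    obtain ⟨σ, hσ, hψσ⟩ := hS ψ hψ
    rw [← ht]
    unfold classInner
    congr 1
    apply Finset.sum_congr rfl
    intro g _
    by_cases hg : p ∣ orderOf g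
    · rw [hθp g hg, zero_mul, zero_mul]
    · rw [hψσ]
      simp only
      rw [hσ g hg]
  have hθθ : classInner θ θ = ((p ^ (a - b) : ℕ) : ℂ) * (t : ℂ) := by
    rw [← ht]
    have key : ∑ g : G, θ g * conj (θ g) =
        ((p ^ (a - b) : ℕ) : ℂ) * ∑ g : G, θ g * conj ((χ : G → ℂ) g) := by
      rw [Finset.mul_sum]
      apply Finset.sum_congr rfl
      intro g _
      by_cases hg : p ∣ orderOf g
      · rw [hθp g hg, zero_mul, zero_mul, mul_zero]
      · rw [hθr g hg, map_mul, Complex.conj_natCast]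
        ring
    unfold classInner
    rw [key]
    ring
  have htpos : 0 < t := by
    have h1 : 0 < (classInner θ (χ : G → ℂ)).re := by
      unfold classInner
      have hterm : ∀ g : G, θ g * conj ((χ : G → ℂ) g) =
          (((if p ∣ orderOf g then (0 : ℝ) else ((p ^ (a - b) : ℕ) : ℝ) *
            ‖(χ : G → ℂ) g‖ ^ 2) : ℝ) : ℂ) := by
        intro g
        by_cases hg : p ∣ orderOf g
        · rw [hθp g hg, zero_mul, if_pos hg, Complex.ofReal_zero]
        · rw [hθr g hg, if_neg hg, mul_assoc, Complex.mul_conj']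
          push_cast
          rfl
      rw [Finset.sum_congr rfl (fun g _ => hterm g), ← Complex.ofReal_sum]
      have hc : ((Nat.card G : ℂ))⁻¹ = (((Nat.card G : ℝ)⁻¹ : ℝ) : ℂ) := by
        push_cast
        rfl
      rw [hc, ← Complex.ofReal_mul, Complex.ofReal_re]
      apply mul_pos
      · have : (0 : ℝ) < Nat.card G := by exact_mod_cast Nat.card_pos (α := G)
        positivity
      · apply Finset.sum_pos'
        · intro g _
          by_cases hg : p ∣ orderOf g
          · rw [if_pos hg]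
          · rw [if_neg hg]
            positivity
        · refine ⟨1, Finset.mem_univ _, ?_⟩
          have h1 : ¬ p ∣ orderOf (1 : G) := by
            rw [orderOf_one]
            exact hp.one_lt.ne' ∘ Nat.dvd_one.1
          rw [if_neg h1, irr_one_eq_charDegree χ.2, ← hd]
          have hpp : (0 : ℝ) < ((p ^ (a - b) : ℕ) : ℝ) := by
            exact_mod_cast pow_pos hp.pos _
          have hdd : (0 : ℝ) < ‖((d : ℕ) : ℂ)‖ := by
            rw [Complex.norm_natCast]
            exact_mod_cast Nat.pos_of_ne_zero hd0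
          positivity
    rw [ht] at h1
    have : (0 : ℝ) < (t : ℝ) := by simpa using h1
    exact_mod_cast this
  -- the sum of the conjugates
  obtain ⟨Ψ, hΨdef⟩ : ∃ Ψ : G → ℂ, Ψ = ∑ ψ ∈ S, (ψ : G → ℂ) := ⟨_, rfl⟩
  have hθΨ : classInner θ Ψ = (r : ℂ) * (t : ℂ) := by
    rw [hΨdef, classInner_sum_right, Finset.sum_congr rfl hTψ, Finset.sum_const, hr,
      nsmul_eq_mul]
  have hΨθ : classInner Ψ θ = (r : ℂ) * (t : ℂ) := by
    rw [← classInner_conj_symm θ Ψ, hθΨ, map_mul, Complex.conj_natCast, map_intCast]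
  have hΨΨ : classInner Ψ Ψ = (r : ℂ) := by
    rw [hΨdef, classInner_sum_left]
    have h1 : ∀ ψ ∈ S, classInner (ψ : G → ℂ) (∑ ψ' ∈ S, (ψ' : G → ℂ)) = 1 := by
      intro ψ hψ
      rw [classInner_sum_right]
      rw [Finset.sum_congr rfl (fun ψ' _ => irr_orthogonality' ψ ψ')]
      rw [Finset.sum_ite_eq S ψ, if_pos hψ]
    rw [Finset.sum_congr rfl h1, Finset.sum_const, hr, nsmul_eq_mul, mul_one]
  obtain ⟨D, hDdef⟩ : ∃ D : G → ℂ, D = θ - (t : ℂ) • Ψ := ⟨_, rfl⟩
  have hDD : classInner D D = (t : ℂ) * (((p ^ (a - b) : ℕ) : ℂ) - (r : ℂ) * (t : ℂ)) := by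
    rw [hDdef, Cfsg.Agent.Helper8.classInner_sub_left, Cfsg.Agent.Helper8.classInner_sub_right,
      Cfsg.Agent.Helper8.classInner_sub_right, classInner_smul_left, classInner_smul_right,
      classInner_smul_left, classInner_smul_right, hθθ, hθΨ, hΨθ, hΨΨ, map_intCast]
    ring
  have hineq : (r : ℤ) * t ≤ ((p ^ (a - b) : ℕ) : ℤ) := by
    have h1 := Cfsg.Agent.Helper8.classInner_self_re_nonneg D
    rw [hDD] at h1
    have h2 : ((t : ℂ) * (((p ^ (a - b) : ℕ) : ℂ) - (r : ℂ) * (t : ℂ))).re =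
        ((t * (((p ^ (a - b) : ℕ) : ℤ) - (r : ℤ) * t) : ℤ) : ℝ) := by
      have : (t : ℂ) * (((p ^ (a - b) : ℕ) : ℂ) - (r : ℂ) * (t : ℂ)) =
          (((t * (((p ^ (a - b) : ℕ) : ℤ) - (r : ℤ) * t) : ℤ) : ℝ) : ℂ) := by
        push_cast
        ring
      rw [this, Complex.ofReal_re]
    rw [h2] at h1
    have h3 : (0 : ℤ) ≤ t * (((p ^ (a - b) : ℕ) : ℤ) - (r : ℤ) * t) := by exact_mod_cast h1
    have h4 : (0 : ℤ) ≤ ((p ^ (a - b) : ℕ) : ℤ) - (r : ℤ) * t :=
      nonneg_of_mul_nonneg_right h3 htpos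
    omega
  have hrle : r ≤ p ^ (a - b) := by
    have h1 : (r : ℤ) ≤ (r : ℤ) * t := by
      have : (0 : ℤ) ≤ (r : ℤ) := by positivity
      nlinarith
    have h2 : (r : ℤ) ≤ ((p ^ (a - b) : ℕ) : ℤ) := h1.trans hineq
    exact_mod_cast h2
  have hr0 : r ≠ 0 := by omega
  have hvr : r.factorization p ≤ a - b := by
    have h1 : p ^ r.factorization p ∣ r := Nat.ordProj_dvd r p
    have h2 : p ^ r.factorization p ≤ p ^ (a - b) := (Nat.le_of_dvd (by omega) h1).trans hrle
    exact (Nat.pow_le_pow_iff_right hp.one_lt).1 h2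
  have hfac : (r * d).factorization p = r.factorization p + b := by
    rw [Nat.factorization_mul hr0 hd0, Finsupp.add_apply, hb]
  refine ⟨by rw [hfac]; omega, ?_⟩
  intro hdvd
  have h1 : a ≤ (r * d).factorization p :=
    (hp.pow_dvd_iff_le_factorization (mul_ne_zero hr0 hd0)).1 hdvd
  rw [hfac] at h1
  have hvr' : r.factorization p = a - b := by omega
  have hrge : p ^ (a - b) ≤ r := by
    rw [← hvr']
    exact Nat.le_of_dvd (by omega) (Nat.ordProj_dvd r p)
  have hreq : r = p ^ (a - b) := le_antisymm hrle hrge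
  have ht1 : t = 1 := by
    have hrpos : (0 : ℤ) < (r : ℤ) := by exact_mod_cast Nat.pos_of_ne_zero hr0
    have h2 : (r : ℤ) * t ≤ (r : ℤ) := by
      calc (r : ℤ) * t ≤ ((p ^ (a - b) : ℕ) : ℤ) := hineq
        _ = (r : ℤ) := by rw [← hreq]
    nlinarith
  have hD0 : D = 0 := by
    apply classInner_self_eq_zero
    rw [hDD, ht1, hreq]
    push_cast
    ring
  have hθΨeq : θ = Ψ := by
    rw [hDdef, ht1, Int.cast_one, one_smul, sub_eq_zero] at hD0
    exact hD0
  -- evaluation on a Sylow subgroup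
  obtain ⟨P⟩ : Nonempty (Sylow p G) := inferInstance
  haveI : Fintype (P : Subgroup G) := Fintype.ofFinite _
  letI : Fintype (IrrCharacter (P : Subgroup G)) := irrFintype
  have hPcard : Nat.card (P : Subgroup G) = p ^ a := by
    rw [ha]
    exact Sylow.card_eq_multiplicity P
  obtain ⟨n, hn⟩ := classInner_char_nat
    (isCharacter_restrict (P : Subgroup G) (isCharacter_of_isIrrCharacter χ.2))
    (isCharacter_one (G := (P : Subgroup G)))
  have hPc0 : (Nat.card (P : Subgroup G) : ℂ) ≠ 0 := by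
    exact_mod_cast (Nat.card_pos (α := (P : Subgroup G))).ne'
  have hsumχ : ∑ x : (P : Subgroup G), (χ : G → ℂ) (x : G) = ((p ^ a * n : ℕ) : ℂ) := by
    unfold classInner at hn
    have h2 : ∑ x : (P : Subgroup G), (χ : G → ℂ) (x : G) * conj (1 : ℂ) =
        (Nat.card (P : Subgroup G) : ℂ) * (n : ℂ) := by
      rw [← hn, ← mul_assoc, mul_inv_cancel₀ hPc0, one_mul]
    rw [hPcard] at h2
    push_cast at h2 ⊢
    rw [← h2]
    apply Finset.sum_congr rfl
    intro x _
    rw [map_one, mul_one]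
  have hsumθ : ∑ x : (P : Subgroup G), θ (x : G) = ((p ^ (a - b) * d : ℕ) : ℂ) := by
    rw [Finset.sum_eq_single (1 : (P : Subgroup G))]
    · have h1 : ¬ p ∣ orderOf (1 : G) := by
        rw [orderOf_one]
        exact hp.one_lt.ne' ∘ Nat.dvd_one.1
      rw [Subgroup.coe_one, hθr 1 h1, irr_one_eq_charDegree χ.2, ← hd]
      push_cast
      rfl
    · intro x _ hx
      apply hθp
      obtain ⟨k, hk⟩ := P.2 x
      have h1 : orderOf x ∣ p ^ k := orderOf_dvd_of_pow_eq_one hk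
      obtain ⟨j, -, hj⟩ := (Nat.dvd_prime_pow hp).1 h1
      rw [← Subgroup.orderOf_coe] at hj
      rw [hj]
      have hj0 : j ≠ 0 := by
        intro h0
        rw [h0, pow_zero, orderOf_eq_one_iff] at hj
        exact hx (Subtype.ext hj)
      exact dvd_pow_self p hj0
    · intro h
      exact absurd (Finset.mem_univ _) h
  have hsumΨ : ∑ x : (P : Subgroup G), Ψ (x : G) = (r : ℂ) * ((p ^ a * n : ℕ) : ℂ) := by
    rw [hΨdef]
    have h1 : ∀ x : (P : Subgroup G), (∑ ψ ∈ S, (ψ : G → ℂ)) (x : G) =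
        ∑ ψ ∈ S, (ψ : G → ℂ) (x : G) := fun x => Finset.sum_apply _ _ _
    rw [Finset.sum_congr rfl (fun x _ => h1 x), Finset.sum_comm]
    have h2 : ∀ ψ ∈ S, ∑ x : (P : Subgroup G), (ψ : G → ℂ) (x : G) =
        ((p ^ a * n : ℕ) : ℂ) := by
      intro ψ hψ
      obtain ⟨σ, -, hψσ⟩ := hS ψ hψ
      rw [hψσ]
      simp only
      rw [← map_sum, hsumχ, map_natCast]
    rw [Finset.sum_congr rfl h2, Finset.sum_const, hr, nsmul_eq_mul]
  rw [hθΨeq, hsumΨ, hreq] at hsumθ
  have h5 : p ^ (a - b) * (p ^ a * n) = p ^ (a - b) * d := by exact_mod_cast hsumθ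
  have h6 : p ^ a * n = d := Nat.eq_of_mul_eq_mul_left (pow_pos hp.pos _) h5
  exact ⟨n, h6.symm⟩

end Cfsg.Agent.Helper18.PConj
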