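import Mathlib
import Cfsg.Prelude.Def_Blocks
import Cfsg.Agent.Lib.Helper5.TLDDefs
import Cfsg.Agent.Lib.Helper24.CharLinear
import Cfsg.Agent.Lib.Helper24.CharComplete
import Cfsg.Agent.Lib.Helper9.SylowLemmas
import Cfsg.Agent.Lib.Helper18.PConjCount
import Cfsg.Agent.Lib.Helper18.TLDDEXP
import Cfsg.Agent.Lib.Helper1.TLDDCONJ
import Cfsg.Agent.Lib.Helper2.TLDGT2
import Cfsg.Agent.Lib.Helper6.TLDDCOL
import Cfsg.Agent.Lib.Helper20.TLDDDICH

/-!
# S4507, piece GALVAL (helper18): the Galois action on the values of the members of `B`, from the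
action on the `θ`-parts.
-/

set_option autoImplicit false
set_option linter.unusedSectionVars false
set_option linter.unusedVariables false
set_option linter.style.haveILetI false

namespace Cfsg.Agent.Helper5.TLG

open scoped ComplexConjugate
open Cfsg Cfsg.Agent.Helper5.TLD Cfsg.Agent.Helper24

variable (p : ℕ) [Fact p.Prime] {G : Type*} [Group G] [Finite G]

/-- a `p`-regular element is killed by the `p'`-part of the group order -/
theorem galval_pow_eq_one (g : G) (hg : ¬ p ∣ orderOf g) :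
    g ^ (Nat.card G / p ^ (Nat.card G).factorization p) = 1 := by
  have hp : p.Prime := Fact.out
  rw [← orderOf_dvd_iff_pow_eq_one]
  have h1 : orderOf g ∣ p ^ (Nat.card G).factorization p *
      (Nat.card G / p ^ (Nat.card G).factorization p) := by
    rw [Nat.ordProj_mul_ordCompl_eq_self]
    exact orderOf_dvd_natCard g
  have hcop : (orderOf g).Coprime (p ^ (Nat.card G).factorization p) :=
    Nat.Coprime.pow_right _ ((Nat.Prime.coprime_iff_not_dvd hp).2 hg).symm
  exact hcop.dvd_of_dvd_mul_left h1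

/-- a `p`-singular element is conjugate to `a c`, `a ∈ P^#`, `c ∈ C_G(P)` `p`-regular -/
theorem galval_conj (P : Sylow p G) (hP : Nat.card P = p) (g : G) (hg : p ∣ orderOf g) :
    ∃ x a c : G, a ∈ (P : Subgroup G) ∧ a ≠ 1 ∧
      c ∈ Subgroup.centralizer ((P : Subgroup G) : Set G) ∧ ¬ p ∣ orderOf c ∧
      x * g * x⁻¹ = a * c := by
  have hp : p.Prime := Fact.out
  obtain ⟨K, n₀, hK1, hKp, -, hdec, -, -, -, -⟩ := exists_pcore' p P hP
  have hn0 : orderOf g ≠ 0 := (orderOf_pos g).ne'
  set u := g ^ (orderOf g / p) with hu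
  have hou : orderOf u = p := orderOf_pow_orderOf_div hn0 hg
  obtain ⟨x, hx⟩ := Cfsg.Agent.Helper9.exists_conj_mem_sylow P u ⟨1, by rw [hou, pow_one]⟩
  set a₀ := x * u * x⁻¹ with ha₀
  have ha₀1 : a₀ ≠ 1 := by
    intro h
    have h1 : u = 1 := by
      have : u = x⁻¹ * a₀ * x := by rw [ha₀]; group
      rw [this, h]
      group
    rw [h1, orderOf_one] at hou
    exact hp.one_lt.ne hou
  set g' := x * g * x⁻¹ with hg'
  have hcomm : g' * a₀ = a₀ * g' := by
    have h1 : g * u = u * g := by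
      rw [hu, ← pow_succ', ← pow_succ]
    calc g' * a₀ = x * (g * u) * x⁻¹ := by rw [hg', ha₀]; group
      _ = x * (u * g) * x⁻¹ := by rw [h1]
      _ = a₀ * g' := by rw [hg', ha₀]; group
  have hg'C : g' ∈ Subgroup.centralizer ((P : Subgroup G) : Set G) :=
    (dcol_mem_centralizer_iff p P hP a₀ hx ha₀1 g').2 hcomm
  have hcent : ∀ v ∈ (P : Subgroup G), g' * v = v * g' := by
    intro v hv
    exact (Subgroup.mem_centralizer_iff.1 hg'C v hv).symm
  obtain ⟨a, k, ha, hk, hak⟩ := hdec g' hcent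
  have hkC := (hK1 k).1 hk
  refine ⟨x, a, k, ha, ?_, hkC.1, hkC.2, hak⟩
  intro h1
  rw [h1, one_mul] at hak
  have hord : orderOf g' = orderOf g := by
    have : g' = MulAut.conj x g := by rw [hg', MulAut.conj_apply]
    rw [this, MulEquiv.orderOf_eq]
  apply hkC.2
  rw [← hak, hord]
  exact hg

/-- PIECE GALVAL: the Galois action on the values of the members of `B`, from the action on the
`θ`-parts. -/
theorem galois_values (M : Ideal AlgInt) (hM : IsPModular p M) (P : Sylow p G)
    (hP : Nat.card P = p) (B : Set (IrrCharacter G)) (hB : IsPBlock M B)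
    (b : Set (IrrCharacter (Subgroup.centralizer ((P : Subgroup G) : Set G))))
    (hind : IsInducedBlock M (Subgroup.centralizer ((P : Subgroup G) : Set G)) b B)
    (θ : IrrCharacter (Subgroup.centralizer ((P : Subgroup G) : Set G))) (hθ : θ ∈ b)
    (hθP : ∀ x : Subgroup.centralizer ((P : Subgroup G) : Set G), (x : G) ∈ (P : Subgroup G) →
      (θ : Subgroup.centralizer ((P : Subgroup G) : Set G) → ℂ) x =
        (θ : Subgroup.centralizer ((P : Subgroup G) : Set G) → ℂ) 1)
    (χ χ' : IrrCharacter G) (hχ : χ ∈ B) (hχ' : χ' ∈ B) (σ : ℂ ≃+* ℂ) (ζ : ℂ)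
    (hζ : IsPrimitiveRoot ζ (Nat.card G / p ^ (Nat.card G).factorization p)) (hσ : σ ζ = ζ)
    (hreg : ∀ g : G, ¬ p ∣ orderOf g → (χ' : G → ℂ) g = (χ : G → ℂ) g)
    (hsing : ∀ a : G, a ∈ (P : Subgroup G) → a ≠ 1 →
      σ (FP p P (θ : Subgroup.centralizer ((P : Subgroup G) : Set G) → ℂ) (χ : G → ℂ) a) =
        FP p P (θ : Subgroup.centralizer ((P : Subgroup G) : Set G) → ℂ) (χ' : G → ℂ) a) :
    ∀ g : G, σ ((χ : G → ℂ) g) = (χ' : G → ℂ) g := by
  classical
  intro g
  haveI : Fintype G := Fintype.ofFinite G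
  have hm0 : 0 < Nat.card G / p ^ (Nat.card G).factorization p :=
    Nat.ordCompl_pos p Nat.card_pos.ne'
  have hχcf : IsClassFunction G (χ : G → ℂ) := isClassFunction_of_isIrrCharacter χ.2
  have hχ'cf : IsClassFunction G (χ' : G → ℂ) := isClassFunction_of_isIrrCharacter χ'.2
  by_cases hg : p ∣ orderOf g
  · obtain ⟨x, a, c, ha, ha1, hc, hcp, hconj⟩ := galval_conj p P hP g hg
    have e1 : (χ : G → ℂ) g = (χ : G → ℂ) (a * c) := by rw [← hconj, hχcf]
    have e2 : (χ' : G → ℂ) g = (χ' : G → ℂ) (a * c) := by rw [← hconj, hχ'cf]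
    have hcp' : ¬ p ∣ orderOf (⟨c, hc⟩ : Subgroup.centralizer ((P : Subgroup G) : Set G)) := by
      rw [Subgroup.orderOf_mk]
      exact hcp
    have h1 := expand_FP p P hP (χ : G → ℂ) hχcf a ha ⟨c, hc⟩ hcp'
    have h2 := expand_FP p P hP (χ' : G → ℂ) hχ'cf a ha ⟨c, hc⟩ hcp'
    rw [e1, e2]
    show σ ((χ : G → ℂ) (a * ((⟨c, hc⟩ : Subgroup.centralizer ((P : Subgroup G) : Set G)) : G))) =
      (χ' : G → ℂ) (a * ((⟨c, hc⟩ : Subgroup.centralizer ((P : Subgroup G) : Set G)) : G))
    rw [h1, h2]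
    have hfin : {φ : IrrCharacter (Subgroup.centralizer ((P : Subgroup G) : Set G)) |
          ∀ x : Subgroup.centralizer ((P : Subgroup G) : Set G), (x : G) ∈ (P : Subgroup G) →
            (φ : Subgroup.centralizer ((P : Subgroup G) : Set G) → ℂ) x =
              (φ : Subgroup.centralizer ((P : Subgroup G) : Set G) → ℂ) 1}.Finite := by
      haveI : Finite (IrrCharacter (Subgroup.centralizer ((P : Subgroup G) : Set G))) :=
        irr_finite'
      exact Set.toFinite _
    have hmap := AddMonoidHom.map_finsum_mem (fun φ : IrrCharacter (Subgroup.centralizer ((P : Subgroup G) : Set G)) =>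
        FP p P (φ : Subgroup.centralizer ((P : Subgroup G) : Set G) → ℂ) (χ : G → ℂ) a *
          (φ : Subgroup.centralizer ((P : Subgroup G) : Set G) → ℂ) ⟨c, hc⟩)
      (σ : ℂ ≃+* ℂ).toAddMonoidHom hfin
    have hmap' : σ (∑ᶠ φ ∈ {φ : IrrCharacter (Subgroup.centralizer ((P : Subgroup G) : Set G)) |
          ∀ x : Subgroup.centralizer ((P : Subgroup G) : Set G), (x : G) ∈ (P : Subgroup G) →
            (φ : Subgroup.centralizer ((P : Subgroup G) : Set G) → ℂ) x =
              (φ : Subgroup.centralizer ((P : Subgroup G) : Set G) → ℂ) 1},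
        FP p P (φ : Subgroup.centralizer ((P : Subgroup G) : Set G) → ℂ) (χ : G → ℂ) a *
          (φ : Subgroup.centralizer ((P : Subgroup G) : Set G) → ℂ) ⟨c, hc⟩) = _ := hmap
    rw [hmap']
    apply finsum_mem_congr rfl
    intro φ hφS
    show σ (FP p P (φ : Subgroup.centralizer ((P : Subgroup G) : Set G) → ℂ) (χ : G → ℂ) a *
          (φ : Subgroup.centralizer ((P : Subgroup G) : Set G) → ℂ) ⟨c, hc⟩) = _
    rw [map_mul]
    -- the value of `φ` at the `p`-regular element `c` is fixed
    have hφc : σ ((φ : Subgroup.centralizer ((P : Subgroup G) : Set G) → ℂ) ⟨c, hc⟩) =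
        (φ : Subgroup.centralizer ((P : Subgroup G) : Set G) → ℂ) ⟨c, hc⟩ := by
      haveI : Fintype (Subgroup.centralizer ((P : Subgroup G) : Set G)) := Fintype.ofFinite _
      apply Cfsg.Agent.Helper18.PConj.map_char_eq_of_pow_eq_one
        (isCharacter_of_isIrrCharacter φ.2) σ hm0 hζ hσ
      apply Subtype.ext
      rw [Subgroup.coe_pow, Subgroup.coe_one]
      exact galval_pow_eq_one p c hcp
    rw [hφc]
    congr 1
    -- the `φ`-parts
    rcases FP_dichotomy p M hM P hP B hB b hind θ hθ hθP χ hχ φ hφS with h | h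
    · obtain ⟨n, hn, hφ⟩ := h
      rw [FP_conj p P (θ : Subgroup.centralizer ((P : Subgroup G) : Set G) → ℂ)
          (φ : Subgroup.centralizer ((P : Subgroup G) : Set G) → ℂ) (χ : G → ℂ) hχcf n hn hφ a,
        FP_conj p P (θ : Subgroup.centralizer ((P : Subgroup G) : Set G) → ℂ)
          (φ : Subgroup.centralizer ((P : Subgroup G) : Set G) → ℂ) (χ' : G → ℂ) hχ'cf n hn hφ a]
      apply hsing
      · exact (Subgroup.mem_normalizer_iff.1 hn a).1 ha
      · intro h0
        apply ha1
        have : a = n⁻¹ * (n * a * n⁻¹) * n := by group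
        rw [this, h0]
        group
    · rcases FP_dichotomy p M hM P hP B hB b hind θ hθ hθP χ' hχ' φ hφS with h' | h'
      · obtain ⟨n, hn, hφ⟩ := h'
        -- then `φ` is conjugate to `θ`, and the first alternative applies to `χ` as well
        rw [FP_conj p P (θ : Subgroup.centralizer ((P : Subgroup G) : Set G) → ℂ)
            (φ : Subgroup.centralizer ((P : Subgroup G) : Set G) → ℂ) (χ : G → ℂ) hχcf n hn hφ a,
          FP_conj p P (θ : Subgroup.centralizer ((P : Subgroup G) : Set G) → ℂ)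
            (φ : Subgroup.centralizer ((P : Subgroup G) : Set G) → ℂ) (χ' : G → ℂ) hχ'cf n hn hφ a]
        apply hsing
        · exact (Subgroup.mem_normalizer_iff.1 hn a).1 ha
        · intro h0
          apply ha1
          have : a = n⁻¹ * (n * a * n⁻¹) * n := by group
          rw [this, h0]
          group
      · rw [h a ha ha1, h' a ha ha1, map_zero]
  · rw [Cfsg.Agent.Helper18.PConj.map_char_eq_of_pow_eq_one
      (isCharacter_of_isIrrCharacter χ.2) σ hm0 hζ hσ (galval_pow_eq_one p g hg), hreg g hg]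

end Cfsg.Agent.Helper5.TLG
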