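import Mathlib

set_option autoImplicit false

/-!
# S4507, piece SIGMAU (helper18): a field automorphism of `ℂ` acts on the `p`-th roots of unity as a
power map.
-/

namespace Cfsg.Agent.Helper5.TLG

/-- PIECE SIGMAU: a field automorphism of `ℂ` acts on the `p`-th roots of unity as a power map. -/
theorem exists_pow_of_ringEquiv (p : ℕ) [Fact p.Prime] (σ : ℂ ≃+* ℂ) :
    ∃ u : ℕ, 1 ≤ u ∧ u < p ∧ ∀ z : ℂ, z ^ p = 1 → σ z = z ^ u := by
  have hp : p.Prime := Fact.out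
  have hζ : IsPrimitiveRoot (Complex.exp (2 * Real.pi * Complex.I / p)) p :=
    Complex.isPrimitiveRoot_exp p hp.ne_zero
  set ζ := Complex.exp (2 * Real.pi * Complex.I / p) with hζdef
  have hσζ : (σ ζ) ^ p = 1 := by
    rw [← map_pow, hζ.pow_eq_one, map_one]
  obtain ⟨u, hup, hu⟩ := hζ.eq_pow_of_pow_eq_one hσζ
  have hu0 : u ≠ 0 := by
    rintro rfl
    rw [pow_zero] at hu
    have h1 : σ ζ = σ 1 := by rw [← hu, map_one]
    have h2 : ζ = 1 := σ.injective h1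
    exact hζ.ne_one hp.one_lt h2
  refine ⟨u, Nat.one_le_iff_ne_zero.2 hu0, hup, ?_⟩
  intro z hz
  obtain ⟨j, -, rfl⟩ := hζ.eq_pow_of_pow_eq_one hz
  rw [map_pow, ← hu, ← pow_mul, ← pow_mul, mul_comm]

end Cfsg.Agent.Helper5.TLG
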