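import Mathlib
import Cfsg.Agent.Lib.Helper5.TLRDefs
import Cfsg.Agent.Lib.Helper16.TL2FPW
import Cfsg.Agent.Lib.Helper18.TL2AP2CoreW

/-!
# S4442 Layer A, piece AP2 over a DVR `R` (port of helper25's TL2AP2)
-/

set_option autoImplicit false

namespace Cfsg.Agent.Helper5.TLR

variable (p : ℕ) [Fact p.Prime] {R : Type*} [CommRing R] [IsDomain R] [IsDiscreteValuationRing R]
  [CharZero R] [PUnif R p]

variable {L : Type*} [AddCommGroup L] [Module R L]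

/-- PIECE AP2: the abstract form of Steps 5/6. -/
theorem step_of_theta (X : Module.End R L) (W W' : Submodule R L) (n : ℕ)
    (θ : L → Fin n → kk R) (hθ : ThetaData p X W W' n θ) (hn : 2 ≤ n) (ν : Module.End R L)
    (hν1 : ∀ u ∈ W, ν u ∈ W) (hν2 : ∀ u ∈ W', ν u ∈ W')
    (hν3 : ∀ u ∈ W, (ν ^ (p - 1)) u - u ∈ W') :
    ∃ (φ : Module.End R L) (v₀ v₁ : L), Commute φ X ∧
      (∀ u ∈ W, ν (φ u) - φ (ν u) ∈ W') ∧
      v₀ ∈ W ∧ v₀ ∉ W' ∧ φ v₀ ∈ W' ∧ v₁ ∈ W ∧ v₁ ∉ W' ∧ φ v₁ - v₁ ∈ W' :=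
  step_of_theta_core p (fun hn N hN => fp_matrix p hn N hN) X W W' n θ hθ hn ν hν1 hν2 hν3

end Cfsg.Agent.Helper5.TLR
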