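import Mathlib
import Cfsg.Agent.Lib.Helper5.TLRDefs
import Cfsg.Agent.Lib.Helper18.TL2AP1W

/-!
# S4442 Layer A, piece THA0 over a DVR `R` (port of helper25's TL2THA0)
-/

set_option autoImplicit false

namespace Cfsg.Agent.Helper5.TLR

variable (p : ℕ) [Fact p.Prime] {R : Type*} [CommRing R] [IsDomain R] [IsDiscreteValuationRing R]
  [CharZero R] [PUnif R p]

variable {L : Type*} [AddCommGroup L] [Module R L]

theorem tha0_residue_p : IsLocalRing.residue R (p : R) = 0 :=
  (residue_eq_zero_iff p).2 dvd_rfl

theorem tha0_exists_of_residue_eq_zero {x : R} (hx : IsLocalRing.residue R x = 0) :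
    ∃ d : R, x = (p : R) * d :=
  (residue_eq_zero_iff p).1 hx

/-- PIECE THA0: a lattice with trivial action: `Ĥ⁰ = L / pL`. -/
theorem theta_trivial [Module.Free R L] [Module.Finite R L] (X : Module.End R L)
    (hX1 : ∀ u, X u = u) :
    ∃ θ : L → Fin (Module.finrank R L) → kk R,
      ThetaData p X ⊤ (sigRange p X) (Module.finrank R L) θ := by
  classical
  set e := Module.finBasis R L with he
  have hX : X = 1 := LinearMap.ext hX1
  have hsig : ∀ z : L, sig p X z = (p : R) • z := by
    intro z
    unfold sig
    rw [hX, LinearMap.sum_apply]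
    simp only [one_pow, Module.End.one_apply, Finset.sum_const, Finset.card_range]
    rw [Nat.cast_smul_eq_nsmul]
  refine ⟨fun u j => IsLocalRing.residue R (e.repr u j), ?_, ?_, ?_, ?_, ?_, ?_⟩
  · intro u u'
    funext j
    simp only [Pi.add_apply, map_add, Finsupp.coe_add]
  · intro c u
    funext j
    simp only [Pi.smul_apply, map_smul, Finsupp.coe_smul, smul_eq_mul, map_mul]
  · rintro u ⟨z, rfl⟩
    funext j
    rw [hsig]
    simp only [map_smul, Finsupp.coe_smul, Pi.smul_apply, smul_eq_mul, map_mul, tha0_residue_p p,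
      zero_mul, Pi.zero_apply]
  · intro u _ h0
    have h1 : ∀ j, ∃ d : R, e.repr u j = (p : R) * d := fun j =>
      tha0_exists_of_residue_eq_zero p (congrFun h0 j)
    choose d hd using h1
    refine ⟨∑ j, d j • e j, ?_⟩
    rw [hsig, Finset.smul_sum]
    conv_rhs => rw [← e.sum_repr u]
    refine Finset.sum_congr rfl fun j _ => ?_
    rw [hd, smul_smul]
  · intro c
    refine ⟨∑ j, ap_lift (R := R) (c j) • e j, Submodule.mem_top, ?_⟩
    funext j
    show IsLocalRing.residue R (e.repr (∑ j, ap_lift (R := R) (c j) • e j) j) = c j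
    rw [e.repr_sum_self, ap_residue_lift]
  · intro g
    set G : Matrix (Fin (Module.finrank R L)) (Fin (Module.finrank R L)) R :=
      g.map (ap_lift (R := R)) with hG
    refine ⟨Matrix.toLin e e G, ?_, fun u _ => Submodule.mem_top, ?_⟩
    · rw [hX]
      exact Commute.one_right _
    · intro u _
      have h1 := LinearMap.toMatrix_mulVec_repr e e (Matrix.toLin e e G) u
      rw [LinearMap.toMatrix_toLin] at h1
      funext i
      show IsLocalRing.residue R (e.repr ((Matrix.toLin e e G) u) i) = _
      rw [← h1, Matrix.mulVec, dotProduct, map_sum, Matrix.mulVec, dotProduct]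
      refine Finset.sum_congr rfl fun j _ => ?_
      rw [map_mul, hG, Matrix.map_apply, ap_residue_lift]

end Cfsg.Agent.Helper5.TLR
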