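import Mathlib

/-!
# Combinatorics of norm-two integer vectors (for exceptional characters; helper18's library)
-/

set_option autoImplicit false

namespace Cfsg.Agent.Helper18

section

variable {I : Type*} [Fintype I] [DecidableEq I]

/-- The indicator vector of `A`. -/
def eVec (A : I) : I → ℤ := fun θ => if θ = A then 1 else 0

theorem sum_eVec_mul (A : I) (f : I → ℤ) : ∑ θ, eVec A θ * f θ = f A := by
  simp [eVec]

theorem sum_eVec_mul_eVec (A B : I) : ∑ θ, eVec A θ * eVec B θ = if A = B then 1 else 0 := by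
  rw [sum_eVec_mul]
  rfl

/-- An integer vector of norm two orthogonal to a positive vector is a difference of two
distinct indicator vectors. -/
theorem exists_eq_eVec_sub_eVec (d : I → ℕ) (hd : ∀ θ, 0 < d θ) (c : I → ℤ)
    (h2 : ∑ θ, c θ * c θ = 2) (h0 : ∑ θ, c θ * (d θ : ℤ) = 0) :
    ∃ A B : I, A ≠ B ∧ c = fun θ => eVec A θ - eVec B θ := by
  classical
  set T := Finset.univ.filter (fun θ => c θ ≠ 0) with hT
  have hsupp : ∀ θ, θ ∉ T → c θ = 0 := by
    intro θ hθ
    by_contra h
    exact hθ (Finset.mem_filter.mpr ⟨Finset.mem_univ _, h⟩)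
  have hsum2 : ∑ θ ∈ T, c θ * c θ = 2 := by
    rw [← h2]
    apply Finset.sum_subset (Finset.subset_univ _)
    intro θ _ hθ
    rw [hsupp θ hθ, mul_zero]
  have hsum0 : ∑ θ ∈ T, c θ * (d θ : ℤ) = 0 := by
    rw [← h0]
    apply Finset.sum_subset (Finset.subset_univ _)
    intro θ _ hθ
    rw [hsupp θ hθ, zero_mul]
  have hge : ∀ θ ∈ T, 1 ≤ c θ * c θ := by
    intro θ hθ
    have hne : c θ ≠ 0 := (Finset.mem_filter.mp hθ).2
    have : 0 < c θ * c θ := mul_self_pos.mpr hne
    omega
  have hcard : (T.card : ℤ) ≤ 2 := by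
    have : ∑ _θ ∈ T, (1 : ℤ) ≤ ∑ θ ∈ T, c θ * c θ := Finset.sum_le_sum hge
    rw [Finset.sum_const, nsmul_eq_mul, mul_one, hsum2] at this
    exact this
  have hcard' : T.card ≤ 2 := by exact_mod_cast hcard
  have hcases : T.card = 0 ∨ T.card = 1 ∨ T.card = 2 := by omega
  rcases hcases with h | h | h
  · rw [Finset.card_eq_zero] at h
    rw [h, Finset.sum_empty] at hsum2
    omega
  · obtain ⟨A, hA⟩ := Finset.card_eq_one.mp h
    rw [hA, Finset.sum_singleton] at hsum2
    exfalso
    have h1 : c A * c A = 2 := hsum2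
    have h3 : c A ≤ -2 ∨ (-1 ≤ c A ∧ c A ≤ 1) ∨ 2 ≤ c A := by omega
    rcases h3 with h3 | ⟨h3, h4⟩ | h3
    · nlinarith
    · nlinarith
    · nlinarith
  · obtain ⟨A, B, hAB, hTAB⟩ := Finset.card_eq_two.mp h
    rw [hTAB, Finset.sum_pair hAB] at hsum2 hsum0
    have hA1 : 1 ≤ c A * c A := hge A (by rw [hTAB]; simp)
    have hB1 : 1 ≤ c B * c B := hge B (by rw [hTAB]; simp)
    have hA : c A * c A = 1 := by omega
    have hB : c B * c B = 1 := by omega
    have hA' : c A = 1 ∨ c A = -1 := by
      have : (c A - 1) * (c A + 1) = 0 := by ring_nf; ring_nf at hA; omega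
      rcases mul_eq_zero.mp this with h | h
      · left; omega
      · right; omega
    have hB' : c B = 1 ∨ c B = -1 := by
      have : (c B - 1) * (c B + 1) = 0 := by ring_nf; ring_nf at hB; omega
      rcases mul_eq_zero.mp this with h | h
      · left; omega
      · right; omega
    have hdA : (0 : ℤ) < d A := by exact_mod_cast hd A
    have hdB : (0 : ℤ) < d B := by exact_mod_cast hd B
    have hcoef : ∀ θ, θ ≠ A → θ ≠ B → c θ = 0 := by
      intro θ h1 h2
      apply hsupp
      rw [hTAB]
      simp [h1, h2]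
    rcases hA' with hA' | hA' <;> rcases hB' with hB' | hB'
    · rw [hA', hB'] at hsum0; omega
    · refine ⟨A, B, hAB, ?_⟩
      funext θ
      by_cases h1 : θ = A
      · subst h1; simp [eVec, hAB, hA']
      · by_cases h2 : θ = B
        · subst h2; simp [eVec, hB', Ne.symm hAB]
        · simp [eVec, h1, h2, hcoef θ h1 h2]
    · refine ⟨B, A, Ne.symm hAB, ?_⟩
      funext θ
      by_cases h1 : θ = A
      · subst h1; simp [eVec, hAB, hA']
      · by_cases h2 : θ = B
        · subst h2; simp [eVec, hB', Ne.symm hAB]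
        · simp [eVec, h1, h2, hcoef θ h1 h2]
    · rw [hA', hB'] at hsum0; omega

/-- Coherence: a family of norm-two vectors with pairwise inner products one, all orthogonal to a
positive vector, is of the form `ε (e_{t i} - e_{t₀})`. -/
theorem exists_coherent [Nonempty I] {m : ℕ} (d : I → ℕ) (hd : ∀ θ, 0 < d θ) (c : Fin m → I → ℤ)
    (hinner : ∀ i j, ∑ θ, c i θ * c j θ = if i = j then 2 else 1)
    (h0 : ∀ i, ∑ θ, c i θ * (d θ : ℤ) = 0) :
    ∃ (ε : ℤ) (t₀ : I) (t : Fin m → I), (ε = 1 ∨ ε = -1) ∧ Function.Injective t ∧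
      (∀ i, t i ≠ t₀) ∧ ∀ i, c i = fun θ => ε * (eVec (t i) θ - eVec t₀ θ) := by
  classical
  have hex : ∀ i, ∃ A B : I, A ≠ B ∧ c i = fun θ => eVec A θ - eVec B θ := by
    intro i
    apply exists_eq_eVec_sub_eVec d hd (c i) _ (h0 i)
    have := hinner i i
    rwa [if_pos rfl] at this
  choose A B hAB hc using hex
  -- pairwise structure
  have hpair : ∀ i j, i ≠ j →
      (if A i = A j then (1 : ℤ) else 0) - (if A i = B j then 1 else 0) -
        (if B i = A j then 1 else 0) + (if B i = B j then 1 else 0) = 1 := by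
    intro i j hij
    have h1 := hinner i j
    rw [if_neg hij, hc i, hc j] at h1
    have h2 : ∑ θ, (eVec (A i) θ - eVec (B i) θ) * (eVec (A j) θ - eVec (B j) θ) =
        ∑ θ, eVec (A i) θ * eVec (A j) θ - ∑ θ, eVec (A i) θ * eVec (B j) θ -
          ∑ θ, eVec (B i) θ * eVec (A j) θ + ∑ θ, eVec (B i) θ * eVec (B j) θ := by
      rw [← Finset.sum_sub_distrib, ← Finset.sum_sub_distrib, ← Finset.sum_add_distrib]
      refine Finset.sum_congr rfl fun θ _ => ?_
      ring
    rw [h2] at h1
    simp only [sum_eVec_mul_eVec] at h1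
    exact h1
  have hAorB : ∀ i j, i ≠ j → (A i = A j ∧ B i ≠ B j) ∨ (B i = B j ∧ A i ≠ A j) := by
    intro i j hij
    have h := hpair i j hij
    by_cases h1 : A i = A j
    · left
      refine ⟨h1, ?_⟩
      intro h2
      have h3 : A i ≠ B j := by rw [← h2]; exact hAB i
      have h4 : B i ≠ A j := by rw [← h1]; exact Ne.symm (hAB i)
      rw [if_pos h1, if_neg h3, if_neg h4, if_pos h2] at h
      omega
    · right
      by_cases h2 : B i = B j
      · exact ⟨h2, h1⟩
      · exfalso
        rw [if_neg h1, if_neg h2] at h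
        split_ifs at h <;> omega
  by_cases hallB : ∀ i j, B i = B j
  · -- common B
    by_cases hm : m = 0
    · subst hm
      obtain ⟨t₀⟩ : Nonempty I := inferInstance
      exact ⟨1, t₀, fun i => i.elim0, Or.inl rfl, fun i => i.elim0, fun i => i.elim0,
        fun i => i.elim0⟩
    · obtain ⟨i₀⟩ : Nonempty (Fin m) := ⟨⟨0, Nat.pos_of_ne_zero hm⟩⟩
      refine ⟨1, B i₀, A, Or.inl rfl, ?_, ?_, ?_⟩
      · intro i j hij
        by_contra hne
        rcases hAorB i j hne with ⟨-, h⟩ | ⟨-, h⟩
        · exact h (hallB i j)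
        · exact h hij
      · intro i
        rw [hallB i₀ i]
        exact hAB i
      · intro i
        rw [hc i, hallB i₀ i]
        funext θ
        ring
  · -- common A
    push Not at hallB
    obtain ⟨i₀, j₀, hij₀⟩ := hallB
    have hne₀ : i₀ ≠ j₀ := by
      intro h; rw [h] at hij₀; exact hij₀ rfl
    have hA₀ : A i₀ = A j₀ := by
      rcases hAorB i₀ j₀ hne₀ with ⟨h, -⟩ | ⟨h, -⟩
      · exact h
      · exact absurd h hij₀
    have hallA : ∀ k, A k = A i₀ := by
      intro k
      by_cases hk : k = i₀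
      · rw [hk]
      · rcases hAorB k i₀ hk with ⟨h, -⟩ | ⟨h, h'⟩
        · exact h
        · -- B k = B i₀, so compare k with j₀
          have hkj : k ≠ j₀ := by
            intro hkj
            rw [hkj] at h
            exact hij₀ h.symm
          rcases hAorB k j₀ hkj with ⟨h2, -⟩ | ⟨h2, -⟩
          · rw [h2, hA₀]
          · exfalso
            apply hij₀
            rw [← h, h2]
    refine ⟨-1, A i₀, B, Or.inr rfl, ?_, ?_, ?_⟩
    · intro i j hij
      by_contra hne
      rcases hAorB i j hne with ⟨-, h⟩ | ⟨-, h⟩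
      · exact h hij
      · exact h (by rw [hallA i, hallA j])
    · intro i
      rw [← hallA i]
      exact Ne.symm (hAB i)
    · intro i
      rw [hc i, hallA i]
      funext θ
      ring

end

end Cfsg.Agent.Helper18
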