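import Mathlib

/-!
# An abelian normal subgroup acting irreducibly with the orbits of the whole group (helper18)

`H` acts faithfully on a finite elementary abelian `p`-group `A` of order `p ^ d`; `M` is a
non-trivial abelian normal subgroup of `H` that acts irreducibly on `A` and has the same orbits
as `H`.  The subring `R` of `End A` generated by `M` is a field with `p ^ d` elements, `M` is
cyclic and semiregular on the non-zero vectors, and `H / M` embeds in the Galois group of `R`.
-/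

set_option autoImplicit false

namespace Cfsg.Agent.Helper18.SolvEP

variable {A : Type*} [AddCommGroup A] {H : Type*} [Group H]

/-- the subring of `End A` generated by the image of `M` -/
def RR (ρ : H →* AddMonoid.End A) (M : Subgroup H) : Subring (AddMonoid.End A) :=
  Subring.closure (ρ '' (M : Set H))

theorem rho_mem_RR (ρ : H →* AddMonoid.End A) (M : Subgroup H) {m : H} (hm : m ∈ M) :
    ρ m ∈ RR ρ M := Subring.subset_closure ⟨m, hm, rfl⟩

theorem gens_comm (ρ : H →* AddMonoid.End A) (M : Subgroup H)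
    (hcomm : ∀ a ∈ M, ∀ b ∈ M, a * b = b * a) :
    ∀ x ∈ ρ '' (M : Set H), ∀ y ∈ ρ '' (M : Set H), x * y = y * x := by
  rintro _ ⟨a, ha, rfl⟩ _ ⟨b, hb, rfl⟩
  rw [← map_mul, ← map_mul, hcomm a ha b hb]

open scoped IsMulCommutative in
/-- the commutative ring structure on `RR` -/
@[reducible] def commRingRR (ρ : H →* AddMonoid.End A) (M : Subgroup H)
    (hcomm : ∀ a ∈ M, ∀ b ∈ M, a * b = b * a) : CommRing (RR ρ M) :=
  have : IsMulCommutative ↥(Subring.closure (ρ '' (M : Set H))) :=
    Subring.isMulCommutative_closure (gens_comm ρ M hcomm)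
  (inferInstance : CommRing ↥(Subring.closure (ρ '' (M : Set H))))

theorem RR_comm (ρ : H →* AddMonoid.End A) (M : Subgroup H)
    (hcomm : ∀ a ∈ M, ∀ b ∈ M, a * b = b * a) {x y : AddMonoid.End A} (hx : x ∈ RR ρ M)
    (hy : y ∈ RR ρ M) : x * y = y * x := by
  letI := commRingRR ρ M hcomm
  have := mul_comm (⟨x, hx⟩ : RR ρ M) ⟨y, hy⟩
  exact congrArg Subtype.val this

/-- conjugation by `ρ h` preserves `RR` when `M` is normal -/
theorem conj_mem_RR (ρ : H →* AddMonoid.End A) (M : Subgroup H) [hMn : M.Normal] (h : H)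
    {x : AddMonoid.End A} (hx : x ∈ RR ρ M) : ρ h * x * ρ h⁻¹ ∈ RR ρ M := by
  induction hx using Subring.closure_induction with
  | mem y hy =>
    obtain ⟨m, hm, rfl⟩ := hy
    have : ρ h * ρ m * ρ h⁻¹ = ρ (h * m * h⁻¹) := by rw [map_mul, map_mul]
    rw [this]
    exact rho_mem_RR ρ M (hMn.conj_mem m hm h)
  | zero => simp [Subring.zero_mem]
  | one =>
    have : ρ h * 1 * ρ h⁻¹ = 1 := by rw [mul_one, ← map_mul, mul_inv_cancel, map_one]
    rw [this]
    exact Subring.one_mem _
  | add x y _ _ hx hy =>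
    have : ρ h * (x + y) * ρ h⁻¹ = ρ h * x * ρ h⁻¹ + ρ h * y * ρ h⁻¹ := by
      rw [mul_add, add_mul]
    rw [this]
    exact Subring.add_mem _ hx hy
  | neg x _ hx =>
    have : ρ h * (-x) * ρ h⁻¹ = -(ρ h * x * ρ h⁻¹) := by
      rw [mul_neg, neg_mul]
    rw [this]
    exact Subring.neg_mem _ hx
  | mul x y _ _ hx hy =>
    have : ρ h * (x * y) * ρ h⁻¹ = (ρ h * x * ρ h⁻¹) * (ρ h * y * ρ h⁻¹) := by
      have h1 : ρ h⁻¹ * ρ h = 1 := by rw [← map_mul, inv_mul_cancel, map_one]
      calc ρ h * (x * y) * ρ h⁻¹ = ρ h * x * 1 * y * ρ h⁻¹ := by rw [mul_one]; noncomm_ring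
        _ = (ρ h * x * ρ h⁻¹) * (ρ h * y * ρ h⁻¹) := by rw [← h1]; noncomm_ring
    rw [this]
    exact Subring.mul_mem _ hx hy

end Cfsg.Agent.Helper18.SolvEP
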