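import Mathlib
import Cfsg.Agent.Lib.Helper18.SolvEP1

/-!
# The field generated by an irreducible abelian normal subgroup (helper18)
-/

set_option autoImplicit false
set_option linter.style.haveILetI false
set_option linter.unusedSectionVars false

namespace Cfsg.Agent.Helper18.SolvEP

variable {A : Type*} [AddCommGroup A] {H : Type*} [Group H]

/-- the hypotheses -/
structure Hyp (ρ : H →* AddMonoid.End A) (M : Subgroup H) : Prop where
  inj : Function.Injective ρ
  comm : ∀ a ∈ M, ∀ b ∈ M, a * b = b * a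
  irr : ∀ L : AddSubgroup A, (∀ m ∈ M, ∀ x ∈ L, ρ m x ∈ L) → L = ⊥ ∨ L = ⊤
  orb : ∀ h : H, ∀ x : A, ∃ m ∈ M, ρ h x = ρ m x

variable {ρ : H →* AddMonoid.End A} {M : Subgroup H}

/-- `R v = A` for `v ≠ 0` -/
theorem Hyp.exists_eq (hyp : Hyp ρ M) {v : A} (hv : v ≠ 0) (w : A) :
    ∃ r ∈ RR ρ M, r v = w := by
  let L : AddSubgroup A :=
    { carrier := {w | ∃ r ∈ RR ρ M, r v = w}
      zero_mem' := ⟨0, Subring.zero_mem _, rfl⟩
      add_mem' := by
        rintro _ _ ⟨r, hr, rfl⟩ ⟨s, hs, rfl⟩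
        exact ⟨r + s, Subring.add_mem _ hr hs, rfl⟩
      neg_mem' := by
        rintro _ ⟨r, hr, rfl⟩
        exact ⟨-r, Subring.neg_mem _ hr, rfl⟩ }
  have hinv : ∀ m ∈ M, ∀ x ∈ L, ρ m x ∈ L := by
    rintro m hm _ ⟨r, hr, rfl⟩
    exact ⟨ρ m * r, Subring.mul_mem _ (rho_mem_RR ρ M hm) hr, rfl⟩
  have hvL : v ∈ L := ⟨1, Subring.one_mem _, rfl⟩
  rcases hyp.irr L hinv with h | h
  · rw [h, AddSubgroup.mem_bot] at hvL
    exact absurd hvL hv
  · have : w ∈ L := by rw [h]; exact AddSubgroup.mem_top w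
    exact this

/-- an element of `R` killing a non-zero vector is zero -/
theorem Hyp.eq_zero_of_apply (hyp : Hyp ρ M) {v : A} (hv : v ≠ 0) {r : AddMonoid.End A}
    (hr : r ∈ RR ρ M) (hrv : r v = 0) : r = 0 := by
  ext w
  obtain ⟨s, hs, rfl⟩ := hyp.exists_eq hv w
  have h1 : r (s v) = (r * s) v := rfl
  rw [h1, RR_comm ρ M hyp.comm hr hs]
  show s (r v) = 0
  rw [hrv, map_zero]

/-- elements of `R` agreeing on a non-zero vector are equal -/
theorem Hyp.eq_of_apply (hyp : Hyp ρ M) {v : A} (hv : v ≠ 0) {r s : AddMonoid.End A}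
    (hr : r ∈ RR ρ M) (hs : s ∈ RR ρ M) (hrv : r v = s v) : r = s := by
  have h1 : (r - s) v = 0 := by
    show r v - s v = 0
    rw [hrv, sub_self]
  have := hyp.eq_zero_of_apply hv (Subring.sub_mem _ hr hs) h1
  exact sub_eq_zero.mp this

/-- evaluation at a non-zero vector is a bijection `R → A` -/
theorem Hyp.bijective_eval (hyp : Hyp ρ M) {v : A} (hv : v ≠ 0) :
    Function.Bijective (fun r : RR ρ M => (r : AddMonoid.End A) v) := by
  constructor
  · intro r s hrs
    exact Subtype.ext (hyp.eq_of_apply hv r.2 s.2 hrs)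
  · intro w
    obtain ⟨r, hr, hrw⟩ := hyp.exists_eq hv w
    exact ⟨⟨r, hr⟩, hrw⟩

theorem Hyp.card_RR (hyp : Hyp ρ M) [Nontrivial A] : Nat.card (RR ρ M) = Nat.card A := by
  obtain ⟨v, hv⟩ := exists_ne (0 : A)
  exact Nat.card_eq_of_bijective _ (hyp.bijective_eval hv)

theorem Hyp.finite_RR (hyp : Hyp ρ M) [Nontrivial A] [Finite A] : Finite (RR ρ M) := by
  obtain ⟨v, hv⟩ := exists_ne (0 : A)
  exact Finite.of_injective _ (hyp.bijective_eval hv).1

/-- `R` has no zero divisors -/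
theorem Hyp.mul_eq_zero (hyp : Hyp ρ M) {r s : AddMonoid.End A} (hr : r ∈ RR ρ M)
    (_hs : s ∈ RR ρ M) (hrs : r * s = 0) : r = 0 ∨ s = 0 := by
  by_cases hs0 : s = 0
  · exact Or.inr hs0
  left
  have : ∃ v, s v ≠ 0 := by
    by_contra hcon
    push Not at hcon
    apply hs0
    ext w
    exact hcon w
  obtain ⟨v, hv⟩ := this
  apply hyp.eq_zero_of_apply hv hr
  have : r (s v) = (r * s) v := rfl
  rw [this, hrs]
  rfl

theorem Hyp.isDomain (hyp : Hyp ρ M) [Nontrivial A] :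
    letI := commRingRR ρ M hyp.comm
    IsDomain (RR ρ M) := by
  letI := commRingRR ρ M hyp.comm
  refine @NoZeroDivisors.to_isDomain _ _ ?_ ?_
  · obtain ⟨v, hv⟩ := exists_ne (0 : A)
    refine ⟨⟨0, 1, ?_⟩⟩
    intro h
    have h1 : ((0 : RR ρ M) : AddMonoid.End A) v = ((1 : RR ρ M) : AddMonoid.End A) v := by rw [h]
    apply hv
    exact h1.symm
  · constructor
    intro a b hab
    have h1 : (a : AddMonoid.End A) * (b : AddMonoid.End A) = 0 := by
      have := congrArg Subtype.val hab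
      exact this
    rcases hyp.mul_eq_zero a.2 b.2 h1 with h | h
    · exact Or.inl (Subtype.ext h)
    · exact Or.inr (Subtype.ext h)

/-- the embedding of `M` in `R` -/
def fM (ρ : H →* AddMonoid.End A) (M : Subgroup H) : M →* RR ρ M where
  toFun m := ⟨ρ m, rho_mem_RR ρ M m.2⟩
  map_one' := Subtype.ext (by simp)
  map_mul' a b := Subtype.ext (by simp)

theorem Hyp.fM_injective (hyp : Hyp ρ M) : Function.Injective (fM ρ M) := by
  intro a b hab
  have : ρ a = ρ b := congrArg Subtype.val hab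
  exact Subtype.ext (hyp.inj this)

theorem Hyp.isCyclic (hyp : Hyp ρ M) [Nontrivial A] [Finite H] : IsCyclic M := by
  letI := commRingRR ρ M hyp.comm
  haveI := hyp.isDomain
  exact isCyclic_of_injective_ringHom (fM ρ M) hyp.fM_injective

/-- `M` is semiregular on the non-zero vectors -/
theorem Hyp.eq_one_of_fixes (hyp : Hyp ρ M) {m : H} (hm : m ∈ M) {v : A} (hv : v ≠ 0)
    (hfix : ρ m v = v) : m = 1 := by
  apply hyp.inj
  rw [map_one]
  exact hyp.eq_of_apply hv (rho_mem_RR ρ M hm) (Subring.one_mem _) hfix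

/-- an element commuting with `M` and fixing a non-zero vector is trivial -/
theorem Hyp.eq_one_of_commute (hyp : Hyp ρ M) {c : H}
    (hc : ∀ r ∈ RR ρ M, ρ c * r = r * ρ c) {v : A} (hv : v ≠ 0) (hfix : ρ c v = v) : c = 1 := by
  apply hyp.inj
  rw [map_one]
  ext w
  obtain ⟨r, hr, rfl⟩ := hyp.exists_eq hv w
  have h1 : ρ c (r v) = (ρ c * r) v := rfl
  rw [h1, hc r hr]
  show r (ρ c v) = r v
  rw [hfix]

end Cfsg.Agent.Helper18.SolvEP
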