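import Mathlib

/-!
# Groups of automorphisms of a finite field (helper18)

A group mapping to the ring automorphisms of a finite field with `p ^ d` elements is, modulo the
kernel, cyclic of order dividing `d`.
-/

set_option autoImplicit false
set_option linter.style.haveILetI false
set_option linter.unusedSectionVars false

namespace Cfsg.Agent.Helper18.SolvEP

section gal

variable {K : Type*} [Field K] [Finite K] {p d : ℕ} [hp : Fact p.Prime] [CharP K p]

/-- a ring automorphism of a field of characteristic `p` as a `ZMod p`-algebra automorphism -/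
noncomputable def toGal (p : ℕ) [Fact p.Prime] [CharP K p] :
    letI := ZMod.algebra K p
    (K ≃+* K) →* (K ≃ₐ[ZMod p] K) :=
  letI := ZMod.algebra K p
  { toFun := fun f => AlgEquiv.ofRingEquiv (f := f) (by
      intro z
      obtain ⟨n, rfl⟩ := ZMod.natCast_zmod_surjective z
      rw [map_natCast, map_natCast])
    map_one' := by
      apply AlgEquiv.ext
      intro x
      rfl
    map_mul' := by
      intro f g
      apply AlgEquiv.ext
      intro x
      rfl }

theorem toGal_injective (p : ℕ) [Fact p.Prime] [CharP K p] :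
    Function.Injective (toGal (K := K) p) := by
  letI := ZMod.algebra K p
  intro f g hfg
  apply RingEquiv.ext
  intro x
  have := DFunLike.congr_fun hfg x
  exact this

theorem card_gal (hK : Nat.card K = p ^ d) :
    letI := ZMod.algebra K p
    Nat.card (K ≃ₐ[ZMod p] K) = d := by
  letI := ZMod.algebra K p
  rw [IsGalois.card_aut_eq_finrank]
  letI := Fintype.ofFinite K
  have h1 := Module.card_eq_pow_finrank (K := ZMod p) (V := K)
  rw [ZMod.card, ← Nat.card_eq_fintype_card, hK] at h1
  exact (Nat.pow_right_injective hp.out.two_le h1).symm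

theorem gal_general (hK : Nat.card K = p ^ d) {H : Type*} [Group H] [Finite H]
    (ψ : H →* (K ≃+* K)) :
    (∃ h : H, ∀ g : H, ∃ k : ℤ, g * h ^ (-k) ∈ ψ.ker) ∧ Nat.card H ∣ Nat.card ψ.ker * d := by
  letI := ZMod.algebra K p
  set ψ' : H →* (K ≃ₐ[ZMod p] K) := (toGal (K := K) p).comp ψ with hψ'
  have hker : ψ'.ker = ψ.ker := by
    ext g
    rw [MonoidHom.mem_ker, MonoidHom.mem_ker, hψ', MonoidHom.comp_apply]
    constructor
    · intro h
      apply toGal_injective (K := K) p
      rw [h, map_one]
    · intro h
      rw [h, map_one]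
  constructor
  · haveI : IsCyclic ψ'.range := Subgroup.isCyclic _
    obtain ⟨⟨g₀, hg₀r⟩, hg₀⟩ := IsCyclic.exists_generator (α := ψ'.range)
    obtain ⟨h, rfl⟩ := hg₀r
    refine ⟨h, fun g => ?_⟩
    have h1 := hg₀ ⟨ψ' g, g, rfl⟩
    obtain ⟨k, hk⟩ := Subgroup.mem_zpowers_iff.mp h1
    have hk' : ψ' h ^ k = ψ' g := by
      have := congrArg Subtype.val hk
      simpa using this
    refine ⟨k, ?_⟩
    rw [← hker, MonoidHom.mem_ker, map_mul, map_zpow, zpow_neg, hk', mul_inv_cancel]
  · have h1 : Nat.card ψ'.range ∣ d := by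
      have := Subgroup.card_subgroup_dvd_card ψ'.range
      rwa [card_gal hK] at this
    have h2 := Subgroup.card_mul_index ψ'.ker
    rw [Subgroup.index_ker, hker] at h2
    rw [← h2]
    exact Nat.mul_dvd_mul_left _ h1

end gal

end Cfsg.Agent.Helper18.SolvEP
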