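import Mathlib
import Cfsg.Agent.Lib.Helper18.SolvEP2
import Cfsg.Agent.Lib.Helper18.SolvEP3

/-!
# The abstract structure theorem for the point stabiliser of a solvable extremely primitive group
(helper18)
-/

set_option autoImplicit false
set_option linter.style.haveILetI false
set_option linter.unusedSectionVars false

namespace Cfsg.Agent.Helper18.SolvEP

variable {A : Type*} [AddCommGroup A] {H : Type*} [Group H]
variable {ρ : H →* AddMonoid.End A} {M : Subgroup H}

/-- the field structure on `R` -/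
@[reducible] noncomputable def Hyp.fieldRR (hyp : Hyp ρ M) [Nontrivial A] [Finite A] :
    Field (RR ρ M) :=
  letI := commRingRR ρ M hyp.comm
  haveI := hyp.isDomain
  haveI := hyp.finite_RR
  letI := Fintype.ofFinite (RR ρ M)
  letI := Classical.decEq (RR ρ M)
  Fintype.fieldOfDomain (RR ρ M)

theorem Hyp.charP (hyp : Hyp ρ M) [Nontrivial A] [Finite A] {p : ℕ} [hp : Fact p.Prime]
    (hexp : ∀ x : A, p • x = 0) :
    letI := hyp.fieldRR
    CharP (RR ρ M) p := by
  letI := hyp.fieldRR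
  refine (CharP.charP_iff_prime_eq_zero hp.out).mpr ?_
  apply Subtype.ext
  ext x
  have h1 : (((p : ℕ) : RR ρ M) : AddMonoid.End A) = ((p : ℕ) : AddMonoid.End A) := by
    simp
  have h2 : (((p : ℕ) : RR ρ M) : AddMonoid.End A) x = 0 := by
    rw [h1, AddMonoid.End.natCast_apply]
    exact hexp x
  exact h2

/-- conjugation by `ρ h` as a ring automorphism of `R` -/
def conjRR (ρ : H →* AddMonoid.End A) (M : Subgroup H) [M.Normal] :
    H →* (RR ρ M ≃+* RR ρ M) where
  toFun h :=
    { toFun := fun r => ⟨ρ h * r * ρ h⁻¹, conj_mem_RR ρ M h r.2⟩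
      invFun := fun r => ⟨ρ h⁻¹ * r * ρ h, by
        have := conj_mem_RR ρ M h⁻¹ r.2
        rwa [inv_inv] at this⟩
      left_inv := by
        intro r
        apply Subtype.ext
        show ρ h⁻¹ * (ρ h * r * ρ h⁻¹) * ρ h = r
        have h1 : ρ h⁻¹ * ρ h = 1 := by rw [← map_mul, inv_mul_cancel, map_one]
        calc ρ h⁻¹ * (ρ h * r * ρ h⁻¹) * ρ h = (ρ h⁻¹ * ρ h) * r * (ρ h⁻¹ * ρ h) := by
              noncomm_ring
          _ = r := by rw [h1, one_mul, mul_one]
      right_inv := by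
        intro r
        apply Subtype.ext
        show ρ h * (ρ h⁻¹ * r * ρ h) * ρ h⁻¹ = r
        have h1 : ρ h * ρ h⁻¹ = 1 := by rw [← map_mul, mul_inv_cancel, map_one]
        calc ρ h * (ρ h⁻¹ * r * ρ h) * ρ h⁻¹ = (ρ h * ρ h⁻¹) * r * (ρ h * ρ h⁻¹) := by
              noncomm_ring
          _ = r := by rw [h1, one_mul, mul_one]
      map_mul' := by
        intro r s
        apply Subtype.ext
        show ρ h * (r * s) * ρ h⁻¹ = (ρ h * r * ρ h⁻¹) * (ρ h * s * ρ h⁻¹)
        have h1 : ρ h⁻¹ * ρ h = 1 := by rw [← map_mul, inv_mul_cancel, map_one]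
        calc ρ h * ((r : AddMonoid.End A) * s) * ρ h⁻¹
            = ρ h * r * 1 * s * ρ h⁻¹ := by rw [mul_one]; noncomm_ring
          _ = (ρ h * r * ρ h⁻¹) * (ρ h * s * ρ h⁻¹) := by rw [← h1]; noncomm_ring
      map_add' := by
        intro r s
        apply Subtype.ext
        show ρ h * (r + s) * ρ h⁻¹ = (ρ h * r * ρ h⁻¹) + (ρ h * s * ρ h⁻¹)
        rw [mul_add, add_mul] }
  map_one' := by
    apply RingEquiv.ext
    intro r
    apply Subtype.ext
    show ρ 1 * r * ρ 1⁻¹ = r
    rw [inv_one, map_one, one_mul, mul_one]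
  map_mul' := by
    intro a b
    apply RingEquiv.ext
    intro r
    apply Subtype.ext
    show ρ (a * b) * r * ρ (a * b)⁻¹ = ρ a * (ρ b * r * ρ b⁻¹) * ρ a⁻¹
    rw [mul_inv_rev, map_mul, map_mul]
    noncomm_ring

theorem conjRR_apply (ρ : H →* AddMonoid.End A) (M : Subgroup H) [M.Normal] (h : H)
    (r : RR ρ M) : ((conjRR ρ M h r : RR ρ M) : AddMonoid.End A) = ρ h * r * ρ h⁻¹ := rfl

/-- the kernel of the conjugation action on `R` is `M` -/
theorem Hyp.ker_conjRR (hyp : Hyp ρ M) [M.Normal] [Nontrivial A] : (conjRR ρ M).ker = M := by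
  obtain ⟨v, hv⟩ := exists_ne (0 : A)
  ext h
  rw [MonoidHom.mem_ker]
  constructor
  · intro hh
    have hcomm : ∀ r ∈ RR ρ M, ρ h * r = r * ρ h := by
      intro r hr
      have h1 : ((conjRR ρ M h ⟨r, hr⟩ : RR ρ M) : AddMonoid.End A) = r := by rw [hh]; rfl
      rw [conjRR_apply] at h1
      have h2 : ρ h⁻¹ * ρ h = 1 := by rw [← map_mul, inv_mul_cancel, map_one]
      calc ρ h * r = ρ h * r * (ρ h⁻¹ * ρ h) := by rw [h2, mul_one]
        _ = (ρ h * r * ρ h⁻¹) * ρ h := by noncomm_ring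
        _ = r * ρ h := by rw [h1]
    obtain ⟨m, hm, hmv⟩ := hyp.orb h v
    have hc : ∀ r ∈ RR ρ M, ρ (m⁻¹ * h) * r = r * ρ (m⁻¹ * h) := by
      intro r hr
      rw [map_mul, mul_assoc, hcomm r hr, ← mul_assoc, ← mul_assoc,
        RR_comm ρ M hyp.comm (rho_mem_RR ρ M (M.inv_mem hm)) hr]
    have hfix : ρ (m⁻¹ * h) v = v := by
      rw [map_mul]
      show ρ m⁻¹ (ρ h v) = v
      rw [hmv]
      show (ρ m⁻¹ * ρ m) v = v
      rw [← map_mul, inv_mul_cancel, map_one]
      rfl
    have h1 := hyp.eq_one_of_commute hc hv hfix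
    have h2 : h = m := by
      have := congrArg (fun z => m * z) h1
      simpa using this
    rw [h2]
    exact hm
  · intro hh
    apply RingEquiv.ext
    intro r
    apply Subtype.ext
    rw [conjRR_apply]
    show ρ h * r * ρ h⁻¹ = r
    rw [RR_comm ρ M hyp.comm (rho_mem_RR ρ M hh) r.2, mul_assoc, ← map_mul, mul_inv_cancel,
      map_one, mul_one]

end Cfsg.Agent.Helper18.SolvEP
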