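import Mathlib
import Cfsg.Agent.Lib.Helper18.SolvEP4

/-!
# The abstract structure theorem, main statement (helper18)
-/

set_option autoImplicit false
set_option linter.style.haveILetI false
set_option linter.unusedSectionVars false

namespace Cfsg.Agent.Helper18.SolvEP

variable {A : Type*} [AddCommGroup A] {H : Type*} [Group H]
variable {ρ : H →* AddMonoid.End A} {M : Subgroup H}

theorem Hyp.nontrivial (hyp : Hyp ρ M) (hM : M ≠ ⊥) : Nontrivial A := by
  by_contra hcon
  rw [not_nontrivial_iff_subsingleton] at hcon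
  apply hM
  rw [Subgroup.eq_bot_iff_forall]
  intro m _
  apply hyp.inj
  ext x
  exact Subsingleton.elim _ _

/-- the field `R` as a type of its own, carrying only the field instance -/
def KK (_hyp : Hyp ρ M) : Type _ := ↥(RR ρ M)

noncomputable instance instFieldKK (hyp : Hyp ρ M) [Nontrivial A] [Finite A] : Field (KK hyp) :=
  hyp.fieldRR

instance instFiniteKK (hyp : Hyp ρ M) [Nontrivial A] [Finite A] : Finite (KK hyp) :=
  hyp.finite_RR

/-- the underlying endomorphism -/
def KK.val {hyp : Hyp ρ M} (x : KK hyp) : AddMonoid.End A := Subtype.val x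

/-- the constructor -/
def KK.mk (hyp : Hyp ρ M) (x : AddMonoid.End A) (hx : x ∈ RR ρ M) : KK hyp := ⟨x, hx⟩

section

variable (hyp : Hyp ρ M) [Nontrivial A] [Finite A]

theorem KK.mk_add (x y : AddMonoid.End A) (hx : x ∈ RR ρ M) (hy : y ∈ RR ρ M) :
    KK.mk hyp (x + y) (Subring.add_mem _ hx hy) = KK.mk hyp x hx + KK.mk hyp y hy := rfl

theorem KK.mk_mul (x y : AddMonoid.End A) (hx : x ∈ RR ρ M) (hy : y ∈ RR ρ M) :
    KK.mk hyp (x * y) (Subring.mul_mem _ hx hy) = KK.mk hyp x hx * KK.mk hyp y hy := rfl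

theorem KK.mk_neg (x : AddMonoid.End A) (hx : x ∈ RR ρ M) :
    KK.mk hyp (-x) (Subring.neg_mem _ hx) = -KK.mk hyp x hx := rfl

theorem KK.mk_zero : KK.mk hyp 0 (Subring.zero_mem _) = 0 := rfl

theorem KK.mk_one : KK.mk hyp 1 (Subring.one_mem _) = 1 := rfl

theorem KK.mk_val (x : KK hyp) : KK.mk hyp x.val x.2 = x := rfl

theorem KK.natCast_val (n : ℕ) (x : A) : ((n : KK hyp)).val x = n • x := by
  induction n with
  | zero =>
    have : ((0 : ℕ) : KK hyp) = 0 := Nat.cast_zero
    rw [this, zero_smul]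
    rfl
  | succ n ih =>
    have : ((n + 1 : ℕ) : KK hyp) = (n : KK hyp) + 1 := Nat.cast_succ n
    rw [this, add_smul, one_smul, ← ih]
    rfl

theorem KK.card : Nat.card (KK hyp) = Nat.card A := hyp.card_RR

theorem KK.charP {p : ℕ} [hp : Fact p.Prime] (hexp : ∀ x : A, p • x = 0) :
    CharP (KK hyp) p := by
  refine (CharP.charP_iff_prime_eq_zero hp.out).mpr ?_
  apply Subtype.ext
  ext x
  have := KK.natCast_val hyp p x
  rw [hexp x] at this
  exact this

/-- `M` inside the units of the field -/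
def fK : M →* KK hyp where
  toFun m := KK.mk hyp (ρ m) (rho_mem_RR ρ M m.2)
  map_one' := by
    show KK.mk hyp (ρ ((1 : M) : H)) _ = 1
    simp only [Subgroup.coe_one, map_one]
    rfl
  map_mul' a b := by
    show KK.mk hyp (ρ ((a * b : M) : H)) _ = KK.mk hyp (ρ a) _ * KK.mk hyp (ρ b) _
    simp only [Subgroup.coe_mul, map_mul]
    rfl

theorem fK_injective : Function.Injective (fK hyp) := by
  intro a b hab
  have : ρ a = ρ b := congrArg Subtype.val hab
  exact Subtype.ext (hyp.inj this)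

end

theorem Hyp.card_dvd (hyp : Hyp ρ M) [Nontrivial A] [Finite A] [Finite H] {p d : ℕ}
    (hcard : Nat.card A = p ^ d) : Nat.card M ∣ p ^ d - 1 := by
  have hcR : Nat.card (KK hyp) = p ^ d := (KK.card hyp).trans hcard
  let f : M →* (KK hyp)ˣ := (fK hyp).toHomUnits
  have hf : Function.Injective f := by
    intro a b hab
    apply fK_injective hyp
    have := congrArg Units.val hab
    exact this
  have h1 := Subgroup.card_dvd_of_injective f hf
  have h2 := Nat.card_units (KK hyp)
  rw [hcR] at h2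
  rw [← h2]
  exact h1

theorem Hyp.not_dvd (hyp : Hyp ρ M) [Nontrivial A] [Finite A] [Finite H] {p d : ℕ}
    [hp : Fact p.Prime] (hcard : Nat.card A = p ^ d) (hexp : ∀ x : A, p • x = 0)
    (i : ℕ) (hi0 : 0 < i) (hid : i < d) : ¬ Nat.card M ∣ p ^ i - 1 := by
  intro hdvd
  haveI : CharP (KK hyp) p := KK.charP hyp hexp
  have hcR : Nat.card (KK hyp) = p ^ d := (KK.card hyp).trans hcard
  have hpi : 1 ≤ p ^ i := Nat.one_le_pow _ _ hp.out.pos
  have hgen : ∀ m : M, (fK hyp m) ^ p ^ i = fK hyp m := by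
    intro m
    have h1 : m ^ (p ^ i - 1) = 1 := by
      obtain ⟨c, hc⟩ := hdvd
      rw [hc, pow_mul, pow_card_eq_one', one_pow]
    have h2 : m ^ p ^ i = m := by
      have : p ^ i = (p ^ i - 1) + 1 := by omega
      rw [this, pow_succ, h1, one_mul]
    rw [← map_pow, h2]
  let F := iterateFrobenius (KK hyp) p i
  have key : ∀ x (hx : x ∈ RR ρ M), F (KK.mk hyp x hx) = KK.mk hyp x hx := by
    intro x hx
    induction hx using Subring.closure_induction with
    | mem y hy =>
      obtain ⟨m, hm, rfl⟩ := hy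
      have := hgen ⟨m, hm⟩
      show iterateFrobenius (KK hyp) p i _ = _
      rw [iterateFrobenius_def]
      exact this
    | zero => exact map_zero F
    | one => exact map_one F
    | add x y hx hy ihx ihy =>
      rw [KK.mk_add hyp x y hx hy, map_add, ihx, ihy]
    | neg x hx ih =>
      rw [KK.mk_neg hyp x hx, map_neg, ih]
    | mul x y hx hy ihx ihy =>
      rw [KK.mk_mul hyp x y hx hy, map_mul, ihx, ihy]
  obtain ⟨g, hg⟩ := IsCyclic.exists_generator (α := (KK hyp)ˣ)
  have hg1 : (g : KK hyp) ^ p ^ i = g := by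
    have := key (g : KK hyp).val (g : KK hyp).2
    rw [KK.mk_val] at this
    change iterateFrobenius (KK hyp) p i _ = _ at this
    rw [iterateFrobenius_def] at this
    exact this
  have hg2 : g ^ (p ^ i - 1) = 1 := by
    apply Units.ext
    rw [Units.val_pow_eq_pow_val, Units.val_one]
    have h3 : (g : KK hyp) ^ (p ^ i - 1) * g = 1 * g := by
      rw [← pow_succ, one_mul]
      have : p ^ i - 1 + 1 = p ^ i := by omega
      rw [this, hg1]
    exact mul_right_cancel₀ (Units.ne_zero g) h3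
  have h4 : orderOf g ∣ p ^ i - 1 := orderOf_dvd_of_pow_eq_one hg2
  have h5 : orderOf g = Nat.card (KK hyp)ˣ := orderOf_eq_card_of_forall_mem_zpowers hg
  rw [h5, Nat.card_units, hcR] at h4
  have hpos : 0 < p ^ i - 1 := by
    have : p ^ 1 ≤ p ^ i := Nat.pow_le_pow_right hp.out.pos hi0
    have h2 := hp.out.two_le
    rw [pow_one] at this
    omega
  have h6 := Nat.le_of_dvd hpos h4
  have h7 : p ^ i < p ^ d := Nat.pow_lt_pow_right hp.out.one_lt hid
  omega

theorem Hyp.generation (hyp : Hyp ρ M) [M.Normal] [Nontrivial A] [Finite A] [Finite H]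
    {p d : ℕ} [hp : Fact p.Prime] (hcard : Nat.card A = p ^ d) (hexp : ∀ x : A, p • x = 0) :
    (∃ h : H, M ⊔ Subgroup.zpowers h = ⊤) ∧ Nat.card H ∣ Nat.card M * d := by
  haveI : CharP (KK hyp) p := KK.charP hyp hexp
  have hcR : Nat.card (KK hyp) = p ^ d := (KK.card hyp).trans hcard
  let ψ : H →* (KK hyp ≃+* KK hyp) := conjRR ρ M
  have hker : ψ.ker = M := hyp.ker_conjRR
  obtain ⟨⟨h, hh⟩, hdvd⟩ := gal_general (K := KK hyp) (p := p) (d := d) hcR ψ
  rw [hker] at hdvd
  refine ⟨⟨h, ?_⟩, hdvd⟩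
  rw [eq_top_iff]
  intro g _
  obtain ⟨k, hk⟩ := hh g
  rw [hker] at hk
  have : g = (g * h ^ (-k)) * h ^ k := by group
  rw [this]
  exact Subgroup.mul_mem _ (Subgroup.mem_sup_left hk)
    (Subgroup.mem_sup_right (Subgroup.zpow_mem_zpowers h k))

end Cfsg.Agent.Helper18.SolvEP
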