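import Mathlib
import Cfsg.Agent.Lib.Helper18.SolvEP5

/-!
# The conjugation action of a point stabiliser on a regular normal subgroup (helper18)
-/

set_option autoImplicit false
set_option linter.style.haveILetI false
set_option linter.unusedSectionVars false

namespace Cfsg.Agent.Helper18.SolvEP

open MulAction

variable {G : Type*} [Group G] {Ω : Type*} [MulAction G Ω]

/-- conjugation action of a subgroup `K` on the normal subgroup `N`, written additively -/
def conjRep (N : Subgroup G) [N.Normal] (K : Subgroup G) : K →* AddMonoid.End (Additive N) where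
  toFun h := MonoidHom.toAdditive ((MulAut.conjNormal (h : G) : MulAut N).toMonoidHom)
  map_one' := by
    ext x
    simp
    rfl
  map_mul' a b := by
    ext x
    simp
    rfl

theorem conjRep_apply (N : Subgroup G) [N.Normal] (K : Subgroup G) (h : K) (x : Additive N) :
    (((conjRep N K h x).toMul : N) : G) = (h : G) * ((x.toMul : N) : G) * (h : G)⁻¹ := by
  show ((MulAut.conjNormal (h : G) (x.toMul) : N) : G) = _
  rw [MulAut.conjNormal_apply]

section data

variable [FaithfulSMul G Ω] (N : Subgroup G) [hNn : N.Normal]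
  (hNc : ∀ a ∈ N, ∀ b ∈ N, a * b = b * a)
  (htr : IsPretransitive N Ω) (hreg : ∀ ω : Ω, stabilizer N ω = ⊥) (α : Ω)

include hreg in
theorem eq_of_smul_eq {a b : G} (ha : a ∈ N) (hb : b ∈ N) (hab : a • α = b • α) : a = b := by
  have h1 : (⟨b, hb⟩ : N)⁻¹ * ⟨a, ha⟩ ∈ stabilizer N α := by
    rw [mem_stabilizer_iff]
    show (b⁻¹ * a) • α = α
    rw [mul_smul, hab, inv_smul_smul]
  rw [hreg α, Subgroup.mem_bot] at h1
  have h2 := congrArg Subtype.val h1
  have h3 : b⁻¹ * a = 1 := h2
  have := congrArg (fun z => b * z) h3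
  simpa using this

include htr in
theorem exists_mem_smul_eq (ω : Ω) : ∃ n ∈ N, n • α = ω := by
  obtain ⟨n, hn⟩ := exists_smul_eq N α ω
  exact ⟨n, n.2, hn⟩

theorem conj_smul_of_mem_stabilizer {h : G} (hh : h ∈ stabilizer G α) (n : G) :
    (h * n * h⁻¹) • α = h • n • α := by
  have h1 : h⁻¹ • α = α := by
    have := (stabilizer G α).inv_mem hh
    rwa [mem_stabilizer_iff] at this
  rw [mul_smul, mul_smul, h1]

include htr in
theorem conjRep_injective : Function.Injective (conjRep N (stabilizer G α)) := by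
  intro h h' hhh
  apply Subtype.ext
  have hc : ∀ n : N, (h : G) * n * (h : G)⁻¹ = (h' : G) * n * (h' : G)⁻¹ := by
    intro n
    have := DFunLike.congr_fun hhh (Additive.ofMul n)
    have h1 := conjRep_apply N (stabilizer G α) h (Additive.ofMul n)
    have h2 := conjRep_apply N (stabilizer G α) h' (Additive.ofMul n)
    rw [this] at h1
    exact h1.symm.trans h2
  set c : G := (h' : G)⁻¹ * h with hcdef
  have hcα : c ∈ stabilizer G α :=
    (stabilizer G α).mul_mem ((stabilizer G α).inv_mem h'.2) h.2
  have hcn : ∀ n : N, c * n * c⁻¹ = n := by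
    intro n
    have := hc n
    rw [hcdef]
    calc (h' : G)⁻¹ * h * n * ((h' : G)⁻¹ * h)⁻¹
        = (h' : G)⁻¹ * ((h : G) * n * (h : G)⁻¹) * h' := by group
      _ = (h' : G)⁻¹ * ((h' : G) * n * (h' : G)⁻¹) * h' := by rw [this]
      _ = n := by group
  have hc1 : c = 1 := by
    apply FaithfulSMul.eq_of_smul_eq_smul (α := Ω)
    intro ω
    obtain ⟨n, hn, rfl⟩ := exists_mem_smul_eq N htr α ω
    rw [one_smul, ← conj_smul_of_mem_stabilizer α hcα n, hcn ⟨n, hn⟩]
  have := congrArg (fun z => (h' : G) * z) hc1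
  simpa [hcdef] using this

/-- the subgroup of `G` corresponding to an additive subgroup of `Additive N` -/
def toSub (L : AddSubgroup (Additive N)) : Subgroup G where
  carrier := {g | ∃ hg : g ∈ N, Additive.ofMul (⟨g, hg⟩ : N) ∈ L}
  one_mem' := ⟨N.one_mem, L.zero_mem⟩
  mul_mem' := by
    rintro a b ⟨ha, ha'⟩ ⟨hb, hb'⟩
    exact ⟨N.mul_mem ha hb, L.add_mem ha' hb'⟩
  inv_mem' := by
    rintro a ⟨ha, ha'⟩
    exact ⟨N.inv_mem ha, L.neg_mem ha'⟩

theorem toSub_le (L : AddSubgroup (Additive N)) : toSub N L ≤ N := fun _ hg => hg.1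

/-- the commutative group structure on an abelian subgroup -/
@[reducible] def commGroupOfComm (hNc : ∀ a ∈ N, ∀ b ∈ N, a * b = b * a) : CommGroup N :=
  { (inferInstance : Group N) with
    mul_comm := fun a b => Subtype.ext (hNc a a.2 b b.2) }

include htr hreg hNc in
theorem hyp_of_data (M' : Subgroup (stabilizer G α))
    (hMc : ∀ a ∈ M', ∀ b ∈ M', a * b = b * a)
    (horb : ∀ ω : Ω, orbit (M'.map (stabilizer G α).subtype) ω = orbit (stabilizer G α) ω)
    (hirr : ∀ L : Subgroup G, L ≤ N →
      M'.map (stabilizer G α).subtype ≤ Subgroup.normalizer (L : Set G) → L = ⊥ ∨ L = N) :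
    letI := commGroupOfComm N hNc
    Hyp (conjRep N (stabilizer G α)) M' := by
  letI := commGroupOfComm N hNc
  refine ⟨conjRep_injective N htr α, hMc, ?_, ?_⟩
  · intro L hinv
    have hfw : ∀ m ∈ M', ∀ g ∈ toSub N L, (m : G) * g * (m : G)⁻¹ ∈ toSub N L := by
      rintro m hm g ⟨hg, hgL⟩
      have h1 := hinv m hm _ hgL
      have h2 := conjRep_apply N (stabilizer G α) m (Additive.ofMul (⟨g, hg⟩ : N))
      refine ⟨hNn.conj_mem g hg m, ?_⟩
      have h3 : (⟨(m : G) * g * (m : G)⁻¹, hNn.conj_mem g hg m⟩ : N) =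
          (conjRep N (stabilizer G α) m (Additive.ofMul (⟨g, hg⟩ : N))).toMul :=
        Subtype.ext h2.symm
      rw [h3]
      exact h1
    have hnorm : M'.map (stabilizer G α).subtype ≤ Subgroup.normalizer (toSub N L : Set G) := by
      rintro _ ⟨m, hm, rfl⟩
      rw [Subgroup.mem_normalizer_iff]
      intro g
      constructor
      · intro hg
        exact hfw m hm g hg
      · intro hg
        have := hfw m⁻¹ (M'.inv_mem hm) _ hg
        have e : ((m⁻¹ : stabilizer G α) : G) * ((stabilizer G α).subtype m * g *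
            ((stabilizer G α).subtype m)⁻¹) * ((m⁻¹ : stabilizer G α) : G)⁻¹ = g := by
          simp only [Subgroup.coe_inv, Subgroup.coe_subtype]
          group
        rwa [e] at this
    rcases hirr (toSub N L) (toSub_le N L) hnorm with h | h
    · left
      rw [AddSubgroup.eq_bot_iff_forall]
      intro x hx
      have h1 : ((x.toMul : N) : G) ∈ toSub N L := ⟨(x.toMul : N).2, hx⟩
      rw [h, Subgroup.mem_bot] at h1
      have h2 : (x.toMul : N) = 1 := Subtype.ext h1
      exact h2
    · right
      rw [AddSubgroup.eq_top_iff']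
      intro x
      have h1 : ((x.toMul : N) : G) ∈ toSub N L := by
        rw [h]
        exact (x.toMul : N).2
      obtain ⟨_, h2⟩ := h1
      exact h2
  · intro h x
    set n : G := ((x.toMul : N) : G) with hn
    have hnN : n ∈ N := (x.toMul : N).2
    have h1 : (h : G) • n • α ∈ orbit (stabilizer G α) (n • α) := ⟨h, rfl⟩
    rw [← horb (n • α)] at h1
    obtain ⟨⟨_, m, hm, rfl⟩, hmω⟩ := h1
    refine ⟨m, hm, ?_⟩
    have hmω' : (m : G) • n • α = (h : G) • n • α := hmω
    have h2 : ((m : G) * n * (m : G)⁻¹) • α = ((h : G) * n * (h : G)⁻¹) • α := by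
      rw [conj_smul_of_mem_stabilizer α m.2, conj_smul_of_mem_stabilizer α h.2, hmω']
    have h3 := eq_of_smul_eq N hreg α (hNn.conj_mem n hnN m) (hNn.conj_mem n hnN h) h2
    have h4 := conjRep_apply N (stabilizer G α) h x
    have h5 := conjRep_apply N (stabilizer G α) m x
    rw [← hn] at h4 h5
    have h6 : ((conjRep N (stabilizer G α) h x).toMul : N) =
        ((conjRep N (stabilizer G α) m x).toMul : N) := by
      apply Subtype.ext
      rw [h4, h5, h3]
    exact h6

end data

end Cfsg.Agent.Helper18.SolvEP
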