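import Mathlib
import Cfsg.Prelude.Def_Blocks
import Cfsg.Agent.Lib.Helper24.CharLinear
import Cfsg.Agent.Lib.Helper24.CharInduced
import Cfsg.Agent.Lib.Helper24.CharComplete
import Cfsg.Agent.Lib.Helper24.CharOrtho
import Cfsg.Agent.Lib.Helper10.BR996Defs
import Cfsg.Agent.Lib.Helper12.BR996WT
import Cfsg.Agent.Lib.Helper21.BTDefs
import Cfsg.Agent.S0925

/-!
# S0997 piece BLKDVD (helper18): the degree of the principal-block part of a generalized character
vanishing on the `ℓ`-singular elements is divisible by the order of every `ℓ`-subgroup.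
-/

set_option autoImplicit false
set_option linter.unusedSectionVars false
set_option linter.unusedVariables false
set_option linter.style.haveILetI false

namespace Cfsg.Agent.Helper21.BT

open scoped ComplexConjugate
open Cfsg Cfsg.Agent.Helper24 Cfsg.Agent.Helper10.BR996

universe u

namespace BLKDVD

variable {G : Type u} [Group G] [Fintype G] [Fintype (IrrCharacter G)]

/-- the generalized character with integer coefficients `c` -/
noncomputable def genChar (c : IrrCharacter G → ℤ) : G → ℂ :=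
  fun g => ∑ χ : IrrCharacter G, (c χ : ℂ) * (χ : G → ℂ) g

theorem genChar_isClassFunction (c : IrrCharacter G → ℤ) : IsClassFunction G (genChar c) := by
  intro g h
  unfold genChar
  apply Finset.sum_congr rfl
  intro χ _
  rw [isClassFunction_of_isIrrCharacter χ.2 g h]

theorem classInner_genChar (c : IrrCharacter G → ℤ) (ψ : IrrCharacter G) :
    classInner (genChar c) (ψ : G → ℂ) = (c ψ : ℂ) := by
  classical
  have h : genChar c = ∑ χ : IrrCharacter G, ((c χ : ℂ)) • (χ : G → ℂ) := by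
    funext g
    simp [genChar, Finset.sum_apply]
  rw [h, classInner_sum_left]
  simp_rw [classInner_smul_left, irr_orthogonality']
  simp

/-- `blockPart` with the ambient `Fintype` instance -/
theorem blockPart_apply (B : Set (IrrCharacter G)) (f : G → ℂ) (g : G) :
    blockPart B f g = ∑ᶠ χ ∈ B, classInner f (χ : G → ℂ) * (χ : G → ℂ) g := by
  unfold blockPart
  have h : Fintype.ofFinite G = ‹Fintype G› := Subsingleton.elim _ _
  rw [h]

theorem blockPart_genChar (c : IrrCharacter G → ℤ) (B : Set (IrrCharacter G))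
    (S : Finset (IrrCharacter G)) (hS : ∀ χ : IrrCharacter G, χ ∈ S ↔ χ ∈ B) (g : G) :
    blockPart B (genChar c) g = ∑ χ ∈ S, (c χ : ℂ) * (χ : G → ℂ) g := by
  have hB : B = (S : Set (IrrCharacter G)) := by
    ext χ
    rw [Finset.mem_coe]
    exact (hS χ).symm
  rw [blockPart_apply, hB, finsum_mem_coe_finset]
  apply Finset.sum_congr rfl
  intro χ _
  rw [classInner_genChar]

/-- the `ℓ`-part of a product of an `ℓ`-element with a commuting `ℓ'`-element divides the order -/
theorem dvd_orderOf_of_isPPart (ℓ : ℕ) [Fact ℓ.Prime] {u z : G} (h : IsPPart ℓ u z) (hz : z ≠ 1) :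
    ℓ ∣ orderOf u := by
  obtain ⟨y, hzy, hcomm, ⟨k, hk⟩, hy⟩ := h
  have hℓ : ℓ.Prime := Fact.out
  have hcop : (orderOf z).Coprime (orderOf y) := by
    rw [hk]
    exact Nat.Coprime.pow_left k ((Nat.Prime.coprime_iff_not_dvd hℓ).2 hy)
  have hord := hcomm.orderOf_mul_eq_mul_orderOf_of_coprime hcop
  rw [hzy] at hord
  rw [hord]
  apply Dvd.dvd.mul_right
  rw [hk]
  have hk0 : k ≠ 0 := by
    intro h0
    rw [h0, pow_zero, orderOf_eq_one_iff] at hk
    exact hz hk
  exact dvd_pow_self ℓ hk0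

end BLKDVD

section

variable {G : Type u} [Group G] [Fintype G] [Fintype (IrrCharacter G)]

/-- PIECE BLKDVD. -/
theorem card_dvd_blockDegree (ℓ : ℕ) [Fact ℓ.Prime] (M : Ideal AlgInt) (hM : IsPModular ℓ M)
    (c : IrrCharacter G → ℤ)
    (hvan : ∀ g : G, ℓ ∣ orderOf g → ∑ χ : IrrCharacter G, (c χ : ℂ) * (χ : G → ℂ) g = 0)
    (S : Finset (IrrCharacter G)) (hS : ∀ χ : IrrCharacter G, χ ∈ S ↔ χ ∈ principalBlock M G)
    (Q : Subgroup G) (hQ : IsPGroup ℓ Q) :
    (Nat.card Q : ℤ) ∣ ∑ χ ∈ S, c χ * (charDegree (χ : G → ℂ) : ℤ) := by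
  classical
  have hℓ : ℓ.Prime := Fact.out
  -- the block part vanishes on `Q ∖ 1`
  have hblk : IsPBlock M (principalBlock M G) := ⟨principalChar G, rfl⟩
  have hzero : ∀ u : G, u ∈ Q → u ≠ 1 → ∑ χ ∈ S, (c χ : ℂ) * (χ : G → ℂ) u = 0 := by
    intro u hu hu1
    obtain ⟨k, hk⟩ := (IsPGroup.iff_orderOf.1 hQ) ⟨u, hu⟩
    rw [Subgroup.orderOf_mk] at hk
    have hpp : IsPPart ℓ u u :=
      ⟨1, mul_one u, Commute.one_right u, ⟨k, hk⟩, by
        rw [orderOf_one]; exact hℓ.one_lt.ne' ∘ Nat.dvd_one.1⟩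
    have h1 := (Cfsg.Agent.S0925.result (G := G) ℓ M hM).1 (BLKDVD.genChar c)
      (BLKDVD.genChar_isClassFunction c) u ⟨k, hk⟩
      (by
        intro u' z hz hconj
        have hz1 : z ≠ 1 := by
          intro h
          rw [h, isConj_one_left] at hconj
          exact hu1 hconj
        exact hvan u' (BLKDVD.dvd_orderOf_of_isPPart ℓ hz hz1))
      (principalBlock M G) hblk u u hpp (IsConj.refl u)
    rw [BLKDVD.blockPart_genChar c (principalBlock M G) S hS] at h1
    exact h1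
  -- weights
  have hA : ∀ χ : IrrCharacter G, ∃ a : ℕ, psum Q (χ : G → ℂ) = (Nat.card Q : ℂ) * (a : ℂ) := by
    intro χ
    obtain ⟨a, ha⟩ := Aw_nat Q (isCharacter_of_isIrrCharacter χ.2)
    refine ⟨a, ?_⟩
    have hQ0 : (Nat.card Q : ℂ) ≠ 0 := by
      exact_mod_cast (Nat.card_pos (α := Q)).ne'
    rw [← ha]
    unfold Aw
    rw [← mul_assoc, mul_inv_cancel₀ hQ0, one_mul]
  choose a ha using hA
  -- the sum over `Q` of the block part, two ways
  have hsum1 : psum Q (fun u => ∑ χ ∈ S, (c χ : ℂ) * (χ : G → ℂ) u) =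
      ∑ χ ∈ S, (c χ : ℂ) * (χ : G → ℂ) 1 := by
    unfold psum
    rw [Finset.sum_eq_single (1 : G)]
    · rw [if_pos Q.one_mem]
    · intro z _ hz1
      by_cases hzQ : z ∈ Q
      · rw [if_pos hzQ]
        exact hzero z hzQ hz1
      · rw [if_neg hzQ]
    · intro h
      exact absurd (Finset.mem_univ _) h
  have hsum2 : psum Q (fun u => ∑ χ ∈ S, (c χ : ℂ) * (χ : G → ℂ) u) =
      ∑ χ ∈ S, (c χ : ℂ) * psum Q (χ : G → ℂ) := by
    unfold psum
    simp_rw [Finset.mul_sum]
    rw [Finset.sum_comm]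
    apply Finset.sum_congr rfl
    intro z _
    by_cases hzQ : z ∈ Q
    · rw [if_pos hzQ]
      apply Finset.sum_congr rfl
      intro χ _
      rw [if_pos hzQ]
    · rw [if_neg hzQ]
      symm
      apply Finset.sum_eq_zero
      intro χ _
      rw [if_neg hzQ, mul_zero]
  have hmain : (∑ χ ∈ S, (c χ : ℂ) * (charDegree (χ : G → ℂ) : ℂ)) =
      (Nat.card Q : ℂ) * ∑ χ ∈ S, (c χ : ℂ) * (a χ : ℂ) := by
    have h1 : (∑ χ ∈ S, (c χ : ℂ) * (charDegree (χ : G → ℂ) : ℂ)) =
        ∑ χ ∈ S, (c χ : ℂ) * (χ : G → ℂ) 1 := by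
      apply Finset.sum_congr rfl
      intro χ _
      rw [irr_one_eq_charDegree χ.2]
    rw [h1, ← hsum1, hsum2, Finset.mul_sum]
    apply Finset.sum_congr rfl
    intro χ _
    rw [ha χ]
    ring
  refine ⟨∑ χ ∈ S, c χ * (a χ : ℤ), ?_⟩
  have : ((∑ χ ∈ S, c χ * (charDegree (χ : G → ℂ) : ℤ) : ℤ) : ℂ) =
      (((Nat.card Q : ℤ) * ∑ χ ∈ S, c χ * (a χ : ℤ) : ℤ) : ℂ) := by
    push_cast
    exact hmain
  exact_mod_cast this

end

end Cfsg.Agent.Helper21.BT
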