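import Mathlib
import Cfsg.Prelude.Def_Blocks
import Cfsg.Agent.S0163
import Cfsg.Agent.Lib.Helper24.CharAlgebra
import Cfsg.Agent.Lib.Helper24.CharIntegral
import Cfsg.Agent.Lib.Helper5.Clifford2

/-!
# Class functions with algebraic integer coefficients (helper18's library)

`IsAlgIntChar H f`: `f` is a class function all of whose inner products with irreducible
characters are algebraic integers.  Brauer's characterization holds for these.
-/

set_option autoImplicit false

namespace Cfsg.Agent.Helper18

open Cfsg Cfsg.Agent.Helper24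
open scoped ComplexConjugate

universe u

section Basic

variable {H : Type u} [Group H] [Fintype H]

/-- A class function whose coefficients on the irreducible characters are algebraic integers. -/
def IsAlgIntChar (H : Type u) [Group H] [Fintype H] (f : H → ℂ) : Prop :=
  IsClassFunction H f ∧ ∀ μ : IrrCharacter H, IsIntegral ℤ (classInner f (μ : H → ℂ))

theorem isAlgIntChar_zero : IsAlgIntChar H (0 : H → ℂ) := by
  refine ⟨fun g h => rfl, fun μ => ?_⟩
  rw [classInner_zero_left]
  exact isIntegral_zero

theorem isAlgIntChar_add {f g : H → ℂ} (hf : IsAlgIntChar H f) (hg : IsAlgIntChar H g) :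
    IsAlgIntChar H (f + g) := by
  refine ⟨fun a b => ?_, fun μ => ?_⟩
  · rw [Pi.add_apply, Pi.add_apply, hf.1 a b, hg.1 a b]
  · rw [classInner_add_left]
    exact IsIntegral.add (hf.2 μ) (hg.2 μ)

theorem isAlgIntChar_neg {f : H → ℂ} (hf : IsAlgIntChar H f) : IsAlgIntChar H (-f) := by
  refine ⟨fun a b => ?_, fun μ => ?_⟩
  · rw [Pi.neg_apply, Pi.neg_apply, hf.1 a b]
  · have : -f = (-1 : ℂ) • f := by
      funext x
      simp
    rw [this, classInner_smul_left]
    exact IsIntegral.mul (IsIntegral.neg isIntegral_one) (hf.2 μ)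

/-- The inner product with any character is an algebraic integer. -/
theorem isIntegral_inner_char {f : H → ℂ} (hf : IsAlgIntChar H f) {ψ : H → ℂ}
    (hψ : IsCharacter H ψ) : IsIntegral ℤ (classInner f ψ) := by
  classical
  letI : Fintype (IrrCharacter H) := irrFintype
  obtain ⟨hm, hdec⟩ := isCharacter_decomp hψ
  rw [hdec, classInner_sum_right]
  refine IsIntegral.sum _ fun μ _ => ?_
  rw [classInner_smul_right]
  obtain ⟨n, hn⟩ := hm μ
  rw [hn]
  refine IsIntegral.mul ?_ (hf.2 μ)
  rw [Complex.conj_natCast]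
  exact isIntegral_natCast _

/-- Multiplying by a character. -/
theorem isAlgIntChar_mul_char {f : H → ℂ} (hf : IsAlgIntChar H f) {ψ : H → ℂ}
    (hψ : IsCharacter H ψ) : IsAlgIntChar H (ψ * f) := by
  have hψc := isClassFunction_of_isCharacter hψ
  refine ⟨fun a b => ?_, fun μ => ?_⟩
  · rw [Pi.mul_apply, Pi.mul_apply, hf.1 a b, hψc a b]
  · have h1 : classInner (ψ * f) (μ : H → ℂ) =
        classInner f ((fun x => conj (ψ x)) * (μ : H → ℂ)) := by
      unfold classInner
      congr 1
      refine Finset.sum_congr rfl fun x _ => ?_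
      simp only [Pi.mul_apply, map_mul, Complex.conj_conj]
      ring
    rw [h1]
    exact isIntegral_inner_char hf
      (isCharacter_mul (isCharacter_conj hψ) (isCharacter_of_isIrrCharacter μ.2))

end Basic

section Induction

variable {G : Type u} [Group G] [Fintype G]

/-- Induction preserves the property. -/
theorem isAlgIntChar_indFun (E : Subgroup G) [Fintype E] {f : E → ℂ} (hf : IsAlgIntChar E f) :
    IsAlgIntChar G (indFun E f) := by
  refine ⟨isClassFunction_indFun E f, fun χ => ?_⟩
  rw [frobenius_reciprocity E f (isClassFunction_of_isIrrCharacter χ.2)]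
  exact isIntegral_inner_char hf (isCharacter_restrict E (isCharacter_of_isIrrCharacter χ.2))

/-- **Brauer's characterization** for class functions with algebraic integer coefficients. -/
theorem isAlgIntChar_mul_of_mem_brauerSpan (θ : G → ℂ) (hθ : IsClassFunction G θ)
    (hE : ∀ (E : Subgroup G) [Fintype E] (p : ℕ), p.Prime → IsElementary p E →
      IsAlgIntChar E (fun e : E => θ e))
    {f : G → ℂ} (hf : f ∈ brauerSpan G) : IsAlgIntChar G (f * θ) := by
  unfold brauerSpan at hf
  induction hf using AddSubgroup.closure_induction with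
  | mem f hf =>
    obtain ⟨E, lam, ⟨p, hp, hEl⟩, rfl⟩ := hf
    haveI : Fintype E := Fintype.ofFinite E
    rw [← indFun_mul_restrict E _ hθ]
    apply isAlgIntChar_indFun
    exact isAlgIntChar_mul_char (hE E p hp hEl)
      (isCharacter_of_isIrrCharacter (isIrrCharacter_of_monoidHom lam))
  | zero =>
    rw [zero_mul]
    exact isAlgIntChar_zero
  | add a b _ _ ha hb =>
    rw [add_mul]
    exact isAlgIntChar_add ha hb
  | neg a _ ha =>
    rw [neg_mul]
    exact isAlgIntChar_neg ha

theorem isAlgIntChar_of_elementary (θ : G → ℂ) (hθ : IsClassFunction G θ)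
    (hE : ∀ (E : Subgroup G) [Fintype E] (p : ℕ), p.Prime → IsElementary p E →
      IsAlgIntChar E (fun e : E => θ e)) : IsAlgIntChar G θ := by
  have h1 : (fun _ : G => (1 : ℂ)) ∈ brauerSpan G :=
    Cfsg.Agent.S0163.genChar_mem_brauerSpan_top isGenChar_one
  have h2 := isAlgIntChar_mul_of_mem_brauerSpan θ hθ hE h1
  have h3 : (fun _ : G => (1 : ℂ)) * θ = θ := by
    funext g
    simp
  rwa [h3] at h2

end Induction

section Inflation

variable {E : Type u} [Group E] [Fintype E]

/-- A function `N • β`, with `β` algebraic-integer valued and constant on the cosets of a normal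
subgroup `A` whose index divides `N`, has algebraic integer inner products with the irreducible
characters. -/
theorem isIntegral_inner_of_coset_const (A : Subgroup E) [A.Normal] (β : E → ℂ)
    (hβ : ∀ e, IsIntegral ℤ (β e)) (hconst : ∀ e : E, ∀ a ∈ A, β (e * a) = β e) (N : ℕ)
    (hN : A.index ∣ N) {μ : E → ℂ} (hμ : IsIrrCharacter E μ) :
    IsIntegral ℤ (classInner (fun e => (N : ℂ) * β e) μ) := by
  classical
  haveI : Fintype A := Fintype.ofFinite A
  have hμc := isCharacter_of_isIrrCharacter hμ
  have hA0 : (Nat.card A : ℂ) ≠ 0 := by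
    have : Nat.card A ≠ 0 := Nat.card_pos.ne'
    exact_mod_cast this
  have hE0 : (Nat.card E : ℂ) ≠ 0 := by
    have : Nat.card E ≠ 0 := Nat.card_pos.ne'
    exact_mod_cast this
  unfold classInner
  by_cases hker : ∃ x ∈ A, μ x ≠ μ 1
  · -- the sum vanishes
    have h0 := sum_char_coset_eq_zero A hμ hker
    have h1 : ∀ a : A, ∑ e : E, (N : ℂ) * β (e * (a : E)) * conj (μ (e * (a : E))) =
        ∑ e : E, (N : ℂ) * β e * conj (μ e) := by
      intro a
      exact Fintype.sum_equiv (Equiv.mulRight (a : E)) _ _ (fun e => rfl)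
    have h2 : (Nat.card A : ℂ) * ∑ e : E, (N : ℂ) * β e * conj (μ e) = 0 := by
      have h3 : (Nat.card A : ℂ) * ∑ e : E, (N : ℂ) * β e * conj (μ e) =
          ∑ a : A, ∑ e : E, (N : ℂ) * β (e * (a : E)) * conj (μ (e * (a : E))) := by
        simp only [h1, Finset.sum_const, Finset.card_univ, nsmul_eq_mul,
          Nat.card_eq_fintype_card]
      rw [h3, Finset.sum_comm]
      apply Finset.sum_eq_zero
      intro e _
      have h4 : ∀ a : A, (N : ℂ) * β (e * (a : E)) * conj (μ (e * (a : E))) =
          (N : ℂ) * β e * conj (μ (e * (a : E))) := by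
        intro a
        rw [hconst e a a.2]
      simp only [h4]
      rw [← Finset.mul_sum, ← map_sum, h0 e, map_zero, mul_zero]
    have h5 := (mul_eq_zero.mp h2).resolve_left hA0
    rw [h5, mul_zero]
    exact isIntegral_zero
  · push Not at hker
    haveI : Fintype (E ⧸ A) := Fintype.ofFinite _
    have hF : ∀ x : E, ∀ h ∈ A, (fun e => (N : ℂ) * β e * conj (μ e)) (x * h) =
        (fun e => (N : ℂ) * β e * conj (μ e)) x := by
      intro x h hh
      show (N : ℂ) * β (x * h) * conj (μ (x * h)) = (N : ℂ) * β x * conj (μ x)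
      rw [hconst x h hh, char_mul_of_mem_charKer hμc (hker h hh) x]
    rw [Cfsg.Agent.Helper5.sum_eq_card_mul_sum_quotient A _ hF]
    obtain ⟨M, hM⟩ := hN
    have hidx : (Nat.card A : ℂ) * (A.index : ℂ) = (Nat.card E : ℂ) := by
      have := Subgroup.card_mul_index A
      exact_mod_cast this
    have hI0 : (A.index : ℂ) ≠ 0 := by
      intro h
      rw [h, mul_zero] at hidx
      exact hE0 hidx.symm
    have h6 : (Nat.card E : ℂ)⁻¹ * ((Nat.card A : ℂ) *
        ∑ q : E ⧸ A, (N : ℂ) * β q.out * conj (μ q.out)) =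
        (M : ℂ) * ∑ q : E ⧸ A, β q.out * conj (μ q.out) := by
      rw [← hidx, hM, Finset.mul_sum, Finset.mul_sum, Finset.mul_sum]
      refine Finset.sum_congr rfl fun q _ => ?_
      push_cast
      field_simp
    rw [h6]
    refine IsIntegral.mul (isIntegral_natCast _) (IsIntegral.sum _ fun q _ => ?_)
    refine IsIntegral.mul (hβ _) ?_
    have := isIntegral_of_isCharacter hμc (q.out)⁻¹
    rwa [irr_inv hμc] at this

end Inflation

section PowerHom

variable {E : Type u} [Group E] [Finite E]

/-- A power map with exponent divisible by the index of the center is a homomorphism with central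
values. -/
theorem pow_mul_of_center_index_dvd {k : ℕ} (h : (Subgroup.center E).index ∣ k) (a b : E) :
    (a * b) ^ k = a ^ k * b ^ k ∧ a ^ k ∈ Subgroup.center E := by
  obtain ⟨M, hM⟩ := h
  have ht : ∀ e : E, e ^ k = (((MonoidHom.transferCenterPow E e) ^ M : Subgroup.center E) : E) := by
    intro e
    rw [Subgroup.coe_pow, MonoidHom.transferCenterPow_apply, ← pow_mul, ← hM]
  constructor
  · rw [ht, ht a, ht b, map_mul, Subgroup.coe_pow, Subgroup.coe_mul, Subgroup.coe_pow,
      Subgroup.coe_pow]
    have hcomm : Commute ((MonoidHom.transferCenterPow E a : Subgroup.center E) : E)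
        ((MonoidHom.transferCenterPow E b : Subgroup.center E) : E) := by
      have := Subgroup.mem_center_iff.mp (MonoidHom.transferCenterPow E b).2
        ((MonoidHom.transferCenterPow E a : Subgroup.center E) : E)
      exact this
    exact hcomm.mul_pow M
  · rw [ht]
    exact ((MonoidHom.transferCenterPow E a) ^ M).2

omit [Finite E] in
/-- If `e ^ (k + k') = e` for all `e` and the `k'`-th power map is a homomorphism with central
values, then the `k`-th power map is a homomorphism. -/
theorem pow_mul_of_compl {k k' : ℕ} (hkk : ∀ e : E, e ^ (k + k') = e)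
    (hk' : ∀ a b : E, (a * b) ^ k' = a ^ k' * b ^ k' ∧ a ^ k' ∈ Subgroup.center E) (a b : E) :
    (a * b) ^ k = a ^ k * b ^ k := by
  have h1 : ∀ e : E, e ^ k = e * (e ^ k')⁻¹ := by
    intro e
    have := hkk e
    rw [pow_add] at this
    rw [eq_mul_inv_iff_mul_eq]
    exact this
  rw [h1, h1 a, h1 b, (hk' a b).1, mul_inv_rev]
  have hc := Subgroup.mem_center_iff.mp ((Subgroup.center E).inv_mem (hk' a b).2)
  -- a * b * ((b^k')⁻¹ * (a^k')⁻¹) = a * (a^k')⁻¹ * (b * (b^k')⁻¹)
  have h2 : a * b * ((b ^ k')⁻¹ * (a ^ k')⁻¹) = a * ((b * (b ^ k')⁻¹) * (a ^ k')⁻¹) := by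
    simp only [mul_assoc]
  rw [h2, hc (b * (b ^ k')⁻¹)]
  simp only [mul_assoc]

omit [Finite E] in
theorem center_index_eq_pow_of_isElementary {q : ℕ} (hq : q.Prime) (hE : IsElementary q E) :
    ∃ i : ℕ, (Subgroup.center E).index = q ^ i := by
  obtain ⟨x, hxc, -, k, hk⟩ := hE
  have hCcen : Subgroup.zpowers x ≤ Subgroup.center E := by
    rw [Subgroup.zpowers_le]
    exact hxc
  have hidx1 : (Subgroup.center E).index ∣ q ^ k := by
    rw [← hk]
    exact Subgroup.index_dvd_of_le hCcen
  obtain ⟨i, -, hi⟩ := (Nat.dvd_prime_pow hq).mp hidx1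
  exact ⟨i, hi⟩

end PowerHom

end Cfsg.Agent.Helper18
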