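import Mathlib
import Cfsg.Prelude.Def_Blocks
import Cfsg.Agent.Lib.Helper18.BlockCover2
import Cfsg.Agent.Lib.Helper23.BlockMajor
import Cfsg.Agent.Lib.Helper23.BlockBrauer
import Cfsg.Agent.Lib.Helper24.GlaubPGroup
import Cfsg.Agent.Lib.Helper24.CharIntegral

/-!
# Characters vanishing on the elements of order `p` (helper18's library)

An irreducible character vanishing on all elements of order `p` has `p`-defect zero.  The proof
uses central characters only: with `S` the sum of the solutions of `x ^ p = 1`, the central
character of `χ` takes the value `1` on `S`; if the block of `χ` had a nontrivial defect group,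
a major subsection `(y, b)` with `y` of order `p` would give the value of the central character
of `b` on the sum `T` of the solutions of `x ^ p = 1` in the centralizer of `y`, and `T * T` is
`p` times an integral central element.
-/

set_option autoImplicit false
set_option linter.style.haveILetI false
set_option linter.unusedVariables false
set_option linter.unusedSectionVars false

namespace Cfsg.Agent.Helper18.KnorrVanish

open Cfsg Cfsg.Agent.Helper24 Cfsg.Agent.Helper23.Blk
open scoped ComplexConjugate

universe u

/-- a self-map of `p`-power order: the number of points is congruent to the number of fixed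
points modulo `p` -/
theorem card_modEq_card_fixed {X : Type*} [Fintype X] [DecidableEq X] (p : ℕ) [Fact p.Prime]
    (f : X → X) (e : ℕ) (hf : ∀ x, f^[p ^ e] x = x) :
    Fintype.card X ≡ Fintype.card (Function.fixedPoints f) [MOD p] := by
  let F : Function.End X := f
  have hF : F ^ p ^ e = 1 := by
    have hcoe : ((F ^ p ^ e : Function.End X) : X → X) = f^[p ^ e] :=
      hom_coe_pow (fun g : Function.End X ↦ (g : X → X)) rfl (fun g h ↦ rfl) F (p ^ e)
    have hid : ((F ^ p ^ e : Function.End X) : X → X) = (id : X → X) := by
      rw [hcoe]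
      funext x
      exact hf x
    exact hid
  exact Equiv.Perm.card_fixedPoints_modEq (p := p) hF

section Central

variable {C : Type u} [Group C] [Fintype C]

open Classical in
/-- the indicator function of the solutions of `x ^ p = 1` -/
noncomputable def solInd (C : Type u) [Group C] (p : ℕ) : C → ℂ :=
  fun h => if h ^ p = 1 then 1 else 0

theorem isClassFunction_solInd (p : ℕ) : IsClassFunction C (solInd C p) := by
  intro g h
  unfold solInd
  have h1 : (h * g * h⁻¹) ^ p = 1 ↔ g ^ p = 1 := by
    rw [conj_pow]
    constructor
    · intro h2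
      have h3 : g ^ p = h⁻¹ * (h * g ^ p * h⁻¹) * h := by group
      rw [h3, h2]
      group
    · intro h2
      rw [h2]
      group
  by_cases hg : g ^ p = 1
  · rw [if_pos hg, if_pos (h1.mpr hg)]
  · rw [if_neg hg, if_neg (fun h2 => hg (h1.mp h2))]

/-- the number of factorizations of `g` into two solutions of `x ^ p = 1` is divisible by `p`
when the group has a central element of order `p` -/
theorem dvd_card_factorizations [DecidableEq C] (p : ℕ) [Fact p.Prime] {y : C}
    (hy : orderOf y = p) (hyc : ∀ c : C, y * c = c * y) (g : C) :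
    p ∣ Fintype.card {h : C // h ^ p = 1 ∧ (h⁻¹ * g) ^ p = 1} := by
  have hp : p.Prime := Fact.out
  have hyp : y ^ p = 1 := by
    rw [← hy]
    exact pow_orderOf_eq_one y
  have hy1 : y ≠ 1 := by
    intro h
    rw [h, orderOf_one] at hy
    exact hp.one_lt.ne hy
  let f : {h : C // h ^ p = 1 ∧ (h⁻¹ * g) ^ p = 1} → {h : C // h ^ p = 1 ∧ (h⁻¹ * g) ^ p = 1} :=
    fun h => ⟨y * h.1, by
      constructor
      · rw [(show Commute y h.1 from hyc h.1).mul_pow, hyp, h.2.1, one_mul]
      · have h4 : h.1⁻¹ * y⁻¹ = y⁻¹ * h.1⁻¹ := by
          rw [← mul_inv_rev, ← mul_inv_rev, hyc h.1]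
        have h1 : (y * h.1)⁻¹ * g = y⁻¹ * (h.1⁻¹ * g) := by
          rw [mul_inv_rev, h4, mul_assoc]
        have hcomm : Commute y⁻¹ (h.1⁻¹ * g) := by
          have := (show Commute y (h.1⁻¹ * g) from hyc _)
          exact this.inv_left
        rw [h1, hcomm.mul_pow, h.2.2, inv_pow, hyp, inv_one, one_mul]⟩
  have hiter : ∀ (j : ℕ) (h : {h : C // h ^ p = 1 ∧ (h⁻¹ * g) ^ p = 1}),
      ((f^[j]) h).1 = y ^ j * h.1 := by
    intro j
    induction j with
    | zero =>
      intro h
      simp
    | succ j ih =>
      intro h
      rw [Function.iterate_succ_apply']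
      show y * ((f^[j]) h).1 = _
      rw [ih, ← mul_assoc, ← pow_succ']
  have hcong := card_modEq_card_fixed p f 1 (by
    intro h
    apply Subtype.ext
    rw [hiter, pow_one, hyp, one_mul])
  have hfix : Fintype.card (Function.fixedPoints f) = 0 := by
    rw [Fintype.card_eq_zero_iff]
    constructor
    rintro ⟨h, hh⟩
    have h1 : y * h.1 = h.1 := congrArg Subtype.val hh
    exact hy1 (mul_eq_right.mp h1)
  rw [hfix] at hcong
  exact (Nat.modEq_zero_iff_dvd).mp hcong

variable {M : Ideal AlgInt}

/-- in a group with a central element of order `p`, every central character vanishes modulo the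
local ideal on the sum of the solutions of `x ^ p = 1` -/
theorem memLocalIdeal_omega_solInd {p : ℕ} (hM : IsPModular p M) {y : C}
    (hy : orderOf y = p) (hyc : ∀ c : C, y * c = c * y) (ξ : IrrCharacter C) :
    MemLocalIdeal M (omega (ξ : C → ℂ) (solInd C p)) := by
  classical
  have hp : p.Prime := hM.1
  haveI : Fact p.Prime := ⟨hp⟩
  haveI hMp : M.IsPrime := isPrime_of_isPModular hM
  letI : Fintype (IrrCharacter C) := irrFintype
  have hT := isClassFunction_solInd (C := C) p
  have hTR : ∀ g, MemLocalRing M (solInd C p g) := by
    intro g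
    unfold solInd
    split_ifs
    · exact memLocalRing_one ne_top
    · exact memLocalRing_zero ne_top
  -- the convolution square
  have hconv : ∀ g : C, conv (solInd C p) (solInd C p) g =
      (Fintype.card {h : C // h ^ p = 1 ∧ (h⁻¹ * g) ^ p = 1} : ℂ) := by
    intro g
    rw [conv_apply, Fintype.card_subtype, Finset.natCast_card_filter]
    apply Finset.sum_congr rfl
    intro h _
    unfold solInd
    by_cases h1 : h ^ p = 1
    · by_cases h2 : (h⁻¹ * g) ^ p = 1
      · simp [h1, h2]
      · simp [h1, h2]
    · simp [h1]
  have hdiv : ∀ g : C, ∃ n : ℕ, conv (solInd C p) (solInd C p) g = (p : ℂ) * (n : ℂ) := by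
    intro g
    obtain ⟨n, hn⟩ := dvd_card_factorizations p hy hyc g
    refine ⟨n, ?_⟩
    rw [hconv, hn]
    push_cast
    rfl
  choose n hn using hdiv
  have hp0 : (p : ℂ) ≠ 0 := by exact_mod_cast hp.ne_zero
  have hc : IsClassFunction C (fun g => (n g : ℂ)) := by
    intro g h
    have h1 := isClassFunction_conv hT hT g h
    rw [hn, hn] at h1
    exact mul_left_cancel₀ hp0 h1
  have hcR : ∀ g, MemLocalRing M ((fun g => (n g : ℂ)) g) := fun g => memLocalRing_natCast _
  have heq : conv (solInd C p) (solInd C p) = (p : ℂ) • (fun g => (n g : ℂ)) := by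
    funext g
    rw [hn]
    rfl
  have h1 := omega_conv ξ hT hT
  rw [heq, omega_smul] at h1
  have h2 : MemLocalIdeal M ((p : ℂ) * omega (ξ : C → ℂ) (fun g => (n g : ℂ))) :=
    memLocalIdeal_mul_right (memLocalIdeal_prime hM) (memLocalRing_omega ξ hc hcR)
  rw [h1] at h2
  have h3 := memLocalRing_omega (M := M) ξ hT hTR
  rcases memLocalIdeal_or_of_mul h3 h3 h2 with h | h <;> exact h

end Central

section Main

variable {G : Type u} [Group G] [Fintype G]

/-- the value of the central character of a character vanishing on the elements of order `p` on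
the sum of the solutions of `x ^ p = 1` -/
theorem omega_solInd_of_vanish (p : ℕ) [Fact p.Prime] (χ : IrrCharacter G)
    (hvan : ∀ g : G, orderOf g = p → (χ : G → ℂ) g = 0) :
    omega (χ : G → ℂ) (solInd G p) = 1 := by
  classical
  have hp : p.Prime := Fact.out
  unfold omega
  have h1 : ∑ g : G, solInd G p g * (χ : G → ℂ) g = (χ : G → ℂ) 1 := by
    rw [Finset.sum_eq_single (1 : G)]
    · unfold solInd
      rw [if_pos (one_pow p), one_mul]
    · intro g _ hg1
      unfold solInd
      by_cases hg : g ^ p = 1
      · have hord : orderOf g ∣ p := orderOf_dvd_of_pow_eq_one hg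
        rcases (Nat.dvd_prime hp).mp hord with h | h
        · exact absurd (orderOf_eq_one_iff.mp h) hg1
        · rw [hvan g h, mul_zero]
      · rw [if_neg hg, zero_mul]
    · intro h
      exact absurd (Finset.mem_univ _) h
  rw [h1, div_self (irr_one_ne_zero χ.2)]

/-- **Knörr's theorem**: an irreducible character vanishing on all elements of order `p` has
`p`-defect zero -/
theorem factorization_eq_of_vanish (p : ℕ) [Fact p.Prime] (χ : IrrCharacter G)
    (hvan : ∀ g : G, orderOf g = p → (χ : G → ℂ) g = 0) :
    (charDegree (χ : G → ℂ)).factorization p = (Nat.card G).factorization p := by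
  classical
  have hp : p.Prime := Fact.out
  obtain ⟨M, hM⟩ := Cfsg.Agent.Helper24.Glaub.exists_isPModular hp
  haveI hMp : M.IsPrime := isPrime_of_isPModular hM
  letI : Fintype (IrrCharacter G) := irrFintype
  haveI : Fintype (ConjClasses G) := Fintype.ofFinite _
  set B := blockOf M (χ : G → ℂ) with hBdef
  have hB : IsPBlock M B := ⟨χ, rfl⟩
  have hχB : χ ∈ B := mem_blockOf_self χ
  obtain ⟨D, hD⟩ := exists_isDefectGroup hM hB
  have hcardD : Nat.card D = p ^ blockDefect p B := card_defectGroup hM hB hD
  have hDp : IsPGroup p D := isPGroup_of_isDefectGroup hM hD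
  have hdvd : charDegree (χ : G → ℂ) ∣ Nat.card G := charDegree_dvd_card χ.2
  have hd0 : charDegree (χ : G → ℂ) ≠ 0 := (charDegree_pos χ.2).ne'
  have hG0 : Nat.card G ≠ 0 := Nat.card_pos.ne'
  have hle : (charDegree (χ : G → ℂ)).factorization p ≤ (Nat.card G).factorization p :=
    (Nat.factorization_le_iff_dvd hd0 hG0).mpr hdvd p
  have hge := sub_blockDefect_le_factorization p hχB
  by_cases hd : blockDefect p B = 0
  · rw [hd] at hge
    omega
  · exfalso
    -- a central element of order `p` of the defect group
    haveI : Fintype D := Fintype.ofFinite D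
    haveI : Nontrivial D := by
      rw [← Finite.one_lt_card_iff_nontrivial, hcardD]
      exact Nat.one_lt_pow hd hp.one_lt
    haveI := hDp.center_nontrivial
    have hZp : IsPGroup p (Subgroup.center D) := hDp.to_subgroup _
    have hpdvd : p ∣ Nat.card (Subgroup.center D) := by
      obtain ⟨n, hn⟩ := IsPGroup.iff_card.mp hZp
      rw [hn]
      have hn0 : n ≠ 0 := by
        rintro rfl
        rw [pow_zero] at hn
        have := Finite.one_lt_card_iff_nontrivial.mpr (inferInstance : Nontrivial (Subgroup.center D))
        omega
      exact dvd_pow_self p hn0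
    obtain ⟨z, hz⟩ := exists_prime_orderOf_dvd_card' p hpdvd
    set y : G := ((z : D) : G) with hydef
    have hyD : y ∈ D := (z : D).2
    have hyord : orderOf y = p := by
      rw [hydef, Subgroup.orderOf_coe, Subgroup.orderOf_coe]
      exact hz
    have hyc : ∀ w ∈ D, y * w = w * y := by
      intro w hw
      have h1 := Subgroup.mem_center_iff.mp z.2 ⟨w, hw⟩
      have h2 := congrArg (Subtype.val : D → G) h1
      exact h2.symm
    have hmajor := exists_major_subsection hM hB hD hyD hyc
    set C := Subgroup.centralizer ({y} : Set G) with hC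
    haveI : Fintype C := Fintype.ofFinite C
    obtain ⟨b, hbB, -⟩ := hmajor
    obtain ⟨hb, -, hcong⟩ := hbB
    obtain ⟨ξ, rfl⟩ := hb
    have hξb : ξ ∈ blockOf M (ξ : C → ℂ) := mem_blockOf_self ξ
    -- the comparison of central characters
    have hTG := isClassFunction_solInd (C := G) p
    have h1 := Cfsg.Agent.Helper18.omega_restrict_eq_sum_classes C hTG (ξ : C → ℂ)
    have h2 := omega_eq_sum_classes (isClassFunction_of_isIrrCharacter χ.2) hTG
    have hres : (fun h : C => solInd G p (h : G)) = solInd C p := by
      funext h
      unfold solInd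
      have h3 : ((h : G) ^ p = 1) ↔ (h ^ p = 1) := by
        rw [← SubgroupClass.coe_pow, ← OneMemClass.coe_one C, Subtype.coe_inj]
      by_cases h4 : h ^ p = 1
      · rw [if_pos h4, if_pos (h3.mpr h4)]
      · rw [if_neg h4, if_neg (fun h5 => h4 (h3.mp h5))]
    rw [hres] at h1
    have hdiff : MemLocalIdeal M (omega (ξ : C → ℂ) (solInd C p) -
        omega (χ : G → ℂ) (solInd G p)) := by
      rw [h1, h2, ← Finset.sum_sub_distrib]
      apply memLocalIdeal_sum
      intro K _
      rw [← mul_sub]
      apply memLocalIdeal_mul_left _ (hcong ξ hξb χ hχB _)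
      unfold solInd
      split_ifs
      · exact memLocalRing_one ne_top
      · exact memLocalRing_zero ne_top
    rw [omega_solInd_of_vanish p χ hvan] at hdiff
    -- the central element of order `p` of the centralizer
    have hyC : y ∈ C := by
      rw [hC, Subgroup.mem_centralizer_singleton_iff]
    have hyCord : orderOf (⟨y, hyC⟩ : C) = p := by
      rw [← Subgroup.orderOf_coe]
      exact hyord
    have hyCc : ∀ c : C, (⟨y, hyC⟩ : C) * c = c * ⟨y, hyC⟩ := by
      intro c
      apply Subtype.ext
      have := Subgroup.mem_centralizer_singleton_iff.mp c.2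
      exact this.symm
    have h5 := memLocalIdeal_omega_solInd hM hyCord hyCc ξ
    have h6 := memLocalIdeal_sub h5 hdiff
    rw [sub_sub_cancel] at h6
    exact not_memLocalIdeal_one h6

end Main

end Cfsg.Agent.Helper18.KnorrVanish
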