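import Mathlib
import Cfsg.Agent.Lib.Helper20.E8TLat

/-!
# S2375, piece PD8: the `E₈` form is positive definite, even, unimodular
-/

set_option autoImplicit false

namespace Cfsg.Agent.Helper20.E8T

/-- the quadratic form of `C8` over any commutative ring, as a sum of squares (times `60`) -/
theorem e8tpd8_sos {R : Type*} [CommRing R] (x : Fin 8 → R) :
    60 * (x ⬝ᵥ (C8.map (Int.cast : ℤ → R)).mulVec x) =
      30 * (2 * x 0 - x 2) ^ 2 + 30 * (2 * x 1 - x 3) ^ 2 + 10 * (3 * x 2 - 2 * x 3) ^ 2 +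
        2 * (5 * x 3 - 6 * x 4) ^ 2 + 3 * (4 * x 4 - 5 * x 5) ^ 2 + 5 * (3 * x 5 - 4 * x 6) ^ 2 +
        10 * (2 * x 6 - 3 * x 7) ^ 2 + 30 * x 7 ^ 2 := by
  simp only [dotProduct, Matrix.mulVec, Fin.sum_univ_eight, Matrix.map_apply, C8]
  simp
  ring

theorem e8tpd8_map_id : C8.map (Int.cast : ℤ → ℤ) = C8 := by
  ext i j
  simp

/-- the integral version -/
theorem e8tpd8_sos_int (y : Fin 8 → ℤ) :
    60 * ip y y =
      30 * (2 * y 0 - y 2) ^ 2 + 30 * (2 * y 1 - y 3) ^ 2 + 10 * (3 * y 2 - 2 * y 3) ^ 2 +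
        2 * (5 * y 3 - 6 * y 4) ^ 2 + 3 * (4 * y 4 - 5 * y 5) ^ 2 + 5 * (3 * y 5 - 4 * y 6) ^ 2 +
        10 * (2 * y 6 - 3 * y 7) ^ 2 + 30 * y 7 ^ 2 := by
  have := e8tpd8_sos (R := ℤ) y
  rw [e8tpd8_map_id] at this
  exact this

theorem c8_psd : (C8.map (Int.cast : ℤ → ℝ)).PosSemidef := by
  apply Matrix.PosSemidef.of_dotProduct_mulVec_nonneg
  · unfold Matrix.IsHermitian
    rw [Matrix.conjTranspose_eq_transpose_of_trivial, ← Matrix.transpose_map, C8_transpose]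
  · intro x
    have h := e8tpd8_sos (R := ℝ) x
    have hstar : star x = x := by
      funext i
      simp
    rw [hstar]
    nlinarith [sq_nonneg (2 * x 0 - x 2), sq_nonneg (2 * x 1 - x 3), sq_nonneg (3 * x 2 - 2 * x 3),
      sq_nonneg (5 * x 3 - 6 * x 4), sq_nonneg (4 * x 4 - 5 * x 5), sq_nonneg (3 * x 5 - 4 * x 6),
      sq_nonneg (2 * x 6 - 3 * x 7), sq_nonneg (x 7)]

theorem ip_self_nonneg (y : Fin 8 → ℤ) : 0 ≤ ip y y := by
  have h := e8tpd8_sos_int y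
  nlinarith [sq_nonneg (2 * y 0 - y 2), sq_nonneg (2 * y 1 - y 3), sq_nonneg (3 * y 2 - 2 * y 3),
    sq_nonneg (5 * y 3 - 6 * y 4), sq_nonneg (4 * y 4 - 5 * y 5), sq_nonneg (3 * y 5 - 4 * y 6),
    sq_nonneg (2 * y 6 - 3 * y 7), sq_nonneg (y 7)]

theorem ip_self_eq_zero (y : Fin 8 → ℤ) (h : ip y y = 0) : y = 0 := by
  have hs := e8tpd8_sos_int y
  rw [h, mul_zero] at hs
  have n0 := sq_nonneg (2 * y 0 - y 2)
  have n1 := sq_nonneg (2 * y 1 - y 3)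
  have n2 := sq_nonneg (3 * y 2 - 2 * y 3)
  have n3 := sq_nonneg (5 * y 3 - 6 * y 4)
  have n4 := sq_nonneg (4 * y 4 - 5 * y 5)
  have n5 := sq_nonneg (3 * y 5 - 4 * y 6)
  have n6 := sq_nonneg (2 * y 6 - 3 * y 7)
  have n7 := sq_nonneg (y 7)
  have e0 : 2 * y 0 - y 2 = 0 := pow_eq_zero_iff (two_ne_zero) |>.1 (by linarith)
  have e1 : 2 * y 1 - y 3 = 0 := pow_eq_zero_iff (two_ne_zero) |>.1 (by linarith)
  have e2 : 3 * y 2 - 2 * y 3 = 0 := pow_eq_zero_iff (two_ne_zero) |>.1 (by linarith)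
  have e3 : 5 * y 3 - 6 * y 4 = 0 := pow_eq_zero_iff (two_ne_zero) |>.1 (by linarith)
  have e4 : 4 * y 4 - 5 * y 5 = 0 := pow_eq_zero_iff (two_ne_zero) |>.1 (by linarith)
  have e5 : 3 * y 5 - 4 * y 6 = 0 := pow_eq_zero_iff (two_ne_zero) |>.1 (by linarith)
  have e6 : 2 * y 6 - 3 * y 7 = 0 := pow_eq_zero_iff (two_ne_zero) |>.1 (by linarith)
  have e7 : y 7 = 0 := pow_eq_zero_iff (two_ne_zero) |>.1 (by linarith)
  have z7 : y 7 = 0 := e7
  have z6 : y 6 = 0 := by omega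
  have z5 : y 5 = 0 := by omega
  have z4 : y 4 = 0 := by omega
  have z3 : y 3 = 0 := by omega
  have z2 : y 2 = 0 := by omega
  have z1 : y 1 = 0 := by omega
  have z0 : y 0 = 0 := by omega
  funext i
  fin_cases i
  · exact z0
  · exact z1
  · exact z2
  · exact z3
  · exact z4
  · exact z5
  · exact z6
  · exact z7

/-- the explicit value of the form -/
theorem e8tpd8_ip_self (y : Fin 8 → ℤ) :
    ip y y = 2 * (y 0 ^ 2 + y 1 ^ 2 + y 2 ^ 2 + y 3 ^ 2 + y 4 ^ 2 + y 5 ^ 2 + y 6 ^ 2 + y 7 ^ 2 -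
      (y 0 * y 2 + y 1 * y 3 + y 2 * y 3 + y 3 * y 4 + y 4 * y 5 + y 5 * y 6 + y 6 * y 7)) := by
  have h := e8tpd8_sos_int y
  linarith

theorem ip_self_even (y : Fin 8 → ℤ) : Even (ip y y) := by
  rw [e8tpd8_ip_self]
  exact even_two_mul _

theorem ip_self_ge_two (y : Fin 8 → ℤ) (hy : y ≠ 0) : 2 ≤ ip y y := by
  have h1 := ip_self_nonneg y
  have h2 : ip y y ≠ 0 := fun h => hy (ip_self_eq_zero y h)
  obtain ⟨k, hk⟩ := ip_self_even y
  omega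

theorem e8tpd8_ip_rc : ∀ v : Fin 240, ip (rc v.val) (rc v.val) = 2 := by
  decide +kernel

theorem ip_rc (v : ℕ) (hv : v < 240) : ip (rc v) (rc v) = 2 :=
  e8tpd8_ip_rc ⟨v, hv⟩

/-- the inverse of `C8` -/
def e8tpd8_inv : Matrix (Fin 8) (Fin 8) ℤ :=
  !![4, 5, 7, 10, 8, 6, 4, 2;
    5, 8, 10, 15, 12, 9, 6, 3;
    7, 10, 14, 20, 16, 12, 8, 4;
    10, 15, 20, 30, 24, 18, 12, 6;
    8, 12, 16, 24, 20, 15, 10, 5;
    6, 9, 12, 18, 15, 12, 8, 4;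
    4, 6, 8, 12, 10, 8, 6, 3;
    2, 3, 4, 6, 5, 4, 3, 2]

theorem e8tpd8_mul_inv : C8 * e8tpd8_inv = 1 := by
  decide +kernel

theorem c8_det : C8.det = 1 := by
  have h1 : C8.det * e8tpd8_inv.det = 1 := by
    rw [← Matrix.det_mul, e8tpd8_mul_inv, Matrix.det_one]
  have h2 : 0 ≤ C8.det := by
    have h := c8_psd.det_nonneg
    have e : (C8.map (Int.cast : ℤ → ℝ)).det = ((C8.det : ℤ) : ℝ) := by
      have := (Int.castRingHom ℝ).map_det C8
      exact this.symm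
    rw [e] at h
    exact_mod_cast h
  rcases Int.isUnit_iff.1 (IsUnit.of_mul_eq_one _ h1) with h | h
  · exact h
  · rw [h] at h2
    omega

end Cfsg.Agent.Helper20.E8T
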