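import Mathlib
import Cfsg.Prelude.Def_Blocks
import Cfsg.Agent.S0163
import Cfsg.Agent.Lib.Helper8.CharExtra

/-!
# Galois conjugates of characters (helper18's library)

For `j` coprime to the order of `G` and a character `χ`, the function `g ↦ χ (g ^ j)` is a
character, irreducible when `χ` is.  The proof goes through Brauer's induction theorem, avoiding
field automorphisms.
-/

set_option autoImplicit false

namespace Cfsg.Agent.Helper18

open Cfsg Cfsg.Agent.Helper24
open scoped ComplexConjugate

universe u

variable {G : Type u} [Group G] [Fintype G]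

/-- Powers commute with induction of homomorphisms. -/
theorem indFun_hom_pow (E : Subgroup G) (lam : E →* ℂˣ) {j : ℕ}
    (hj : Nat.Coprime (Nat.card G) j) (g : G) :
    indFun E (fun e => ((lam e : ℂˣ) : ℂ)) (g ^ j) =
      indFun E (fun e => (((lam ^ j) e : ℂˣ) : ℂ)) g := by
  rw [indFun_apply, indFun_apply]
  congr 1
  refine Finset.sum_congr rfl fun x _ => ?_
  have h1 : x⁻¹ * g ^ j * x = (x⁻¹ * g * x) ^ j := by
    have := conj_pow (a := x⁻¹) (b := g) (i := j)
    rw [inv_inv] at this
    exact this.symm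
  rw [h1]
  by_cases hy : x⁻¹ * g * x ∈ E
  · rw [extendByZero_of_mem E _ (E.pow_mem hy j), extendByZero_of_mem E _ hy]
    have h2 : (⟨(x⁻¹ * g * x) ^ j, E.pow_mem hy j⟩ : E) = (⟨x⁻¹ * g * x, hy⟩ : E) ^ j := rfl
    rw [h2, map_pow, MonoidHom.pow_apply]
  · rw [extendByZero_of_not_mem E _ hy, extendByZero_of_not_mem]
    intro h
    apply hy
    have hcop : Nat.Coprime j (orderOf (x⁻¹ * g * x)) :=
      (Nat.Coprime.coprime_dvd_left (orderOf_dvd_natCard _) hj).symm
    obtain ⟨m, hm⟩ := exists_pow_eq_self_of_coprime hcop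
    rw [← hm]
    exact E.pow_mem h m

/-- The power twist of a generalized character is a generalized character. -/
theorem isGenChar_comp_pow {χ : G → ℂ} (hχ : IsGeneralizedCharacter G χ) {j : ℕ}
    (hj : Nat.Coprime (Nat.card G) j) : IsGeneralizedCharacter G (fun g => χ (g ^ j)) := by
  have hmem := Cfsg.Agent.S0163.genChar_mem_brauerSpan_top hχ
  clear hχ
  unfold brauerSpan at hmem
  induction hmem using AddSubgroup.closure_induction with
  | mem f hf =>
    obtain ⟨E, lam, -, rfl⟩ := hf
    haveI : Fintype E := Fintype.ofFinite E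
    have : (fun g => indFun E (fun e => ((lam e : ℂˣ) : ℂ)) (g ^ j)) =
        indFun E (fun e => (((lam ^ j) e : ℂˣ) : ℂ)) := by
      funext g
      exact indFun_hom_pow E lam hj g
    rw [this]
    exact isGenChar_of_isCharacter (isCharacter_indFun E
      (isCharacter_of_isIrrCharacter (isIrrCharacter_of_monoidHom (lam ^ j))))
  | zero => exact isGenChar_zero
  | add a b _ _ ha hb => exact isGenChar_add ha hb
  | neg a _ ha => exact isGenChar_neg ha

/-- The power twist preserves inner products. -/
theorem classInner_comp_pow (φ ψ : G → ℂ) {j : ℕ} (hj : Nat.Coprime (Nat.card G) j) :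
    classInner (fun g => φ (g ^ j)) (fun g => ψ (g ^ j)) = classInner φ ψ := by
  unfold classInner
  congr 1
  exact Fintype.sum_equiv (powCoprime hj) _ _ (fun g => rfl)

/-- The power twist of an irreducible character is irreducible. -/
theorem isIrrCharacter_comp_pow {χ : G → ℂ} (hχ : IsIrrCharacter G χ) {j : ℕ}
    (hj : Nat.Coprime (Nat.card G) j) : IsIrrCharacter G (fun g => χ (g ^ j)) := by
  have h1 := isGenChar_comp_pow (isGenChar_of_isCharacter (isCharacter_of_isIrrCharacter hχ)) hj
  have h2 : classInner (fun g => χ (g ^ j)) (fun g => χ (g ^ j)) = 1 := by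
    rw [classInner_comp_pow χ χ hj]
    have := irr_orthogonality hχ hχ
    rwa [if_pos rfl] at this
  rcases Cfsg.Agent.Helper8.genChar_norm_one h1 h2 with h | h
  · exact h
  · exfalso
    obtain ⟨k, hk, hk1⟩ := irr_one_eq hχ
    obtain ⟨k', hk', hk'1⟩ := irr_one_eq h
    have h3 : (-(fun g => χ (g ^ j))) 1 = -χ 1 := by
      show -χ (1 ^ j) = -χ 1
      rw [one_pow]
    rw [h3, hk1] at hk'1
    have h4 : (k : ℂ) + (k' : ℂ) = 0 := by
      rw [← hk'1]
      ring
    have h5 : k + k' = 0 := by exact_mod_cast h4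
    omega

/-- The power twist of a character is a character. -/
theorem isCharacter_comp_pow {χ : G → ℂ} (hχ : IsCharacter G χ) {j : ℕ}
    (hj : Nat.Coprime (Nat.card G) j) : IsCharacter G (fun g => χ (g ^ j)) := by
  classical
  letI : Fintype (IrrCharacter G) := irrFintype
  obtain ⟨hm, hdec⟩ := isCharacter_decomp hχ
  have h1 : (fun g => χ (g ^ j)) = ∑ μ : IrrCharacter G,
      classInner χ (μ : G → ℂ) • (fun g => (μ : G → ℂ) (g ^ j)) := by
    funext g
    conv_lhs => rw [hdec]
    simp only [Finset.sum_apply, Pi.smul_apply]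
  rw [h1]
  apply isCharacter_sum
  intro μ _
  obtain ⟨n, hn⟩ := hm μ
  rw [hn]
  exact isCharacter_natCast_smul n (isCharacter_of_isIrrCharacter (isIrrCharacter_comp_pow μ.2 hj))

end Cfsg.Agent.Helper18
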