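import Mathlib

/-!
# Galois conjugates of sums of roots of unity and rationality (helper18's shared library)
-/

set_option autoImplicit false

namespace Cfsg.Agent.Helper18

open Polynomial

/-- A sum of `n`-th roots of unity comes from an element `x` of the cyclotomic field whose
conjugates are exactly the power sums `∑ μ i ^ k` with `k` coprime to `n`. -/
theorem exists_cyclotomic_element {n d : ℕ} (hn : 0 < n) (μ : Fin d → ℂ)
    (hμ : ∀ i, μ i ^ n = 1) :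
    ∃ x : CyclotomicField n ℚ,
      (∀ k : ℕ, Nat.Coprime k n →
        ∃ σ : CyclotomicField n ℚ →ₐ[ℚ] ℂ, σ x = ∑ i, μ i ^ k) ∧
      (∀ σ : CyclotomicField n ℚ →ₐ[ℚ] ℂ, ∃ k : ℕ, Nat.Coprime k n ∧ σ x = ∑ i, μ i ^ k) := by
  classical
  haveI : NeZero n := ⟨hn.ne'⟩
  obtain ⟨ζ, hζ⟩ : ∃ ζ : ℂ, IsPrimitiveRoot ζ n := ⟨_, Complex.isPrimitiveRoot_exp n hn.ne'⟩
  have hex : ∀ i, ∃ a < n, ζ ^ a = μ i := fun i => hζ.eq_pow_of_pow_eq_one (hμ i)
  choose a han ha using hex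
  haveI : IsCyclotomicExtension {n} ℚ (CyclotomicField n ℚ) :=
    CyclotomicField.isCyclotomicExtension n ℚ
  have hζK : IsPrimitiveRoot (IsCyclotomicExtension.zeta n ℚ (CyclotomicField n ℚ)) n :=
    IsCyclotomicExtension.zeta_spec n ℚ (CyclotomicField n ℚ)
  obtain ⟨ζK, hζKdef⟩ : ∃ ζK : CyclotomicField n ℚ,
      ζK = IsCyclotomicExtension.zeta n ℚ (CyclotomicField n ℚ) := ⟨_, rfl⟩
  rw [← hζKdef] at hζK
  have hirr : Irreducible (cyclotomic n ℚ) := cyclotomic.irreducible_rat hn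
  obtain ⟨x, hxdef⟩ : ∃ x : CyclotomicField n ℚ, x = ∑ i, ζK ^ a i := ⟨_, rfl⟩
  have hσx : ∀ σ : CyclotomicField n ℚ →ₐ[ℚ] ℂ, σ x = ∑ i, (σ ζK) ^ a i := by
    intro σ
    rw [hxdef, map_sum]
    exact Finset.sum_congr rfl fun i _ => map_pow σ _ _
  let e := hζK.embeddingsEquivPrimitiveRoots ℂ hirr
  have he : ∀ σ : CyclotomicField n ℚ →ₐ[ℚ] ℂ, ((e σ : primitiveRoots n ℂ) : ℂ) = σ ζK :=
    fun σ => rfl
  have hemb : ∀ η : ℂ, IsPrimitiveRoot η n →
      ∃ σ : CyclotomicField n ℚ →ₐ[ℚ] ℂ, σ ζK = η := by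
    intro η hη
    refine ⟨e.symm ⟨η, (mem_primitiveRoots hn).2 hη⟩, ?_⟩
    rw [← he, Equiv.apply_symm_apply]
  refine ⟨x, ?_, ?_⟩
  · intro k hk
    obtain ⟨σ, hσ⟩ := hemb (ζ ^ k) (hζ.pow_of_coprime k hk)
    refine ⟨σ, ?_⟩
    rw [hσx, hσ]
    refine Finset.sum_congr rfl fun i _ => ?_
    rw [← ha i, ← pow_mul, ← pow_mul, mul_comm]
  · intro σ
    have hη : IsPrimitiveRoot (σ ζK) n := by
      have := (e σ).2
      rw [mem_primitiveRoots hn] at this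
      rw [← he]
      exact this
    obtain ⟨k, hkn, hk⟩ := hζ.eq_pow_of_pow_eq_one hη.pow_eq_one
    refine ⟨k, ?_, ?_⟩
    · rw [← hζ.pow_iff_coprime hn, hk]
      exact hη
    · rw [hσx, ← hk]
      refine Finset.sum_congr rfl fun i _ => ?_
      rw [← ha i, ← pow_mul, ← pow_mul, mul_comm]

/-- A sum of roots of unity all of whose Galois conjugates coincide is rational. -/
theorem exists_rat_of_forall_coprime_eq {n d : ℕ} (hn : 0 < n) (μ : Fin d → ℂ)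
    (hμ : ∀ i, μ i ^ n = 1)
    (h : ∀ k : ℕ, Nat.Coprime k n → ∑ i, μ i ^ k = ∑ i, μ i) :
    ∃ q : ℚ, ∑ i, μ i = (q : ℂ) := by
  classical
  haveI : NeZero n := ⟨hn.ne'⟩
  haveI : IsCyclotomicExtension {n} ℚ (CyclotomicField n ℚ) :=
    CyclotomicField.isCyclotomicExtension n ℚ
  haveI : FiniteDimensional ℚ (CyclotomicField n ℚ) :=
    IsCyclotomicExtension.finiteDimensional {n} ℚ (CyclotomicField n ℚ)
  obtain ⟨x, -, hx⟩ := exists_cyclotomic_element hn μ hμ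
  have hconst : ∀ σ : CyclotomicField n ℚ →ₐ[ℚ] ℂ, σ x = ∑ i, μ i := by
    intro σ
    obtain ⟨k, hk, hσ⟩ := hx σ
    rw [hσ, h k hk]
  have htr := trace_eq_sum_embeddings (K := ℚ) (L := CyclotomicField n ℚ) ℂ (x := x)
  simp only [hconst, Finset.sum_const, Finset.card_univ, nsmul_eq_mul] at htr
  have hcard : (Fintype.card (CyclotomicField n ℚ →ₐ[ℚ] ℂ) : ℂ) ≠ 0 := by
    have : 0 < Fintype.card (CyclotomicField n ℚ →ₐ[ℚ] ℂ) := by
      rw [AlgHom.card]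
      exact Module.finrank_pos
    exact_mod_cast this.ne'
  refine ⟨Algebra.trace ℚ (CyclotomicField n ℚ) x /
    (Fintype.card (CyclotomicField n ℚ →ₐ[ℚ] ℂ) : ℚ), ?_⟩
  push_cast
  rw [eq_div_iff hcard, mul_comm]
  rw [← htr]
  simp

/-- If a sum of roots of unity is rational, then so are all its Galois conjugates, with the same
value. -/
theorem sum_pow_eq_of_rat {n d : ℕ} (hn : 0 < n) (μ : Fin d → ℂ)
    (hμ : ∀ i, μ i ^ n = 1) (q : ℚ) (h : ∑ i, μ i = (q : ℂ)) (k : ℕ) (hk : Nat.Coprime k n) :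
    ∑ i, μ i ^ k = (q : ℂ) := by
  classical
  obtain ⟨x, hx, -⟩ := exists_cyclotomic_element hn μ hμ
  obtain ⟨σ₁, hσ₁⟩ := hx 1 (Nat.coprime_one_left n)
  simp only [pow_one] at hσ₁
  have hxq : x = algebraMap ℚ (CyclotomicField n ℚ) q := by
    apply σ₁.toRingHom.injective
    show σ₁ x = σ₁ (algebraMap ℚ (CyclotomicField n ℚ) q)
    rw [hσ₁, h, AlgHom.commutes]
    simp
  obtain ⟨σ, hσ⟩ := hx k hk
  rw [← hσ, hxq, AlgHom.commutes]
  simp

end Cfsg.Agent.Helper18
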