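import Mathlib

/-!
# Arithmetic for the `p = 2` analogue of the Shult–Gross key lemma (helper18)

* `arith_sq_two` : the square roots of `1` modulo `2^j` below `2^j`.
* `pow_add_one_eq_two_pow` : `q^b + 1 = 2^k`, `q` odd, forces `b = 1`.
* `pow_eq_two_pow_add_one` : `q^b = 2^k + 1`, `q` odd, forces `b = 1` or `(q, b, k) = (3, 2, 3)`.
* `two_pow_dvd_pow_sub_one` : lifting the exponent at `2`.
* `arith_kill_two` : the only surviving exceptional case is `s = q = 2^j - 1`, `t = 2^(n-j)`.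
-/

set_option autoImplicit false

namespace Cfsg.Agent.Helper18.SG2

/-- the square roots of `1` modulo `2^j` in `[0, 2^j - 1]` -/
theorem arith_sq_two {j s : ℕ} (hj : 1 ≤ j) (hs : s ^ 2 ≡ 1 [MOD 2 ^ j]) (hle : s ≤ 2 ^ j - 1) :
    s = 1 ∨ s + 1 = 2 ^ j ∨ (3 ≤ j ∧ (s + 1 = 2 ^ (j - 1) ∨ s = 2 ^ (j - 1) + 1)) := by
  have h2j : 2 ≤ 2 ^ j := by
    calc 2 = 2 ^ 1 := by norm_num
      _ ≤ 2 ^ j := Nat.pow_le_pow_right (by norm_num) hj
  -- `s` is odd
  have hodd : s % 2 = 1 := by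
    have h1 : s ^ 2 ≡ 1 [MOD 2] := hs.of_dvd (dvd_pow_self 2 (by omega))
    have h2 : s ^ 2 % 2 = 1 := h1
    rcases Nat.mod_two_eq_zero_or_one s with h0 | h0
    · exfalso
      have : s ^ 2 % 2 = 0 := by
        rw [Nat.pow_mod, h0]
      omega
    · exact h0
  obtain ⟨a, rfl⟩ : ∃ a, s = 2 * a + 1 := ⟨s / 2, by omega⟩
  -- small `j`
  rcases Nat.lt_or_ge j 3 with hj3 | hj3
  · interval_cases j
    · left
      simp at hle
      omega
    · simp at hle
      rcases Nat.lt_or_ge a 1 with h | h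
      · left; omega
      · right; left; norm_num; omega
  -- `j ≥ 3`
  obtain ⟨i, rfl⟩ : ∃ i, j = i + 2 := ⟨j - 2, by omega⟩
  have hi : 1 ≤ i := by omega
  have hdvd : 2 ^ (i + 2) ∣ (2 * a + 1) ^ 2 - 1 :=
    (Nat.modEq_iff_dvd' (Nat.one_le_pow _ _ (by omega))).mp hs.symm
  have e : (2 * a + 1) ^ 2 - 1 = 2 ^ 2 * (a * (a + 1)) := by
    have : (2 * a + 1) ^ 2 = 2 ^ 2 * (a * (a + 1)) + 1 := by ring
    omega
  rw [e, pow_add, mul_comm (2 ^ i) (2 ^ 2)] at hdvd
  have hdvd' : 2 ^ i ∣ a * (a + 1) := Nat.dvd_of_mul_dvd_mul_left (by norm_num) hdvd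
  have hale : a + 1 ≤ 2 ^ (i + 1) := by
    have : 2 ^ (i + 2) = 2 * 2 ^ (i + 1) := by ring
    omega
  have h2i : 2 ^ (i + 1) = 2 * 2 ^ i := by ring
  have hipos : 0 < 2 ^ i := Nat.pos_of_ne_zero (by positivity)
  have hj1 : i + 2 - 1 = i + 1 := by omega
  rw [hj1]
  rcases Nat.even_or_odd a with hae | hao
  · -- `a` even: `a + 1` is odd, `2^i ∣ a`
    have hcop : Nat.Coprime (2 ^ i) (a + 1) := by
      apply Nat.Coprime.pow_left
      rw [Nat.coprime_two_left]
      exact hae.add_one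
    have hda : 2 ^ i ∣ a := hcop.dvd_of_dvd_mul_right hdvd'
    obtain ⟨c, hc⟩ := hda
    have hc2 : c < 2 := by
      by_contra hcon
      have : 2 * 2 ^ i ≤ 2 ^ i * c := by
        rw [mul_comm]; exact Nat.mul_le_mul_left _ (not_lt.mp hcon)
      omega
    interval_cases c
    · left; omega
    · right; right
      refine ⟨by omega, Or.inr ?_⟩
      omega
  · -- `a` odd: `2^i ∣ a + 1`
    have hcop : Nat.Coprime (2 ^ i) a := by
      apply Nat.Coprime.pow_left
      rw [Nat.coprime_two_left]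
      exact hao
    have hda : 2 ^ i ∣ a + 1 := hcop.dvd_of_dvd_mul_left hdvd'
    obtain ⟨c, hc⟩ := hda
    have hc3 : c < 3 := by
      by_contra hcon
      have : 3 * 2 ^ i ≤ 2 ^ i * c := by
        rw [mul_comm]; exact Nat.mul_le_mul_left _ (not_lt.mp hcon)
      omega
    interval_cases c
    · omega
    · right; right
      refine ⟨by omega, Or.inl ?_⟩
      omega
    · right; left
      have : 2 ^ (i + 2) = 2 * (2 * 2 ^ i) := by ring
      omega

/-- `q² ≡ 1 mod 2^(i+1)` when `q + 1 = 2^i` or `q = 2^i + 1` (`i ≥ 1`) -/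
theorem sq_modEq_one_of_near_pow {q i : ℕ} (hi : 1 ≤ i) (h : q + 1 = 2 ^ i ∨ q = 2 ^ i + 1) :
    q ^ 2 ≡ 1 [MOD 2 ^ (i + 1)] := by
  obtain ⟨l, rfl⟩ : ∃ l, i = l + 1 := ⟨i - 1, by omega⟩
  have hl : 1 ≤ 2 ^ l := Nat.one_le_two_pow
  have e2 : 2 ^ (l + 1) = 2 * 2 ^ l := by ring
  rcases h with h | h
  · have hq : q = 2 * 2 ^ l - 1 := by omega
    have hsq : q ^ 2 = 2 ^ (l + 1 + 1) * (2 ^ l - 1) + 1 := by
      obtain ⟨c, hc⟩ : ∃ c, 2 ^ l = c + 1 := ⟨2 ^ l - 1, by omega⟩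
      rw [hq, hc]
      have e3 : 2 ^ (l + 1 + 1) = 4 * (c + 1) := by rw [← hc]; ring
      rw [e3]
      have : 2 * (c + 1) - 1 = 2 * c + 1 := by omega
      rw [this]
      have : c + 1 - 1 = c := by omega
      rw [this]
      ring
    rw [hsq]
    exact (Nat.modEq_iff_dvd' (by omega)).mpr (by
      rw [Nat.add_sub_cancel]
      exact Dvd.intro _ rfl) |>.symm
  · have hsq : q ^ 2 = 2 ^ (l + 1 + 1) * (2 ^ l + 1) + 1 := by
      rw [h]
      ring
    rw [hsq]
    exact (Nat.modEq_iff_dvd' (by omega)).mpr (by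
      rw [Nat.add_sub_cancel]
      exact Dvd.intro _ rfl) |>.symm

/-- odd powers of `q` are `≡ q` modulo `M` when `q² ≡ 1` -/
theorem pow_odd_modEq {q M c : ℕ} (h : q ^ 2 ≡ 1 [MOD M]) : q ^ (2 * c + 1) ≡ q [MOD M] := by
  have h1 : (q ^ 2) ^ c ≡ 1 ^ c [MOD M] := h.pow c
  rw [one_pow] at h1
  have h2 : (q ^ 2) ^ c * q ≡ 1 * q [MOD M] := h1.mul_right q
  rw [one_mul, ← pow_mul, ← pow_succ] at h2
  exact h2

/-- `q^b + 1 = 2^k` with `q` odd forces `b = 1` -/
theorem pow_add_one_eq_two_pow {q b k : ℕ} (hq : q % 2 = 1) (hq1 : 1 < q) (hb : 1 ≤ b)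
    (h : q ^ b + 1 = 2 ^ k) : b = 1 := by
  have hqb : q ≤ q ^ b := by
    calc q = q ^ 1 := (pow_one q).symm
      _ ≤ q ^ b := Nat.pow_le_pow_right (by omega) hb
  rcases Nat.even_or_odd' b with ⟨c, rfl | rfl⟩
  · -- `b` even
    exfalso
    have hodd : q ^ c % 2 = 1 := by
      rw [Nat.pow_mod, hq, one_pow]
      rfl
    have h4 : (q ^ c) ^ 2 % 4 = 1 := by
      obtain ⟨d, hd⟩ : ∃ d, q ^ c = 2 * d + 1 := ⟨q ^ c / 2, by omega⟩
      rw [hd]
      have : (2 * d + 1) ^ 2 = 4 * (d * (d + 1)) + 1 := by ring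
      rw [this]
      omega
    rw [← pow_mul, mul_comm] at h4
    have hk : 2 ^ k % 4 = 2 := by rw [← h]; omega
    have hk1 : k = 1 := by
      rcases Nat.lt_or_ge k 2 with hk2 | hk2
      · interval_cases k
        · simp at hk
        · rfl
      · exfalso
        obtain ⟨l, rfl⟩ : ∃ l, k = l + 2 := ⟨k - 2, by omega⟩
        have : 2 ^ (l + 2) = 4 * 2 ^ l := by ring
        rw [this] at hk
        omega
    rw [hk1] at h
    omega
  · -- `b` odd
    have hdvd : q + 1 ∣ q ^ (2 * c + 1) + 1 := by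
      have := Odd.nat_add_dvd_pow_add_pow q 1 (⟨c, rfl⟩ : Odd (2 * c + 1))
      rwa [one_pow] at this
    rw [h] at hdvd
    obtain ⟨i, hik, hi⟩ := (Nat.dvd_prime_pow Nat.prime_two).mp hdvd
    have hi1 : 1 ≤ i := by
      by_contra hcon
      have : i = 0 := by omega
      rw [this] at hi
      omega
    have hmod := pow_odd_modEq (c := c) (sq_modEq_one_of_near_pow hi1 (Or.inl hi))
    have hmod2 : q ^ (2 * c + 1) + 1 ≡ q + 1 [MOD 2 ^ (i + 1)] := hmod.add_right 1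
    rw [h, hi] at hmod2
    have hki : k = i := by
      rcases Nat.lt_or_ge i k with hlt | hge
      · exfalso
        have h0 : 2 ^ k % 2 ^ (i + 1) = 0 :=
          Nat.mod_eq_zero_of_dvd (Nat.pow_dvd_pow 2 hlt)
        have h1 : 2 ^ i % 2 ^ (i + 1) = 2 ^ i :=
          Nat.mod_eq_of_lt (Nat.pow_lt_pow_right (by norm_num) (by omega))
        have h2 : 2 ^ k % 2 ^ (i + 1) = 2 ^ i % 2 ^ (i + 1) := hmod2
        rw [h0, h1] at h2
        have : 0 < 2 ^ i := Nat.pos_of_ne_zero (by positivity)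
        omega
      · omega
    rw [hki, ← hi] at h
    have hqq : q ^ (2 * c + 1) = q ^ 1 := by rw [pow_one]; omega
    exact Nat.pow_right_injective (by omega : 2 ≤ q) hqq

/-- `q^b = 2^k + 1` with `q` odd forces `b = 1` or `(q, b, k) = (3, 2, 3)` -/
theorem pow_eq_two_pow_add_one {q b k : ℕ} (hq : q % 2 = 1) (hq1 : 1 < q) (hb : 1 ≤ b)
    (h : q ^ b = 2 ^ k + 1) : b = 1 ∨ (q = 3 ∧ b = 2 ∧ k = 3) := by
  have hq3 : 3 ≤ q := by omega
  have hqb : q ≤ q ^ b := by
    calc q = q ^ 1 := (pow_one q).symm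
      _ ≤ q ^ b := Nat.pow_le_pow_right (by omega) hb
  rcases Nat.even_or_odd' b with ⟨c, rfl | rfl⟩
  · -- `b` even
    right
    have hc : 1 ≤ c := by omega
    have hx3 : 3 ≤ q ^ c := by
      calc 3 ≤ q := hq3
        _ = q ^ 1 := (pow_one q).symm
        _ ≤ q ^ c := Nat.pow_le_pow_right (by omega) hc
    have hfac : (q ^ c - 1) * (q ^ c + 1) = 2 ^ k := by
      have h1 : q ^ (2 * c) = (q ^ c) ^ 2 := by rw [← pow_mul, mul_comm]
      rw [h1] at h
      obtain ⟨y, hy⟩ : ∃ y, q ^ c = y + 1 := ⟨q ^ c - 1, by omega⟩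
      rw [hy] at h ⊢
      have : y + 1 - 1 = y := by omega
      rw [this]
      have h2 : (y + 1) ^ 2 = y * (y + 1 + 1) + 1 := by ring
      rw [h2] at h
      omega
    have hd1 : q ^ c - 1 ∣ 2 ^ k := Dvd.intro _ hfac
    have hd2 : q ^ c + 1 ∣ 2 ^ k := Dvd.intro_left _ hfac
    obtain ⟨a, _, ha⟩ := (Nat.dvd_prime_pow Nat.prime_two).mp hd1
    obtain ⟨d, _, hd⟩ := (Nat.dvd_prime_pow Nat.prime_two).mp hd2
    have hrel : 2 ^ d = 2 ^ a + 2 := by omega
    have ha1 : a = 1 := by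
      rcases Nat.lt_or_ge a 2 with ha2 | ha2
      · interval_cases a
        · omega
        · rfl
      · exfalso
        obtain ⟨l, rfl⟩ : ∃ l, a = l + 2 := ⟨a - 2, by omega⟩
        have e1 : 2 ^ (l + 2) = 4 * 2 ^ l := by ring
        have hd4 : 2 ^ d % 4 = 2 := by rw [hrel, e1]; omega
        rcases Nat.lt_or_ge d 2 with hd2' | hd2'
        · interval_cases d
          · simp at hd4
          · have : 0 < 2 ^ l := Nat.pos_of_ne_zero (by positivity)
            omega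
        · obtain ⟨l', rfl⟩ : ∃ l', d = l' + 2 := ⟨d - 2, by omega⟩
          have e2 : 2 ^ (l' + 2) = 4 * 2 ^ l' := by ring
          rw [e2] at hd4
          omega
    rw [ha1] at ha
    have hx : q ^ c = 3 := by omega
    have hc1 : c = 1 := by
      by_contra hcon
      have hc2 : 2 ≤ c := by omega
      have : q ^ 2 ≤ q ^ c := Nat.pow_le_pow_right (by omega) hc2
      have h9 : 9 ≤ q ^ 2 := by nlinarith
      omega
    rw [hc1, pow_one] at hx
    refine ⟨hx, by omega, ?_⟩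
    rw [hx, hc1] at h
    have h8 : 2 ^ k = 2 ^ 3 := by norm_num at h ⊢; omega
    exact Nat.pow_right_injective (le_refl 2) h8
  · -- `b` odd
    left
    have hdvd : q - 1 ∣ q ^ (2 * c + 1) - 1 := Nat.sub_one_dvd_pow_sub_one q (2 * c + 1)
    have h' : q ^ (2 * c + 1) - 1 = 2 ^ k := by omega
    rw [h'] at hdvd
    obtain ⟨i, hik, hi⟩ := (Nat.dvd_prime_pow Nat.prime_two).mp hdvd
    have hi1 : 1 ≤ i := by
      by_contra hcon
      have : i = 0 := by omega
      rw [this] at hi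
      omega
    have hqi : q = 2 ^ i + 1 := by omega
    have hmod := pow_odd_modEq (c := c) (sq_modEq_one_of_near_pow hi1 (Or.inr hqi))
    rw [h] at hmod
    have hmod2 : 2 ^ k ≡ 2 ^ i [MOD 2 ^ (i + 1)] := by
      have : 2 ^ k + 1 ≡ 2 ^ i + 1 [MOD 2 ^ (i + 1)] := by rw [← hqi]; exact hmod
      exact Nat.ModEq.add_right_cancel' 1 this
    have hki : k = i := by
      rcases Nat.lt_or_ge i k with hlt | hge
      · exfalso
        have h0 : 2 ^ k % 2 ^ (i + 1) = 0 :=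
          Nat.mod_eq_zero_of_dvd (Nat.pow_dvd_pow 2 hlt)
        have h1 : 2 ^ i % 2 ^ (i + 1) = 2 ^ i :=
          Nat.mod_eq_of_lt (Nat.pow_lt_pow_right (by norm_num) (by omega))
        have h2 : 2 ^ k % 2 ^ (i + 1) = 2 ^ i % 2 ^ (i + 1) := hmod2
        rw [h0, h1] at h2
        have : 0 < 2 ^ i := Nat.pos_of_ne_zero (by positivity)
        omega
      · omega
    have hqq : q ^ (2 * c + 1) = q ^ 1 := by rw [pow_one, h, hki, hqi]
    exact Nat.pow_right_injective (by omega : 2 ≤ q) hqq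

/-- a geometric sum of an odd number of odd terms is odd -/
theorem geom_sum_odd {q : ℕ} (hq : q % 2 = 1) (c : ℕ) :
    (∑ i ∈ Finset.range (2 * c + 1), q ^ i) % 2 = 1 := by
  induction c with
  | zero => simp
  | succ c ih =>
    have e : 2 * (c + 1) + 1 = (2 * c + 1) + 1 + 1 := by ring
    rw [e, Finset.sum_range_succ, Finset.sum_range_succ]
    have h1 : q ^ (2 * c + 1) % 2 = 1 := by rw [Nat.pow_mod, hq, one_pow]; rfl
    have h2 : q ^ (2 * c + 1 + 1) % 2 = 1 := by rw [Nat.pow_mod, hq, one_pow]; rfl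
    have h3 : q ^ (2 * c + 2) % 2 = 1 := h2
    omega

/-- for odd `t`: `2^n ∣ q^t - 1` implies `2^n ∣ q - 1` (`q` odd) -/
theorem two_pow_dvd_sub_one_of_odd {q t n : ℕ} (hq : q % 2 = 1) (ht : t % 2 = 1)
    (h : 2 ^ n ∣ q ^ t - 1) : 2 ^ n ∣ q - 1 := by
  obtain ⟨c, rfl⟩ : ∃ c, t = 2 * c + 1 := ⟨t / 2, by omega⟩
  have hq1 : 1 ≤ q := by omega
  have hgs := geom_sum_mul_add (q - 1) (2 * c + 1)
  rw [Nat.sub_add_cancel hq1] at hgs
  have hfac : q ^ (2 * c + 1) - 1 = (∑ i ∈ Finset.range (2 * c + 1), q ^ i) * (q - 1) := by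
    omega
  rw [hfac] at h
  have hcop : Nat.Coprime (2 ^ n) (∑ i ∈ Finset.range (2 * c + 1), q ^ i) := by
    apply Nat.Coprime.pow_left
    rw [Nat.coprime_two_left, Nat.odd_iff]
    exact geom_sum_odd hq c
  exact hcop.dvd_of_dvd_mul_left h

/-- `v₂(2^i - 2) = 1` for `i ≥ 2` -/
theorem padicValNat_two_pow_sub_two {i : ℕ} (hi : 2 ≤ i) : padicValNat 2 (2 ^ i - 2) = 1 := by
  obtain ⟨l, rfl⟩ : ∃ l, i = l + 2 := ⟨i - 2, by omega⟩
  have e : 2 ^ (l + 2) - 2 = 2 * (2 * 2 ^ l - 1) := by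
    have : 2 ^ (l + 2) = 2 * (2 * 2 ^ l) := by ring
    have hl : 1 ≤ 2 ^ l := Nat.one_le_two_pow
    omega
  have hl : 1 ≤ 2 ^ l := Nat.one_le_two_pow
  rw [e, padicValNat.mul (by norm_num) (by omega), padicValNat_self,
    padicValNat.eq_zero_of_not_dvd (by omega)]

/-- `v₂(2^i + 2) = 1` for `i ≥ 2` -/
theorem padicValNat_two_pow_add_two {i : ℕ} (hi : 2 ≤ i) : padicValNat 2 (2 ^ i + 2) = 1 := by
  obtain ⟨l, rfl⟩ : ∃ l, i = l + 2 := ⟨i - 2, by omega⟩
  have e : 2 ^ (l + 2) + 2 = 2 * (2 * 2 ^ l + 1) := by ring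
  rw [e, padicValNat.mul (by norm_num) (by omega), padicValNat_self,
    padicValNat.eq_zero_of_not_dvd (by omega)]

/-- lifting the exponent at `2`, in divisibility form -/
theorem two_pow_dvd_of_pow_sub_one {q t n u w : ℕ} (hq : q % 2 = 1) (hq1 : 1 < q) (ht0 : 0 < t)
    (hte : t % 2 = 0) (hu : padicValNat 2 (q + 1) = u) (hw : padicValNat 2 (q - 1) = w)
    (h : 2 ^ n ∣ q ^ t - 1) : 2 ^ (n + 1 - u - w) ∣ t := by
  have hlte := padicValNat.pow_two_sub_one hq1 (by omega) (by omega : t ≠ 0)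
    (Nat.even_iff.mpr hte)
  have hne : q ^ t - 1 ≠ 0 := by
    have : 1 < q ^ t := Nat.one_lt_pow (by omega) hq1
    omega
  have hn : n ≤ padicValNat 2 (q ^ t - 1) := (padicValNat_dvd_iff_le hne).mp h
  rw [hu, hw] at hlte
  have : n + 1 - u - w ≤ padicValNat 2 t := by omega
  exact (padicValNat_dvd_iff_le (by omega : t ≠ 0)).mpr this

/-- THE ARITHMETIC OF THE KILL for `p = 2`: `s = q^b` (`q` an odd prime) one of the three
non-trivial square roots of `1` modulo `|B'| = 2^j`, `m · 2^j ≤ 2^n`, `0 < t ≤ 2 b (m - 1)` and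
`2^n ∣ q^t - 1`: then `s = q = 2^j - 1` (a Mersenne prime), `j < n` and `t = 2^(n-j)`. -/
theorem arith_kill_two {q b s j n m t : ℕ} (hq2 : q % 2 = 1) (hq1 : 1 < q) (hb : 1 ≤ b)
    (hs : s = q ^ b)
    (hcase : s + 1 = 2 ^ j ∨ (3 ≤ j ∧ (s + 1 = 2 ^ (j - 1) ∨ s = 2 ^ (j - 1) + 1)))
    (hm : m * 2 ^ j ≤ 2 ^ n) (ht0 : 0 < t) (ht : t ≤ 2 * b * (m - 1))
    (hdvd : 2 ^ n ∣ q ^ t - 1) :
    s + 1 = 2 ^ j ∧ b = 1 ∧ j < n ∧ t = 2 ^ (n - j) ∧ 2 ^ (n - j) < 2 * m := by
  have hq3 : 3 ≤ q := by omega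
  have hm1 : 1 ≤ m := by
    by_contra hcon
    have : m = 0 := by omega
    rw [this] at ht
    omega
  have hjn : j ≤ n := by
    by_contra hcon
    have hlt : 2 ^ n < 2 ^ j := Nat.pow_lt_pow_right (by norm_num) (by omega)
    have : 1 * 2 ^ j ≤ m * 2 ^ j := Nat.mul_le_mul_right _ hm1
    omega
  have hmle : m ≤ 2 ^ (n - j) := by
    have e : 2 ^ n = 2 ^ (n - j) * 2 ^ j := by rw [← pow_add, Nat.sub_add_cancel hjn]
    rw [e] at hm
    exact Nat.le_of_mul_le_mul_right hm (Nat.pos_of_ne_zero (by positivity))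
  have hqb : q ≤ q ^ b := by
    calc q = q ^ 1 := (pow_one q).symm
      _ ≤ q ^ b := Nat.pow_le_pow_right (by omega) hb
  -- odd `t` is impossible once `2^n ∤ q - 1`
  have hodd_contra : ¬ 2 ^ n ∣ q - 1 → t % 2 = 0 := by
    intro hnd
    by_contra hcon
    exact hnd (two_pow_dvd_sub_one_of_odd hq2 (by omega) hdvd)
  have hnotdvd : ∀ k : ℕ, k < n → q - 1 ≠ 0 → padicValNat 2 (q - 1) = k → ¬ 2 ^ n ∣ q - 1 := by
    intro k hk hne hv hd
    have := (padicValNat_dvd_iff_le hne).mp hd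
    omega
  have hqne : q - 1 ≠ 0 := by omega
  rcases hcase with h1 | ⟨hj3, h2 | h3⟩
  · -- `q^b + 1 = 2^j`
    rw [hs] at h1
    have hb1 : b = 1 := pow_add_one_eq_two_pow hq2 hq1 hb h1
    rw [hb1, pow_one] at h1
    have hj2 : 2 ≤ j := by
      by_contra hcon
      have : j ≤ 1 := by omega
      have : 2 ^ j ≤ 2 ^ 1 := Nat.pow_le_pow_right (by norm_num) this
      omega
    have hu : padicValNat 2 (q + 1) = j := by rw [h1, padicValNat.prime_pow]
    have hw : padicValNat 2 (q - 1) = 1 := by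
      have : q - 1 = 2 ^ j - 2 := by omega
      rw [this]
      exact padicValNat_two_pow_sub_two hj2
    have hte : t % 2 = 0 := hodd_contra (hnotdvd 1 (by omega) hqne hw)
    have hd := two_pow_dvd_of_pow_sub_one hq2 hq1 ht0 hte hu hw hdvd
    have e : n + 1 - j - 1 = n - j := by omega
    rw [e] at hd
    rw [hb1] at ht
    have hpos : 0 < 2 ^ (n - j) := Nat.pos_of_ne_zero (by positivity)
    obtain ⟨c, hc⟩ := hd
    have hc1 : c = 1 := by
      rcases Nat.lt_or_ge c 2 with hc2 | hc2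
      · interval_cases c
        · omega
        · rfl
      · exfalso
        have : 2 ^ (n - j) * 2 ≤ 2 ^ (n - j) * c := Nat.mul_le_mul_left _ hc2
        omega
    rw [hc1, mul_one] at hc
    refine ⟨by rw [hs, hb1, pow_one]; exact h1, hb1, ?_, hc, by omega⟩
    by_contra hcon
    have hnj : n - j = 0 := by omega
    rw [hnj, pow_zero] at hmle
    omega
  · -- `q^b + 1 = 2^(j-1)`
    exfalso
    rw [hs] at h2
    have hb1 : b = 1 := pow_add_one_eq_two_pow hq2 hq1 hb h2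
    rw [hb1, pow_one] at h2
    have hu : padicValNat 2 (q + 1) = j - 1 := by rw [h2, padicValNat.prime_pow]
    have hw : padicValNat 2 (q - 1) = 1 := by
      have : q - 1 = 2 ^ (j - 1) - 2 := by omega
      rw [this]
      exact padicValNat_two_pow_sub_two (by omega)
    have hte : t % 2 = 0 := hodd_contra (hnotdvd 1 (by omega) hqne hw)
    have hd := two_pow_dvd_of_pow_sub_one hq2 hq1 ht0 hte hu hw hdvd
    have e : n + 1 - (j - 1) - 1 = n - j + 1 := by omega
    rw [e] at hd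
    have hle := Nat.le_of_dvd ht0 hd
    rw [hb1] at ht
    have : 2 ^ (n - j + 1) = 2 * 2 ^ (n - j) := by ring
    omega
  · -- `q^b = 2^(j-1) + 1`
    exfalso
    rw [hs] at h3
    rcases pow_eq_two_pow_add_one hq2 hq1 hb h3 with hb1 | ⟨hq3', hb2, hk3⟩
    · rw [hb1, pow_one] at h3
      have hw : padicValNat 2 (q - 1) = j - 1 := by
        have : q - 1 = 2 ^ (j - 1) := by omega
        rw [this, padicValNat.prime_pow]
      have hu : padicValNat 2 (q + 1) = 1 := by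
        have : q + 1 = 2 ^ (j - 1) + 2 := by omega
        rw [this]
        exact padicValNat_two_pow_add_two (by omega)
      have hte : t % 2 = 0 := hodd_contra (hnotdvd (j - 1) (by omega) hqne hw)
      have hd := two_pow_dvd_of_pow_sub_one hq2 hq1 ht0 hte hu hw hdvd
      have e : n + 1 - 1 - (j - 1) = n - j + 1 := by omega
      rw [e] at hd
      have hle := Nat.le_of_dvd ht0 hd
      rw [hb1] at ht
      have : 2 ^ (n - j + 1) = 2 * 2 ^ (n - j) := by ring
      omega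
    · have hj4 : j = 4 := by omega
      subst hq3'
      have hu : padicValNat 2 (3 + 1) = 2 := by
        have : (3 + 1 : ℕ) = 2 ^ 2 := by norm_num
        rw [this, padicValNat.prime_pow]
      have hw : padicValNat 2 (3 - 1) = 1 := by
        have : (3 - 1 : ℕ) = 2 := by norm_num
        rw [this, padicValNat_self]
      have hte : t % 2 = 0 := hodd_contra (hnotdvd 1 (by omega) hqne hw)
      have hd := two_pow_dvd_of_pow_sub_one hq2 hq1 ht0 hte hu hw hdvd
      have e : n + 1 - 2 - 1 = n - 2 := by omega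
      rw [e] at hd
      have hle := Nat.le_of_dvd ht0 hd
      rw [hb2] at ht
      have e2 : 2 ^ (n - 2) = 4 * 2 ^ (n - j) := by
        rw [hj4]
        have : n - 2 = (n - 4) + 2 := by omega
        rw [this, pow_add]
        ring
      omega

end Cfsg.Agent.Helper18.SG2
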