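import Mathlib
import Cfsg.Prelude.Def_Local
import Cfsg.Agent.Lib.Helper1.Coprime
import Cfsg.Agent.Lib.Helper4.HHDual
import Cfsg.Agent.Lib.Helper10.Cores
import Cfsg.Agent.Lib.Helper22.PPrimeCore
import Cfsg.Agent.Lib.Helper23.PSolvable

/-!
# `p`-solvable groups: reduction to a coprime action (helper18)

In a `p`-solvable group `G` there are a `p'`-subgroup `Q` and a `p`-subgroup `P` normalising `Q`
with `|P : C_P(Q)| ≥ |G : O_p(G)|_p`.
-/

set_option autoImplicit false
set_option linter.unusedSectionVars false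
set_option linter.style.haveILetI false

namespace Cfsg.Agent.Helper18.PSolvLin

open Cfsg Subgroup
open scoped Pointwise

variable {G : Type*} [Group G]

theorem pCore_quotient_pCore_bot [Finite G] (p : ℕ) [Fact p.Prime] [hU : (pCore p G).Normal] :
    pCore p (G ⧸ pCore p G) = ⊥ := by
  set π := QuotientGroup.mk' (pCore p G) with hπ
  have hπs : Function.Surjective π := QuotientGroup.mk'_surjective _
  haveI hn2 : (pCore p (G ⧸ pCore p G)).Normal := Helper10.pCore_normal p
  have hker : IsPGroup p π.ker := by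
    rw [hπ, QuotientGroup.ker_mk']; exact Helper10.pCore_isPGroup p
  have hL : IsPGroup p ((pCore p (G ⧸ pCore p G)).comap π) :=
    (Helper10.pCore_isPGroup p).comap_of_ker_isPGroup π hker
  have hLn : ((pCore p (G ⧸ pCore p G)).comap π).Normal := Subgroup.Normal.comap hn2 π
  have h1 : (pCore p (G ⧸ pCore p G)).comap π ≤ pCore p G := le_sSup ⟨hLn, hL⟩
  rw [← Subgroup.map_comap_eq_self_of_surjective hπs (pCore p (G ⧸ pCore p G)), eq_bot_iff]
  refine (Subgroup.map_mono h1).trans ?_
  have h2 : pCore p G ≤ π.ker := by rw [hπ, QuotientGroup.ker_mk']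
  exact le_of_eq ((Subgroup.map_eq_bot_iff (pCore p G)).mpr h2)

theorem mem_normalizer_of_conj_smul_eq {Q : Subgroup G} {x : G} (h : MulAut.conj x • Q = Q) :
    x ∈ normalizer (Q : Set G) := by
  rw [mem_normalizer_iff]
  intro y
  constructor
  · intro hy
    have h1 : MulAut.conj x • y ∈ MulAut.conj x • Q := Subgroup.smul_mem_pointwise_smul y _ Q hy
    rw [h] at h1
    simpa using h1
  · intro hy
    have h1 : MulAut.conj x • y ∈ MulAut.conj x • Q := by
      rw [h]
      simpa using hy
    exact (Subgroup.smul_mem_pointwise_smul_iff).1 h1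

set_option maxHeartbeats 1600000 in
/-- **the reduction**: a `p'`-subgroup `Q` and a `p`-subgroup `P` normalising it, with
`|G : O_p(G)|_p * |C_P(Q)| ≤ |P|`. -/
theorem exists_coprime_pair [Finite G] (p : ℕ) [hp : Fact p.Prime] (hsolv : IsPSolvable p G) :
    ∃ Q P : Subgroup G, (Nat.card Q).Coprime p ∧ IsPGroup p P ∧ P ≤ normalizer (Q : Set G) ∧
      p ^ ((pCore p G).index.factorization p) * Nat.card (P ⊓ centralizer (Q : Set G) : Subgroup G)
        ≤ Nat.card P := by
  classical
  haveI hUn : (pCore p G).Normal := Helper10.pCore_normal p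
  obtain ⟨U, hUdef⟩ : ∃ U : Subgroup G, U = pCore p G := ⟨_, rfl⟩
  have hUp : IsPGroup p (pCore p G) := Helper10.pCore_isPGroup p
  set π := QuotientGroup.mk' (pCore p G) with hπ
  have hπs : Function.Surjective π := QuotientGroup.mk'_surjective _
  have hkerπ : π.ker = pCore p G := QuotientGroup.ker_mk' _
  have hO : pCore p (G ⧸ pCore p G) = ⊥ := pCore_quotient_pCore_bot p
  have hsolv' : IsPSolvable p (G ⧸ pCore p G) :=
    Cfsg.Agent.Helper23.PSolv.isPSolvable_quotient (pCore p G) hsolv
  have hHH := Cfsg.Agent.Helper4.HHD.centralizer_pPrimeCore_le hsolv' hO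
  haveI hKbn : (pPrimeCore p (G ⧸ pCore p G)).Normal := Helper22.pPrimeCore_normal p
  have hKbc : (Nat.card (pPrimeCore p (G ⧸ pCore p G))).Coprime p :=
    Helper22.card_pPrimeCore_coprime p
  obtain ⟨Kb, hKb⟩ : ∃ Kb : Subgroup (G ⧸ pCore p G), Kb = pPrimeCore p (G ⧸ pCore p G) :=
    ⟨_, rfl⟩
  rw [← hKb] at hHH hKbc
  haveI hKbn' : Kb.Normal := by rw [hKb]; exact hKbn
  set K : Subgroup G := Kb.comap π with hK
  haveI hKn : K.Normal := Subgroup.Normal.comap hKbn' π
  have hUK : pCore p G ≤ K := by
    intro x hx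
    rw [hK, mem_comap]
    have : π x = 1 := (QuotientGroup.eq_one_iff x).mpr hx
    rw [this]
    exact one_mem _
  have hKmap : K.map π = Kb := map_comap_eq_self_of_surjective hπs Kb
  -- the complement
  haveI hU'n : ((pCore p G).subgroupOf K).Normal := Subgroup.Normal.subgroupOf hUn K
  have hidx : ((pCore p G).subgroupOf K).index = Nat.card Kb := by
    have h1 : ((pCore p G).subgroupOf K).index = (pCore p G).relIndex K := rfl
    rw [h1]
    have h2 := relIndex_ker π (K := K)
    rw [hkerπ, hKmap] at h2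
    exact h2
  have hU'card : Nat.card ((pCore p G).subgroupOf K) = Nat.card (pCore p G) :=
    Nat.card_congr (subgroupOfEquivOfLe hUK).toEquiv
  obtain ⟨u, hu⟩ := IsPGroup.iff_card.mp hUp
  have hcop' : (Nat.card ((pCore p G).subgroupOf K)).Coprime ((pCore p G).subgroupOf K).index := by
    rw [hidx, hU'card, hu]
    exact Nat.Coprime.pow_left u hKbc.symm
  obtain ⟨Q₀, hQ₀⟩ := exists_right_complement'_of_coprime hcop'
  set Q : Subgroup G := Q₀.map K.subtype with hQ
  have hQK : Q ≤ K := by
    rw [hQ]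
    exact map_subtype_le Q₀
  have hQcard : Nat.card Q = Nat.card Kb := by
    rw [← hidx]
    have h1 : Nat.card Q = Nat.card Q₀ :=
      Nat.card_congr (Q₀.equivMapOfInjective K.subtype K.subtype_injective).symm.toEquiv
    rw [h1]
    have := hQ₀.symm.index_eq_card
    exact this.symm
  have hQcop : (Nat.card Q).Coprime p := by rw [hQcard]; exact hKbc
  have hUQ : pCore p G ⊔ Q = K := by
    have h1 : ((pCore p G).subgroupOf K ⊔ Q₀).map K.subtype = K := by
      rw [hQ₀.sup_eq_top, ← MonoidHom.range_eq_map, Subgroup.range_subtype]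
    rw [Subgroup.map_sup] at h1
    have h2 : ((pCore p G).subgroupOf K).map K.subtype = pCore p G := by
      rw [Subgroup.subgroupOf_map_subtype]
      exact inf_eq_left.mpr hUK
    rw [h2] at h1
    exact h1
  have hQmap : Q.map π = Kb := by
    have h1 : (pCore p G ⊔ Q).map π = Kb := by rw [hUQ, hKmap]
    rw [Subgroup.map_sup] at h1
    have h2 : (pCore p G).map π = ⊥ := by
      rw [Subgroup.map_eq_bot_iff, hkerπ]
    rw [h2, bot_sup_eq] at h1
    exact h1
  -- the Frattini argument
  have hQU : Q ≤ normalizer ((pCore p G : Subgroup G) : Set G) := by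
    rw [Subgroup.normalizer_eq_top]
    exact le_top
  have hcopQU : (Nat.card Q).Coprime (Nat.card (pCore p G)) := by
    rw [hu]
    exact Nat.Coprime.pow_right u hQcop
  have hUsolv : Group.IsSolvable (pCore p G) := by
    haveI : Group.IsNilpotent (pCore p G) := hUp.isNilpotent
    infer_instance
  have hfrat : ∀ g : G, ∃ n ∈ pCore p G, n * g ∈ normalizer (Q : Set G) := by
    intro g
    have hB : MulAut.conj g • Q ≤ pCore p G ⊔ Q := by
      rw [hUQ]
      intro x hx
      rw [Cfsg.Agent.Helper1.mem_conj_smul_iff] at hx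
      have h1 := hKn.conj_mem _ (hQK hx) g
      have h2 : g * (g⁻¹ * x * g) * g⁻¹ = x := by group
      rwa [h2] at h1
    obtain ⟨n, hn, hnB⟩ := Cfsg.Agent.Helper1.sz_internal (pCore p G) Q (MulAut.conj g • Q) hQU
      hcopQU (Or.inr hUsolv) hB (Cfsg.Agent.Helper1.card_conj_smul _ _)
    refine ⟨n, hn, ?_⟩
    apply mem_normalizer_of_conj_smul_eq
    rw [map_mul, mul_smul]
    exact hnB
  -- the Sylow subgroup of the normalizer
  set H : Subgroup G := normalizer (Q : Set G) with hH
  obtain ⟨P₁⟩ : Nonempty (Sylow p H) := inferInstance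
  set P : Subgroup G := (P₁ : Subgroup H).map H.subtype with hP
  have hPp : IsPGroup p P := P₁.2.map H.subtype
  have hPH : P ≤ H := by
    rw [hP]
    exact map_subtype_le _
  have hPcard : Nat.card P = p ^ (Nat.card H).factorization p := by
    have h1 : Nat.card P = Nat.card (P₁ : Subgroup H) :=
      Nat.card_congr
        ((P₁ : Subgroup H).equivMapOfInjective H.subtype H.subtype_injective).symm.toEquiv
    rw [h1]
    exact Sylow.card_eq_multiplicity P₁
  -- the order of `H`
  set f : H →* G ⧸ pCore p G := π.comp H.subtype with hf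
  have hfs : Function.Surjective f := by
    intro y
    obtain ⟨g, rfl⟩ := hπs y
    obtain ⟨n, hn, hng⟩ := hfrat g
    refine ⟨⟨n * g, hng⟩, ?_⟩
    show π (n * g) = π g
    rw [map_mul]
    have : π n = 1 := (QuotientGroup.eq_one_iff n).mpr hn
    rw [this, one_mul]
  have hfker : f.ker = (pCore p G).subgroupOf H := by
    rw [hf, ← MonoidHom.comap_ker, hkerπ]
    rfl
  have hHcard : Nat.card H = Nat.card ((pCore p G).subgroupOf H) * (pCore p G).index := by
    have h1 := Subgroup.card_mul_index f.ker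
    have h2 := Subgroup.index_ker f
    rw [MonoidHom.range_eq_top.mpr hfs, Subgroup.card_top] at h2
    rw [h2, hfker] at h1
    rw [← h1, Subgroup.index_eq_card]
  have hUHp : IsPGroup p ((pCore p G).subgroupOf H) := hUp.comap_subtype
  obtain ⟨w, hw⟩ := IsPGroup.iff_card.mp hUHp
  have hidx0 : (pCore p G).index ≠ 0 := Subgroup.index_ne_zero_of_finite
  have hfact : (Nat.card H).factorization p = w + (pCore p G).index.factorization p := by
    rw [hHcard, hw, Nat.factorization_mul (pow_pos hp.out.pos w).ne' hidx0, Finsupp.add_apply,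
      hp.out.factorization_pow, Finsupp.single_eq_same]
  -- the centralizer of `Q` in `P` lies in `O_p(G)`
  have hCU : P ⊓ centralizer (Q : Set G) ≤ pCore p G := by
    intro c hc
    rw [mem_inf] at hc
    have h1 : π c ∈ centralizer (Kb : Set (G ⧸ pCore p G)) := by
      rw [mem_centralizer_iff]
      intro y hy
      rw [← hQmap] at hy
      obtain ⟨q, hq, rfl⟩ := hy
      rw [← map_mul, ← map_mul, (mem_centralizer_iff.mp hc.2) q hq]
    have h2 : π c ∈ Kb := hHH h1
    have h3 : orderOf (π c) ∣ Nat.card Kb := Subgroup.orderOf_dvd_natCard Kb h2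
    obtain ⟨k, hk⟩ := (IsPGroup.iff_orderOf.mp hPp) ⟨c, hc.1⟩
    have h4 : orderOf (π c) ∣ p ^ k := by
      have h5 : orderOf (π c) ∣ orderOf c := orderOf_map_dvd π c
      have h6 : orderOf c = p ^ k := by
        rw [← hk]
        exact (Subgroup.orderOf_mk c hc.1).symm
      rwa [h6] at h5
    have h7 : orderOf (π c) = 1 :=
      Nat.eq_one_of_dvd_coprimes (Nat.Coprime.pow_right k hKbc) h3 h4
    rw [orderOf_eq_one_iff] at h7
    exact (QuotientGroup.eq_one_iff c).mp h7
  have hCcard : Nat.card (P ⊓ centralizer (Q : Set G) : Subgroup G) ≤ p ^ w := by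
    rw [← hw]
    have hle : P ⊓ centralizer (Q : Set G) ≤ pCore p G ⊓ H :=
      le_inf hCU (inf_le_left.trans hPH)
    have h1 := Subgroup.card_le_of_le hle
    have h2 : Nat.card ((pCore p G).subgroupOf H) = Nat.card (pCore p G ⊓ H : Subgroup G) := by
      rw [← Subgroup.inf_subgroupOf_right]
      exact Nat.card_congr (subgroupOfEquivOfLe inf_le_right).toEquiv
    rw [h2]
    exact h1
  refine ⟨Q, P, hQcop, hPp, hPH, ?_⟩
  rw [hPcard, hfact, pow_add, mul_comm]
  exact Nat.mul_le_mul_right _ hCcard

end Cfsg.Agent.Helper18.PSolvLin
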