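import Mathlib
import Cfsg.Agent.Lib.Helper22.BG13E
import Cfsg.Agent.Lib.Helper21.PiSubgroup
import Cfsg.Agent.Lib.Helper20.MinInv

/-!
# Bender-Glauberman section 13, prime action (helper18), part 1: general lemmas

Complements of normal Hall subgroups, commutators in complements, nilpotent normal subgroups and
normal `q`-complements.
-/

set_option autoImplicit false
set_option linter.style.haveILetI false

namespace Cfsg.Agent.Helper18.BG13P

open Cfsg Subgroup
open scoped commutatorElement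

universe u

section typelevel

variable {Mt : Type u} [Group Mt]

/-- if `Mt = E N` with `N` normal and `E ∩ N = 1`, then `E ∩ Mt' = E'` -/
theorem inf_commutator_le_of_compl (N E : Subgroup Mt) [hNn : N.Normal]
    (hfac : ∀ m : Mt, ∃ a ∈ E, ∃ b ∈ N, m = a * b) (hinf : E ⊓ N = ⊥) :
    E ⊓ commutator Mt ≤ ⁅E, E⁆ := by
  rintro x ⟨hxE, hxC⟩
  have htop : E.map (QuotientGroup.mk' N) = ⊤ := by
    rw [eq_top_iff]
    intro y _
    obtain ⟨m, rfl⟩ := QuotientGroup.mk'_surjective N y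
    obtain ⟨a, ha, b, hb, rfl⟩ := hfac m
    refine ⟨a, ha, ?_⟩
    rw [QuotientGroup.mk'_apply, QuotientGroup.mk'_apply, QuotientGroup.eq]
    simpa using hb
  have h0 : (commutator Mt).map (QuotientGroup.mk' N) ≤ commutator (Mt ⧸ N) := by
    rw [_root_.commutator_def, Subgroup.map_commutator, _root_.commutator_def]
    exact Subgroup.commutator_mono le_top le_top
  have h1 : (QuotientGroup.mk' N) x ∈ commutator (Mt ⧸ N) :=
    h0 (Subgroup.mem_map_of_mem _ hxC)
  have h2 : commutator (Mt ⧸ N) = (⁅E, E⁆).map (QuotientGroup.mk' N) := by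
    rw [Subgroup.map_commutator, htop, _root_.commutator_def]
  rw [h2] at h1
  obtain ⟨e, he, hex⟩ := h1
  have h3 : e⁻¹ * x ∈ N := QuotientGroup.eq.mp hex
  have heE : e ∈ E := Cfsg.Agent.Helper22.BG13.commutator_self_le E he
  have h4 : e⁻¹ * x ∈ E ⊓ N := ⟨E.mul_mem (E.inv_mem heE) hxE, h3⟩
  rw [hinf, Subgroup.mem_bot, inv_mul_eq_one] at h4
  rw [← h4]; exact he

/-- a group with a normal `q`-complement: the complement contains all `q'`-elements -/
theorem exists_normal_of_hasNormalPComplement [Finite Mt] {q : ℕ} [Fact q.Prime]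
    (h : HasNormalPComplement q Mt) :
    ∃ N : Subgroup Mt, N.Normal ∧ (Nat.card ↥N).Coprime q ∧
      ∀ x : Mt, (orderOf x).Coprime q → x ∈ N := by
  obtain ⟨P, N, hN, hc⟩ := h
  have hq : q.Prime := Fact.out
  have hidx : N.index = Nat.card ↥(P : Subgroup Mt) := hc.symm.index_eq_card
  have hidx' : (P : Subgroup Mt).index = Nat.card ↥N := hc.index_eq_card
  obtain ⟨k, hk⟩ := P.isPGroup'.exists_card_eq
  refine ⟨N, hN, ?_, ?_⟩
  · have h1 := P.card_coprime_index
    rw [hidx', hk] at h1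
    rcases Nat.eq_zero_or_pos k with h0 | h0
    · by_contra hnc
      have hqd : q ∣ Nat.card ↥N := by
        rcases Nat.coprime_or_dvd_of_prime hq (Nat.card ↥N) with h | h
        · exact absurd h.symm hnc
        · exact h
      have hqM : q ∣ Nat.card Mt := hqd.trans (Subgroup.card_subgroup_dvd_card N)
      have := P.card_eq_multiplicity
      rw [hk, h0, pow_zero] at this
      have h2 : (Nat.card Mt).factorization q = 0 := by
        by_contra hne
        have : 1 < q ^ (Nat.card Mt).factorization q := Nat.one_lt_pow hne hq.one_lt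
        omega
      rcases (Nat.factorization_eq_zero_iff _ _).mp h2 with h | h | h
      · exact h hq
      · exact h hqM
      · exact (Nat.card_pos (α := Mt)).ne' h
    · exact (Nat.Coprime.coprime_dvd_left (dvd_pow_self q h0.ne') h1).symm
  · intro x hx
    haveI := hN
    rw [← QuotientGroup.eq_one_iff]
    have h1 : orderOf ((x : Mt ⧸ N)) ∣ orderOf x := orderOf_map_dvd (QuotientGroup.mk' N) x
    have h2 : orderOf ((x : Mt ⧸ N)) ∣ q ^ k := by
      have := orderOf_dvd_natCard ((x : Mt ⧸ N))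
      rwa [← Subgroup.index_eq_card, hidx, hk] at this
    have h3 : (orderOf ((x : Mt ⧸ N))).Coprime (q ^ k) :=
      Nat.Coprime.coprime_dvd_left h1 (Nat.Coprime.pow_right k hx)
    have h4 : orderOf ((x : Mt ⧸ N)) = 1 := Nat.eq_one_of_dvd_coprimes h3 (dvd_refl _) h2
    exact orderOf_eq_one_iff.mp h4

end typelevel

section sub

variable {G : Type u} [Group G]

/-- transport: a complement in the group `↥H` gives `IsComplIn` in `G` -/
theorem isComplIn_of_isComplement_aux {H : Subgroup G} {S E : Subgroup ↥H}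
    (h : Subgroup.IsComplement' S E) :
    IsComplIn (E.map H.subtype) (S.map H.subtype) H := by
  refine ⟨Subgroup.map_subtype_le _, Subgroup.map_subtype_le _, ?_, ?_⟩
  · rw [← Subgroup.map_inf _ _ _ H.subtype_injective]
    have := h.symm.disjoint
    rw [disjoint_iff] at this
    rw [this, Subgroup.map_bot]
  · intro m hm
    obtain ⟨⟨⟨e, he⟩, ⟨s, hs⟩⟩, hes, -⟩ := h.symm.existsUnique ⟨m, hm⟩
    refine ⟨e, ⟨e, he, rfl⟩, s, ⟨s, hs, rfl⟩, ?_⟩
    have := congrArg (fun z : ↥H => (z : G)) hes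
    simpa using this.symm

/-- a normal Hall subgroup `N` of the solvable group `H` has a complement containing any given
subgroup of order prime to `|N|` -/
theorem exists_isComplIn_ge [Finite G] {H N Y : Subgroup G} (hsolv : Group.IsSolvable ↥H)
    (hNH : N ≤ H) (hcop : (Nat.card ↥N).Coprime (N.relIndex H))
    (hYH : Y ≤ H) (hY : (Nat.card ↥Y).Coprime (Nat.card ↥N)) :
    ∃ E : Subgroup G, IsComplIn E N H ∧ Y ≤ E := by
  haveI := hsolv
  have hcard : Nat.card ↥H = N.relIndex H * Nat.card ↥N :=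
    (Cfsg.Agent.Helper7.relIndex_mul_card_of_le hNH).symm
  have hcN : Nat.card ↥(N.subgroupOf H) = Nat.card ↥N :=
    Nat.card_congr (Subgroup.subgroupOfEquivOfLe hNH).toEquiv
  have hcY : Nat.card ↥(Y.subgroupOf H) = Nat.card ↥Y :=
    Nat.card_congr (Subgroup.subgroupOfEquivOfLe hYH).toEquiv
  obtain ⟨H₁, hH₁, hYH₁⟩ := Cfsg.Agent.Helper1.hall_contain (N.relIndex H) (Nat.card ↥N) hcard
    hcop.symm (Y.subgroupOf H) (by rw [hcY]; exact hY)
  have hc : Subgroup.IsComplement' (N.subgroupOf H) H₁ :=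
    Subgroup.isComplement'_of_coprime (by rw [hcN, hH₁, mul_comm]; exact hcard.symm)
      (by rw [hcN, hH₁]; exact hcop)
  refine ⟨H₁.map H.subtype, ?_, ?_⟩
  · have := isComplIn_of_isComplement_aux hc
    rwa [Subgroup.map_subgroupOf_eq_of_le hNH] at this
  · intro y hy
    exact ⟨⟨y, hYH hy⟩, hYH₁ (Subgroup.mem_subgroupOf.mpr hy), rfl⟩

/-- if `H = E N` with `N` normal in `H` and `E ∩ N = 1`, a subgroup of `E ∩ H'` lies in `E'` -/
theorem le_commutator_of_isComplIn {H N E R : Subgroup G} (hc : IsComplIn E N H)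
    (hHN : H ≤ normalizer (N : Set G)) (hRE : R ≤ E) (hRH : R ≤ ⁅H, H⁆) : R ≤ ⁅E, E⁆ := by
  obtain ⟨hEH, hNH, hinf, hfac⟩ := hc
  haveI hn : (N.subgroupOf H).Normal :=
    (Subgroup.normal_subgroupOf_iff_le_normalizer hNH).mpr hHN
  have hfac' : ∀ m : ↥H, ∃ a ∈ E.subgroupOf H, ∃ b ∈ N.subgroupOf H, m = a * b := by
    intro m
    obtain ⟨a, ha, b, hb, hab⟩ := hfac m.1 m.2
    exact ⟨⟨a, hEH ha⟩, Subgroup.mem_subgroupOf.mpr ha, ⟨b, hNH hb⟩,
      Subgroup.mem_subgroupOf.mpr hb, Subtype.ext hab⟩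
  have hinf' : E.subgroupOf H ⊓ N.subgroupOf H = ⊥ := by
    rw [eq_bot_iff]
    rintro x ⟨h1, h2⟩
    have h3 : (x : G) ∈ E ⊓ N := ⟨Subgroup.mem_subgroupOf.mp h1, Subgroup.mem_subgroupOf.mp h2⟩
    rw [hinf, Subgroup.mem_bot] at h3
    exact Subgroup.mem_bot.mpr (Subtype.ext h3)
  have key := inf_commutator_le_of_compl (N.subgroupOf H) (E.subgroupOf H) hfac' hinf'
  intro x hx
  have hxH : x ∈ H := hEH (hRE hx)
  have h1 : (⟨x, hxH⟩ : ↥H) ∈ commutator ↥H := by
    have h2 : x ∈ (commutator ↥H).map H.subtype := by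
      rw [Subgroup.map_subtype_commutator]; exact hRH hx
    obtain ⟨y, hy, hyx⟩ := h2
    have : y = ⟨x, hxH⟩ := Subtype.ext hyx
    rwa [← this]
  have h3 : (⟨x, hxH⟩ : ↥H) ∈ ⁅E.subgroupOf H, E.subgroupOf H⁆ :=
    key ⟨Subgroup.mem_subgroupOf.mpr (hRE hx), h1⟩
  have h4 : x ∈ (⁅E.subgroupOf H, E.subgroupOf H⁆).map H.subtype := ⟨_, h3, rfl⟩
  rwa [Subgroup.map_commutator, Subgroup.map_subgroupOf_eq_of_le hEH] at h4

/-- a normal `p`-subgroup `A` of `E` centralizes every `p'`-subgroup of a nilpotent normal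
subgroup `T` of `E` -/
theorem le_centralizer_of_nilpotent_normal [Finite G] {E T A R : Subgroup G} {p : ℕ}
    [Fact p.Prime] (hTE : T ≤ E) (hET : E ≤ normalizer (T : Set G))
    (hT : Group.IsNilpotent ↥T) (hAE : A ≤ E) (hEA : E ≤ normalizer (A : Set G))
    (hA : IsPGroup p ↥A) (hRT : R ≤ T) (hR : (Nat.card ↥R).Coprime p) :
    A ≤ centralizer (R : Set G) := by
  obtain ⟨k, hk⟩ := hA.exists_card_eq
  have hRA : R ≤ normalizer (A : Set G) := (hRT.trans hTE).trans hEA
  apply Cfsg.Agent.Helper20.MinInv.le_centralizer_of_comm_comm_eq_bot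
    (by rw [hk]; exact Nat.Coprime.pow_right k hR) hRA
  have h1 : ⁅A, R⁆ ≤ A ⊓ T := by
    apply le_inf (Cfsg.Agent.Helper20.MinInv.comm_le_of_le_normalizer hRA)
    rw [Subgroup.commutator_le]
    intro a ha r hr
    have h2 : a * r * a⁻¹ ∈ T :=
      (Subgroup.mem_normalizer_iff.mp (hET (hAE ha)) r).mp (hRT hr)
    have : ⁅a, r⁆ = a * r * a⁻¹ * r⁻¹ := commutatorElement_def a r
    rw [this]
    exact T.mul_mem h2 (T.inv_mem (hRT hr))
  rw [eq_bot_iff]
  refine (Subgroup.commutator_mono h1 le_rfl).trans ?_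
  rw [Subgroup.commutator_le]
  intro x hx r hr
  rw [Subgroup.mem_bot, commutatorElement_eq_one_iff_commute]
  have hox : ∃ j, orderOf x = p ^ j := by
    obtain ⟨j, hj⟩ := hA ⟨x, hx.1⟩
    have h3 : x ^ p ^ j = 1 := by simpa using congrArg Subtype.val hj
    exact (Nat.dvd_prime_pow Fact.out).mp (orderOf_dvd_of_pow_eq_one h3) |>.imp fun i hi => hi.2
  obtain ⟨j, hj⟩ := hox
  have hor : (orderOf r).Coprime p :=
    Nat.Coprime.coprime_dvd_left (by
      have := orderOf_dvd_natCard (⟨r, hr⟩ : ↥R)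
      rwa [Subgroup.orderOf_mk] at this) hR
  exact Cfsg.Agent.Helper21.commute_of_mem_of_nilpotent hT hx.2 (hRT hr)
    (by rw [hj]; exact (Nat.Coprime.pow_right j hor).symm)

/-- the commutator of two subgroups normalized by `K` is normalized by `K` -/
theorem le_normalizer_commutator_of_le {K A B : Subgroup G} (hA : K ≤ normalizer (A : Set G))
    (hB : K ≤ normalizer (B : Set G)) : K ≤ normalizer ((⁅A, B⁆ : Subgroup G) : Set G) := by
  intro k hk
  apply Cfsg.Agent.Helper15.mem_normalizer_of_map_conj_eq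
  rw [Subgroup.map_commutator, Cfsg.Agent.Helper15.map_conj_eq_of_mem_normalizer (hA hk),
    Cfsg.Agent.Helper15.map_conj_eq_of_mem_normalizer (hB hk)]

/-- the intersection of two subgroups normalized by `K` is normalized by `K` -/
theorem le_normalizer_inf_of_le {K A B : Subgroup G} (hA : K ≤ normalizer (A : Set G))
    (hB : K ≤ normalizer (B : Set G)) : K ≤ normalizer ((A ⊓ B : Subgroup G) : Set G) := by
  intro k hk
  rw [Subgroup.mem_normalizer_iff]
  intro x
  exact ⟨fun ⟨h1, h2⟩ => ⟨(Subgroup.mem_normalizer_iff.mp (hA hk) x).mp h1,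
      (Subgroup.mem_normalizer_iff.mp (hB hk) x).mp h2⟩,
    fun ⟨h1, h2⟩ => ⟨(Subgroup.mem_normalizer_iff.mp (hA hk) x).mpr h1,
      (Subgroup.mem_normalizer_iff.mp (hB hk) x).mpr h2⟩⟩

end sub

end Cfsg.Agent.Helper18.BG13P
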