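import Mathlib
import Cfsg.Agent.Lib.Helper20.E8TLat
import Cfsg.Agent.Lib.Helper18.E8TPD8

/-!
# S2375, piece FINORD: the integral isometries permuting the roots
-/

set_option autoImplicit false

namespace Cfsg.Agent.Helper20.E8T

theorem isw_one : IsW 1 := by
  refine ⟨by rw [Matrix.transpose_one, Matrix.one_mul, Matrix.mul_one], ?_⟩
  intro v hv
  exact ⟨v, hv, Matrix.one_mulVec _⟩

theorem isw_mul {M M' : Matrix (Fin 8) (Fin 8) ℤ} (h : IsW M) (h' : IsW M') : IsW (M * M') := by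
  refine ⟨?_, ?_⟩
  · rw [Matrix.transpose_mul]
    calc M'.transpose * M.transpose * C8 * (M * M')
        = M'.transpose * (M.transpose * C8 * M) * M' := by
          simp only [Matrix.mul_assoc]
      _ = C8 := by rw [h.1, h'.1]
  · intro v hv
    obtain ⟨v', hv', e'⟩ := h'.2 v hv
    obtain ⟨v'', hv'', e''⟩ := h.2 v' hv'
    exact ⟨v'', hv'', by rw [← Matrix.mulVec_mulVec, e', e'']⟩

theorem isw_pow {M : Matrix (Fin 8) (Fin 8) ℤ} (h : IsW M) (k : ℕ) : IsW (M ^ k) := by
  induction k with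
  | zero => rw [pow_zero]; exact isw_one
  | succ k ih => rw [pow_succ]; exact isw_mul ih h

theorem isw_det {M : Matrix (Fin 8) (Fin 8) ℤ} (h : IsW M) : IsUnit M.det := by
  have h1 := congrArg Matrix.det h.1
  rw [Matrix.det_mul, Matrix.det_mul, Matrix.det_transpose, c8_det, mul_one] at h1
  exact IsUnit.of_mul_eq_one _ h1

theorem isw_injective {M : Matrix (Fin 8) (Fin 8) ℤ} (h : IsW M) : Function.Injective M.mulVec := by
  intro y z hyz
  have hinv := Matrix.nonsing_inv_mul M (isw_det h)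
  have := congrArg (M⁻¹).mulVec hyz
  rwa [Matrix.mulVec_mulVec, Matrix.mulVec_mulVec, hinv, Matrix.one_mulVec, Matrix.one_mulVec] at this

theorem isw_ip {M : Matrix (Fin 8) (Fin 8) ℤ} (h : IsW M) (y z : Fin 8 → ℤ) :
    ip (M.mulVec y) (M.mulVec z) = ip y z := by
  unfold ip
  rw [Matrix.mulVec_mulVec, ← Matrix.vecMul_transpose, ← Matrix.dotProduct_mulVec, Matrix.mulVec_mulVec,
    ← Matrix.mul_assoc, h.1]

/-- a matrix that fixes all the roots is `1` -/
theorem isw_eq_one {M : Matrix (Fin 8) (Fin 8) ℤ} (h : ∀ v < 240, M.mulVec (rc v) = rc v) : M = 1 := by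
  apply Matrix.ext_of_mulVec_single
  intro i
  have := h (sIdx i) (sIdx_lt i)
  rw [rc_sIdx] at this
  rw [this, Matrix.one_mulVec]

/-- `M` permutes the finite set of roots, which spans: finite order -/
theorem isw_finorder {M : Matrix (Fin 8) (Fin 8) ℤ} (h : IsW M) : ∃ e : ℕ, 0 < e ∧ M ^ e = 1 := by
  classical
  have hex : ∀ k : ℕ, ∀ i : Fin 8, ∃ v' : Fin 240, (M ^ k).mulVec (rc (sIdx i)) = rc v'.val := by
    intro k i
    obtain ⟨v', hv', e⟩ := (isw_pow h k).2 (sIdx i) (sIdx_lt i)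
    exact ⟨⟨v', hv'⟩, e⟩
  choose f hf using hex
  obtain ⟨a, b, hab, hfab⟩ := Finite.exists_ne_map_eq_of_infinite f
  -- `M ^ a = M ^ b`
  have hpow : M ^ a = M ^ b := by
    apply Matrix.ext_of_mulVec_single
    intro i
    have h1 := hf a i
    have h2 := hf b i
    rw [rc_sIdx] at h1 h2
    rw [h1, h2, hfab]
  have key : ∀ a b : ℕ, a < b → M ^ a = M ^ b → ∃ e : ℕ, 0 < e ∧ M ^ e = 1 := by
    intro a b hlt hpow
    refine ⟨b - a, by omega, ?_⟩
    have hb : b = a + (b - a) := by omega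
    rw [hb, pow_add] at hpow
    have hinv := Matrix.nonsing_inv_mul (M ^ a) (isw_det (isw_pow h a))
    have h3 : (M ^ a)⁻¹ * M ^ a = (M ^ a)⁻¹ * (M ^ a * M ^ (b - a)) := by rw [← hpow]
    rw [← Matrix.mul_assoc, hinv, Matrix.one_mul] at h3
    exact h3.symm
  rcases lt_or_gt_of_ne hab with hlt | hlt
  · exact key a b hlt hpow
  · exact key b a hlt hpow.symm

end Cfsg.Agent.Helper20.E8T
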