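import Mathlib
import Cfsg.Agent.Lib.Helper20.E8TLat
import Cfsg.Agent.Lib.Helper18.E8TPD8
import Cfsg.Agent.Lib.Helper18.E8TFINORD
import Cfsg.Agent.Lib.Helper3.E8TIRR

/-!
# S2375, piece NORM: the nonzero vectors of `(q - M) ℤ⁸` are long
-/

set_option autoImplicit false

namespace Cfsg.Agent.Helper20.E8T

theorem norm_lower (q : ℕ) (M : Matrix (Fin 8) (Fin 8) ℤ) (hM : IsGood M) (z : Fin 8 → ℤ) (hz : z ≠ 0) :
    2 * ((q : ℤ) - 1) ^ 2 + 2 * (q : ℤ) ≤ ip ((qM q M).mulVec z) ((qM q M).mulVec z) := by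
  have hA : 2 ≤ ip z z := ip_self_ge_two z hz
  have hMM : ip (M.mulVec z) (M.mulVec z) = ip z z := isw_ip hM.1 z z
  -- `M z - z ≠ 0`
  have hne : M.mulVec z - z ≠ 0 := by
    intro h
    exact hz (no_fixed M hM.2 z (sub_eq_zero.1 h))
  have hB : 2 ≤ ip (M.mulVec z - z) (M.mulVec z - z) := ip_self_ge_two _ hne
  have e1 : ip (M.mulVec z - z) (M.mulVec z - z) = 2 * ip z z - 2 * ip z (M.mulVec z) := by
    rw [ip_sub_left, ip_sub_right, ip_sub_right, hMM, ip_comm (M.mulVec z) z]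
    ring
  have e2 : ip ((qM q M).mulVec z) ((qM q M).mulVec z) =
      ((q : ℤ) ^ 2 + 1) * ip z z - 2 * (q : ℤ) * ip z (M.mulVec z) := by
    rw [qM_mulVec, ip_sub_left, ip_sub_right, ip_sub_right, ip_smul_left, ip_smul_left, ip_smul_right,
      ip_smul_right, hMM, ip_comm (M.mulVec z) z]
    ring
  rw [e2]
  rw [e1] at hB
  have hq : (0 : ℤ) ≤ (q : ℤ) := Int.natCast_nonneg q
  nlinarith [sq_nonneg ((q : ℤ) - 1), mul_nonneg hq (by linarith : (0 : ℤ) ≤ ip z z - 1 - ip z (M.mulVec z)),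
    mul_nonneg (sq_nonneg ((q : ℤ) - 1)) (by linarith : (0 : ℤ) ≤ ip z z - 2)]

end Cfsg.Agent.Helper20.E8T
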