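import Mathlib

/-!
# S2522 (Lev): every non-scalar `g ∈ SL_n(K)`, `n ≥ 3`, `|K| ≥ 4`, is a product of two regular
unipotent elements.  DEFINITIONS for the farm-out (helper18).  Plan: plans/S2522_plan.md.

`PP n g x0 y0` : the induction predicate (`g = B ∘ C`, `B`, `C` regular unipotent, with the two
constraints `(B-1)^(n-1) x0 ≠ 0`, `y0 ∘ (C-1)^(n-1) ≠ 0`).
`HH g` : the class (non-scalar, `rank (g-1) ≥ 2`).
`child g e φ` : the compression of `g` to `ker φ` along `g e` (used when `φ e = 1 = φ (g e)`).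
-/

set_option autoImplicit false

namespace Cfsg.Agent.Helper18.Lev

open Module

variable {K : Type*} [Field K] {V : Type*} [AddCommGroup V] [Module K V]

/-- regular unipotent of size `n` -/
def RegU (n : ℕ) (B : V →ₗ[K] V) : Prop :=
  (B - LinearMap.id : Module.End K V) ^ n = 0 ∧ (B - LinearMap.id : Module.End K V) ^ (n - 1) ≠ 0

/-- the induction predicate -/
def PP (n : ℕ) (g : V →ₗ[K] V) (x0 : V) (y0 : V →ₗ[K] K) : Prop :=
  ∃ B C : V →ₗ[K] V, g = B ∘ₗ C ∧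
    (B - LinearMap.id : Module.End K V) ^ n = 0 ∧ (C - LinearMap.id : Module.End K V) ^ n = 0 ∧
    ((B - LinearMap.id : Module.End K V) ^ (n - 1)) x0 ≠ 0 ∧
    y0 ∘ₗ ((C - LinearMap.id : Module.End K V) ^ (n - 1)) ≠ 0

/-- the class: non-scalar and `rank (g - 1) ≥ 2` -/
def HH (g : V →ₗ[K] V) : Prop :=
  (∀ c : K, g ≠ c • LinearMap.id) ∧ 2 ≤ finrank K (LinearMap.range (g - LinearMap.id))

/-- the map `v ↦ φ a • v - φ v • a` into `ker φ` (the projection along `a` when `φ a = 1`) -/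
def prK (a : V) (φ : V →ₗ[K] K) : V →ₗ[K] ↥(LinearMap.ker φ) :=
  LinearMap.codRestrict (LinearMap.ker φ) (φ a • LinearMap.id - φ.smulRight a)
    (by intro v; simp [LinearMap.mem_ker, mul_comm])

@[simp] theorem prK_coe (a : V) (φ : V →ₗ[K] K) (v : V) :
    ((prK a φ v : ↥(LinearMap.ker φ)) : V) = φ a • v - φ v • a := by
  show (φ a • LinearMap.id - φ.smulRight a : V →ₗ[K] V) v = _
  simp

/-- the compression of `g` to `ker φ` along `g e` -/
def child (g : V →ₗ[K] V) (e : V) (φ : V →ₗ[K] K) :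
    ↥(LinearMap.ker φ) →ₗ[K] ↥(LinearMap.ker φ) :=
  (prK (g e) φ) ∘ₗ g ∘ₗ (LinearMap.ker φ).subtype

@[simp] theorem child_coe (g : V →ₗ[K] V) (e : V) (φ : V →ₗ[K] K) (w : ↥(LinearMap.ker φ)) :
    ((child g e φ w : ↥(LinearMap.ker φ)) : V) = φ (g e) • g (w : V) - φ (g (w : V)) • g e := by
  simp [child]

/-- the vector constraint handed to the child: `g e - e` (when `φ e = 1 = φ (g e)`) -/
def childX (g : V →ₗ[K] V) (e : V) (φ : V →ₗ[K] K) : ↥(LinearMap.ker φ) := prK e φ (g e)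

@[simp] theorem childX_coe (g : V →ₗ[K] V) (e : V) (φ : V →ₗ[K] K) :
    ((childX g e φ : ↥(LinearMap.ker φ)) : V) = φ e • g e - φ (g e) • e := by
  simp [childX]

/-- the functional constraint handed to the child: `φ ∘ g` restricted to `ker φ` -/
def childY (g : V →ₗ[K] V) (φ : V →ₗ[K] K) : ↥(LinearMap.ker φ) →ₗ[K] K :=
  φ ∘ₗ g ∘ₗ (LinearMap.ker φ).subtype

@[simp] theorem childY_apply (g : V →ₗ[K] V) (φ : V →ₗ[K] K) (w : ↥(LinearMap.ker φ)) :
    childY g φ w = φ (g (w : V)) := rfl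

theorem child_coe' (g : V →ₗ[K] V) (e : V) (φ : V →ₗ[K] K) (hge : φ (g e) = 1)
    (w : ↥(LinearMap.ker φ)) :
    ((child g e φ w : ↥(LinearMap.ker φ)) : V) = g (w : V) - φ (g (w : V)) • g e := by
  simp [hge]

theorem childX_coe' (g : V →ₗ[K] V) (e : V) (φ : V →ₗ[K] K) (he : φ e = 1) (hge : φ (g e) = 1) :
    ((childX g e φ : ↥(LinearMap.ker φ)) : V) = g e - e := by
  simp [he, hge]

end Cfsg.Agent.Helper18.Lev
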