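import Mathlib
import Cfsg.Agent.Lib.Helper10.TMDefs

/-!
# S2930 piece HN (helper18): the stabiliser of the `N`-orbit relation
-/

set_option autoImplicit false

namespace Cfsg.Agent.Helper10.TM

open Equiv Equiv.Perm Cfsg.Agent.Helper11.AutAlt
open scoped Pointwise

variable {n : ℕ}

theorem hn_orb_refl (N : Subgroup (Alt n)) (x : Fin n) : x ∈ orb N x :=
  ⟨1, N.one_mem, by simp⟩

theorem hn_orb_symm {N : Subgroup (Alt n)} {x y : Fin n} (h : y ∈ orb N x) : x ∈ orb N y := by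
  obtain ⟨s, hs, rfl⟩ := h
  refine ⟨s⁻¹, N.inv_mem hs, ?_⟩
  simp

theorem hn_orb_trans {N : Subgroup (Alt n)} {x y z : Fin n} (h : y ∈ orb N x)
    (h' : z ∈ orb N y) : z ∈ orb N x := by
  obtain ⟨s, hs, rfl⟩ := h
  obtain ⟨t, ht, rfl⟩ := h'
  refine ⟨t * s, N.mul_mem ht hs, ?_⟩
  simp

theorem hn_c3_apply (a b c z : Fin n) (ab : a ≠ b) (ac : a ≠ c) (bc : b ≠ c) :
    (c3 a b c z = z ∧ z ≠ a ∧ z ≠ b ∧ z ≠ c) ∨ (z = a ∧ c3 a b c z = b) ∨
      (z = b ∧ c3 a b c z = c) ∨ (z = c ∧ c3 a b c z = a) := by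
  by_cases hza : z = a
  · subst hza
    right; left
    refine ⟨rfl, ?_⟩
    simp [c3, swap_apply_def, ab, ac, bc]
  by_cases hzb : z = b
  · subst hzb
    right; right; left
    refine ⟨rfl, ?_⟩
    simp [c3, swap_apply_def, bc.symm, ac.symm]
  by_cases hzc : z = c
  · subst hzc
    right; right; right
    refine ⟨rfl, ?_⟩
    simp [c3, swap_apply_def]
  · left
    refine ⟨?_, hza, hzb, hzc⟩
    simp [c3, swap_apply_def, hza, hzb, hzc]

/-- HN -/
theorem le_RStab_Rn (S N : Subgroup (Alt n)) (hNS : N ≤ S)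
    (hnorm : ∀ s ∈ S, ∀ ν ∈ N, s * ν * s⁻¹ ∈ N) : S ≤ RStab (Rn N) := by
  intro s hs
  rw [mem_RStab]
  intro x y
  constructor
  · rintro ⟨ν, hν, rfl⟩
    refine ⟨s * ν * s⁻¹, hnorm s hs ν hν, ?_⟩
    simp
  · rintro ⟨ν, hν, h⟩
    refine ⟨s⁻¹ * ν * s, ?_, ?_⟩
    · have := hnorm s⁻¹ (S.inv_mem hs) ν hν
      simpa using this
    · have h2 : (s : Perm (Fin n))⁻¹ ((ν : Perm (Fin n)) ((s : Perm (Fin n)) x)) = y := by
        rw [h]; simp
      simpa using h2

theorem RStab_Rn_ne_top (N : Subgroup (Alt n)) (x y w : Fin n) (hxy : y ∈ orb N x) (hne : y ≠ x)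
    (hw : w ∉ orb N x) : RStab (Rn N) ≠ ⊤ := by
  intro htop
  have hxw : x ≠ w := by
    rintro rfl
    exact hw (hn_orb_refl N x)
  have hyw : y ≠ w := by
    rintro rfl
    exact hw hxy
  have h3 : (c3 x y w).IsThreeCycle := c3_isThreeCycle hne.symm hxw hyw
  let g : Alt n := ⟨c3 x y w, h3.mem_alternatingGroup⟩
  have hg : g ∈ RStab (Rn N) := by rw [htop]; exact Subgroup.mem_top g
  rw [mem_RStab] at hg
  have h1 := (hg x y).1 hxy
  have e1 : (g : Perm (Fin n)) x = y := by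
    show c3 x y w x = y
    rcases hn_c3_apply x y w x hne.symm hxw hyw with h | h | h | h
    · exact absurd rfl h.2.1
    · exact h.2
    · exact absurd h.1 hne.symm
    · exact absurd h.1 hxw
  have e2 : (g : Perm (Fin n)) y = w := by
    show c3 x y w y = w
    rcases hn_c3_apply x y w y hne.symm hxw hyw with h | h | h | h
    · exact absurd rfl h.2.2.1
    · exact absurd h.1 hne
    · exact h.2
    · exact absurd h.1 hyw
  rw [e1, e2] at h1
  exact hw (hn_orb_trans hxy h1)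

theorem c3_mem_RStab_Rn (N : Subgroup (Alt n)) (x u v : Fin n) (hxu : x ≠ u) (hxv : x ≠ v)
    (huv : u ≠ v) (hu : u ∈ orb N x) (hv : v ∈ orb N x) :
    ∃ g : Alt n, (g : Perm (Fin n)) = c3 x u v ∧ g ∈ RStab (Rn N) := by
  have h3 : (c3 x u v).IsThreeCycle := c3_isThreeCycle hxu hxv huv
  refine ⟨⟨c3 x u v, h3.mem_alternatingGroup⟩, rfl, ?_⟩
  rw [mem_RStab]
  have key : ∀ z : Fin n, c3 x u v z ∈ orb N z := by
    intro z
    rcases hn_c3_apply x u v z hxu hxv huv with h | h | h | h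
    · rw [h.1]; exact hn_orb_refl N z
    · rw [h.2, h.1]; exact hu
    · rw [h.2, h.1]; exact hn_orb_trans (hn_orb_symm hu) hv
    · rw [h.2, h.1]; exact hn_orb_symm hv
  intro a b
  show b ∈ orb N a ↔ c3 x u v b ∈ orb N (c3 x u v a)
  constructor
  · intro h
    exact hn_orb_trans (hn_orb_trans (hn_orb_symm (key a)) h) (key b)
  · intro h
    exact hn_orb_trans (hn_orb_trans (key a) h) (hn_orb_symm (key b))

end Cfsg.Agent.Helper10.TM
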