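import Mathlib
import Cfsg.Prelude.Def_Blocks
import Cfsg.Agent.S0190
import Cfsg.Agent.Lib.Helper24.CharInduced
import Cfsg.Agent.Lib.Helper24.CharOrtho

/-!
# Permutation characters and orbit counting (helper18's library)
-/

set_option autoImplicit false

namespace Cfsg.Agent.Helper18

open Cfsg Cfsg.Agent.Helper24
open scoped ComplexConjugate

universe u v

section

variable {G : Type u} [Group G] [Fintype G] {X : Type v} [MulAction G X] [Finite X]

/-- The permutation character. -/
noncomputable def permChar (G : Type u) (X : Type v) [Group G] [MulAction G X] : G → ℂ :=
  fun g => (Nat.card (MulAction.fixedBy X g) : ℂ)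

omit [Fintype G] [Finite X] in
theorem permChar_apply (g : G) : permChar G X g = (Nat.card (MulAction.fixedBy X g) : ℂ) := rfl

omit [Fintype G] [Finite X] in
theorem isClassFunction_permChar : IsClassFunction G (permChar G X) := by
  intro g h
  unfold permChar
  congr 1
  apply Nat.card_congr
  refine
    { toFun := fun x => ⟨h⁻¹ • (x : X), ?_⟩
      invFun := fun x => ⟨h • (x : X), ?_⟩
      left_inv := fun x => by apply Subtype.ext; simp
      right_inv := fun x => by apply Subtype.ext; simp }
  · have hx := x.2
    rw [MulAction.mem_fixedBy] at hx ⊢
    conv_rhs => rw [← hx]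
    simp [mul_smul]
  · have hx := x.2
    rw [MulAction.mem_fixedBy] at hx ⊢
    simp [mul_smul, hx]

omit [Fintype G] [Finite X] in
theorem conj_permChar (g : G) : conj (permChar G X g) = permChar G X g := by
  unfold permChar
  exact Complex.conj_natCast _

/-- **Burnside's lemma**. -/
theorem sum_permChar : ∑ g : G, permChar G X g =
    (Nat.card (MulAction.orbitRel.Quotient G X) : ℂ) * (Nat.card G : ℂ) := by
  classical
  haveI : Fintype X := Fintype.ofFinite X
  haveI : Fintype (MulAction.orbitRel.Quotient G X) := Fintype.ofFinite _
  have h := MulAction.sum_card_fixedBy_eq_card_orbits_mul_card_group G X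
  have h2 : ((∑ g : G, Fintype.card (MulAction.fixedBy X g) : ℕ) : ℂ) =
      ((Fintype.card (MulAction.orbitRel.Quotient G X) * Fintype.card G : ℕ) : ℂ) := by
    rw [h]
  push_cast at h2
  simp only [Nat.card_eq_fintype_card, permChar]
  convert h2 using 2

/-- The number of orbits of a subgroup, as an inner product. -/
theorem card_orbits_subgroup (H : Subgroup G) :
    (Nat.card (MulAction.orbitRel.Quotient H X) : ℂ) =
      classInner (indFun H (fun _ => (1 : ℂ))) (permChar G X) := by
  classical
  haveI : Fintype H := Fintype.ofFinite H
  rw [frobenius_reciprocity H _ isClassFunction_permChar]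
  unfold classInner
  have h1 : ∀ h : H, (1 : ℂ) * conj (permChar G X (h : G)) = permChar H X h := by
    intro h
    rw [one_mul, conj_permChar]
    rfl
  simp only [h1]
  rw [sum_permChar]
  have hH0 : (Nat.card H : ℂ) ≠ 0 := by
    have : Nat.card H ≠ 0 := Nat.card_pos.ne'
    exact_mod_cast this
  field_simp

/-- For a transitive action, the norm of the permutation character is the rank. -/
theorem inner_permChar_self [MulAction.IsPretransitive G X] (a : X) :
    classInner (permChar G X) (permChar G X) =
      (Nat.card (MulAction.orbitRel.Quotient (MulAction.stabilizer G a) X) : ℂ) := by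
  rw [card_orbits_subgroup]
  congr 1
  exact Cfsg.Agent.S0190.result X a

/-- The inner product of a transitive permutation character with the principal character. -/
theorem inner_permChar_one [MulAction.IsPretransitive G X] [Nonempty X] :
    classInner (permChar G X) (fun _ => (1 : ℂ)) = 1 := by
  unfold classInner
  simp only [map_one, mul_one]
  rw [sum_permChar]
  have hG0 : (Nat.card G : ℂ) ≠ 0 := by
    have : Nat.card G ≠ 0 := Nat.card_pos.ne'
    exact_mod_cast this
  have h1 : Nat.card (MulAction.orbitRel.Quotient G X) = 1 := by
    haveI : Subsingleton (MulAction.orbitRel.Quotient G X) :=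
      (MulAction.pretransitive_iff_subsingleton_quotient G X).mp inferInstance
    haveI : Nonempty (MulAction.orbitRel.Quotient G X) :=
      ⟨Quotient.mk'' (Classical.arbitrary X)⟩
    exact Nat.card_unique
  rw [h1]
  field_simp
  simp

end

section TwoTransitive

variable {G : Type u} [Group G] {X : Type v} [MulAction G X]

/-- A point stabilizer of a doubly transitive group has exactly two orbits. -/
theorem card_orbits_stabilizer_of_two_transitive (h2 : MulAction.IsMultiplyPretransitive G X 2)
    (a : X) (hX : ∃ b : X, b ≠ a) :
    Nat.card (MulAction.orbitRel.Quotient (MulAction.stabilizer G a) X) = 2 := by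
  classical
  rw [MulAction.is_two_pretransitive_iff] at h2
  let f : MulAction.orbitRel.Quotient (MulAction.stabilizer G a) X → Bool :=
    Quotient.lift (fun x : X => decide (x = a)) (by
      intro x y hxy
      have hxy' : x ∈ MulAction.orbit (MulAction.stabilizer G a) y := hxy
      obtain ⟨g, hg⟩ := hxy'
      have hg' : (g : G) • y = x := hg
      have hga : (g : G) • a = a := MulAction.mem_stabilizer_iff.mp g.2
      show decide (x = a) = decide (y = a)
      congr 1
      apply propext
      constructor
      · intro hx
        rw [hx] at hg'
        have : (g : G) • y = (g : G) • a := by rw [hg', hga]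
        exact smul_left_cancel _ this
      · intro hy
        rw [← hg', hy, hga])
  have hbij : Function.Bijective f := by
    constructor
    · intro q₁ q₂
      induction q₁ using Quotient.inductionOn with
      | h x =>
        induction q₂ using Quotient.inductionOn with
        | h y =>
          intro hxy
          have hxy' : decide (x = a) = decide (y = a) := hxy
          apply Quotient.sound
          show x ∈ MulAction.orbit (MulAction.stabilizer G a) y
          by_cases hx : x = a
          · have hy : y = a := by
              rw [hx] at hxy'
              simpa using hxy'.symm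
            rw [hx, hy]
            exact MulAction.mem_orbit_self a
          · have hy : y ≠ a := by
              intro hy
              rw [hy] at hxy'
              simp at hxy'
              exact hx hxy'
            obtain ⟨g, hga, hgy⟩ := h2 (Ne.symm hy) (Ne.symm hx)
            exact ⟨⟨g, MulAction.mem_stabilizer_iff.mpr hga⟩, hgy⟩
    · intro b
      cases b with
      | true => exact ⟨Quotient.mk'' a, by show decide (a = a) = true; simp⟩
      | false =>
        obtain ⟨x, hx⟩ := hX
        exact ⟨Quotient.mk'' x, by show decide (x = a) = false; simp [hx]⟩
  rw [Nat.card_congr (Equiv.ofBijective f hbij)]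
  simp

end TwoTransitive

end Cfsg.Agent.Helper18
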