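import Mathlib

/-!
# S2244 (weakly closed subgroups of `U` in Chevalley groups): definitions of the abstract layer
-/

set_option autoImplicit false

namespace Cfsg.Agent.Helper18.WC

/-- abstract layer: the subgroup generated by the "root groups" `x b`, `b ∈ S`, and `M'` -/
def ES {G ι F : Type*} [Group G] (M' : Subgroup G) (x : ι → F → G) (S : Finset ι) : Subgroup G :=
  Subgroup.closure {g | ∃ b ∈ S, ∃ t, g = x b t} ⊔ M'

end Cfsg.Agent.Helper18.WC
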