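import Mathlib
import Cfsg.Agent.Lib.Helper6.UniRJ
import Cfsg.Agent.Lib.Helper13.UNIWJ
import Cfsg.Agent.Lib.Helper18.WCAbsDefs

/-!
# S2244 (weakly closed subgroups of `U` in Chevalley groups): definitions

`NonSimple`, `QJns` (the non-fundamental positive roots outside `Φ_J`), `CommNS`, `JX` (the fundamental
reflections normalising `X`), `DecOK` (two-sided decomposition witness `r = a + s`).
-/

set_option autoImplicit false
set_option linter.unusedSectionVars false
set_option linter.unusedVariables false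

namespace Cfsg.Agent.Helper18.WC

open Cfsg Cfsg.Lie Cfsg.Agent.Lead.Chev Cfsg.Agent.Helper6.ChevL

variable {F : Type*} [Field F] {D : ChevalleyDatum}

/-- `r` is not (the index of) a fundamental root -/
def NonSimple (D : ChevalleyDatum) (r : ℕ) : Prop := ∀ i < D.rank, r ≠ D.simple i

instance (D : ChevalleyDatum) (r : ℕ) : Decidable (NonSimple D r) := by
  unfold NonSimple; infer_instance

/-- the roots of `U_J^{ns}`: positive, outside `Φ_J`, not fundamental -/
def QJns (D : ChevalleyDatum) (J : Set ℕ) (r : ℕ) : Prop :=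
  D.IsPosRoot r ∧ ¬ D.InRootSub J r ∧ NonSimple D r

/-- all the roots occurring in the commutator formula of two positive roots are non-fundamental -/
def CommNS (D : ChevalleyDatum) : Prop :=
  ∀ a s, D.IsPosRoot a → D.IsPosRoot s → s ≠ a → ∀ c ∈ D.commTerms a s, NonSimple D c.1

/-- the set of `j` such that `n_j` normalises `X` -/
def JX (hX : XAdd D F) (X : Subgroup (GL D.Idx F)) : Set ℕ :=
  {j | j < D.rank ∧ X.map (MulAut.conj (nGL D hX (D.simple j))).toMonoidHom = X}

/-- `r = a + s` two-sided decomposition witness: both `commTerms a s` and `commTerms s a` start with the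
term `(r, N, 1, 1)` resp. `(r, N', 1, 1)`, all the other terms have a larger index, and the support of `r` is
contained in the union of the supports of `a` and `s`. -/
def DecOK (D : ChevalleyDatum) (r a s : ℕ) (N N' : ℤ) : Prop :=
  D.IsPosRoot a ∧ D.IsPosRoot s ∧ a ≠ s ∧
  (D.commTerms a s).head? = some (r, N, 1, 1) ∧ (∀ c ∈ (D.commTerms a s).tail, r < c.1) ∧
  (D.commTerms s a).head? = some (r, N', 1, 1) ∧ (∀ c ∈ (D.commTerms s a).tail, r < c.1) ∧
  (∀ k < D.rank, cc D r k ≠ 0 → cc D a k ≠ 0 ∨ cc D s k ≠ 0)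

instance (D : ChevalleyDatum) (r a s : ℕ) (N N' : ℤ) : Decidable (DecOK D r a s N N') := by
  unfold DecOK; infer_instance

/-- `(2,1)`-patch witness: `commTerms a b = (m, e1, 1, 1) :: (r, e2, 2, 1) :: rest`, the terms of `rest` are
positive, non-fundamental, of larger index than `r` and their support contains the support of `r`; the
support of `r` is contained in the union of the supports of `a` and `b`. -/
def Patch21OK (D : ChevalleyDatum) (r a b m : ℕ) (e1 e2 : ℤ) : Prop :=
  D.IsPosRoot a ∧ D.IsPosRoot b ∧ a ≠ b ∧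
  (D.commTerms a b).head? = some (m, e1, 1, 1) ∧ (D.commTerms a b).tail.head? = some (r, e2, 2, 1) ∧
  (∀ c ∈ (D.commTerms a b).tail.tail, r < c.1 ∧ D.IsPosRoot c.1 ∧ NonSimple D c.1 ∧
    ∀ k < D.rank, cc D r k ≠ 0 → cc D c.1 k ≠ 0) ∧
  (∀ k < D.rank, cc D r k ≠ 0 → cc D a k ≠ 0 ∨ cc D b k ≠ 0)

instance (D : ChevalleyDatum) (r a b m : ℕ) (e1 e2 : ℤ) : Decidable (Patch21OK D r a b m e1 e2) := by
  unfold Patch21OK; infer_instance

/-- the torus elements `h_r(l)` used in the proof, as an index type -/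
abbrev TorIdx (D : ChevalleyDatum) (F : Type*) [Field F] : Type _ :=
  {p : ℕ × F // p.1 < D.nroots ∧ p.2 ≠ 0}

/-- simple-root separation witness: for `j ≠ j'` a root `r` with `⟨α_j', r^∨⟩ = 0` and `⟨α_j, r^∨⟩ = e`,
`e = ±1`, or `e = ±2` when `two = true`. -/
def SepOK (D : ChevalleyDatum) (two : Bool) : Prop :=
  ∀ j < D.rank, ∀ j' < D.rank, j ≠ j' → ∃ r < D.nroots,
    corSum D r (D.simple j') = 0 ∧
      (corSum D r (D.simple j) = 1 ∨ corSum D r (D.simple j) = -1 ∨
        (two = true ∧ (corSum D r (D.simple j) = 2 ∨ corSum D r (D.simple j) = -2)))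

/-- `⟨α_j, α_j^∨⟩ = 2` -/
def SqOK (D : ChevalleyDatum) : Prop := ∀ j < D.rank, corSum D (D.simple j) (D.simple j) = 2


/-- the fundamental roots outside `J`, as a finset of indices -/
noncomputable def KJ (D : ChevalleyDatum) (J : Set ℕ) : Finset ℕ := by
  classical exact (Finset.range D.rank).filter (fun j => j ∉ J)

theorem mem_KJ (D : ChevalleyDatum) (J : Set ℕ) (j : ℕ) : j ∈ KJ D J ↔ j < D.rank ∧ j ∉ J := by
  classical
  unfold KJ
  simp


open scoped commutatorElement in
/-- the form of the step of Claim C (`U_J^{ns} ≤ [U_J, U]`): the root group `X_r` lies in `[U_J, U]` as soon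
as all the `X_r'`, `r' > r`, `r' ∈ QJns`, do -/
def StepOK (hF : ChevFacts D F) : Prop :=
  ∀ (J : Set ℕ) (r : ℕ), QJns D J r →
    (∀ r', r < r' → QJns D J r' → ∀ t : F,
      xGL D hF.xadd r' t ∈ ⁅D.unipotentRadical F J, D.posUnipotent F⁆) →
    ∀ t : F, xGL D hF.xadd r t ∈ ⁅D.unipotentRadical F J, D.posUnipotent F⁆

end Cfsg.Agent.Helper18.WC
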