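import Mathlib
import Cfsg.Agent.Lib.Helper18.BG13P2

/-!
# Bender-Glauberman section 13, prime action (helper18), part 3: the `τ₂` case

`centralizes_of_mem_tau2` (PROP A): `M`, `H` non-conjugate maximal subgroups, `p ∉ σ(M)`,
`p ∈ τ₂(H)`; then every `p`-subgroup of `M ∩ H` centralizes `M_σ ∩ H`.
-/

set_option autoImplicit false
set_option linter.style.haveILetI false
set_option linter.unusedSectionVars false

namespace Cfsg.Agent.Helper18.BG13P

open Cfsg Subgroup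
open scoped commutatorElement
open Cfsg.Agent.Helper14.BGTrans Cfsg.Agent.Helper14.BGUniq
open Cfsg.Agent.Helper10 (IsPiNum)
open Cfsg.Agent.Helper15 (IsSylowIn isSylowIn_of_sylow_le isSylowIn_map_subtype isSylowIn_top
  map_conj_eq_of_mem_normalizer map_conj_map_conj card_map_conj map_conj_one
  map_conj_map_conj_inv map_conj_inv_map_conj isPGroup_map_conj map_conj_mono
  map_conj_eq_self_of_mem exists_isSylowIn_ge exists_isSylowIn isSylowIn_of_not_dvd_relIndex)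
open Cfsg.Agent.Helper22.BG13
open Cfsg.Agent.Helper20.MinInv (comm_le_of_le_normalizer le_centralizer_of_comm_comm_eq_bot)

universe u

variable {G : Type u} [Group G] [Finite G]

omit [Finite G] in
theorem isElementaryAbelian_map_conj {p : ℕ} {A : Subgroup G} (hA : IsElementaryAbelian p A)
    (g : G) : IsElementaryAbelian p (A.map (MulAut.conj g).toMonoidHom) := by
  refine ⟨?_, ?_⟩
  · haveI := hA.1
    exact Subgroup.map_isMulCommutative A _
  · rintro _ ⟨a, ha, rfl⟩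
    rw [← map_pow, hA.2 a ha, map_one]

/-- `p ∉ σ(M)` does not divide `|M_σ|` -/
theorem not_dvd_card_sigmaCore {M : Subgroup G} {p : ℕ} (hp : p.Prime) (hpM : p ∉ sigma M) :
    ¬ p ∣ Nat.card ↥(sigmaCore M) := fun h => hpM (isPiNum_card_sigmaCore M p hp h)

/-- `p ∈ σ(M)` divides `|M_σ|` -/
theorem dvd_card_sigmaCore (h1350 : Hyp1350 G) {M : Subgroup G} (hM : IsCoatom M) {p : ℕ}
    (hpM : p ∈ sigma M) : p ∣ Nat.card ↥(sigmaCore M) := by
  obtain ⟨⟨hle, -, hidx⟩, -, -⟩ := h1350 M hM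
  have h1 := Cfsg.Agent.Helper7.relIndex_mul_card_of_le hle
  have h2 : p ∣ Nat.card ↥M := hpM.2.1
  rw [← h1] at h2
  rcases (Nat.Prime.dvd_mul hpM.1).mp h2 with h | h
  · exact absurd h (hidx p hpM.1 hpM)
  · exact h

/-- (★) if `M ∩ L` (`L ≠ M`) contains an elementary abelian subgroup of order `s²`, `s ∉ σ(M)`,
then `M_σ ∩ L = 1` -/
theorem sigmaCore_inf_eq_bot_of_elemAb (hG : IsMinSimpleOddOrder G) (h1403 : Hyp1403 G)
    (h1417 : Hyp1417 G) {M L : Subgroup G} (hM : IsCoatom M) (hL : IsCoatom L) (hne : L ≠ M)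
    {s : ℕ} [Fact s.Prime] (hsM : s ∉ sigma M) {B : Subgroup G} (hBM : B ≤ M) (hBL : B ≤ L)
    (hBe : IsElementaryAbelian s B) (hBc : Nat.card ↥B = s ^ 2) : sigmaCore M ⊓ L = ⊥ := by
  have hs : s.Prime := Fact.out
  have hr2 : PRankLE s 2 ↥M := by
    by_contra h
    exact hsM (Cfsg.Agent.Helper23.BG10.alpha_subset_sigma hG h1403 hM ⟨hs, h⟩)
  have hss : s < s ^ 2 := by
    have := hs.one_lt
    nlinarith
  have hr1 : ¬ PRankLE s 1 ↥M :=
    not_pRankLE_of_le hBM hBe (by rw [hBc, pow_one]; exact hss)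
  have hτ : s ∈ tau2 M := ⟨hs, hsM, hr2, hr1⟩
  exact (h1417 M hM s hτ B ⟨hBM, hBe, hBc⟩).2.2.2.2.1 L hL hne hBL

/-- **PROP A** (the `τ₂` case of BG 13.5(a)/13.6(a)) -/
theorem centralizes_of_mem_tau2 (hG : IsMinSimpleOddOrder G) (h1403 : Hyp1403 G)
    (h1404 : Hyp1404 G) (h1413 : Hyp1413 G) (h1416 : Hyp1416 G) (h1350 : Hyp1350 G)
    (h1414 : Hyp1414 G) (h1417 : Hyp1417 G) (h1418 : Hyp1418 G) (h1415 : H1415 G)
    {M H : Subgroup G} (hM : IsCoatom M) (hH : IsCoatom H)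
    (hconj : ∀ g : G, H ≠ M.map (MulAut.conj g).toMonoidHom)
    {p : ℕ} [Fact p.Prime] (hpM : p ∉ sigma M) (hpH : p ∈ tau2 H)
    {P₁ : Subgroup G} (hP₁ : IsPGroup p ↥P₁) (hP₁M : P₁ ≤ M) (hP₁H : P₁ ≤ H) :
    sigmaCore M ⊓ H ≤ centralizer (P₁ : Set G) := by
  have hp : p.Prime := Fact.out
  -- an elementary abelian subgroup of order `p²` of `H`
  obtain ⟨A₀, hA₀H, hA₀e, hA₀c⟩ := Cfsg.Agent.Helper23.BG10.exists_elemAb_sq hpH.2.2.1 hpH.2.2.2
  have hnil : Group.IsNilpotent ↥(sigmaCore H) := (h1417 H hH p hpH A₀ ⟨hA₀H, hA₀e, hA₀c⟩).1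
  have hdisj := not_dvd_card_sigmaCore_of_nilpotent h1350 hM hH hconj hnil
  set D := sigmaCore M ⊓ H with hD
  have hDσ : D ≤ sigmaCore M := inf_le_left
  have hDH : D ≤ H := inf_le_right
  have hDM : D ≤ M := hDσ.trans (sigmaCore_le M)
  have hcardD : IsPiNum (sigma M) (Nat.card ↥D) :=
    IsPiNum.of_dvd (Subgroup.card_dvd_of_le hDσ) (isPiNum_card_sigmaCore M)
  have hMHD : M ⊓ H ≤ normalizer (D : Set G) :=
    le_normalizer_inf_of_le (inf_le_left.trans (le_normalizer_sigmaCore M))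
      (inf_le_right.trans Subgroup.le_normalizer)
  by_cases hR : ⁅D, M ⊓ H⁆ = ⊥
  · rw [Subgroup.commutator_eq_bot_iff_le_centralizer] at hR
    exact hR.trans (Subgroup.centralizer_le (le_inf hP₁M hP₁H))
  set R := ⁅D, M ⊓ H⁆ with hRdef
  have hRD : R ≤ D := comm_le_of_le_normalizer hMHD
  have hRM : R ≤ M := hRD.trans hDM
  have hRσ : R ≤ sigmaCore M := hRD.trans hDσ
  have hRH' : R ≤ ⁅H, H⁆ := Subgroup.commutator_mono hDH inf_le_right
  have hMHR : M ⊓ H ≤ normalizer (R : Set G) :=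
    le_normalizer_commutator_of_le hMHD Subgroup.le_normalizer
  have hcardR : IsPiNum (sigma M) (Nat.card ↥R) :=
    IsPiNum.of_dvd (Subgroup.card_dvd_of_le hRD) hcardD
  -- `R` has order prime to `p` and to `|H_σ|`
  have hRp : (Nat.card ↥R).Coprime p := by
    rw [Nat.coprime_comm]
    exact (Nat.Prime.coprime_iff_not_dvd hp).mpr (fun h => hpM (hcardR p hp h))
  have hRHσ : (Nat.card ↥R).Coprime (Nat.card ↥(sigmaCore H)) :=
    Nat.coprime_of_dvd (fun r hr h1 h2 => hdisj r (hcardR r hr h1) h2)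
  have hpHσ : ¬ p ∣ Nat.card ↥(sigmaCore H) := not_dvd_card_sigmaCore hp hpH.2.1
  obtain ⟨k, hk⟩ := hP₁.exists_card_eq
  have hP₁Hσ : (Nat.card ↥P₁).Coprime (Nat.card ↥(sigmaCore H)) := by
    rw [hk]
    exact Nat.Coprime.pow_left k ((Nat.Prime.coprime_iff_not_dvd hp).mpr hpHσ)
  have hP₁R : P₁ ≤ normalizer (R : Set G) := (le_inf hP₁M hP₁H).trans hMHR
  have hYcard : (Nat.card ↥(R ⊔ P₁ : Subgroup G)).Coprime (Nat.card ↥(sigmaCore H)) :=
    Nat.Coprime.coprime_dvd_left (Cfsg.Agent.Helper7.card_sup_dvd_mul_of_le_normalizer hP₁R)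
      (Nat.Coprime.mul_left hRHσ hP₁Hσ)
  have hHne : H ≠ ⊤ := hH.1
  have hsolvH : Group.IsSolvable ↥H := isSolvable_of_ne_top hG hHne
  obtain ⟨hHhall, -, -⟩ := h1350 H hH
  have hcopH := coprime_of_isPiHallOf hHhall
  obtain ⟨E, hE, hYE⟩ := exists_isComplIn_ge hsolvH (sigmaCore_le H) hcopH
    (sup_le (hRD.trans hDH) hP₁H) hYcard
  have hRE : R ≤ E := le_sup_left.trans hYE
  -- an elementary abelian subgroup `A` of order `p²` of `E`
  have hA₀Hσ : (Nat.card ↥A₀).Coprime (Nat.card ↥(sigmaCore H)) := by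
    rw [hA₀c]
    exact Nat.Coprime.pow_left 2 ((Nat.Prime.coprime_iff_not_dvd hp).mpr hpHσ)
  obtain ⟨h, hhH, hAE⟩ := exists_conj_le_of_hall hsolvH (sigmaCore_le H)
    (le_normalizer_sigmaCore H) hE.1 hA₀H hcopH
    (fun x hx => by
      obtain ⟨a, ha, b, hb, hab⟩ := hE.2.2.2 x hx
      -- x = a * b with a ∈ E, b ∈ H_σ; rewrite as n * d
      refine ⟨a * b * a⁻¹, ?_, a, ha, by rw [hab]; group⟩
      exact (Subgroup.mem_normalizer_iff.mp (le_normalizer_sigmaCore H (hE.1 ha)) b).mp hb)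
    hA₀Hσ
  set A := A₀.map (MulAut.conj h).toMonoidHom with hAdef
  have hAe : IsElementaryAbelian p A := isElementaryAbelian_map_conj hA₀e h
  have hAc : Nat.card ↥A = p ^ 2 := by rw [hAdef, card_map_conj, hA₀c]
  have hAp : IsPGroup p ↥A := isPGroup_of_isElementaryAbelian hAe
  have hEA : E ≤ normalizer (A : Set G) := (h1418 H hH E hE p hpH A ⟨hAE, hAe, hAc⟩).1.1
  have hE'nil : Group.IsNilpotent ↥⁅E, E⁆ := (h1415 H hH E hE).1
  have hRE' : R ≤ ⁅E, E⁆ :=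
    le_commutator_of_isComplIn hE (le_normalizer_sigmaCore H) hRE hRH'
  have hACR : A ≤ centralizer (R : Set G) :=
    le_centralizer_of_nilpotent_normal (commutator_self_le E)
      (le_normalizer_commutator_of_le Subgroup.le_normalizer Subgroup.le_normalizer) hE'nil hAE hEA hAp hRE' hRp
  -- if `A ≤ M` we are done by (★)
  by_cases hAM : A ≤ M
  · have hne : H ≠ M := fun h' => hconj 1 (by rw [map_conj_one]; exact h')
    have := sigmaCore_inf_eq_bot_of_elemAb hG h1403 h1417 hM hH hne hpM hAM (hAE.trans hE.1)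
      hAe hAc
    rw [hD, this]
    exact bot_le
  -- a Sylow subgroup `Q₀` of the nilpotent group `R`
  have hRnil : Group.IsNilpotent ↥R := by
    haveI := hE'nil
    exact Group.nilpotent_of_mulEquiv (Subgroup.subgroupOfEquivOfLe hRE')
  have hR1 : Nat.card ↥R ≠ 1 := fun h' => hR (Subgroup.card_eq_one.mp h')
  obtain ⟨q, hq, hqR⟩ := Nat.exists_prime_and_dvd hR1
  haveI : Fact q.Prime := ⟨hq⟩
  have hqσ : q ∈ sigma M := hcardR q hq hqR
  obtain ⟨Q₀, hQ₀⟩ := exists_isSylowIn (p := q) R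
  have hQ₀1 : Q₀ ≠ ⊥ := by
    intro h'
    have := hQ₀.not_dvd_relIndex
    rw [h', Subgroup.relIndex_bot_left] at this
    exact this hqR
  have hQ₀M : Q₀ ≤ M := hQ₀.le.trans hRM
  have hMHQ₀ : M ⊓ H ≤ normalizer (Q₀ : Set G) :=
    le_normalizer_sylow_of_nilpotent_normal hMHR hRnil hQ₀
  have hAQ₀ : A ≤ normalizer (Q₀ : Set G) :=
    (hACR.trans (Subgroup.centralizer_le hQ₀.le)).trans
      (Subgroup.centralizer_le_normalizer (Q₀ : Set G))
  have hNtop : normalizer (Q₀ : Set G) ≠ ⊤ := normalizer_ne_top_of_isPGroup hG hQ₀.isPGroup hQ₀1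
  obtain ⟨L, hL, hNL⟩ := exists_isCoatom_ge hNtop
  have hLne : L ≠ M := fun h' => hAM (hAQ₀.trans (h' ▸ hNL))
  have hconjL := not_conj_of_normalizer_le h1404 hM hqσ hQ₀.isPGroup hQ₀1 hQ₀M hLne hNL
  have hQ₀L : Q₀ ≤ L := Subgroup.le_normalizer.trans hNL
  have hAL : A ≤ L := hAQ₀.trans hNL
  have hMHL : M ⊓ H ≤ L := hMHQ₀.trans hNL
  have hQ₀σL : Q₀ ≤ sigmaCore M ⊓ L := le_inf (hQ₀.le.trans hRσ) hQ₀L
  by_cases hpL : p ∈ sigma L
  · -- (F3) for the pair `(M, L)`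
    have hP₁L : P₁ ≤ L := (le_inf hP₁M hP₁H).trans hMHL
    have hP₁σL : P₁ ≤ sigmaCore L :=
      le_sigmaCore_of_isPiNum h1350 hL hP₁L (isPiNum_of_isPGroup hpL hP₁)
    have key := centralizes_of_le_normal hG h1403 h1414 hM hL hconjL (sigmaCore_le L)
      (le_normalizer_sigmaCore L)
      (fun r hr hrL hrβ => ((h1414 L hL).2.2.2.2 r hr hrL hrβ).2.1) hpM hP₁ hP₁M hP₁σL
    exact (le_inf hDσ ((le_inf hDM hDH).trans hMHL)).trans key
  · -- `p ∈ τ₂(L)`: contradiction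
    exfalso
    have hpp : p < p ^ 2 := by
      have := hp.one_lt
      nlinarith
    have hr2 : PRankLE p 2 ↥L := by
      by_contra h'
      exact hpL (Cfsg.Agent.Helper23.BG10.alpha_subset_sigma hG h1403 hL ⟨hp, h'⟩)
    have hr1 : ¬ PRankLE p 1 ↥L := not_pRankLE_of_le hAL hAe (by rw [hAc, pow_one]; exact hpp)
    have hτL : p ∈ tau2 L := ⟨hp, hpL, hr2, hr1⟩
    have hnilL : Group.IsNilpotent ↥(sigmaCore L) := (h1417 L hL p hτL A ⟨hAL, hAe, hAc⟩).1
    have hdisjL := not_dvd_card_sigmaCore_of_nilpotent h1350 hM hL hconjL hnilL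
    have hqL : q ∉ sigma L := fun h' => hdisjL q hqσ (dvd_card_sigmaCore h1350 hL h')
    obtain ⟨T, hQ₀T, hT⟩ := exists_isSylowIn_ge hQ₀.isPGroup (le_inf hQ₀M hQ₀L)
    have hc := isSylowIn_of_normalizer_le h1404 h1413 hM hqσ hQ₀1 hNL hT hQ₀T
    obtain ⟨hfac, -⟩ := factor_case_e hG h1403 h1404 h1416 h1350 h1417 hM hqσ hQ₀.isPGroup hQ₀1
      hL hNL hT hQ₀T hc hconjL hqL
    have hsolvL : Group.IsSolvable ↥L := isSolvable_of_ne_top hG hL.1
    obtain ⟨hLhall, -, -⟩ := h1350 L hL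
    have hALσ : (Nat.card ↥A).Coprime (Nat.card ↥(sigmaCore L)) := by
      rw [hAc]
      exact Nat.Coprime.pow_left 2
        ((Nat.Prime.coprime_iff_not_dvd hp).mpr (not_dvd_card_sigmaCore hp hpL))
    obtain ⟨l, hlL, hAl⟩ := exists_conj_le_of_hall hsolvL (sigmaCore_le L)
      (le_normalizer_sigmaCore L) (inf_le_right : M ⊓ L ≤ L) hAL (coprime_of_isPiHallOf hLhall)
      hfac hALσ
    have hbot := sigmaCore_inf_eq_bot_of_elemAb hG h1403 h1417 hM hL hLne hpM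
      (hAl.trans inf_le_left) (hAl.trans inf_le_right) (isElementaryAbelian_map_conj hAe l)
      (by rw [card_map_conj, hAc])
    rw [hbot] at hQ₀σL
    exact hQ₀1 (le_bot_iff.mp hQ₀σL)

end Cfsg.Agent.Helper18.BG13P
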