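import Mathlib
import Cfsg.Agent.Lib.Helper18.BG13P3
import Cfsg.Agent.Lib.Helper4.BG144A

/-!
# Bender-Glauberman section 13, prime action (helper18), part 4

`centralizes_of_normalizer_le` (BG 13.6(a)): `p ∉ σ(M)`, `M` of `p`-rank at most 1, `X` of order
`p`, `H` maximal over `N_G(X)`: every `p`-subgroup of `M ∩ H` centralizes `M_σ ∩ H`.
`prime_action`: the statement of S1427.
-/

set_option autoImplicit false
set_option linter.style.haveILetI false
set_option linter.unusedSectionVars false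

namespace Cfsg.Agent.Helper18.BG13P

open Cfsg Subgroup
open scoped commutatorElement
open Cfsg.Agent.Helper14.BGTrans Cfsg.Agent.Helper14.BGUniq
open Cfsg.Agent.Helper10 (IsPiNum)
open Cfsg.Agent.Helper15 (IsSylowIn isSylowIn_of_sylow_le isSylowIn_map_subtype isSylowIn_top
  map_conj_eq_of_mem_normalizer map_conj_map_conj card_map_conj map_conj_one
  map_conj_map_conj_inv map_conj_inv_map_conj isPGroup_map_conj map_conj_mono
  map_conj_eq_self_of_mem exists_isSylowIn_ge exists_isSylowIn isSylowIn_of_not_dvd_relIndex)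
open Cfsg.Agent.Helper22.BG13

universe u

variable {G : Type u} [Group G] [Finite G]

/-- `σ` is invariant under conjugation (one direction) -/
theorem mem_sigma_of_map_conj {M : Subgroup G} {g : G} {p : ℕ}
    (hp : p ∈ sigma (M.map (MulAut.conj g).toMonoidHom)) : p ∈ sigma M := by
  haveI : Fact p.Prime := ⟨hp.1⟩
  obtain ⟨T₀, hT₀⟩ := exists_isSylowIn (p := p) M
  have hT := hT₀.map_conj g
  have hN := normalizer_le_of_mem_sigma hp hT
  rw [Cfsg.Agent.Helper14.normalizer_map_conj] at hN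
  have hN' : normalizer (T₀ : Set G) ≤ M := by
    have := map_conj_mono hN g⁻¹
    rwa [map_conj_inv_map_conj, map_conj_inv_map_conj] at this
  refine ⟨hp.1, ?_, hT₀.toSylow, ?_⟩
  · have := hp.2.1
    rwa [card_map_conj] at this
  · rw [hT₀.map_toSylow]; exact hN'

omit [Finite G] in
/-- the `p`-rank is invariant under conjugation -/
theorem pRankLE_map_conj {M : Subgroup G} {p k : ℕ} (h : PRankLE p k ↥M) (g : G) :
    PRankLE p k ↥(M.map (MulAut.conj g).toMonoidHom) := by
  have hinj : Function.Injective (MulAut.conj g).toMonoidHom := (MulAut.conj g).injective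
  exact pRankLE_of_injective'
    ((Subgroup.equivMapOfInjective M (MulAut.conj g).toMonoidHom hinj).symm.toMonoidHom)
    (Subgroup.equivMapOfInjective M (MulAut.conj g).toMonoidHom hinj).symm.injective h

/-- **BG 13.6(a)** -/
theorem centralizes_of_normalizer_le (hG : IsMinSimpleOddOrder G) (h1403 : Hyp1403 G)
    (h1404 : Hyp1404 G) (h1413 : Hyp1413 G) (h1416 : Hyp1416 G) (h1350 : Hyp1350 G)
    (h1414 : Hyp1414 G) (h1417 : Hyp1417 G) (h1418 : Hyp1418 G) (h1415 : H1415 G)
    (h1409 : H1409 G)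
    {M H : Subgroup G} (hM : IsCoatom M) (hH : IsCoatom H)
    {p : ℕ} [Fact p.Prime] (hpM : p ∉ sigma M) (hr1 : PRankLE p 1 ↥M)
    {X : Subgroup G} (hX : Nat.card ↥X = p) (hNX : normalizer (X : Set G) ≤ H)
    {P₁ : Subgroup G} (hP₁ : IsPGroup p ↥P₁) (hP₁M : P₁ ≤ M) (hP₁H : P₁ ≤ H) :
    sigmaCore M ⊓ H ≤ centralizer (P₁ : Set G) := by
  have hp : p.Prime := Fact.out
  by_cases hpH : p ∈ sigma H
  · have hconj : ∀ g : G, H ≠ M.map (MulAut.conj g).toMonoidHom := by
      intro g hg
      rw [hg] at hpH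
      exact hpM (mem_sigma_of_map_conj hpH)
    have hP₁σ : P₁ ≤ sigmaCore H :=
      le_sigmaCore_of_isPiNum h1350 hH hP₁H (isPiNum_of_isPGroup hpH hP₁)
    exact centralizes_of_le_normal hG h1403 h1414 hM hH hconj (sigmaCore_le H)
      (le_normalizer_sigmaCore H)
      (fun r hr hrH hrβ => ((h1414 H hH).2.2.2.2 r hr hrH hrβ).2.1) hpM hP₁ hP₁M hP₁σ
  · obtain ⟨⟨hr2H, hr1H⟩, -, -⟩ := h1409 H hH p hpH X hX hNX
    have hτ : p ∈ tau2 H := ⟨hp, hpH, hr2H, hr1H⟩
    have hconj : ∀ g : G, H ≠ M.map (MulAut.conj g).toMonoidHom := by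
      intro g hg
      apply hr1H
      rw [hg]
      exact pRankLE_map_conj hr1 g
    exact centralizes_of_mem_tau2 hG h1403 h1404 h1413 h1416 h1350 h1414 h1417 h1418 h1415
      hM hH hconj hpM hτ hP₁ hP₁M hP₁H

omit [Finite G] in
/-- a cyclic subgroup of exponent dividing `p` has order at most `p` -/
theorem card_le_of_isCyclic_of_pow_eq_one {B : Subgroup G} (hc : IsCyclic ↥B) {p : ℕ}
    (hp : 0 < p) (hB : ∀ b ∈ B, b ^ p = 1) : Nat.card ↥B ≤ p := by
  obtain ⟨g, hg⟩ := hc.exists_generator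
  have h1 : orderOf g = Nat.card ↥B := orderOf_eq_card_of_forall_mem_zpowers hg
  have h2 : g ^ p = 1 := Subtype.ext (by simpa using hB g g.2)
  rw [← h1]
  exact Nat.le_of_dvd hp (orderOf_dvd_of_pow_eq_one h2)

omit [Finite G] in
theorem isCyclic_map_conj {S : Subgroup G} (hS : IsCyclic ↥S) (g : G) :
    IsCyclic ↥(S.map (MulAut.conj g).toMonoidHom) := by
  haveI := hS
  have hinj : Function.Injective (MulAut.conj g).toMonoidHom := (MulAut.conj g).injective
  exact isCyclic_of_surjective (Subgroup.equivMapOfInjective S (MulAut.conj g).toMonoidHom hinj)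
    (Subgroup.equivMapOfInjective S (MulAut.conj g).toMonoidHom hinj).surjective

omit [Finite G] in
theorem isCyclic_of_le_aux {P K : Subgroup G} (h : P ≤ K) (hK : IsCyclic ↥K) : IsCyclic ↥P := by
  haveI := hK
  exact isCyclic_of_surjective (Subgroup.subgroupOfEquivOfLe h)
    (Subgroup.subgroupOfEquivOfLe h).surjective

/-- factorisation `M = M_σ E` in the order needed for Hall's theorem -/
theorem fac_of_isComplIn {M E : Subgroup G} (hE : IsComplIn E (sigmaCore M) M) :
    ∀ x ∈ M, ∃ n ∈ sigmaCore M, ∃ d ∈ E, x = n * d := by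
  intro x hx
  obtain ⟨a, ha, b, hb, hab⟩ := hE.2.2.2 x hx
  refine ⟨a * b * a⁻¹, ?_, a, ha, by rw [hab]; group⟩
  exact (Subgroup.mem_normalizer_iff.mp (le_normalizer_sigmaCore M (hE.1 ha)) b).mp hb

/-- if a complement `E` of `M_σ` has a cyclic Sylow `p`-subgroup, `M` has `p`-rank at most 1 -/
theorem pRankLE_one_of_cyclic_sylow (hG : IsMinSimpleOddOrder G) (h1350 : Hyp1350 G)
    {M E : Subgroup G} (hM : IsCoatom M) (hE : IsComplIn E (sigmaCore M) M) {p : ℕ}
    [Fact p.Prime] {S' : Subgroup G} (hS' : IsSylowIn p S' E) (hS'c : IsCyclic ↥S')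
    (hpM : p ∉ sigma M) : PRankLE p 1 ↥M := by
  have hp : p.Prime := Fact.out
  intro B hBc hBe
  set B' := B.map M.subtype with hB'
  have hB'M : B' ≤ M := Subgroup.map_subtype_le _
  have hcard : Nat.card ↥B' = Nat.card ↥B :=
    Subgroup.card_map_of_injective M.subtype_injective
  have hB'e : IsElementaryAbelian p B' := by
    refine ⟨?_, ?_⟩
    · haveI := hBc
      exact Subgroup.map_isMulCommutative B _
    · rintro _ ⟨a, ha, rfl⟩
      rw [← map_pow, hBe a ha, map_one]
  have hB'p : IsPGroup p ↥B' := isPGroup_of_isElementaryAbelian hB'e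
  obtain ⟨k, hk⟩ := hB'p.exists_card_eq
  have hsolv : Group.IsSolvable ↥M := isSolvable_of_ne_top hG hM.1
  obtain ⟨hhall, -, -⟩ := h1350 M hM
  have hY : (Nat.card ↥B').Coprime (Nat.card ↥(sigmaCore M)) := by
    rw [hk]
    exact Nat.Coprime.pow_left k
      ((Nat.Prime.coprime_iff_not_dvd hp).mpr (not_dvd_card_sigmaCore hp hpM))
  obtain ⟨m, -, hm⟩ := exists_conj_le_of_hall hsolv (sigmaCore_le M) (le_normalizer_sigmaCore M)
    hE.1 hB'M (coprime_of_isPiHallOf hhall) (fac_of_isComplIn hE) hY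
  obtain ⟨T, hBT, hT⟩ := exists_isSylowIn_ge (isPGroup_map_conj hB'p m) hm
  obtain ⟨e, -, heT⟩ := hS'.exists_conj hT
  have hTc : IsCyclic ↥T := heT ▸ isCyclic_map_conj hS'c e
  have hBmc : IsCyclic ↥(B'.map (MulAut.conj m).toMonoidHom) := isCyclic_of_le_aux hBT hTc
  have h1 := card_le_of_isCyclic_of_pow_eq_one hBmc hp.pos (isElementaryAbelian_map_conj hB'e m).2
  rw [card_map_conj, hcard] at h1
  rwa [pow_one]

/-- **the statement of S1427** (prime action of cyclic Sylow subgroups of `E`) -/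
theorem prime_action (hG : IsMinSimpleOddOrder G) (h1403 : Hyp1403 G)
    (h1404 : Hyp1404 G) (h1413 : Hyp1413 G) (h1416 : Hyp1416 G) (h1350 : Hyp1350 G)
    (h1414 : Hyp1414 G) (h1417 : Hyp1417 G) (h1418 : Hyp1418 G) (h1415 : H1415 G)
    (h1409 : H1409 G)
    (M : Subgroup G) (hM : IsCoatom M) (E : Subgroup G) (hE : IsComplIn E (sigmaCore M) M)
    (p : ℕ) [Fact p.Prime] (S : Sylow p E) (hS1 : (S : Subgroup E) ≠ ⊥)
    (hSc : IsCyclic (S : Subgroup E)) :
    ∀ x ∈ (S : Subgroup E).map E.subtype, x ≠ 1 →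
        sigmaCore M ⊓ centralizer ({x} : Set G) =
          sigmaCore M ⊓ centralizer (((S : Subgroup E).map E.subtype : Subgroup G) : Set G) := by
  have hp : p.Prime := Fact.out
  set S' := (S : Subgroup E).map E.subtype with hS'def
  have hS' : IsSylowIn p S' E := isSylowIn_map_subtype S
  have hS'c : IsCyclic ↥S' := by
    haveI := hSc
    exact isCyclic_of_surjective
      (Subgroup.equivMapOfInjective (S : Subgroup E) E.subtype E.subtype_injective)
      (Subgroup.equivMapOfInjective (S : Subgroup E) E.subtype E.subtype_injective).surjective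
  have hS'1 : S' ≠ ⊥ := by
    intro h
    exact hS1 ((Subgroup.map_eq_bot_iff_of_injective _ E.subtype_injective).mp h)
  have hS'E : S' ≤ E := hS'.le
  have hS'M : S' ≤ M := hS'E.trans hE.1
  obtain ⟨hhall, -, -⟩ := h1350 M hM
  -- `p ∉ σ(M)`
  have hpS' : p ∣ Nat.card ↥S' := dvd_card_of_isPGroup_ne_bot hS'.isPGroup hS'1
  have hpE : p ∣ Nat.card ↥E := hpS'.trans (Subgroup.card_dvd_of_le hS'E)
  have hpM : p ∉ sigma M := by
    intro h
    have := hhall.2.2 p hp h
    rw [Cfsg.Agent.Helper4.BG144.complIn_relIndex_eq' hE] at this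
    exact this hpE
  have hr1 : PRankLE p 1 ↥M := pRankLE_one_of_cyclic_sylow hG h1350 hM hE hS' hS'c hpM
  intro x hx hx1
  apply le_antisymm
  · -- the subgroup `X` of order `p` of `⟨x⟩`
    obtain ⟨i, hi⟩ := orderOf_eq_pow_of_isPGroup hS'.isPGroup hx
    have hi0 : i ≠ 0 := by
      rintro rfl
      rw [pow_zero, orderOf_eq_one_iff] at hi
      exact hx1 hi
    obtain ⟨j, rfl⟩ := Nat.exists_eq_succ_of_ne_zero hi0
    set y := x ^ p ^ j with hy
    have hoy : orderOf y = p := by
      rw [hy, orderOf_pow' x (pow_ne_zero j hp.ne_zero), hi, pow_succ,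
        Nat.gcd_eq_right (Dvd.intro _ rfl), Nat.mul_div_cancel_left _ (pow_pos hp.pos j)]
    set X := zpowers y with hXdef
    have hX : Nat.card ↥X = p := by rw [hXdef, Nat.card_zpowers, hoy]
    have hyS' : y ∈ S' := S'.pow_mem hx _
    have hXS' : X ≤ S' := by rw [hXdef, Subgroup.zpowers_le]; exact hyS'
    have hX1 : X ≠ ⊥ := card_prime_ne_bot hX
    have hNtop : normalizer (X : Set G) ≠ ⊤ := by
      apply normalizer_ne_top_of_isPGroup hG (hS'.isPGroup.to_le hXS') hX1
    obtain ⟨H, hH, hNH⟩ := exists_isCoatom_ge hNtop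
    -- `S'` is abelian, so it normalizes `X`
    have hS'N : S' ≤ normalizer (X : Set G) := by
      haveI := hS'c
      intro s hs
      apply Subgroup.centralizer_le_normalizer (X : Set G)
      rw [Subgroup.mem_centralizer_iff]
      intro z hz
      have hcomm : ∀ a b : ↥S', a * b = b * a := fun a b =>
        (IsCyclic.commGroup (α := ↥S')).mul_comm a b
      have := congrArg Subtype.val (hcomm ⟨z, hXS' hz⟩ ⟨s, hs⟩)
      simpa using this
    have hS'H : S' ≤ H := hS'N.trans hNH
    have key := centralizes_of_normalizer_le hG h1403 h1404 h1413 h1416 h1350 h1414 h1417 h1418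
      h1415 h1409 hM hH hpM hr1 hX hNH hS'.isPGroup hS'M hS'H
    refine le_inf inf_le_left ?_
    refine le_trans (le_inf inf_le_left ?_) key
    -- `C(x) ≤ C(X) ≤ N(X) ≤ H`
    refine inf_le_right.trans (le_trans ?_ ((Subgroup.centralizer_le_normalizer (X : Set G)).trans hNH))
    intro c hc
    rw [Subgroup.mem_centralizer_iff] at hc ⊢
    intro z hz
    rw [hXdef, SetLike.mem_coe, Subgroup.mem_zpowers_iff] at hz
    obtain ⟨n, rfl⟩ := hz
    have hcx : x * c = c * x := hc x (Set.mem_singleton x)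
    have hcy : Commute y c := by
      rw [hy]; exact (Commute.pow_left hcx _)
    exact (hcy.zpow_left n).eq
  · apply inf_le_inf_left
    apply Subgroup.centralizer_le
    intro z hz
    rw [Set.mem_singleton_iff] at hz
    rw [hz]; exact hx

end Cfsg.Agent.Helper18.BG13P
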