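import Mathlib
import Cfsg.Agent.Lib.Helper8.SecRep5
import Cfsg.Agent.Lib.Helper20.MinInv
import Cfsg.Agent.Lib.Helper12.PGroup
import Cfsg.Agent.Lib.Helper1.Coprime
import Cfsg.Agent.Lib.Helper18.BG13P4

/-!
# Bender-Glauberman 13.7 (helper18), part 1: a Frobenius-action lemma

`lemmaX`: a `p`-group `S` acted on coprimely by a Frobenius group `K R` (kernel `K` nilpotent)
such that `C_S(K)` and `C_S(R)` are cyclic and `Ω₁(C_S(R))` centralizes `K` is centralized by `K`.
-/

set_option autoImplicit false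
set_option linter.style.haveILetI false

namespace Cfsg.Agent.Helper18.BG13Q

open Cfsg Subgroup
open scoped commutatorElement

universe u

variable {G : Type u} [Group G]

open Cfsg.Agent.Helper20.MinInv in
theorem lemmaX [Finite G] {p : ℕ} [Fact p.Prime] (K R : Subgroup G)
    (hKnil : Group.IsNilpotent ↥K)
    (hRK : R ≤ normalizer (K : Set G))
    (hfpf : ∀ e ∈ R, e ≠ 1 → ∀ u ∈ K, e * u = u * e → u = 1) :
    ∀ (n : ℕ) (S : Subgroup G), Nat.card ↥S = n → IsPGroup p ↥S →
      K ≤ normalizer (S : Set G) → R ≤ normalizer (S : Set G) →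
      (Nat.card ↥S).Coprime (Nat.card ↥(K ⊔ R)) →
      IsCyclic ↥(S ⊓ centralizer (K : Set G)) →
      IsCyclic ↥(S ⊓ centralizer (R : Set G)) →
      (∀ c ∈ S ⊓ centralizer (R : Set G), c ^ p = 1 → c ∈ centralizer (K : Set G)) →
      S ≤ centralizer (K : Set G) := by
  intro n
  induction n using Nat.strong_induction_on with
  | _ n ih =>
  intro S hn hS hKS hRS hcop hcK hcR hΩ
  by_contra hne
  have hpp : p.Prime := Fact.out
  have hDS : S ⊓ centralizer (K : Set G) ≤ S := inf_le_left
  have hDK : S ⊓ centralizer (K : Set G) ≤ centralizer (K : Set G) := inf_le_right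
  have hcopK : (Nat.card ↥K).Coprime (Nat.card ↥S) :=
    (Nat.Coprime.coprime_dvd_right (Subgroup.card_dvd_of_le le_sup_left) hcop).symm
  have hcopR : (Nat.card ↥R).Coprime (Nat.card ↥S) :=
    (Nat.Coprime.coprime_dvd_right (Subgroup.card_dvd_of_le le_sup_right) hcop).symm
  -- minimality
  have hmin : ∀ T : Subgroup G, T ≤ S → T ≠ S → K ≤ normalizer (T : Set G) →
      R ≤ normalizer (T : Set G) → T ≤ S ⊓ centralizer (K : Set G) := by
    intro T hTS hTne hKT hRT
    have hlt : Nat.card ↥T < n := by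
      rw [← hn]
      exact Cfsg.Agent.Helper12.card_lt_card_of_lt (lt_of_le_of_ne hTS hTne)
    have h1 : IsCyclic ↥(T ⊓ centralizer (K : Set G)) :=
      Cfsg.Agent.Helper18.BG13P.isCyclic_of_le_aux (inf_le_inf_right _ hTS) hcK
    have h2 : IsCyclic ↥(T ⊓ centralizer (R : Set G)) :=
      Cfsg.Agent.Helper18.BG13P.isCyclic_of_le_aux (inf_le_inf_right _ hTS) hcR
    have := ih (Nat.card ↥T) hlt T rfl (hS.to_le hTS) hKT hRT
      (Nat.Coprime.coprime_dvd_left (Subgroup.card_dvd_of_le hTS) hcop) h1 h2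
      (fun c hc hcp => hΩ c ⟨hTS hc.1, hc.2⟩ hcp)
    exact le_inf hTS this
  -- Step 1
  have h1 : ⁅S, K⁆ = S := by
    by_contra h
    have hle : ⁅S, K⁆ ≤ S := comm_le_of_le_normalizer hKS
    have hKn : K ≤ normalizer ((⁅S, K⁆ : Subgroup G) : Set G) :=
      Cfsg.Agent.Helper18.BG13P.le_normalizer_commutator_of_le hKS Subgroup.le_normalizer
    have hRn : R ≤ normalizer ((⁅S, K⁆ : Subgroup G) : Set G) :=
      Cfsg.Agent.Helper18.BG13P.le_normalizer_commutator_of_le hRS hRK
    have h2 := hmin _ hle h hKn hRn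
    have h3 : ⁅⁅S, K⁆, K⁆ = ⊥ :=
      Subgroup.commutator_eq_bot_iff_le_centralizer.mpr (h2.trans hDK)
    exact hne (le_centralizer_of_comm_comm_eq_bot hcopK hKS h3)
  -- Step 2
  have hDne : S ⊓ centralizer (K : Set G) ≠ S := fun h => hne (by rw [← h]; exact hDK)
  have hKD : K ≤ normalizer ((S ⊓ centralizer (K : Set G) : Subgroup G) : Set G) :=
    Cfsg.Agent.Helper18.BG13P.le_normalizer_inf_of_le hKS
      (Subgroup.le_normalizer.trans (normalizer_le_normalizer_centralizer K))
  have hRD : R ≤ normalizer ((S ⊓ centralizer (K : Set G) : Subgroup G) : Set G) :=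
    Cfsg.Agent.Helper18.BG13P.le_normalizer_inf_of_le hRS
      (hRK.trans (normalizer_le_normalizer_centralizer K))
  have hSD : S ≤ normalizer ((S ⊓ centralizer (K : Set G) : Subgroup G) : Set G) := by
    by_contra h
    have hT : S ⊓ normalizer ((S ⊓ centralizer (K : Set G) : Subgroup G) : Set G) ≠ S :=
      fun h' => h (le_trans (le_of_eq h'.symm) inf_le_right)
    have h2 := hmin _ inf_le_left hT
      (Cfsg.Agent.Helper18.BG13P.le_normalizer_inf_of_le hKS (hKD.trans Subgroup.le_normalizer))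
      (Cfsg.Agent.Helper18.BG13P.le_normalizer_inf_of_le hRS (hRD.trans Subgroup.le_normalizer))
    obtain ⟨g, hgS, hgD, hgN⟩ := Cfsg.Agent.Helper12.exists_mem_normalizer_not_mem S hS _
      (lt_of_le_of_ne hDS hDne)
    exact hgD (h2 ⟨hgS, hgN⟩)
  -- Step 3
  have hDK0 : ⁅S ⊓ centralizer (K : Set G), K⁆ = ⊥ :=
    Subgroup.commutator_eq_bot_iff_le_centralizer.mpr hDK
  have h3 : ⁅S, S ⊓ centralizer (K : Set G)⁆ = ⊥ := by
    have a1 : ⁅⁅K, S ⊓ centralizer (K : Set G)⁆, S⁆ = ⊥ := by
      rw [Subgroup.commutator_comm K, hDK0]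
      exact Subgroup.commutator_bot_left S
    have a2 : ⁅⁅S ⊓ centralizer (K : Set G), S⁆, K⁆ = ⊥ := by
      have h : ⁅S ⊓ centralizer (K : Set G), S⁆ ≤ S ⊓ centralizer (K : Set G) :=
        comm_le_of_le_normalizer hSD
      rw [eq_bot_iff, ← hDK0]
      exact Subgroup.commutator_mono h le_rfl
    have := Subgroup.commutator_commutator_eq_bot_of_rotate a1 a2
    rwa [h1] at this
  have hcent : ∀ d ∈ S ⊓ centralizer (K : Set G), ∀ s ∈ S, d * s = s * d := by
    intro d hd s hs
    have := (Subgroup.commutator_eq_bot_iff_le_centralizer.mp h3) hs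
    exact (Subgroup.mem_centralizer_iff.mp this) d hd
  -- Step 4
  have hSne : S ≠ ⊥ := by
    rintro rfl
    exact hne bot_le
  have h4 : ⁅S, S⁆ ≤ S ⊓ centralizer (K : Set G) :=
    hmin _ (comm_le_of_le_normalizer Subgroup.le_normalizer)
      (commutator_ne_self_of_isNilpotent hS.isNilpotent hSne)
      (Cfsg.Agent.Helper18.BG13P.le_normalizer_commutator_of_le hKS hKS)
      (Cfsg.Agent.Helper18.BG13P.le_normalizer_commutator_of_le hRS hRS)
  have h4' : S ⊓ centralizer (K : Set G) ≤ ⁅S, S⁆ :=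
    inf_centralizer_le_commutator S K hKS hcopK h1
  have h5 : ∀ s ∈ S, s ^ p ∈ S ⊓ centralizer (K : Set G) := by
    have hA := agemo_lt (q := p) S hS hSne
    have := hmin _ hA.le hA.ne (hKS.trans (normalizer_le_normalizer_agemo S))
      (hRS.trans (normalizer_le_normalizer_agemo S))
    intro s hs
    exact this (Subgroup.subset_closure ⟨s, hs, rfl⟩)
  -- Step 5
  have h6 : ∀ s ∈ S, ∀ t ∈ S, ⁅s, t⁆ ^ p = 1 := by
    intro s hs t ht
    have hc : ⁅s, t⁆ ∈ S ⊓ centralizer (K : Set G) :=
      h4 (Subgroup.commutator_mem_commutator hs ht)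
    have h := comm_pow_of_commute s t (hcent _ hc s hs) p
    rw [← h, commutatorElement_eq_one_iff_mul_comm]
    exact hcent _ (h5 s hs) t ht
  have h7 : ∀ x ∈ S ⊓ centralizer (K : Set G), x ^ p = 1 := by
    intro x hx
    have hx' := h4' hx
    clear hx
    rw [Subgroup.commutator_def] at hx'
    induction hx' using Subgroup.closure_induction with
    | mem y hy =>
      obtain ⟨a, ha, b, hb, rfl⟩ := hy
      exact h6 a ha b hb
    | one => simp
    | mul y z hy hz ihy ihz =>
      have hy' : y ∈ S ⊓ centralizer (K : Set G) := h4 (by rw [Subgroup.commutator_def]; exact hy)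
      have hz' : z ∈ S := (h4 (by rw [Subgroup.commutator_def]; exact hz)).1
      have hc : Commute y z := hcent y hy' z hz'
      rw [hc.mul_pow, ihy, ihz, mul_one]
    | inv y hy ih => rw [inv_pow, ih, inv_one]
  have h8 : Nat.card ↥(S ⊓ centralizer (K : Set G)) ≤ p :=
    Cfsg.Agent.Helper18.BG13P.card_le_of_isCyclic_of_pow_eq_one hcK hpp.pos h7
  -- Step 6
  have hCD : S ⊓ centralizer (R : Set G) ≤ S ⊓ centralizer (K : Set G) := by
    by_cases hC : S ⊓ centralizer (R : Set G) = ⊥
    · rw [hC]; exact bot_le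
    have hCp : IsPGroup p ↥(S ⊓ centralizer (R : Set G)) := hS.to_le inf_le_left
    have hdvd : p ∣ Nat.card ↥(S ⊓ centralizer (R : Set G)) := by
      obtain ⟨k, hk⟩ := IsPGroup.iff_card.mp hCp
      rw [hk]
      rcases Nat.eq_zero_or_pos k with h0 | h0
      · exfalso
        rw [h0, pow_zero] at hk
        exact hC (Subgroup.card_eq_one.mp hk)
      · exact dvd_pow_self p h0.ne'
    obtain ⟨c₀, hc₀⟩ := exists_prime_orderOf_dvd_card' (G := ↥(S ⊓ centralizer (R : Set G))) p hdvd
    have hc₀p : (c₀ : G) ^ p = 1 := by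
      have := pow_orderOf_eq_one c₀
      rw [hc₀] at this
      have h := congrArg Subtype.val this
      simpa using h
    have hc₀D : (c₀ : G) ∈ S ⊓ centralizer (K : Set G) := ⟨c₀.2.1, hΩ _ c₀.2 hc₀p⟩
    have hord : orderOf (c₀ : G) = p := by rw [Subgroup.orderOf_coe]; exact hc₀
    have hzD : Subgroup.zpowers (c₀ : G) = S ⊓ centralizer (K : Set G) := by
      apply Subgroup.eq_of_le_of_card_ge
      · rw [Subgroup.zpowers_le]; exact hc₀D
      · rw [Nat.card_zpowers, hord]; exact h8
    have hDC : S ⊓ centralizer (K : Set G) ≤ S ⊓ centralizer (R : Set G) := by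
      rw [← hzD, Subgroup.zpowers_le]; exact c₀.2
    -- C is commutative
    have hCcomm : ∀ a ∈ S ⊓ centralizer (R : Set G), ∀ b ∈ S ⊓ centralizer (R : Set G),
        a * b = b * a := by
      intro a ha b hb
      haveI := hcR
      have := IsCyclic.commGroup.mul_comm (⟨a, ha⟩ : ↥(S ⊓ centralizer (R : Set G))) ⟨b, hb⟩
      exact congrArg Subtype.val this
    -- C ≤ Z(S)
    have hCZ : ∀ c ∈ S ⊓ centralizer (R : Set G), ∀ s ∈ S, c * s = s * c := by
      intro c hc s hs
      have hRT : R ≤ normalizer ((S ⊓ centralizer ({c} : Set G) : Subgroup G) : Set G) := by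
        apply Cfsg.Agent.Helper18.BG13P.le_normalizer_inf_of_le hRS
        refine le_trans ?_ Subgroup.le_normalizer
        intro a ha
        rw [Subgroup.mem_centralizer_singleton_iff]
        exact (Subgroup.mem_centralizer_iff.mp hc.2 a ha)
      have hx : ∀ a ∈ R, s⁻¹ * a * s * a⁻¹ ∈ S ⊓ centralizer ({c} : Set G) := by
        intro a ha
        have hy : a * s * a⁻¹ ∈ S := (Subgroup.mem_normalizer_iff.mp (hRS ha) s).mp hs
        refine Subgroup.mem_inf.mpr ⟨?_, ?_⟩
        · have : s⁻¹ * a * s * a⁻¹ = s⁻¹ * (a * s * a⁻¹) := by group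
          rw [this]
          exact S.mul_mem (S.inv_mem hs) hy
        · rw [Subgroup.mem_centralizer_singleton_iff]
          have hac : a * c = c * a := (Subgroup.mem_centralizer_iff.mp hc.2 a ha)
          have hz : ⁅c, s⁆ ∈ S ⊓ centralizer (K : Set G) :=
            h4 (Subgroup.commutator_mem_commutator hc.1 hs)
          have haz : a * ⁅c, s⁆ = ⁅c, s⁆ * a :=
            (Subgroup.mem_centralizer_iff.mp (hDC hz).2 a ha)
          have hca : a * c * a⁻¹ = c := by rw [hac]; group
          have e1 : c * (a * s * a⁻¹) * c⁻¹ * (a * s * a⁻¹)⁻¹ = c * s * c⁻¹ * s⁻¹ := by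
            have h : a * (c * s * c⁻¹ * s⁻¹) * a⁻¹ = c * s * c⁻¹ * s⁻¹ := by
              rw [commutatorElement_def] at haz
              rw [haz]; group
            calc c * (a * s * a⁻¹) * c⁻¹ * (a * s * a⁻¹)⁻¹
                = (a * c * a⁻¹) * (a * s * a⁻¹) * (a * c * a⁻¹)⁻¹ * (a * s * a⁻¹)⁻¹ := by
                  rw [hca]
              _ = a * (c * s * c⁻¹ * s⁻¹) * a⁻¹ := by group
              _ = _ := h
          have e2 : (a * s * a⁻¹) * c⁻¹ * (a * s * a⁻¹)⁻¹ = s * c⁻¹ * s⁻¹ := by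
            have := congrArg (fun w => c⁻¹ * w) e1
            beta_reduce at this
            calc (a * s * a⁻¹) * c⁻¹ * (a * s * a⁻¹)⁻¹
                = c⁻¹ * (c * (a * s * a⁻¹) * c⁻¹ * (a * s * a⁻¹)⁻¹) := by group
              _ = c⁻¹ * (c * s * c⁻¹ * s⁻¹) := this
              _ = _ := by group
          have e3 : (s⁻¹ * a * s * a⁻¹) * c⁻¹ = c⁻¹ * (s⁻¹ * a * s * a⁻¹) := by
            calc (s⁻¹ * a * s * a⁻¹) * c⁻¹
                = s⁻¹ * ((a * s * a⁻¹) * c⁻¹ * (a * s * a⁻¹)⁻¹) * (a * s * a⁻¹) := by group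
              _ = s⁻¹ * (s * c⁻¹ * s⁻¹) * (a * s * a⁻¹) := by rw [e2]
              _ = _ := by group
          have e4 : Commute (s⁻¹ * a * s * a⁻¹) c⁻¹ := e3
          exact (Commute.inv_right_iff.mp e4).eq
      have hsolvT : Group.IsSolvable ↥(S ⊓ centralizer ({c} : Set G)) := by
        haveI := (hS.to_le (inf_le_left : S ⊓ centralizer ({c} : Set G) ≤ S)).isNilpotent
        infer_instance
      obtain ⟨c', hc'R, hc'T⟩ := Cfsg.Agent.Helper1.exists_centralizer_mem_coset
        (S ⊓ centralizer ({c} : Set G)) R hRT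
        (Nat.Coprime.coprime_dvd_right (Subgroup.card_dvd_of_le inf_le_left) hcopR)
        (Or.inr hsolvT) s hx
      have hc'S : c' ∈ S := by
        have : c' = s * (s⁻¹ * c') := by group
        rw [this]
        exact S.mul_mem hs hc'T.1
      have hcc' : c * c' = c' * c := hCcomm c hc c' ⟨hc'S, hc'R⟩
      have hct : (s⁻¹ * c') * c = c * (s⁻¹ * c') :=
        Subgroup.mem_centralizer_singleton_iff.mp hc'T.2
      have hs_eq : s = c' * (s⁻¹ * c')⁻¹ := by group
      have hct' : Commute c (s⁻¹ * c')⁻¹ := (Commute.inv_right_iff.mpr (Commute.symm hct) )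
      have : Commute c (c' * (s⁻¹ * c')⁻¹) := Commute.mul_right hcc' hct'
      rw [← hs_eq] at this
      exact this.eq
    -- Z(S) proper
    have hZne : S ⊓ centralizer (S : Set G) ≠ S := by
      intro h
      have hab : ⁅S, S⁆ = ⊥ := by
        rw [Subgroup.commutator_eq_bot_iff_le_centralizer]
        exact le_trans (le_of_eq h.symm) inf_le_right
      have : (c₀ : G) ∈ (⊥ : Subgroup G) := by rw [← hab]; exact h4' hc₀D
      rw [Subgroup.mem_bot] at this
      rw [this, orderOf_one] at hord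
      exact hpp.one_lt.ne hord
    have hZ := hmin _ inf_le_left hZne
      (Cfsg.Agent.Helper18.BG13P.le_normalizer_inf_of_le hKS
        (hKS.trans (normalizer_le_normalizer_centralizer S)))
      (Cfsg.Agent.Helper18.BG13P.le_normalizer_inf_of_le hRS
        (hRS.trans (normalizer_le_normalizer_centralizer S)))
    intro c hc
    apply hZ
    refine Subgroup.mem_inf.mpr ⟨hc.1, ?_⟩
    rw [Subgroup.mem_centralizer_iff]
    intro s hs
    exact (hCZ c hc s hs).symm
  -- Frobenius-Wielandt
  have hnorm : K ⊔ R ≤ normalizer (S : Set G) := sup_le hKS hRS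
  have hfw := Cfsg.Agent.Helper8.SecRep.fw_group K R
    (fun e he u hu => (Subgroup.mem_normalizer_iff.mp (hRK he) u).mp hu) hfpf hKnil
    (Nat.card ↥S) S rfl
    (by haveI := hS.isNilpotent; infer_instance) hnorm hcop
  have hKR : S ⊓ centralizer ((K ⊔ R : Subgroup G) : Set G) = S ⊓ centralizer (R : Set G) := by
    apply le_antisymm
    · exact inf_le_inf_left _ (Subgroup.centralizer_le (SetLike.coe_subset_coe.mpr le_sup_right))
    · intro c hc
      refine Subgroup.mem_inf.mpr ⟨hc.1, ?_⟩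
      have h1 : K ≤ centralizer ({c} : Set G) := by
        intro k hk
        rw [Subgroup.mem_centralizer_singleton_iff]
        exact (Subgroup.mem_centralizer_iff.mp (hCD hc).2 k hk)
      have h2 : R ≤ centralizer ({c} : Set G) := by
        intro k hk
        rw [Subgroup.mem_centralizer_singleton_iff]
        exact (Subgroup.mem_centralizer_iff.mp hc.2 k hk)
      rw [Subgroup.mem_centralizer_iff]
      intro x hx
      exact Subgroup.mem_centralizer_singleton_iff.mp (sup_le h1 h2 hx)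
  rw [hKR] at hfw
  have hpos : 0 < Nat.card ↥(S ⊓ centralizer (R : Set G)) ^ Nat.card ↥R :=
    pow_pos Nat.card_pos _
  have hcard : Nat.card ↥S = Nat.card ↥(S ⊓ centralizer (K : Set G)) :=
    Nat.eq_of_mul_eq_mul_left hpos hfw
  exact hDne (Subgroup.eq_of_le_of_card_ge hDS hcard.le)

end Cfsg.Agent.Helper18.BG13Q
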