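import Mathlib
import Cfsg.Agent.Lib.Helper18.BG13P4
import Cfsg.Agent.Lib.Helper18.BG13Q1
import Cfsg.Agent.Lib.Helper22.BG127C

/-!
# Bender-Glauberman 13.7 (helper18), part 2: hypotheses and bad triples

`Hyps G` bundles the earlier frozen statements used in the proof of BG 13.7 (S1428).
`Bad M E P R p r` is a counterexample to S1428; `QData M P R q Q₀` is an `R`-invariant
`q`-subgroup `Q₀ = [Q₀, R] ≠ 1` of `C_{M_σ}(P)`.
-/

set_option autoImplicit false
set_option linter.style.haveILetI false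

namespace Cfsg.Agent.Helper18.BG13Q

open Cfsg Subgroup
open scoped commutatorElement
open Cfsg.Agent.Helper22.BG13
open Cfsg.Agent.Helper18.BG13P (H1415 H1409)

universe u

variable {G : Type u} [Group G]

/-- statement of S1406 -/
def H1406 (G : Type u) [Group G] : Prop :=
  ∀ (M : Subgroup G) (_ : IsCoatom M) (X : Subgroup G) (_ : X ≤ M)
    (_ : ∀ p : ℕ, p.Prime → p ∣ Nat.card X → p ∉ alpha M)
    (_ : ¬ RankLE 1 ↥(alphaCore M ⊓ centralizer (X : Set G))),
    InUniqueMaximal (M ⊓ centralizer (X : Set G))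

/-- the earlier statements used in the proof of BG 13.7 -/
structure Hyps (G : Type u) [Group G] : Prop where
  hG : IsMinSimpleOddOrder G
  h1350 : Hyp1350 G
  h1403 : Hyp1403 G
  h1404 : Hyp1404 G
  h1405 : Hyp1405 G
  h1406 : H1406 G
  h1408 : Cfsg.Agent.Helper22.BG127.Hyp1408 G
  h1409 : H1409 G
  h1411 : Hyp1411 G
  h1413 : Hyp1413 G
  h1414 : Hyp1414 G
  h1415 : H1415 G
  h1416 : Hyp1416 G
  h1417 : Hyp1417 G
  h1418 : Hyp1418 G
  h1422 : Hyp1422 G

/-- a counterexample to BG 13.7: `p ∈ τ₁(M)`, `P ≤ E` of order `p`, `R ≤ C_E(P)` of prime order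
`r`, and `C_{M_σ}(P)` is not centralized by `R` -/
structure Bad (M E P R : Subgroup G) (p r : ℕ) : Prop where
  hM : IsCoatom M
  hE : IsComplIn E (sigmaCore M) M
  hp : p ∈ tau1 M
  hPE : P ≤ E
  hP : Nat.card ↥P = p
  hRE : R ≤ E
  hRP : R ≤ centralizer (P : Set G)
  hR : Nat.card ↥R = r
  hr : r.Prime
  hbad : ¬ sigmaCore M ⊓ centralizer (P : Set G) ≤ centralizer (R : Set G)

/-- an `R`-invariant `q`-subgroup `Q₀ = [Q₀, R] ≠ 1` of `C_{M_σ}(P)` -/
structure QData (M P R : Subgroup G) (q : ℕ) (Q₀ : Subgroup G) : Prop where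
  hq : q.Prime
  le : Q₀ ≤ sigmaCore M ⊓ centralizer (P : Set G)
  pgroup : IsPGroup q ↥Q₀
  ne_bot : Q₀ ≠ ⊥
  norm : R ≤ normalizer (Q₀ : Set G)
  comm : ⁅Q₀, R⁆ = Q₀

end Cfsg.Agent.Helper18.BG13Q
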