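import Mathlib
import Cfsg.Prelude.Def_OddOrder
import Cfsg.Prelude.Def_OddOrderLocal
import Cfsg.Agent.Lib.Helper14.BGUniqH
import Cfsg.Agent.Lib.Lead.BGSigmaHall
import Cfsg.Agent.S1461

/-!
# Bender–Glauberman Corollary 10.7 (b)–(e) from 10.1 and 10.7(a)   (helper18)

The frozen statements of BG 10.1 (S1404) and BG 10.7(a) (S1410) are taken as hypotheses
`H1404 G`, `H1410 G`.
-/

set_option autoImplicit false

namespace Cfsg.Agent.Helper18.BG107

open Cfsg Subgroup

variable {G : Type*} [Group G]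

/-- the frozen statement of S1404 (BG Theorem 10.1) for all `M`, `p`, `X` -/
def H1404 (G : Type*) [Group G] : Prop :=
  ∀ (M : Subgroup G), IsCoatom M → ∀ (p : ℕ) [Fact p.Prime], p ∈ Cfsg.sigma M →
    ∀ (X : Subgroup G), IsPGroup p X → X ≠ ⊥ → X ≤ M →
    (∀ g : G, X.map (MulAut.conj g).toMonoidHom ≤ M →
        ∃ m ∈ M, ∃ c ∈ Subgroup.centralizer (X : Set G), g = m * c) ∧
      Subgroup.normalizer (X : Set G) =
        (M ⊓ Subgroup.normalizer (X : Set G)) ⊔ Subgroup.centralizer (X : Set G)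

/-- the frozen statement of S1410 (BG Corollary 10.7(a)) for all `p`, `H` -/
def H1410 (G : Type*) [Group G] : Prop :=
  ∀ (p : ℕ) [Fact p.Prime] (H : Subgroup G), H ≠ ⊤ → Cfsg.PLengthLE p 1 H

theorem map_conj_eq_of_centralizer {Q : Subgroup G} {m c : G}
    (hc : c ∈ centralizer (Q : Set G)) :
    Q.map (MulAut.conj (m * c)).toMonoidHom = Q.map (MulAut.conj m).toMonoidHom := by
  ext z
  simp only [mem_map, MulEquiv.coe_toMonoidHom, MulAut.conj_apply]
  constructor
  · rintro ⟨y, hy, rfl⟩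
    refine ⟨y, hy, ?_⟩
    have h1 : y * c = c * y := hc y hy
    have : c * y * c⁻¹ = y := by rw [← h1]; group
    calc m * y * m⁻¹ = m * (c * y * c⁻¹) * m⁻¹ := by rw [this]
      _ = m * c * y * (m * c)⁻¹ := by group
  · rintro ⟨y, hy, rfl⟩
    refine ⟨y, hy, ?_⟩
    have h1 : y * c = c * y := hc y hy
    have : c * y * c⁻¹ = y := by rw [← h1]; group
    calc m * c * y * (m * c)⁻¹ = m * (c * y * c⁻¹) * m⁻¹ := by group
      _ = m * y * m⁻¹ := by rw [this]

section
variable [Finite G]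

/-- a nontrivial Sylow subgroup of a minimal simple group lies with its normalizer in a maximal
subgroup `M` with `p ∈ σ(M)`. -/
theorem exists_coatom_sigma (hG : IsMinSimpleOddOrder G) {p : ℕ} [Fact p.Prime] (P : Sylow p G)
    (hP1 : (P : Subgroup G) ≠ ⊥) :
    ∃ M : Subgroup G, IsCoatom M ∧ normalizer ((P : Subgroup G) : Set G) ≤ M ∧ p ∈ Cfsg.sigma M := by
  have hp : p.Prime := Fact.out
  have hne := Cfsg.Agent.Helper14.BGTrans.normalizer_ne_top_of_isPGroup hG P.2 hP1
  obtain ⟨M, hM, hNM⟩ := Cfsg.Agent.Helper14.BGUniq.exists_isCoatom_ge hne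
  have hPM : (P : Subgroup G) ≤ M := le_normalizer.trans hNM
  refine ⟨M, hM, hNM, hp, ?_, P.subtype hPM, ?_⟩
  · have h1 : p ∣ Nat.card (P : Subgroup G) := by
      rcases P.2.card_eq_or_dvd with h | h
      · exact absurd (Subgroup.card_eq_one.mp h) hP1
      · exact h
    exact h1.trans (Subgroup.card_dvd_of_le hPM)
  · have : ((P.subtype hPM : Sylow p M) : Subgroup M).map M.subtype = (P : Subgroup G) := by
      rw [Sylow.coe_subtype, Subgroup.map_subgroupOf_eq_of_le hPM]
    rw [this]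
    exact hNM

end

end Cfsg.Agent.Helper18.BG107
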