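import Mathlib
import Cfsg.Agent.Lib.Helper18.BG107A

/-!
# BG Corollary 10.7: fusion in a maximal subgroup of `p`-length one   (helper18)
-/

set_option autoImplicit false

namespace Cfsg.Agent.Helper18.BG107

open Cfsg Subgroup

variable {G : Type*} [Group G] [Finite G]

theorem mem_sylow_subtype {p : ℕ} [Fact p.Prime] (M : Subgroup G) (P : Sylow p G)
    (hPM : (P : Subgroup G) ≤ M) (z : M) :
    z ∈ ((P.subtype hPM : Sylow p M) : Subgroup M) ↔ (z : G) ∈ (P : Subgroup G) := by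
  rw [Sylow.coe_subtype, mem_subgroupOf]

theorem coe_mem_normalizer_of_mem {p : ℕ} [Fact p.Prime] (M : Subgroup G) (P : Sylow p G)
    (hPM : (P : Subgroup G) ≤ M) (g : M)
    (hg : g ∈ normalizer (((P.subtype hPM : Sylow p M) : Subgroup M) : Set M)) :
    (g : G) ∈ normalizer ((P : Subgroup G) : Set G) := by
  have hS := mem_sylow_subtype M P hPM
  rw [mem_normalizer_iff] at hg ⊢
  intro z
  constructor
  · intro hz
    have hzM : z ∈ M := hPM hz
    have := (hg ⟨z, hzM⟩).mp ((hS _).mpr hz)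
    have h3 := (hS _).mp this
    simpa using h3
  · intro hz
    have hzM : z ∈ M := by
      have h4 : z = (g : G)⁻¹ * ((g : G) * z * (g : G)⁻¹) * (g : G) := by group
      rw [h4]
      exact mul_mem (mul_mem (inv_mem g.2) (hPM hz)) g.2
    have h5 : (⟨z, hzM⟩ : M) ∈ ((P.subtype hPM : Sylow p M) : Subgroup M) := by
      apply (hg ⟨z, hzM⟩).mpr
      apply (hS _).mpr
      simpa using hz
    exact (hS _).mp h5

/-- S1461 (second part) transported to a subgroup `M` of `G`. -/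
theorem fusion_in_subgroup {p : ℕ} [Fact p.Prime] (M : Subgroup G) [Group.IsSolvable M]
    (hpl : Cfsg.PLengthLE p 1 M) (P : Sylow p G) (hPM : (P : Subgroup G) ≤ M)
    (Q : Subgroup G) (hQP : Q ≤ (P : Subgroup G)) (m : G) (hm : m ∈ M)
    (hmQ : Q.map (MulAut.conj m).toMonoidHom ≤ (P : Subgroup G)) :
    ∃ g ∈ M ⊓ normalizer ((P : Subgroup G) : Set G),
      Q.map (MulAut.conj m).toMonoidHom = Q.map (MulAut.conj g).toMonoidHom := by
  obtain ⟨-, h2, -⟩ := Cfsg.Agent.S1461.result (G := M) p hpl (P.subtype hPM)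
  have hS := mem_sylow_subtype M P hPM
  set Y : Set M := {y : M | (y : G) ∈ Q} with hY
  have hYS : Y ⊆ ((P.subtype hPM : Sylow p M) : Subgroup M) := by
    intro y hy
    exact (hS y).mpr (hQP hy)
  have hxY : (fun y : M => (⟨m, hm⟩ : M) * y * (⟨m, hm⟩ : M)⁻¹) '' Y ⊆
      ((P.subtype hPM : Sylow p M) : Subgroup M) := by
    rintro _ ⟨y, hy, rfl⟩
    apply (hS _).mpr
    apply hmQ
    refine ⟨(y : G), hy, ?_⟩
    simp
  obtain ⟨g, hg, c, hc, hgc⟩ := h2 Y ⟨m, hm⟩ hYS hxY
  have hcQ : (c : G) ∈ centralizer (Q : Set G) := by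
    intro y hy
    have hyM : y ∈ M := hPM (hQP hy)
    have := hc ⟨y, hyM⟩ hy
    exact congrArg Subtype.val this
  have hmgc : m = (g : G) * (c : G) := by
    have := congrArg Subtype.val hgc
    simpa using this.symm
  refine ⟨(g : G), ⟨g.2, coe_mem_normalizer_of_mem M P hPM g hg⟩, ?_⟩
  rw [hmgc]
  exact map_conj_eq_of_centralizer hcQ

/-- S1461 (first part) transported to a subgroup `M` of `G`. -/
theorem le_commutator_normalizer_in_subgroup {p : ℕ} [Fact p.Prime] (M : Subgroup G)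
    [Group.IsSolvable M]
    (hpl : Cfsg.PLengthLE p 1 M) (P : Sylow p G) (hPM : (P : Subgroup G) ≤ M)
    (hPM' : (P : Subgroup G) ≤ ⁅M, M⁆) :
    (P : Subgroup G) ≤ ⁅M ⊓ normalizer ((P : Subgroup G) : Set G),
      M ⊓ normalizer ((P : Subgroup G) : Set G)⁆ := by
  obtain ⟨h1, -, -⟩ := Cfsg.Agent.S1461.result (G := M) p hpl (P.subtype hPM)
  have hS := mem_sylow_subtype M P hPM
  have hSc : ((P.subtype hPM : Sylow p M) : Subgroup M) ≤ _root_.commutator M := by
    intro z hz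
    have hz' : (z : G) ∈ ⁅M, M⁆ := hPM' ((hS z).mp hz)
    rw [← Subgroup.map_subtype_commutator] at hz'
    obtain ⟨w, hw, hwz⟩ := hz'
    have : w = z := Subtype.ext hwz
    rwa [← this]
  have h2 := h1 hSc
  intro x hx
  have hxM : x ∈ M := hPM hx
  have h3 := h2 ((hS ⟨x, hxM⟩).mpr hx)
  have h4 : (⟨x, hxM⟩ : M).1 ∈ (⁅normalizer (((P.subtype hPM : Sylow p M) : Subgroup M) : Set M),
      normalizer (((P.subtype hPM : Sylow p M) : Subgroup M) : Set M)⁆).map M.subtype :=
    mem_map_of_mem _ h3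
  rw [Subgroup.map_commutator] at h4
  refine Subgroup.commutator_mono ?_ ?_ h4
  all_goals
    rintro _ ⟨g, hg, rfl⟩
    exact ⟨g.2, coe_mem_normalizer_of_mem M P hPM g hg⟩

end Cfsg.Agent.Helper18.BG107
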