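import Mathlib
import Cfsg.Agent.Lib.Helper18.BG107B

/-!
# BG Corollary 10.7 (b)–(e)   (helper18)
-/

set_option autoImplicit false

namespace Cfsg.Agent.Helper18.BG107

open Cfsg Subgroup

variable {G : Type*} [Group G]

theorem mc_mul (H : Subgroup G) (a b : G) :
    H.map (MulAut.conj (a * b)).toMonoidHom =
      (H.map (MulAut.conj b).toMonoidHom).map (MulAut.conj a).toMonoidHom := by
  rw [Subgroup.map_map]
  congr 1
  ext x
  simp [mul_assoc]

theorem mc_self_of_mem_normalizer {H : Subgroup G} {g : G} (hg : g ∈ normalizer (H : Set G)) :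
    H.map (MulAut.conj g).toMonoidHom = H := by
  ext z
  simp only [mem_map, MulEquiv.coe_toMonoidHom, MulAut.conj_apply]
  constructor
  · rintro ⟨y, hy, rfl⟩
    exact (mem_normalizer_iff.mp hg y).mp hy
  · intro hz
    have hg' : g⁻¹ ∈ normalizer (H : Set G) := inv_mem hg
    refine ⟨g⁻¹ * z * g, ?_, by group⟩
    have := (mem_normalizer_iff.mp hg' z).mp hz
    simpa using this

theorem mem_normalizer_of_mc_eq {H : Subgroup G} {g : G}
    (h : H.map (MulAut.conj g).toMonoidHom = H) : g ∈ normalizer (H : Set G) := by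
  rw [mem_normalizer_iff]
  intro x
  constructor
  · intro hx
    rw [← h]
    exact ⟨x, hx, rfl⟩
  · intro hx
    rw [← h] at hx
    obtain ⟨y, hy, hyx⟩ := hx
    have : y = x := by
      simp only [MulEquiv.coe_toMonoidHom, MulAut.conj_apply] at hyx
      have h1 : g⁻¹ * (g * y * g⁻¹) * g = g⁻¹ * (g * x * g⁻¹) * g := by rw [hyx]
      simpa [mul_assoc] using h1
    rwa [← this]

theorem mc_one (H : Subgroup G) : H.map (MulAut.conj (1 : G)).toMonoidHom = H := by
  ext x
  simp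

theorem mc_inv_mc (H : Subgroup G) (g : G) :
    (H.map (MulAut.conj g⁻¹).toMonoidHom).map (MulAut.conj g).toMonoidHom = H := by
  rw [← mc_mul, mul_inv_cancel, mc_one]

theorem mc_mc_inv (H : Subgroup G) (g : G) :
    (H.map (MulAut.conj g).toMonoidHom).map (MulAut.conj g⁻¹).toMonoidHom = H := by
  rw [← mc_mul, inv_mul_cancel, mc_one]

theorem sylow_smul_coe {p : ℕ} (P : Sylow p G) (z : G) :
    ((z • P : Sylow p G) : Subgroup G) = (P : Subgroup G).map (MulAut.conj z).toMonoidHom := by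
  rw [Sylow.coe_subgroup_smul, Subgroup.pointwise_smul_def]
  rfl

theorem map_conj_inf_normalizer (w : G) (P Q : Subgroup G) (hw : w ∈ normalizer (Q : Set G)) :
    (P ⊓ normalizer (Q : Set G)).map (MulAut.conj w).toMonoidHom =
      P.map (MulAut.conj w).toMonoidHom ⊓ normalizer (Q : Set G) := by
  rw [Subgroup.map_inf_eq _ _ _ (MulAut.conj w).injective]
  congr 1
  ext z
  simp only [mem_map, MulEquiv.coe_toMonoidHom, MulAut.conj_apply]
  constructor
  · rintro ⟨y, hy, rfl⟩
    exact mul_mem (mul_mem hw hy) (inv_mem hw)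
  · intro hz
    refine ⟨w⁻¹ * z * w, mul_mem (mul_mem (inv_mem hw) hz) hw, by group⟩

/-- the conclusion of BG 10.7(c) for a Sylow subgroup `P` -/
def Fus {p : ℕ} [Fact p.Prime] (P : Sylow p G) : Prop :=
  ∀ (Q : Subgroup G) (x : G), Q ≤ (P : Subgroup G) →
      Q.map (MulAut.conj x).toMonoidHom ≤ (P : Subgroup G) →
      ∃ y ∈ normalizer ((P : Subgroup G) : Set G),
        Q.map (MulAut.conj x).toMonoidHom = Q.map (MulAut.conj y).toMonoidHom

variable [Finite G]

/-- BG 10.7(c): control of fusion by `N_G(P)`. -/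
theorem fusion (hG : IsMinSimpleOddOrder G) (h04 : H1404 G) (h10 : H1410 G) {p : ℕ} [Fact p.Prime]
    (P : Sylow p G) : Fus P := by
  intro Q x hQP hxQ
  by_cases hQ1 : Q = ⊥
  · subst hQ1
    exact ⟨1, one_mem _, by simp⟩
  have hP1 : (P : Subgroup G) ≠ ⊥ := by
    intro h
    apply hQ1
    rw [eq_bot_iff, ← h]
    exact hQP
  obtain ⟨M, hM, hNM, hpσ⟩ := exists_coatom_sigma hG P hP1
  have hPM : (P : Subgroup G) ≤ M := le_normalizer.trans hNM
  have : Group.IsSolvable M := Cfsg.Agent.Helper14.BGTrans.isSolvable_of_ne_top hG hM.1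
  have hpl : PLengthLE p 1 M := h10 p M hM.1
  obtain ⟨h1, -⟩ := h04 M hM p hpσ Q (P.2.to_le hQP) hQ1 (hQP.trans hPM)
  obtain ⟨m, hm, c, hc, rfl⟩ := h1 x (hxQ.trans hPM)
  rw [map_conj_eq_of_centralizer hc] at hxQ ⊢
  obtain ⟨g, hg, hgQ⟩ := fusion_in_subgroup M hpl P hPM Q hQP m hm hxQ
  exact ⟨g, hg.2, hgQ⟩

/-- if `R` is a `p`-subgroup with `Q ≤ R`, then `R ≤ P^w` for some `w ∈ N_G(Q)`. -/
theorem exists_normalizer_conj {p : ℕ} [Fact p.Prime] (P : Sylow p G) (hfus : Fus P)
    (Q : Subgroup G) (hQP : Q ≤ (P : Subgroup G)) (R : Subgroup G) (hR : IsPGroup p R)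
    (hQR : Q ≤ R) :
    ∃ w ∈ normalizer (Q : Set G), R ≤ (P : Subgroup G).map (MulAut.conj w).toMonoidHom := by
  obtain ⟨P', hRP'⟩ := hR.exists_le_sylow
  obtain ⟨z, hz⟩ := MulAction.exists_smul_eq G P P'
  have hP' : (P' : Subgroup G) = (P : Subgroup G).map (MulAut.conj z).toMonoidHom := by
    rw [← hz, sylow_smul_coe]
  have hQz : Q.map (MulAut.conj z⁻¹).toMonoidHom ≤ (P : Subgroup G) := by
    have h1 : Q ≤ (P : Subgroup G).map (MulAut.conj z).toMonoidHom := by
      rw [← hP']; exact hQR.trans hRP'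
    have h2 := Subgroup.map_mono (f := (MulAut.conj z⁻¹).toMonoidHom) h1
    rwa [mc_mc_inv] at h2
  obtain ⟨y, hy, hyQ⟩ := hfus Q z⁻¹ hQP hQz
  refine ⟨z * y, ?_, ?_⟩
  · apply mem_normalizer_of_mc_eq
    rw [mc_mul, ← hyQ, mc_inv_mc]
  · rw [mc_mul, mc_self_of_mem_normalizer hy, ← hP']
    exact hRP'

/-- BG 10.7(d): `N_P(Q)` is a Sylow `p`-subgroup of `N_G(Q)`. -/
theorem not_dvd_relIndex {p : ℕ} [Fact p.Prime] (P : Sylow p G) (hfus : Fus P)
    (Q : Subgroup G) (hQP : Q ≤ (P : Subgroup G)) :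
    ¬ p ∣ ((P : Subgroup G) ⊓ normalizer (Q : Set G)).relIndex (normalizer (Q : Set G)) := by
  set N := normalizer (Q : Set G) with hN
  have hpg : IsPGroup p (((P : Subgroup G) ⊓ N).subgroupOf N) :=
    (P.2.to_le inf_le_left).comap_subtype
  obtain ⟨R, hR⟩ := hpg.exists_le_sylow
  have hR'p : IsPGroup p ((R : Subgroup N).map N.subtype) := R.2.map _
  have hQR' : Q ≤ (R : Subgroup N).map N.subtype := by
    intro q hq
    have hqN : q ∈ N := le_normalizer hq
    refine ⟨⟨q, hqN⟩, hR ?_, rfl⟩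
    rw [mem_subgroupOf]
    exact ⟨hQP hq, hqN⟩
  obtain ⟨w, hw, hRw⟩ := exists_normalizer_conj P hfus Q hQP _ hR'p hQR'
  have h1 : (R : Subgroup N).map N.subtype ≤
      ((P : Subgroup G) ⊓ N).map (MulAut.conj w).toMonoidHom := by
    rw [map_conj_inf_normalizer w _ Q hw]
    exact le_inf hRw (Subgroup.map_subtype_le _)
  have h2 : Nat.card (R : Subgroup N) ≤ Nat.card (((P : Subgroup G) ⊓ N).subgroupOf N) := by
    have e1 : Nat.card ((R : Subgroup N).map N.subtype) = Nat.card (R : Subgroup N) :=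
      Subgroup.card_map_of_injective N.subtype_injective
    have e2 : Nat.card (((P : Subgroup G) ⊓ N).map (MulAut.conj w).toMonoidHom) =
        Nat.card ((P : Subgroup G) ⊓ N : Subgroup G) :=
      Subgroup.card_map_of_injective (MulAut.conj w).injective
    have e3 : Nat.card (((P : Subgroup G) ⊓ N).subgroupOf N) =
        Nat.card ((P : Subgroup G) ⊓ N : Subgroup G) := by
      rw [← Subgroup.card_map_of_injective N.subtype_injective,
        Subgroup.map_subgroupOf_eq_of_le inf_le_right]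
    rw [← e1, e3, ← e2]
    exact Nat.le_of_dvd Nat.card_pos (Subgroup.card_dvd_of_le h1)
  have h3 : ((P : Subgroup G) ⊓ N).subgroupOf N = (R : Subgroup N) := by
    apply Subgroup.eq_of_le_of_card_ge hR
    exact h2
  have h4 : ((P : Subgroup G) ⊓ N).relIndex N = (R : Subgroup N).index := by
    rw [Subgroup.relIndex, h3]
  rw [h4]
  exact R.not_dvd_index

/-- BG 10.7(e). -/
theorem normalizer_le_normalizer {p : ℕ} [Fact p.Prime] (P : Sylow p G) (hfus : Fus P)
    (R Q : Subgroup G) (hR : IsPGroup p R) (hQ : Q ≤ (P : Subgroup G) ⊓ R)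
    (hN : normalizer ((P : Subgroup G) : Set G) ≤ normalizer (Q : Set G)) :
    normalizer (R : Set G) ≤ normalizer (Q : Set G) := by
  have hQP : Q ≤ (P : Subgroup G) := hQ.trans inf_le_left
  have hQR : Q ≤ R := hQ.trans inf_le_right
  -- every `g` with `R ≤ P^g` normalizes `Q`
  have key : ∀ g : G, R ≤ (P : Subgroup G).map (MulAut.conj g).toMonoidHom →
      g ∈ normalizer (Q : Set G) := by
    intro g hg
    have hQg : Q.map (MulAut.conj g⁻¹).toMonoidHom ≤ (P : Subgroup G) := by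
      have h2 := Subgroup.map_mono (f := (MulAut.conj g⁻¹).toMonoidHom) (hQR.trans hg)
      rwa [mc_mc_inv] at h2
    obtain ⟨y, hy, hyQ⟩ := hfus Q g⁻¹ hQP hQg
    rw [mc_self_of_mem_normalizer (hN hy)] at hyQ
    have : g⁻¹ ∈ normalizer (Q : Set G) := mem_normalizer_of_mc_eq hyQ
    simpa using inv_mem this
  obtain ⟨P', hRP'⟩ := hR.exists_le_sylow
  obtain ⟨z, hz⟩ := MulAction.exists_smul_eq G P P'
  have hP' : (P' : Subgroup G) = (P : Subgroup G).map (MulAut.conj z).toMonoidHom := by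
    rw [← hz, sylow_smul_coe]
  have hz1 : z ∈ normalizer (Q : Set G) := key z (by rw [← hP']; exact hRP')
  intro n hn
  have h1 : R ≤ (P : Subgroup G).map (MulAut.conj (n * z)).toMonoidHom := by
    rw [mc_mul, ← hP']
    have h2 := Subgroup.map_mono (f := (MulAut.conj n).toMonoidHom) hRP'
    rwa [mc_self_of_mem_normalizer hn] at h2
  have h3 := key (n * z) h1
  have : n = (n * z) * z⁻¹ := by group
  rw [this]
  exact mul_mem h3 (inv_mem hz1)

end Cfsg.Agent.Helper18.BG107
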