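import Mathlib
import Cfsg.Agent.Lib.Helper18.BG107C
import Cfsg.Agent.S1459

/-!
# BG Corollary 10.7 (b)   (helper18)
-/

set_option autoImplicit false

namespace Cfsg.Agent.Helper18.BG107

open Cfsg Subgroup

variable {G : Type*} [Group G] [Finite G]

/-- BG 10.7(b), second half: `P ≤ N_G(P)'`. -/
theorem sylow_le_commutator_normalizer (hG : IsMinSimpleOddOrder G) (h04 : H1404 G)
    (h10 : H1410 G) {p : ℕ} [Fact p.Prime] (P : Sylow p G) :
    (P : Subgroup G) ≤ ⁅normalizer ((P : Subgroup G) : Set G),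
      normalizer ((P : Subgroup G) : Set G)⁆ := by
  by_cases hP1 : (P : Subgroup G) = ⊥
  · rw [hP1]; exact bot_le
  obtain ⟨M, hM, hNM, hpσ⟩ := exists_coatom_sigma hG P hP1
  have hPM : (P : Subgroup G) ≤ M := le_normalizer.trans hNM
  have : Group.IsSolvable M := Cfsg.Agent.Helper14.BGTrans.isSolvable_of_ne_top hG hM.1
  have hpl : PLengthLE p 1 M := h10 p M hM.1
  have hmap : ((P.subtype hPM : Sylow p M) : Subgroup M).map M.subtype = (P : Subgroup G) := by
    rw [Sylow.coe_subtype, Subgroup.map_subgroupOf_eq_of_le hPM]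
  have hctl : Cfsg.Agent.Lead.BGSig.Ctl M p := by
    intro X hXp hX1 hXM g hg
    exact (h04 M hM p hpσ X hXp hX1 hXM).1 g hg
  have hPM' : (P : Subgroup G) ≤ ⁅M, M⁆ := by
    have := Cfsg.Agent.Lead.BGSig.le_commutator_of_ctl hG M (P.subtype hPM)
      (by rw [hmap]; exact hNM) hctl
    rwa [hmap] at this
  have h1 := le_commutator_normalizer_in_subgroup M hpl P hPM hPM'
  have h2 : M ⊓ normalizer ((P : Subgroup G) : Set G) = normalizer ((P : Subgroup G) : Set G) :=
    inf_eq_right.mpr hNM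
  rwa [h2] at h1

/-- BG 10.7(b), first half: `P = [P, V]` for a complement `V` of `P` in `N_G(P)`. -/
theorem sylow_eq_commutator_compl (hG : IsMinSimpleOddOrder G) (h04 : H1404 G)
    (h10 : H1410 G) {p : ℕ} [Fact p.Prime] (P : Sylow p G) (V : Subgroup G)
    (hV : Cfsg.IsComplIn (P : Subgroup G) V (normalizer ((P : Subgroup G) : Set G))) :
    (P : Subgroup G) = ⁅(P : Subgroup G), V⁆ := by
  obtain ⟨hPN, hVN, hPV, hmul⟩ := hV
  set N := normalizer ((P : Subgroup G) : Set G) with hN
  by_cases hP1 : (P : Subgroup G) = ⊥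
  · rw [hP1]
    exact (Subgroup.commutator_bot_left V).symm
  have hNtop : N ≠ ⊤ := Cfsg.Agent.Helper14.BGTrans.normalizer_ne_top_of_isPGroup hG P.2 hP1
  have : Group.IsSolvable N := Cfsg.Agent.Helper14.BGTrans.isSolvable_of_ne_top hG hNtop
  have hle := sylow_le_commutator_normalizer hG h04 h10 P
  have hnorm : ((P : Subgroup G).subgroupOf N).Normal := Subgroup.normal_in_normalizer
  have hcop : (Nat.card ((P : Subgroup G).subgroupOf N)).Coprime
      ((P : Subgroup G).subgroupOf N).index := by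
    have hS : ((P.subtype hPN : Sylow p N) : Subgroup N) = (P : Subgroup G).subgroupOf N :=
      Sylow.coe_subtype _ _
    rw [← hS]
    exact (P.subtype hPN).card_coprime_index
  have hcompl : Subgroup.IsComplement' ((P : Subgroup G).subgroupOf N) (V.subgroupOf N) := by
    apply Subgroup.isComplement'_of_disjoint_and_mul_eq_univ
    · rw [disjoint_iff, eq_bot_iff]
      intro z hz
      have h1 : (z : G) ∈ (P : Subgroup G) ⊓ V :=
        ⟨Subgroup.mem_subgroupOf.mp hz.1, Subgroup.mem_subgroupOf.mp hz.2⟩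
      rw [hPV, Subgroup.mem_bot] at h1
      rw [Subgroup.mem_bot]
      exact Subtype.ext h1
    · ext n
      simp only [Set.mem_univ, iff_true]
      obtain ⟨a, ha, b, hb, hab⟩ := hmul n n.2
      refine Set.mem_mul.mpr ⟨⟨a, hPN ha⟩, ?_, ⟨b, hVN hb⟩, ?_, ?_⟩
      · exact Subgroup.mem_subgroupOf.mpr ha
      · exact Subgroup.mem_subgroupOf.mpr hb
      · exact Subtype.ext hab.symm
  have hcomm : (P : Subgroup G).subgroupOf N ≤ _root_.commutator N := by
    intro z hz
    have hz' : (z : G) ∈ ⁅N, N⁆ := hle (Subgroup.mem_subgroupOf.mp hz)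
    rw [← Subgroup.map_subtype_commutator] at hz'
    obtain ⟨w, hw, hwz⟩ := hz'
    have : w = z := Subtype.ext hwz
    rwa [← this]
  obtain ⟨h1, -⟩ := (Cfsg.Agent.S1459.result (G := N)).1 _ _ hnorm hcop hcompl hcomm
  have h2 := congrArg (Subgroup.map N.subtype) h1
  rw [Subgroup.map_commutator, Subgroup.map_subgroupOf_eq_of_le hPN,
    Subgroup.map_subgroupOf_eq_of_le hVN] at h2
  exact h2

end Cfsg.Agent.Helper18.BG107
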