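import Mathlib
import Cfsg.Agent.Lib.Helper3.SmallOrd
import Cfsg.Agent.S0985

/-!
Piece O960 of helper3's farm-out of S0496: there is no simple group of order 960.
Also a general tool: two Sylow subgroups meeting in a subgroup of index `p` in both.
-/

set_option autoImplicit false
open Cfsg

namespace Cfsg.Agent.Helper3.SmallOrd

variable {G : Type*} [Group G] [Finite G]

/-- A subgroup of index two of `K` is normalized by `K`. -/
theorem le_normalizer_of_card_eq_two_mul {H K : Subgroup G} (hHK : H ≤ K)
    (hcard : Nat.card K = 2 * Nat.card H) : K ≤ Subgroup.normalizer (H : Set G) := by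
  have hidx : (H.subgroupOf K).index = 2 := by
    have h1 := Subgroup.card_mul_index (H.subgroupOf K)
    have h2 : Nat.card (H.subgroupOf K) = Nat.card H := by
      rw [Cfsg.Agent.Lead.card_subgroupOf_eq, inf_of_le_left hHK]
    rw [h2, hcard] at h1
    have hpos : 0 < Nat.card H := Nat.card_pos
    have : Nat.card H * (H.subgroupOf K).index = Nat.card H * 2 := by rw [h1]; ring
    exact Nat.eq_of_mul_eq_mul_left hpos this
  haveI : (H.subgroupOf K).Normal := Subgroup.normal_of_index_eq_two hidx
  exact Subgroup.le_normalizer_of_normal_subgroupOf hHK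

variable [IsSimpleGroup G]

theorem no_simple_960 (h : Nat.card G = 960) : False := by
  have hG : ∃ x y : G, x * y ≠ y * x :=
    Cfsg.Agent.Lead.nonabelian_of_not_prime (by rw [h]; norm_num)
  haveI : Fact (Nat.Prime 2) := ⟨Nat.prime_two⟩
  have hcard : Nat.card G = 2 ^ 6 * 15 := by rw [h]; norm_num
  obtain ⟨h1, h2, h3, h4, h5⟩ := basic hG (by norm_num) hcard (by norm_num)
  rw [h] at h4
  have hn : Nat.card (Sylow 2 G) = 15 := by
    have hle : Nat.card (Sylow 2 G) ≤ 15 := Nat.le_of_dvd (by norm_num) h1
    have hpos : 0 < Nat.card (Sylow 2 G) := Nat.card_pos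
    generalize Nat.card (Sylow 2 G) = n at *
    interval_cases n <;> first | rfl | omega | (exfalso; revert h4; decide)
  have hmod : ¬ Nat.card (Sylow 2 G) ≡ 1 [MOD 2 ^ 2] := by
    rw [hn]; decide
  obtain ⟨P, R, hPR, hidx⟩ := Cfsg.Agent.S0985.result 2 2 hmod
  have hP : Nat.card (P : Subgroup G) = 64 := by rw [(h5 P).1]; norm_num
  have hR : Nat.card (R : Subgroup G) = 64 := by rw [(h5 R).1]; norm_num
  set D : Subgroup G := (P : Subgroup G) ⊓ (R : Subgroup G) with hD
  have hDP : D ≤ (P : Subgroup G) := inf_le_left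
  have hDR : D ≤ (R : Subgroup G) := inf_le_right
  have hsub : (R : Subgroup G).subgroupOf (P : Subgroup G) = D.subgroupOf (P : Subgroup G) := by
    rw [hD, Subgroup.inf_subgroupOf_left]
  rw [hsub] at hidx
  have hcD : Nat.card (D.subgroupOf (P : Subgroup G)) = Nat.card D := by
    rw [Cfsg.Agent.Lead.card_subgroupOf_eq, inf_of_le_left hDP]
  have hmul := Subgroup.card_mul_index (D.subgroupOf (P : Subgroup G))
  rw [hcD, hP] at hmul
  have hidx1 : (D.subgroupOf (P : Subgroup G)).index ≠ 1 := by
    intro h1'
    rw [Subgroup.index_eq_one, Subgroup.subgroupOf_eq_top] at h1'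
    have hle : (P : Subgroup G) ≤ (R : Subgroup G) := h1'.trans hDR
    exact hPR (Sylow.ext (P.is_maximal' R.isPGroup' hle)).symm
  have hidx0 : (D.subgroupOf (P : Subgroup G)).index ≠ 0 := Subgroup.index_ne_zero_of_finite
  have hidx2 : (D.subgroupOf (P : Subgroup G)).index = 2 := by
    norm_num at hidx
    omega
  rw [hidx2] at hmul
  have hDcard : Nat.card D = 32 := by omega
  have hPN : (P : Subgroup G) ≤ Subgroup.normalizer (D : Set G) :=
    le_normalizer_of_card_eq_two_mul hDP (by rw [hP, hDcard])
  have hRN : (R : Subgroup G) ≤ Subgroup.normalizer (D : Set G) :=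
    le_normalizer_of_card_eq_two_mul hDR (by rw [hR, hDcard])
  obtain ⟨-, hge⟩ := Cfsg.Agent.Lead.card_ge_of_two_sylow_le P R hPR _ hPN hRN
  rw [hP] at hge
  have hDb : D ≠ ⊥ := by
    intro hb
    rw [hb, Subgroup.card_bot] at hDcard
    omega
  have hDt : D ≠ ⊤ := by
    intro ht
    rw [ht, Subgroup.card_top, h] at hDcard
    omega
  have hNt := Cfsg.Agent.Lead.normalizer_ne_top_of_simple D hDb hDt
  have hfac := two_mul_card_dvd_factorial_index hG _ hNt
  rw [h] at hfac
  have hci := Subgroup.card_mul_index (Subgroup.normalizer (D : Set G))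
  rw [h] at hci
  have hdvd : 64 ∣ Nat.card (Subgroup.normalizer (D : Set G)) := by
    rw [← hP]
    exact Subgroup.card_dvd_of_le hPN
  obtain ⟨j, hj⟩ := hdvd
  rw [hj] at hci hge
  have hidxle : (Subgroup.normalizer (D : Set G)).index ≤ 5 := by
    have hj3 : 3 ≤ j := by omega
    have : j * (Subgroup.normalizer (D : Set G)).index = 15 := by
      have : 64 * (j * (Subgroup.normalizer (D : Set G)).index) = 64 * 15 := by
        rw [← mul_assoc, hci]
      exact Nat.eq_of_mul_eq_mul_left (by norm_num) this
    nlinarith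
  generalize (Subgroup.normalizer (D : Set G)).index = i at *
  interval_cases i <;> revert hfac <;> decide

end Cfsg.Agent.Helper3.SmallOrd
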