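import Mathlib
import Cfsg.Agent.Lib.Helper3.SmallOrd
import Cfsg.Agent.Lib.Helper22.SmallOmega
import Cfsg.Agent.Lib.Helper18.Ord960
import Cfsg.Agent.S4216

/-!
Piece O756 of helper3's farm-out of S0496: there is no simple group of order 756.

Here `n_3 = 28 ≡ 1 (mod 9)`, so the congruence trick does not apply.  Instead: `N(P) = P` for a
Sylow 3-subgroup `P` (order 27), every proper subgroup containing a Sylow 3-subgroup `R` equals
`R`, two distinct Sylow 3-subgroups never meet in a subgroup of order 9, and hence `P` meets the
derived group of no other Sylow 3-subgroup; Grün's first theorem (S4216) gives `P ≤ P'`.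
-/

set_option autoImplicit false
open Cfsg
open scoped commutatorElement

namespace Cfsg.Agent.Helper3.SmallOrd

variable {G : Type*} [Group G] [Finite G] [IsSimpleGroup G]

theorem no_simple_756 (h : Nat.card G = 756) : False := by
  have hG : ∃ x y : G, x * y ≠ y * x :=
    Cfsg.Agent.Lead.nonabelian_of_not_prime (by rw [h]; norm_num)
  haveI : Fact (Nat.Prime 3) := ⟨Nat.prime_three⟩
  have hcard : Nat.card G = 3 ^ 3 * 28 := by rw [h]; norm_num
  obtain ⟨h1, h2, h3, h4, h5⟩ := basic hG (by norm_num) hcard (by norm_num)
  rw [h] at h4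
  have hn : Nat.card (Sylow 3 G) = 28 := by
    have hle : Nat.card (Sylow 3 G) ≤ 28 := Nat.le_of_dvd (by norm_num) h1
    have hpos : 0 < Nat.card (Sylow 3 G) := Nat.card_pos
    generalize Nat.card (Sylow 3 G) = n at *
    interval_cases n <;> first | rfl | omega | (exfalso; revert h4; decide)
  have hPc : ∀ P : Sylow 3 G, Nat.card (P : Subgroup G) = 27 := by
    intro P; rw [(h5 P).1]; norm_num
  have hNc : ∀ P : Sylow 3 G,
      Nat.card (Subgroup.normalizer ((P : Subgroup G) : Set G)) = 27 := by
    intro P
    have := (h5 P).2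
    rw [hn, h] at this
    omega
  -- (b) proper subgroups of order divisible by 27 have order 27 or 54
  have key1 : ∀ H : Subgroup G, H ≠ ⊤ → 27 ∣ Nat.card H →
      Nat.card H = 27 ∨ Nat.card H = 54 := by
    intro H hH hdvd
    have hfac := two_mul_card_dvd_factorial_index hG H hH
    rw [h] at hfac
    have hci := Subgroup.card_mul_index H
    rw [h] at hci
    obtain ⟨j, hj⟩ := hdvd
    rw [hj] at hci
    have hji : j * H.index = 28 := by
      have : 27 * (j * H.index) = 27 * 28 := by rw [← mul_assoc, hci]
      exact Nat.eq_of_mul_eq_mul_left (by norm_num) this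
    have hidx1 : H.index ≠ 1 := fun h1' => hH (Subgroup.index_eq_one.1 h1')
    have hile : H.index ≤ 28 := Nat.le_of_dvd (by norm_num) ⟨j, by rw [← hji]; ring⟩
    have hjle : j ≤ 28 := Nat.le_of_dvd (by norm_num) ⟨H.index, hji.symm⟩
    rw [hj]
    generalize H.index = i at *
    interval_cases i <;> first | omega | (exfalso; revert hfac; decide)
  -- (c) a proper subgroup containing a Sylow 3-subgroup is that subgroup
  have key2 : ∀ (R : Sylow 3 G) (H : Subgroup G), (R : Subgroup G) ≤ H → H ≠ ⊤ →
      H = (R : Subgroup G) := by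
    intro R H hRH hH
    have hdvd : 27 ∣ Nat.card H := by
      rw [← hPc R]; exact Subgroup.card_dvd_of_le hRH
    rcases key1 H hH hdvd with hc | hc
    · exact (Subgroup.eq_of_le_of_card_ge hRH (by rw [hc, hPc R])).symm
    · exfalso
      have hle : H ≤ Subgroup.normalizer ((R : Subgroup G) : Set G) :=
        le_normalizer_of_card_eq_two_mul hRH (by rw [hc, hPc R])
      have := Subgroup.card_le_of_le hle
      rw [hc, hNc R] at this
      omega
  -- (d) distinct Sylow 3-subgroups do not meet in a subgroup of order 9
  have key3 : ∀ P R : Sylow 3 G, P ≠ R →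
      Nat.card ((P : Subgroup G) ⊓ (R : Subgroup G) : Subgroup G) ≠ 9 := by
    intro P R hPR hD9
    set D : Subgroup G := (P : Subgroup G) ⊓ (R : Subgroup G) with hD
    have hnorm : ∀ Q : Sylow 3 G, D ≤ (Q : Subgroup G) →
        (Q : Subgroup G) ≤ Subgroup.normalizer (D : Set G) := by
      intro Q hDQ
      have hidx : (D.subgroupOf (Q : Subgroup G)).index = 3 := by
        have h1' := Subgroup.card_mul_index (D.subgroupOf (Q : Subgroup G))
        rw [Cfsg.Agent.Lead.card_subgroupOf_eq, inf_of_le_left hDQ, hD9, hPc Q] at h1'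
        omega
      have hmf : (Nat.card (Q : Subgroup G)).minFac = 3 := by
        rw [hPc Q]; norm_num
      haveI : (D.subgroupOf (Q : Subgroup G)).Normal :=
        Subgroup.normal_of_index_eq_minFac_card (by rw [hidx, hmf])
      exact Subgroup.le_normalizer_of_normal_subgroupOf hDQ
    have hDb : D ≠ ⊥ := by
      intro hb
      rw [hb, Subgroup.card_bot] at hD9
      omega
    have hDt : D ≠ ⊤ := by
      intro ht
      rw [ht, Subgroup.card_top, h] at hD9
      omega
    have hNt := Cfsg.Agent.Lead.normalizer_ne_top_of_simple D hDb hDt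
    have e1 := key2 P _ (hnorm P inf_le_left) hNt
    have e2 := key2 R _ (hnorm R inf_le_right) hNt
    exact hPR (Sylow.ext (e1.symm.trans e2))
  -- the centre of G is trivial
  have hcen : ∀ x : G, (∀ g : G, g * x = x * g) → x = 1 := by
    intro x hx
    have hxc : x ∈ Subgroup.center G := by
      rw [Subgroup.mem_center_iff]; exact hx
    rcases (inferInstance : (Subgroup.center G).Normal).eq_bot_or_eq_top with hb | ht
    · rw [hb] at hxc
      exact Subgroup.mem_bot.1 hxc
    · exfalso
      obtain ⟨a, b, hab⟩ := hG
      have ha : a ∈ Subgroup.center G := by rw [ht]; trivial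
      rw [Subgroup.mem_center_iff] at ha
      exact hab (ha b).symm
  -- (e) P meets the derived group of another Sylow 3-subgroup trivially
  have key4 : ∀ P R : Sylow 3 G, P ≠ R →
      (P : Subgroup G) ⊓ ⁅(R : Subgroup G), (R : Subgroup G)⁆ = ⊥ := by
    intro P R hPR
    rw [eq_bot_iff]
    intro x hx
    rw [Subgroup.mem_bot]
    by_contra hx1
    obtain ⟨hxP, hxR'⟩ := Subgroup.mem_inf.1 hx
    -- x is central in R
    have hxR'' := hxR'
    rw [← Subgroup.map_subtype_commutator] at hxR''
    obtain ⟨y, hy, hyx⟩ := hxR''
    have hxRmem : x ∈ (R : Subgroup G) := by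
      rw [← hyx]; exact y.2
    have hxcen : ∀ r ∈ (R : Subgroup G), r * x = x * r := by
      have hyc : y ∈ Subgroup.center (R : Subgroup G) :=
        Cfsg.Agent.Helper22.commutator_le_center_of_card_le_cube (p := 3) R.isPGroup'
          (by rw [hPc R]; norm_num) hy
      rw [Subgroup.mem_center_iff] at hyc
      intro r hr
      have := hyc ⟨r, hr⟩
      rw [← hyx]
      exact congrArg Subtype.val this
    -- the centralizer of x is R
    set C : Subgroup G := Subgroup.centralizer ({x} : Set G) with hC
    have hRC : (R : Subgroup G) ≤ C := by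
      intro r hr
      rw [hC, Subgroup.mem_centralizer_iff]
      intro y hy
      rw [Set.mem_singleton_iff] at hy
      rw [hy]
      exact (hxcen r hr).symm
    have hCt : C ≠ ⊤ := by
      intro ht
      apply hx1
      apply hcen
      intro g
      have hg : g ∈ C := by rw [ht]; trivial
      rw [hC, Subgroup.mem_centralizer_iff] at hg
      exact (hg x rfl).symm
    have hCR : C = (R : Subgroup G) := key2 R C hRC hCt
    -- a nontrivial central element of P
    have hntP : Nontrivial (P : Subgroup G) := by
      rw [← Finite.one_lt_card_iff_nontrivial, hPc P]; norm_num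
    have hntZ : Nontrivial (Subgroup.center (P : Subgroup G)) := P.isPGroup'.center_nontrivial
    obtain ⟨⟨z0, hz0c⟩, hz0⟩ := exists_ne (1 : Subgroup.center (P : Subgroup G))
    have hz0ne : (z0 : G) ≠ 1 := by
      intro h0
      apply hz0
      apply Subtype.ext
      apply Subtype.ext
      exact h0
    have hz0comm : ∀ y ∈ (P : Subgroup G), y * (z0 : G) = (z0 : G) * y := by
      intro y hy
      rw [Subgroup.mem_center_iff] at hz0c
      have := hz0c ⟨y, hy⟩
      exact congrArg Subtype.val this
    have hz0R : (z0 : G) ∈ (R : Subgroup G) := by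
      rw [← hCR, hC, Subgroup.mem_centralizer_iff]
      intro y hy
      rw [Set.mem_singleton_iff] at hy
      rw [hy]
      exact hz0comm x hxP
    set D : Subgroup G := (P : Subgroup G) ⊓ (R : Subgroup G) with hD
    have hxD : x ∈ D := Subgroup.mem_inf.2 ⟨hxP, hxRmem⟩
    have hzD : (z0 : G) ∈ D := Subgroup.mem_inf.2 ⟨z0.2, hz0R⟩
    have hDdvd : Nat.card D ∣ 27 := by
      rw [← hPc P]; exact Subgroup.card_dvd_of_le inf_le_left
    have hDle : Nat.card D ≤ 27 := Nat.le_of_dvd (by norm_num) hDdvd
    have hD27 : Nat.card D ≠ 27 := by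
      intro h27
      have hDP : D = (P : Subgroup G) :=
        Subgroup.eq_of_le_of_card_ge inf_le_left (by rw [h27, hPc P])
      have hle : (P : Subgroup G) ≤ (R : Subgroup G) := by
        rw [← hDP]; exact inf_le_right
      exact hPR (Sylow.ext (P.is_maximal' R.isPGroup' hle)).symm
    have hD1 : Nat.card D ≠ 1 := by
      intro h1'
      have := (Subgroup.card_eq_one.1 h1')
      rw [this] at hxD
      exact hx1 (Subgroup.mem_bot.1 hxD)
    have hD3 : Nat.card D ≠ 3 := by
      intro h3'
      have htop := zpowers_eq_top_of_prime_card (G := D) (p := 3) h3' (g := ⟨(z0 : G), hzD⟩)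
        (by
          intro h0
          exact hz0ne (congrArg Subtype.val h0))
      have hxz : (⟨x, hxD⟩ : D) ∈ Subgroup.zpowers (⟨(z0 : G), hzD⟩ : D) := by
        rw [htop]; trivial
      obtain ⟨k, hk⟩ := Subgroup.mem_zpowers_iff.1 hxz
      have hk' : (z0 : G) ^ k = x := by
        have := congrArg Subtype.val hk
        simpa using this
      -- then x is central in P, so P ≤ C = R
      have hPC : (P : Subgroup G) ≤ C := by
        intro y hy
        rw [hC, Subgroup.mem_centralizer_iff]
        intro w hw
        rw [Set.mem_singleton_iff] at hw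
        rw [hw, ← hk']
        have hc : Commute y (z0 : G) := hz0comm y hy
        exact (hc.zpow_right k).eq.symm
      rw [hCR] at hPC
      exact hPR (Sylow.ext (P.is_maximal' R.isPGroup' hPC)).symm
    have hD9 : Nat.card D = 9 := by
      have hpos : 0 < Nat.card D := Nat.card_pos
      generalize Nat.card D = d at *
      interval_cases d <;> first | rfl | omega | (exfalso; revert hDdvd; decide)
    exact key3 P R hPR hD9
  -- (f) Grün's first theorem
  obtain ⟨P⟩ : Nonempty (Sylow 3 G) := inferInstance
  have hgr := Cfsg.Agent.S4216.result P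
  have hNP : Subgroup.normalizer ((P : Subgroup G) : Set G) = (P : Subgroup G) :=
    (Subgroup.eq_of_le_of_card_ge Subgroup.le_normalizer (by rw [hNc P, hPc P])).symm
  have hcomm : commutator G = ⊤ := by
    rcases (inferInstance : (commutator G).Normal).eq_bot_or_eq_top with hb | ht
    · exfalso
      obtain ⟨a, b, hab⟩ := hG
      have : ⁅a, b⁆ ∈ commutator G := Subgroup.commutator_mem_commutator (Subgroup.mem_top a) (Subgroup.mem_top b)
      rw [hb, Subgroup.mem_bot, commutatorElement_eq_one_iff_mul_comm] at this
      exact hab this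
    · exact ht
  set K : Subgroup G := ⁅(P : Subgroup G), (P : Subgroup G)⁆ with hK
  rw [hcomm, inf_top_eq, hNP] at hgr
  have hle : (P : Subgroup G) ≤ K := by
    rw [hgr]
    apply sup_le inf_le_right
    apply iSup_le
    intro z
    by_cases hz : z • P = P
    · have e : ((P : Subgroup G)).map (MulAut.conj z).toMonoidHom = (P : Subgroup G) := by
        have e0 : ((P : Subgroup G)).map (MulAut.conj z).toMonoidHom =
            ((z • P : Sylow 3 G) : Subgroup G) := rfl
        rw [e0, hz]
      rw [Subgroup.map_commutator, e]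
      exact inf_le_right
    · have e : ((P : Subgroup G)).map (MulAut.conj z).toMonoidHom =
          ((z • P : Sylow 3 G) : Subgroup G) := rfl
      rw [Subgroup.map_commutator, e, key4 P (z • P) (fun h' => hz h'.symm)]
      exact bot_le
  -- P = P' is impossible
  have hKcen : ∀ x ∈ K, ∀ y ∈ (P : Subgroup G), y * x = x * y := by
    intro x hx y hy
    rw [hK, ← Subgroup.map_subtype_commutator] at hx
    obtain ⟨w, hw, rfl⟩ := hx
    have hwc : w ∈ Subgroup.center (P : Subgroup G) :=
      Cfsg.Agent.Helper22.commutator_le_center_of_card_le_cube (p := 3) P.isPGroup'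
        (by rw [hPc P]; norm_num) hw
    rw [Subgroup.mem_center_iff] at hwc
    have := hwc ⟨y, hy⟩
    exact congrArg Subtype.val this
  have hKbot : K = ⊥ := by
    rw [hK, Subgroup.commutator_eq_bot_iff_le_centralizer]
    intro x hx
    rw [Subgroup.mem_centralizer_iff]
    intro y hy
    exact hKcen x (hle hx) y hy
  rw [hKbot] at hle
  have := Subgroup.card_le_of_le hle
  rw [hPc P, Subgroup.card_bot] at this
  omega

end Cfsg.Agent.Helper3.SmallOrd
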