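import Mathlib
import Cfsg.Agent.Lib.Helper3.SmallOrd

/-!
Piece O900 of helper3's farm-out of S0496: there is no simple group of order 900.
-/

set_option autoImplicit false
open Cfsg

namespace Cfsg.Agent.Helper3.SmallOrd

variable {G : Type*} [Group G] [Finite G] [IsSimpleGroup G]

theorem no_simple_900 (h : Nat.card G = 900) : False := by
  have hG : ∃ x y : G, x * y ≠ y * x :=
    Cfsg.Agent.Lead.nonabelian_of_not_prime (by rw [h]; norm_num)
  haveI : Fact (Nat.Prime 5) := ⟨by norm_num⟩
  have hcard : Nat.card G = 5 ^ 2 * 36 := by rw [h]; norm_num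
  obtain ⟨h1, h2, h3, h4, h5⟩ := basic hG (by norm_num) hcard (by norm_num)
  rw [h] at h4
  have hn : Nat.card (Sylow 5 G) = 36 := by
    have hle : Nat.card (Sylow 5 G) ≤ 36 := Nat.le_of_dvd (by norm_num) h1
    have hpos : 0 < Nat.card (Sylow 5 G) := Nat.card_pos
    generalize Nat.card (Sylow 5 G) = n at *
    interval_cases n <;> first | rfl | omega | (exfalso; revert h4; decide)
  obtain ⟨P⟩ : Nonempty (Sylow 5 G) := inferInstance
  obtain ⟨hP, hN⟩ := h5 P
  rw [hn, h] at hN
  have hNc : Nat.card (Subgroup.normalizer ((P : Subgroup G) : Set G)) = 25 := by omega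
  -- N(P) = P
  have hPN : (P : Subgroup G) ≤ Subgroup.normalizer ((P : Subgroup G) : Set G) :=
    Subgroup.le_normalizer
  have hEq : (P : Subgroup G) = Subgroup.normalizer ((P : Subgroup G) : Set G) := by
    apply Subgroup.eq_of_le_of_card_ge hPN
    rw [hNc, hP]
    norm_num
  -- P is commutative
  have hcomm : ∀ a b : (P : Subgroup G), a * b = b * a := by
    intro a b
    have hP' : Nat.card (P : Subgroup G) = 5 ^ 2 := hP
    have hc : IsMulCommutative (P : Subgroup G) := IsPGroup.isMulCommutative_of_card_eq_prime_sq hP'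
    exact hc.is_comm.comm a b
  apply Cfsg.Agent.S0073.not_normalizer_le_centralizer hG P (by rw [h]; norm_num)
  rw [← hEq]
  intro x hx
  rw [Subgroup.mem_centralizer_iff]
  intro y hy
  have := hcomm ⟨y, hy⟩ ⟨x, hx⟩
  exact congrArg Subtype.val this

end Cfsg.Agent.Helper3.SmallOrd
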