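import Mathlib
import Cfsg.Agent.Lib.Helper11.D4TDefs
import Cfsg.Agent.Lib.Lead.G2TTC

/-!
# S2376, piece TC (helper18): torus conjugation through the sharp Bruhat form, for `D₄(L)`
(an instance of Lead's general form `G2T.TC.torus_conj_gen`)
-/

set_option autoImplicit false

namespace Cfsg.Agent.Helper11.D4T

open Cfsg Cfsg.Lie Cfsg.Agent.Lead.Chev Cfsg.Agent.Lead.Tw

theorem torus_conj {L : Type*} [Field L] (y h h' : GL chevD4.Idx L) (hy : y ∈ chevD4.group L)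
    (hh : h ∈ chevD4.diagonalSubgroup L) (hh' : h' ∈ chevD4.diagonalSubgroup L) (e : y * h' = h * y) :
    ∃ u ∈ chevD4.posUnipotent L, ∃ t ∈ chevD4.diagonalSubgroup L, ∃ w : List ℕ, (∀ i ∈ w, i < 4) ∧
      ∃ u' ∈ chevD4.posUnipotent L,
        y = u * t * nWordGL chevD4 (d4F L).xadd w * u' ∧
        nWordGL chevD4 (d4F L).xadd w * h' * (nWordGL chevD4 (d4F L).xadd w)⁻¹ = h ∧
        h * u * h⁻¹ = u ∧ h' * u' * h'⁻¹ = u' :=
  Cfsg.Agent.Helper11.G2T.TC.torus_conj_gen (d4F L) d4S y h h' hy hh hh' e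

end Cfsg.Agent.Helper11.D4T
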