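import Mathlib
import Cfsg.Agent.Lib.Helper11.D4TDefs
import Cfsg.Agent.Lib.Lead.ChevU3

/-!
# S2376 - piece UREG (helper18; clone of helper7's G2TUREG / lead's F4TUREG for `chevD4`):
a regular element of `T(L)` centralizes no nontrivial element of `U(L)`.
Self-contained: the two facts on `ev` it needs are proved here in the sub-namespace `UREG`.
-/

set_option autoImplicit false

namespace Cfsg.Agent.Helper11.D4T

open Cfsg Cfsg.Lie Cfsg.Agent.Lead.Chev Cfsg.Agent.Lead.Tw

namespace UREG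

variable {K : Type*} [Field K]

theorem nroots_eq : chevD4.nroots = 24 := by decide

theorem lt_of_mem_posRoots {r : ℕ} (hr : r ∈ chevD4.posRoots) : chevD4.IsPosRoot r := by
  unfold ChevalleyDatum.posRoots at hr
  rw [List.mem_filter] at hr
  simpa using hr.2

theorem ev_eq (h : GL chevD4.Idx K) (c : ℕ → K)
    (hh : (h : Matrix chevD4.Idx chevD4.Idx K) = Tmat chevD4 c) (v : ℕ) (hv : v < chevD4.nroots) :
    ev h v = chi chevD4 c v := by
  unfold ev
  rw [dif_pos hv, hh]
  unfold Tmat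
  rw [Matrix.diagonal_apply_eq]
  rfl

/-- `h x_v(s) h⁻¹ = x_v(χ_h(v) s)` (own copy of CHIA's `ev_conj`) -/
theorem ev_conj' (h : GL chevD4.Idx K) (hh : h ∈ chevD4.diagonalSubgroup K) (v : ℕ) (hv : v < 24)
    (s : K) :
    h * xGL chevD4 (d4F K).xadd v s * h⁻¹ = xGL chevD4 (d4F K).xadd v (ev h v * s) := by
  obtain ⟨c, hc, hhc⟩ := exists_Tmat_of_mem chevD4 (d4F K).hall h hh
  have hv' : v < chevD4.nroots := hv
  rw [ev_eq _ _ hhc v hv']
  rw [mul_inv_eq_iff_eq_mul]
  apply Units.ext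
  rw [Units.val_mul, Units.val_mul, hhc, xGL_val, xGL_val]
  exact Tmat_conj chevD4 (d4F K).hconj v hv' c hc s

/-- matrix form of `ev_conj` -/
theorem conj_x (h : GL chevD4.Idx K) (hh : h ∈ chevD4.diagonalSubgroup K) (v : ℕ) (hv : v < 24) (s : K) :
    (h : Matrix chevD4.Idx chevD4.Idx K) * chevD4.x K v s * ((h⁻¹ : GL chevD4.Idx K) : Matrix _ _ K) =
      chevD4.x K v (ev h v * s) := by
  have h1 := congrArg (fun g : GL chevD4.Idx K => (g : Matrix chevD4.Idx chevD4.Idx K))
    (ev_conj' h hh v hv s)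
  simp only [Units.val_mul, xGL_val] at h1
  exact h1

/-- conjugating an ordered product factor by factor -/
theorem conj_prodL (h : GL chevD4.Idx K) (hh : h ∈ chevD4.diagonalSubgroup K) (L : List ℕ)
    (hL : ∀ r ∈ L, r < 24) (t : ℕ → K) :
    (h : Matrix chevD4.Idx chevD4.Idx K) * prodL chevD4 L t * ((h⁻¹ : GL chevD4.Idx K) : Matrix _ _ K) =
      prodL chevD4 L (fun v => ev h v * t v) := by
  induction L with
  | nil =>
    rw [prodL_nil, prodL_nil, mul_one, ← Units.val_mul, mul_inv_cancel]; rfl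
  | cons r L ih =>
    rw [prodL_cons, prodL_cons, ← ih (fun s hs => hL s (List.mem_cons_of_mem _ hs)),
      ← conj_x h hh r (hL r List.mem_cons_self) (t r)]
    have e : ((h⁻¹ : GL chevD4.Idx K) : Matrix _ _ K) * (h : Matrix chevD4.Idx chevD4.Idx K) = 1 := by
      rw [← Units.val_mul, inv_mul_cancel]; rfl
    calc (h : Matrix chevD4.Idx chevD4.Idx K) * (chevD4.x K r (t r) * prodL chevD4 L t) *
          ((h⁻¹ : GL chevD4.Idx K) : Matrix _ _ K)
        = (h : Matrix chevD4.Idx chevD4.Idx K) * chevD4.x K r (t r) * 1 * prodL chevD4 L t *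
          ((h⁻¹ : GL chevD4.Idx K) : Matrix _ _ K) := by simp only [mul_one, mul_assoc]
      _ = _ := by rw [← e]; simp only [mul_assoc]

end UREG

variable {L : Type*} [Field L]

theorem ureg (h : GL chevD4.Idx L) (hh : h ∈ chevD4.diagonalSubgroup L) (hreg : ∀ v < 24, ev h v ≠ 1)
    (u : GL chevD4.Idx L) (hu : u ∈ chevD4.posUnipotent L) (e : h * u * h⁻¹ = u) : u = 1 := by
  have hF := d4F L
  obtain ⟨t, ht⟩ := exists_prodL_of_mem chevD4 hF.xadd.add hF.xadd.zero hF.comm hF.poscomm u hu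
  have hlt : ∀ r ∈ chevD4.posRoots, r < 24 := by
    intro r hr
    have := (UREG.lt_of_mem_posRoots hr).1
    rwa [UREG.nroots_eq] at this
  have e1 := congrArg (fun g : GL chevD4.Idx L => (g : Matrix chevD4.Idx chevD4.Idx L)) e
  simp only [Units.val_mul] at e1
  rw [ht, UREG.conj_prodL h hh _ hlt t] at e1
  have hinj := prodL_posRoots_inj chevD4 hF.ufacts hF.xadd.add hF.xadd.zero _ _ e1
  have ht0 : ∀ r ∈ chevD4.posRoots, t r = 0 := by
    intro r hr
    have hpos := UREG.lt_of_mem_posRoots hr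
    have h1 := hinj r hpos
    have h2 : (ev h r - 1) * t r = 0 := by rw [sub_mul, one_mul, h1, sub_self]
    rcases mul_eq_zero.mp h2 with h3 | h3
    · exact absurd (sub_eq_zero.mp h3) (hreg r (hlt r hr))
    · exact h3
  have hu1 : (u : Matrix chevD4.Idx chevD4.Idx L) = 1 := by
    rw [ht, prodL_congr chevD4 _ t (fun _ => (0 : L)) ht0]
    exact prodL_zero chevD4 _ (fun s hs => (UREG.lt_of_mem_posRoots hs).1) hF.xadd.zero
  exact Units.ext hu1

end Cfsg.Agent.Helper11.D4T
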