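import Mathlib
import Cfsg.Agent.Lib.Helper11.D4TDefs

/-!
# S2376, piece FIXTW: the fixed points of the twisted Frobenius on `D₄(L)` form the twisted group
-/

set_option autoImplicit false
set_option linter.unusedSectionVars false
set_option linter.unusedSimpArgs false
set_option linter.unusedVariables false

namespace Cfsg.Agent.Helper11.D4T

open Cfsg Cfsg.Lie Cfsg.Agent.Lead.Chev Cfsg.Agent.Lead.Tw

namespace FIXTW

variable {L : Type*} [Field L]

/-- a unit of square one is fixed by every field automorphism -/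
theorem units_map_of_sq (f : L ≃+* L) (u : Lˣ) (hu : u ^ 2 = 1) : Units.map (f : L →* L) u = u := by
  have hsq : ((u : Lˣ) : L) ^ 2 = 1 := by
    rw [← Units.val_pow_eq_pow_val, hu, Units.val_one]
  apply Units.ext
  rw [Units.coe_map]
  rcases sq_eq_one_iff.1 hsq with h | h
  · show f _ = _
    rw [h, map_one]
  · show f _ = _
    rw [h, map_neg, map_one]

theorem vec_eq' (c : Fin chevD4.rank → Lˣ) :
    D4.vec (c ⟨0, by decide⟩) (c ⟨1, by decide⟩) (c ⟨2, by decide⟩) (c ⟨3, by decide⟩) = c := by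
  funext j
  obtain ⟨j, hj⟩ := j
  have hj' : j < 4 := hj
  interval_cases j <;> rfl

theorem twP_vec' (f : L ≃+* L) (a0 a1 a2 a3 : Lˣ) :
    twP f D4.πe (D4.vec a0 a1 a2 a3) =
      D4.vec (Units.map (f : L →* L) a3) (Units.map (f : L →* L) a1) (Units.map (f : L →* L) a0)
        (Units.map (f : L →* L) a2) := by
  funext j
  obtain ⟨j, hj⟩ := j
  have hj' : j < 4 := hj
  interval_cases j <;> rfl

theorem vec_mul (a0 a1 a2 a3 b0 b1 b2 b3 : Lˣ) :
    D4.vec a0 a1 a2 a3 * D4.vec b0 b1 b2 b3 = D4.vec (a0 * b0) (a1 * b1) (a2 * b2) (a3 * b3) := by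
  funext j
  obtain ⟨j, hj⟩ := j
  have hj' : j < 4 := hj
  interval_cases j <;> rfl

theorem vec_one : D4.vec (1 : Lˣ) 1 1 1 = 1 := by
  funext j
  obtain ⟨j, hj⟩ := j
  have hj' : j < 4 := hj
  interval_cases j <;> rfl

/-- the kernel elements: `z twP(z) twP²(z) = 1` and `z² = 1` -/
theorem ker_prod (f : L ≃+* L) (z : Fin chevD4.rank → Lˣ) (hz : z ∈ (torusHom chevD4 L).ker) :
    z * twP f D4.πe (twP f D4.πe z) = twP f D4.πe z := by
  obtain ⟨h0, h1, h2, h3⟩ := D4.ker_form' z ((D4.mem_ker_iff z).1 hz)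
  set z0 := z ⟨0, by decide⟩ with hz0
  set z2 := z ⟨2, by decide⟩ with hz2
  have e : z = D4.vec z0 1 z2 (z0 * z2) := by
    rw [← h1, ← h3]
    exact (vec_eq' z).symm
  have f0 : Units.map (f : L →* L) z0 = z0 := units_map_of_sq f z0 h0
  have f2 : Units.map (f : L →* L) z2 = z2 := units_map_of_sq f z2 h2
  rw [e, twP_vec', twP_vec', vec_mul]
  simp only [map_mul, map_one, f0, f2]
  have e1 : z2 * (z0 * z2) = z0 := by
    rw [mul_comm z0 z2, ← mul_assoc, ← pow_two, h2, one_mul]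
  have e2 : z0 * z2 * z0 = z2 := by
    rw [mul_comm z0 z2, mul_assoc, ← pow_two, h0, mul_one]
  rw [e1, e2, mul_one]

/-- a fixed element of the diagonal subgroup lies in the twisted group -/
theorem torus_fixed_mem (f : L ≃+* L) (k : GL chevD4.Idx L) (hk : k ∈ chevD4.diagonalSubgroup L)
    (e : (TL f).σ k = k) : k ∈ G1 f := by
  have hO := D4.orthData f
  rw [← torusHom_range chevD4 (d4F L).xadd (d4F L).hsimple (d4F L).hall (d4F L).simple_lt] at hk
  obtain ⟨c, rfl⟩ := hk
  have key : ∀ c : Fin chevD4.rank → Lˣ, (D4.tw f).σ (torusHom chevD4 L c) = torusHom chevD4 L c →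
      torusHom chevD4 L (twP f D4.πe c) = torusHom chevD4 L c := fun c hc =>
    hO.torusHom_twP f D4.πe (fun i => rfl) (fun i hi t => D4.c_simple f i hi t)
      (fun i hi t => D4.c_neg_simple f i hi t) (D4.hcm f) D4.hcart D4.hρs c hc
  have h1 := key c e
  set z := twP f D4.πe c / c with hz
  have hzk : z ∈ (torusHom chevD4 L).ker := by
    rw [MonoidHom.mem_ker, hz, map_div, h1, div_self']
  have hzk' : twP f D4.πe z ∈ (torusHom chevD4 L).ker := by
    rw [MonoidHom.mem_ker]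
    have hfix : (D4.tw f).σ (torusHom chevD4 L z) = torusHom chevD4 L z := by
      rw [(MonoidHom.mem_ker).1 hzk]
      exact (D4.tw f).map_one D4.hF
    rw [key z hfix]
    exact (MonoidHom.mem_ker).1 hzk
  have hc' : c * twP f D4.πe z ∈ fixT f D4.πe := by
    rw [mem_fixT, twP_mul]
    have e3 : twP f D4.πe c = c * z := by rw [hz, mul_div_cancel]
    rw [e3, mul_assoc, ker_prod f z hzk]
  have h2 := hO.torusHom_mem f D4.πe (fun i => rfl) (fun i hi t => D4.c_simple f i hi t)
    (fun i hi t => D4.c_neg_simple f i hi t) D4.hperm _ hc'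
  rw [map_mul, (MonoidHom.mem_ker).1 hzk', mul_one] at h2
  exact h2

end FIXTW

section L

variable {L : Type*} [Field L]

theorem G1_le_group (f : L ≃+* L) : G1 f ≤ chevD4.group L := (D4.orthData f).le_group

theorem G1_fixed (f : L ≃+* L) (y : GL chevD4.Idx L) (hy : y ∈ G1 f) : (TL f).σ y = y :=
  (D4.orthData f).fixed y hy

theorem fix_tw [Fintype L] (f : L ≃+* L) (y : GL chevD4.Idx L) (hy : y ∈ chevD4.group L)
    (e : (TL f).σ y = y) : y ∈ G1 f := by
  have hO := D4.orthData f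
  have hG : TwGroup D4.hF (D4.tw f) (orthGroup D4.hF (D4.tw f) D4.S) D4.S := hO.twGroup d4S d4C
  have hF : ChevFacts chevD4 L := D4.hF
  obtain ⟨u₁, hu₁, n, hn, u, hu, e1, e2, e3, rfl⟩ :=
    Twist.exists_fixed_canonical D4.hF (D4.tw f) d4S y hy e
  have h1 : u₁ ∈ G1 f := hG.U_le u₁ hu₁ e1
  have h3 : u ∈ G1 f := hG.U_le u (hF.negPartN_le_posUnipotent n hu) e3
  refine mul_mem (mul_mem h1 ?_) h3
  obtain ⟨h, hh, w, hw, en⟩ := exists_word_of_mem_monomial chevD4 hF.xadd (etaOf chevD4) hF.nsimple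
    hF.simple_lt hF.orbit n hn
  have hc : RhoComm chevD4 (D4.tw f).ρ w := by
    apply (D4.tw f).rhoComm_of_fixed D4.hF h hh w hw
    rw [← en]
    exact e2
  obtain ⟨l, hl, hact⟩ := hG.gen w hw hc
  have hlv := flatten_valid hF D4.S l hG.s_valid hl
  have hm : nWordGL chevD4 hF.xadd l.flatten ∈ G1 f := by
    rw [nWordGL_flatten hF]
    apply Subgroup.list_prod_mem
    intro x hx
    obtain ⟨v, hv, rfl⟩ := List.mem_map.1 hx
    exact hG.s_mem v (hl v hv)
  have hk : n * (nWordGL chevD4 hF.xadd l.flatten)⁻¹ ∈ chevD4.diagonalSubgroup L := by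
    have := monomial_mul_inv_mem_diagonal hF h 1 hh (one_mem _) w l.flatten hw hlv hact
    rwa [one_mul, ← en] at this
  have hmG : nWordGL chevD4 hF.xadd l.flatten ∈ chevD4.group L := G1_le_group f hm
  have hkf : (TL f).σ (n * (nWordGL chevD4 hF.xadd l.flatten)⁻¹) =
      n * (nWordGL chevD4 hF.xadd l.flatten)⁻¹ := by
    show (D4.tw f).σ _ = _
    rw [(D4.tw f).map_mul _ _ (hF.monomial_le_group hn) (inv_mem hmG), (D4.tw f).map_inv D4.hF _ hmG, e2]
    have := G1_fixed f _ hm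
    rw [show (D4.tw f).σ (nWordGL chevD4 hF.xadd l.flatten) = nWordGL chevD4 hF.xadd l.flatten from this]
  have hk1 := FIXTW.torus_fixed_mem f _ hk hkf
  have : n = (n * (nWordGL chevD4 hF.xadd l.flatten)⁻¹) * nWordGL chevD4 hF.xadd l.flatten := by group
  rw [this]
  exact mul_mem hk1 hm

end L

end Cfsg.Agent.Helper11.D4T
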