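import Mathlib
import Cfsg.Agent.Lib.Helper11.F4IE7

/-!
# S2184 piece REDB1 (helper18): an involution `NF 0 0 u2 t3 t4 u4 t5 t6 u6 t7 0 u8` with `u8 ≠ 0` is conjugate
to a form `NF 0 0 u2' t3' 0 u4' t5' 0 u6' 0 0 0` with `u2' ≠ 0`
-/

set_option autoImplicit false
set_option linter.unusedSectionVars false
set_option linter.unusedSimpArgs false
set_option linter.unusedVariables false
set_option maxHeartbeats 1000000

namespace Cfsg.Agent.Helper11.F4I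

open Cfsg Cfsg.Lie Cfsg.Agent.Lead.Chev Cfsg.Agent.Lead.Tw

variable {K : Type*} [Field K] [Fintype K] [CharP K 2] {m : ℕ} (hK : Fintype.card K = 2 ^ (2 * m + 1))
  (hperf : ∀ x : K, ∃ y : K, y ^ 2 = x) (f : K ≃+* K) (hf : ∀ t, f t = t ^ (2 ^ m))
include hK hperf hf

theorem red_B1 (u2 t3 t4 u4 t5 t6 u6 t7 u8 : K) (h8 : u8 ≠ 0)
    (hinv : NF f 0 0 u2 t3 t4 u4 t5 t6 u6 t7 0 u8 * NF f 0 0 u2 t3 t4 u4 t5 t6 u6 t7 0 u8 = 1) :
    ∃ u2' t3' u4' t5' u6' : K, u2' ≠ 0 ∧ CJ (2 ^ m) (NF f 0 0 u2 t3 t4 u4 t5 t6 u6 t7 0 u8)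
      (NF f 0 0 u2' t3' 0 u4' t5' 0 u6' 0 0 0) := by
  have hff := hff hK f hf
  have hff' := hff' hK f hf
  have hf8 : f u8 ≠ 0 := (map_ne_zero f).2 h8
  -- B1a: kill t6 by U1(s), s * (f u8)^2 = t6
  have e1 : ∃ u2a t3a t4a u4a t5a u6a t7a : K, CJ (2 ^ m) (NF f 0 0 u2 t3 t4 u4 t5 t6 u6 t7 0 u8)
      (NF f 0 0 u2a t3a t4a u4a t5a 0 u6a t7a 0 u8) := by
    refine ⟨?_, ?_, ?_, ?_, ?_, ?_, ?_, ?_⟩
    pick_goal 8
    refine (step_1 hK hperf f hf 0 0 u2 t3 t4 u4 t5 t6 u6 t7 0 u8 (t6 / (f u8) ^ 2)).trans (CJ.of_eq ?_)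
    apply NF_congr f
    case h2' => rfl
    case h3 => rfl
    case h4 => rfl
    case h4' => rfl
    case h5 => rfl
    case h6' => rfl
    case h7 => rfl
    all_goals simp only [map_zero, mul_zero, zero_mul, add_zero, zero_add, ne_eq, OfNat.ofNat_ne_zero,
      not_false_eq_true, zero_pow]
    · field_simp
      grind
  obtain ⟨u2a, t3a, t4a, u4a, t5a, u6a, t7a, k1⟩ := e1
  have hinv1 := k1.sq_eq_one hinv
  have hfacts := invol_facts f hff 0 0 u2a t3a t4a u4a t5a 0 u6a t7a 0 u8 hinv1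
  simp only [map_zero, mul_zero, zero_mul, add_zero, zero_add, ne_eq, OfNat.ofNat_ne_zero,
    not_false_eq_true, zero_pow, true_and] at hfacts
  obtain ⟨hu4, ht5, hu6, -⟩ := hfacts
  -- t5-coordinate: (f u2a)^2 * (f u8)^2 = 0
  have hu2a : u2a = 0 := by
    have h : f u2a = 0 := by
      rcases mul_eq_zero.1 ht5 with h | h
      · exact pow_eq_zero_iff (two_ne_zero) |>.1 h
      · exact absurd (pow_eq_zero_iff (two_ne_zero) |>.1 h) hf8
    exact (map_eq_zero f).1 h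
  subst hu2a
  simp only [map_zero, mul_zero, zero_mul, add_zero, zero_add, ne_eq, OfNat.ofNat_ne_zero,
    not_false_eq_true, zero_pow] at hu4 hu6
  have ht4a : t4a = 0 := mul_f_eq_zero hK f hf hu4
  subst ht4a
  simp only [map_zero, mul_zero, zero_mul, add_zero, zero_add] at hu6
  have ht3a : t3a = 0 := by
    rcases mul_eq_zero.1 hu6 with h | h
    · exact (map_eq_zero f).1 h
    · exact absurd h h8
  subst ht3a
  -- na_Z
  have k2 := na_Z hK hperf f hf 0 0 u4a t5a u6a t7a u8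
  refine ⟨u8, t7a, ?_, ?_, ?_, h8, ?_⟩
  pick_goal 4
  refine k1.trans (k2.trans (CJ.of_eq ?_))
  apply NF_congr f
  case h4' => rfl
  case h5 => rfl
  case h6' => rfl
  all_goals rfl
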