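import Mathlib
import Cfsg.Agent.Lib.Helper11.F4IE7

/-!
# S2184 piece REDB2 (helper18): an involution `NF 0 0 u2 t3 t4 u4 t5 t6 u6 t7 0 0` with `u2 ≠ 0` is conjugate to
`U2 0 u2` or to a form `NF 0 0 0 t3' 0 0 t5' 0 u6' 0 0 0` with `t3' ≠ 0`
-/

set_option autoImplicit false
set_option linter.unusedSectionVars false
set_option linter.unusedSimpArgs false
set_option linter.unusedVariables false
set_option maxHeartbeats 1000000

namespace Cfsg.Agent.Helper11.F4I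

open Cfsg Cfsg.Lie Cfsg.Agent.Lead.Chev Cfsg.Agent.Lead.Tw

variable {K : Type*} [Field K] [Fintype K] [CharP K 2] {m : ℕ} (hK : Fintype.card K = 2 ^ (2 * m + 1))
  (hperf : ∀ x : K, ∃ y : K, y ^ 2 = x) (f : K ≃+* K) (hf : ∀ t, f t = t ^ (2 ^ m))
include hK hperf hf

omit hperf in
/-- the involution relations of the form `F` force `t4 = t6 = t7 = 0` -/
theorem redb2_zero (u2 t3 t4 t6 t7 : K) (h2 : u2 ≠ 0)
    (hu4 : f t3 * f t6 + f t7 * u2 + t4 * f t4 = 0) (ht5 : t4 * t6 = 0)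
    (hu6 : f t4 * f t7 + t6 * f t6 = 0) : t4 = 0 ∧ t6 = 0 ∧ t7 = 0 := by
  rcases mul_eq_zero.1 ht5 with h4 | h6
  · subst h4
    simp only [map_zero, zero_mul, zero_add, mul_zero, add_zero] at hu4 hu6
    have h6 : t6 = 0 := mul_f_eq_zero hK f hf hu6
    subst h6
    simp only [map_zero, zero_mul, zero_add, mul_zero, add_zero] at hu4
    have h7 : t7 = 0 := by
      rcases mul_eq_zero.1 hu4 with h | h
      · exact (map_eq_zero f).1 h
      · exact absurd h h2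
    exact ⟨rfl, rfl, h7⟩
  · subst h6
    simp only [map_zero, zero_mul, zero_add, mul_zero, add_zero] at hu4 hu6
    rcases mul_eq_zero.1 hu6 with h | h
    · have h4 : t4 = 0 := (map_eq_zero f).1 h
      subst h4
      simp only [map_zero, zero_mul, zero_add, mul_zero, add_zero] at hu4
      have h7 : t7 = 0 := by
        rcases mul_eq_zero.1 hu4 with h | h
        · exact (map_eq_zero f).1 h
        · exact absurd h h2
      exact ⟨rfl, rfl, h7⟩
    · have h7 : t7 = 0 := (map_eq_zero f).1 h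
      subst h7
      simp only [map_zero, zero_mul, zero_add, mul_zero, add_zero] at hu4
      have h4 : t4 = 0 := mul_f_eq_zero hK f hf hu4
      exact ⟨h4, rfl, rfl⟩

theorem red_B2 (u2 t3 t4 u4 t5 t6 u6 t7 : K) (h2 : u2 ≠ 0)
    (hinv : NF f 0 0 u2 t3 t4 u4 t5 t6 u6 t7 0 0 * NF f 0 0 u2 t3 t4 u4 t5 t6 u6 t7 0 0 = 1) :
    CJ (2 ^ m) (NF f 0 0 u2 t3 t4 u4 t5 t6 u6 t7 0 0) (U2 f 0 u2) ∨
    ∃ t3' t5' u6' : K, t3' ≠ 0 ∧ CJ (2 ^ m) (NF f 0 0 u2 t3 t4 u4 t5 t6 u6 t7 0 0)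
      (NF f 0 0 0 t3' 0 0 t5' 0 u6' 0 0 0) := by
  have hff := hff hK f hf
  have hff' := hff' hK f hf
  have hf2 : f u2 ≠ 0 := (map_ne_zero f).2 h2
  have hfacts := invol_facts f hff 0 0 u2 t3 t4 u4 t5 t6 u6 t7 0 0 hinv
  simp only [map_zero, mul_zero, zero_mul, add_zero, zero_add, ne_eq, OfNat.ofNat_ne_zero,
    not_false_eq_true, zero_pow, true_and, and_true] at hfacts
  obtain ⟨hu4, ht5, hu6⟩ := hfacts
  obtain ⟨h4, h6, h7⟩ := redb2_zero hK f hf u2 t3 t4 t6 t7 h2 hu4 ht5 hu6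
  subst h4 h6 h7
  clear hu4 ht5 hu6
  -- B2a: kill t3 by U8(s, 0), s * (f u2)^2 = t3
  have e1 : ∃ u4a t5a u6a : K, CJ (2 ^ m) (NF f 0 0 u2 t3 0 u4 t5 0 u6 0 0 0)
      (NF f 0 0 u2 0 0 u4a t5a 0 u6a 0 0 0) := by
    refine ⟨?_, ?_, ?_, ?_⟩
    pick_goal 4
    refine (step_8 hK hperf f hf 0 0 u2 t3 0 u4 t5 0 u6 0 0 0 (t3 / (f u2) ^ 2) 0).trans (CJ.of_eq ?_)
    apply NF_congr f
    case h4' => rfl
    case h5 => rfl
    case h6' => rfl
    all_goals simp only [map_zero, mul_zero, zero_mul, add_zero, zero_add, ne_eq, OfNat.ofNat_ne_zero,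
      not_false_eq_true, zero_pow]
    · field_simp
      grind
  obtain ⟨u4a, t5a, u6a, k1⟩ := e1
  -- B2b: kill t5 by U8(0, v), (f u2)^2 * (f v)^2 = t5
  have e2 : ∃ u4b u6b : K, CJ (2 ^ m) (NF f 0 0 u2 0 0 u4a t5a 0 u6a 0 0 0)
      (NF f 0 0 u2 0 0 u4b 0 0 u6b 0 0 0) := by
    refine ⟨?_, ?_, ?_⟩
    pick_goal 3
    refine (step_8 hK hperf f hf 0 0 u2 0 0 u4a t5a 0 u6a 0 0 0 0 (f t5a / u2)).trans (CJ.of_eq ?_)
    apply NF_congr f
    case h4' => rfl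
    case h6' => rfl
    all_goals simp only [map_zero, mul_zero, zero_mul, add_zero, zero_add, ne_eq, OfNat.ofNat_ne_zero,
      not_false_eq_true, zero_pow, map_div₀, div_pow, hff]
    · field_simp
      grind
  obtain ⟨u4b, u6b, k2⟩ := e2
  -- B2c: kill u4 by U7(s), f s * u2 = u4
  have e3 : ∃ u6c : K, CJ (2 ^ m) (NF f 0 0 u2 0 0 u4b 0 0 u6b 0 0 0)
      (NF f 0 0 u2 0 0 0 0 0 u6c 0 0 0) := by
    refine ⟨?_, ?_⟩
    pick_goal 2
    refine (step_7 hK hperf f hf 0 0 u2 0 0 u4b 0 0 u6b 0 0 0 ((f (u4b / u2)) ^ 2)).trans (CJ.of_eq ?_)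
    apply NF_congr f
    case h6' => rfl
    all_goals simp only [map_zero, mul_zero, zero_mul, add_zero, zero_add, ne_eq, OfNat.ofNat_ne_zero,
      not_false_eq_true, zero_pow, hff']
    · field_simp
      grind
  obtain ⟨u6c, k3⟩ := e3
  have k123 := k1.trans (k2.trans k3)
  by_cases h6c : u6c = 0
  · left
    subst h6c
    rw [NF_U2] at k123
    exact k123
  · right
    have hc : u6c / u2 ≠ 0 := div_ne_zero h6c h2
    obtain ⟨s, hs⟩ : ∃ s : K, s * (f s) ^ 2 = u6c / u2 := ⟨_, norm_solve hK f hf (u6c / u2) hc⟩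
    -- B2d: kill u6 by U8(s, 0), s * (f s)^2 * u2 = u6
    have k4 : CJ (2 ^ m) (NF f 0 0 u2 0 0 0 0 0 u6c 0 0 0)
        (NF f 0 0 u2 (s * (f u2) ^ 2) 0 0 (u6c / u2 * (f u2) ^ 2) 0 0 0 0 0) := by
      refine (step_8 hK hperf f hf 0 0 u2 0 0 0 0 0 u6c 0 0 0 s 0).trans (CJ.of_eq ?_)
      apply NF_congr f
      all_goals simp only [map_zero, mul_zero, zero_mul, add_zero, zero_add, ne_eq, OfNat.ofNat_ne_zero,
        not_false_eq_true, zero_pow]
      · rw [hs]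
      · rw [hs]
        field_simp
        grind
    -- B2e: the Weyl element n_b
    have k5 := nb_Z hK hperf f hf 0 u2 (s * (f u2) ^ 2) 0 (u6c / u2 * (f u2) ^ 2) 0 0
    refine ⟨u6c / u2 * (f u2) ^ 2, ?_, ?_, mul_ne_zero hc (pow_ne_zero 2 hf2), ?_⟩
    pick_goal 3
    refine k123.trans (k4.trans (k5.trans (CJ.of_eq ?_)))
    apply NF_congr f
    case h5 => rfl
    case h6' => rfl
    all_goals simp only [map_zero, mul_zero, zero_mul, add_zero, zero_add, ne_eq, OfNat.ofNat_ne_zero,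
      not_false_eq_true, zero_pow]
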