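import Mathlib
import Cfsg.Agent.Lib.Helper11.FHDefs
import Cfsg.Agent.Lib.Helper11.FHBNDefs

/-!
Piece BN1 of helper11's farm-out of S1142 (Feit–Higman): the Hecke matrices of a (B,N)-pair: the matrix of the
trivial double coset, transposes, orthogonality.
-/

set_option autoImplicit false
set_option linter.unusedSectionVars false

namespace Cfsg.Agent.Helper11.FH

open Matrix Real
open Cfsg Cfsg.Agent.Helper2.WordLen Cfsg.Agent.Helper2.BN Cfsg.Agent.Helper17.BNCox

section BN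

variable {G : Type*} [Group G] (P : Cfsg.BNPair G) [Fintype (G ⧸ P.B)] [DecidableEq (G ⧸ P.B)]

/-- BN1 -/
theorem AM_one : AM P 1 = 1 := by
  ext x y
  obtain ⟨g, rfl⟩ := QuotientGroup.mk_surjective x
  obtain ⟨k, rfl⟩ := QuotientGroup.mk_surjective y
  by_cases hxy : (g : G ⧸ P.B) = (k : G ⧸ P.B)
  · rw [hxy, Matrix.one_apply_eq, AM_mk_eq_one_iff, cell_eq_one_iff, inv_mul_cancel]
    exact P.B.one_mem
  · rw [Matrix.one_apply_ne hxy, AM_mk_eq_zero_iff]
    intro h
    apply hxy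
    rw [cell_eq_one_iff] at h
    exact QuotientGroup.eq.2 h

theorem cell_inv_mul_eq_iff (w : W P) (g k : G) :
    cell P (k⁻¹ * g) = w ↔ cell P (g⁻¹ * k) = w⁻¹ := by
  rw [cell_eq_iff, cell_eq_iff]
  constructor
  · intro h
    have := C_inv P h
    rwa [_root_.mul_inv_rev, inv_inv] at this
  · intro h
    have := C_inv P h
    rwa [_root_.mul_inv_rev, inv_inv, inv_inv] at this

/-- BN1 -/
theorem AM_transpose (w : W P) : (AM P w)ᵀ = AM P w⁻¹ := by
  ext x y
  obtain ⟨g, rfl⟩ := QuotientGroup.mk_surjective x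
  obtain ⟨k, rfl⟩ := QuotientGroup.mk_surjective y
  rw [Matrix.transpose_apply]
  rcases AM_eq_zero_or_one P w⁻¹ (g : G ⧸ P.B) (k : G ⧸ P.B) with h | h
  · rw [h, AM_mk_eq_zero_iff]
    rw [AM_mk_eq_zero_iff] at h
    intro e
    exact h ((cell_inv_mul_eq_iff P w g k).1 e)
  · rw [h, AM_mk_eq_one_iff]
    rw [AM_mk_eq_one_iff] at h
    exact (cell_inv_mul_eq_iff P w g k).2 h

/-- BN1 -/
theorem AM_orth {w w' : W P} (h : w ≠ w') : (AM P w * (AM P w')ᵀ).trace = 0 := by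
  rw [Matrix.trace]
  apply Finset.sum_eq_zero
  intro x _
  rw [Matrix.diag_apply, Matrix.mul_apply]
  apply Finset.sum_eq_zero
  intro y _
  rw [Matrix.transpose_apply]
  obtain ⟨g, rfl⟩ := QuotientGroup.mk_surjective x
  obtain ⟨k, rfl⟩ := QuotientGroup.mk_surjective y
  by_cases h1 : cell P (g⁻¹ * k) = w
  · have h2 : AM P w' (g : G ⧸ P.B) (k : G ⧸ P.B) = 0 := by
      rw [AM_mk_eq_zero_iff, h1]
      exact h
    rw [h2, mul_zero]
  · have h2 : AM P w (g : G ⧸ P.B) (k : G ⧸ P.B) = 0 := by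
      rw [AM_mk_eq_zero_iff]
      exact h1
    rw [h2, zero_mul]

end BN

end Cfsg.Agent.Helper11.FH
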