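import Mathlib
import Cfsg.Agent.Lib.Helper11.FHDefs
import Cfsg.Agent.Lib.Helper11.FHBNDefs

/-!
Piece BN2 of helper11's farm-out of S1142 (Feit–Higman): the Hecke matrices of a (B,N)-pair multiply
as the Weyl group elements do when the length goes up.
-/

set_option autoImplicit false
set_option linter.unusedSectionVars false

namespace Cfsg.Agent.Helper11.FH

open Matrix Real
open Cfsg Cfsg.Agent.Helper2.WordLen Cfsg.Agent.Helper2.BN Cfsg.Agent.Helper17.BNCox

section BN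

variable {G : Type*} [Group G] (P : Cfsg.BNPair G) [Fintype (G ⧸ P.B)] [DecidableEq (G ⧸ P.B)]

theorem mem_C_σ_iff (s : P.S) (u : G) :
    u ∈ C P (σ P s) ↔ ∃ b ∈ P.B, ∃ b' ∈ P.B, u = b * (s : G) * b' :=
  mem_C_iff P ⟨s, P.subset s.2⟩ u

theorem C_mul_C_of_Up {s : P.S} {w : W P} (h : Up P s w) {u v : G}
    (hu : u ∈ C P (σ P s)) (hv : v ∈ C P w) : u * v ∈ C P (σ P s * w) := by
  rw [mem_C_σ_iff] at hu
  obtain ⟨b1, hb1, b2, hb2, rfl⟩ := hu
  have h1 : b2 * v ∈ C P w := B_mul_C P hb2 hv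
  have h2 := h _ h1
  have h3 := B_mul_C P hb1 h2
  have e : b1 * ((s : G) * (b2 * v)) = b1 * (s : G) * b2 * v := by group
  rwa [e] at h3

/-- BN2 -/
theorem AM_mul_up (s : P.S) (w : W P) (h : Up P s w) :
    AM P (σ P s) * AM P w = AM P (σ P s * w) := by
  ext x y
  obtain ⟨g, rfl⟩ := QuotientGroup.mk_surjective x
  obtain ⟨k, rfl⟩ := QuotientGroup.mk_surjective y
  rw [Matrix.mul_apply]
  by_cases hgk : cell P (g⁻¹ * k) = σ P s * w
  · rw [(AM_mk_eq_one_iff P _ g k).2 hgk]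
    rw [cell_eq_iff] at hgk
    obtain ⟨n, rfl⟩ := Cfsg.Agent.Helper2.BN.π_surj P w
    have hσw : σ P s * Cfsg.Agent.Helper2.BN.π P n = Cfsg.Agent.Helper2.BN.π P (⟨s, P.subset s.2⟩ * n) := by
      rw [map_mul]; rfl
    have hgk' := hgk
    rw [hσw, mem_C_iff] at hgk'
    obtain ⟨b, hb, b', hb', hgk'⟩ := hgk'
    have hk : k = g * (b * ((s : G) * n) * b') := by
      have : ((⟨s, P.subset s.2⟩ * n : P.N) : G) = (s : G) * n := rfl
      rw [this] at hgk'
      rw [← hgk']; group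
    have h1 : AM P (σ P s) (g : G ⧸ P.B) ((g * b * s : G) : G ⧸ P.B) = 1 := by
      rw [AM_mk_eq_one_iff, cell_eq_iff]
      have e : g⁻¹ * (g * b * s) = b * s := by group
      rw [e]
      exact B_mul_C P hb (gen_mem_C P s)
    have h2 : AM P (Cfsg.Agent.Helper2.BN.π P n) ((g * b * s : G) : G ⧸ P.B) (k : G ⧸ P.B) = 1 := by
      rw [AM_mk_eq_one_iff, cell_eq_iff]
      have e : (g * b * s)⁻¹ * k = n * b' := by
        rw [hk]; group
      rw [e]
      exact C_mul_B P (mem_C_self P n) hb'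
    rw [Finset.sum_eq_single ((g * b * s : G) : G ⧸ P.B)]
    · rw [h1, h2, mul_one]
    · intro z _ hz
      obtain ⟨j, rfl⟩ := QuotientGroup.mk_surjective z
      by_contra hne
      have hA : AM P (σ P s) (g : G ⧸ P.B) (j : G ⧸ P.B) ≠ 0 := fun h0 => hne (by rw [h0, zero_mul])
      have hB : AM P (Cfsg.Agent.Helper2.BN.π P n) (j : G ⧸ P.B) (k : G ⧸ P.B) ≠ 0 := fun h0 => hne (by rw [h0, mul_zero])
      rw [Ne, AM_mk_eq_zero_iff, not_not, cell_eq_iff] at hA hB
      -- u = (g b s)⁻¹ j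
      have hu0 : b⁻¹ * (g⁻¹ * j) ∈ C P (σ P s) := B_mul_C P (P.B.inv_mem hb) hA
      have hu := L1_inv P s hu0
      have e : (s : G)⁻¹ * (b⁻¹ * (g⁻¹ * j)) = (g * b * s)⁻¹ * j := by group
      rw [e, σ_mul_self, C_one] at hu
      rcases hu with hu | hu
      · exact hz (QuotientGroup.eq.2 hu).symm
      · have h3 := C_mul_C_of_Up P h hu hB
        have e2 : (g * b * s)⁻¹ * j * (j⁻¹ * k) = (g * b * s)⁻¹ * k := by group
        rw [e2] at h3
        have h4 : (g * b * s)⁻¹ * k ∈ C P (Cfsg.Agent.Helper2.BN.π P n) := by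
          rw [AM_mk_eq_one_iff, cell_eq_iff] at h2
          exact h2
        have h5 := C_inj P h3 h4
        apply σ_ne_one P s
        have : σ P s * Cfsg.Agent.Helper2.BN.π P n = 1 * Cfsg.Agent.Helper2.BN.π P n := by rw [one_mul]; exact h5
        exact mul_right_cancel this
    · intro hne; exact absurd (Finset.mem_univ _) hne
  · rw [(AM_mk_eq_zero_iff P _ g k).2 hgk]
    apply Finset.sum_eq_zero
    intro z _
    obtain ⟨j, rfl⟩ := QuotientGroup.mk_surjective z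
    by_contra hne
    have hA : AM P (σ P s) (g : G ⧸ P.B) (j : G ⧸ P.B) ≠ 0 := fun h0 => hne (by rw [h0, zero_mul])
    have hB : AM P w (j : G ⧸ P.B) (k : G ⧸ P.B) ≠ 0 := fun h0 => hne (by rw [h0, mul_zero])
    rw [Ne, AM_mk_eq_zero_iff, not_not, cell_eq_iff] at hA hB
    have h3 := C_mul_C_of_Up P h hA hB
    have e2 : g⁻¹ * j * (j⁻¹ * k) = g⁻¹ * k := by group
    rw [e2] at h3
    exact hgk ((cell_eq_iff P _ _).2 h3)

end BN

end Cfsg.Agent.Helper11.FH
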