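import Mathlib
import Cfsg.Agent.Lib.Helper23.HKKGrp

/-!
# S3779 piece HKK-GAU (helper18): the automorphism induced on the associated Lie ring.
Everything except `autAdd_br` (which is in `HKKGAU2.lean`; here only `autAdd_br_core` with the GHB statements
`hbr_cmk`, `brHom_of_of` as hypotheses).
-/

set_option autoImplicit false
set_option linter.unusedSectionVars false
set_option linter.unusedVariables false

namespace Cfsg.Agent.Helper23.HKK

open scoped DirectSum commutatorElement

variable (G : Type*) [Group G]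

/-! ### local copies of the easy facts about `cmk` -/

theorem gau_cmk_surj (w : ℕ) (x : Comp G w) : ∃ (a : G) (ha : a ∈ Gam G w), x = cmk G w a ha := by
  obtain ⟨a, ha⟩ := QuotientGroup.mk_surjective (Additive.toMul x)
  refine ⟨a.1, a.2, ?_⟩
  show x = Additive.ofMul (QuotientGroup.mk a)
  rw [ha]
  rfl

theorem gau_cmk_mul (w : ℕ) (a b : G) (ha : a ∈ Gam G w) (hb : b ∈ Gam G w) :
    cmk G w (a * b) (mul_mem ha hb) = cmk G w a ha + cmk G w b hb := rfl

theorem gau_cmk_eq (w : ℕ) (a b : G) (ha : a ∈ Gam G w) (hb : b ∈ Gam G w)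
    (h : a⁻¹ * b ∈ Gam G (w + 1)) : cmk G w a ha = cmk G w b hb := by
  unfold cmk
  congr 1
  rw [QuotientGroup.eq, Subgroup.mem_subgroupOf]
  exact h

theorem gau_rep_mem (w : ℕ) (x : Comp G w) : rep G w x ∈ Gam G w :=
  (Quotient.out (Additive.toMul x) : Gam G w).2

theorem gau_rep_cmk (w : ℕ) (a : G) (ha : a ∈ Gam G w) :
    (rep G w (cmk G w a ha))⁻¹ * a ∈ Gam G (w + 1) := by
  have h1 : (QuotientGroup.mk (Quotient.out (Additive.toMul (cmk G w a ha))) : CompM G w) =
      QuotientGroup.mk ⟨a, ha⟩ := Quotient.out_eq' _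
  rw [QuotientGroup.eq, Subgroup.mem_subgroupOf] at h1
  exact h1

/-! ### the piece -/

theorem Gam_aut (α : MulAut G) (w : ℕ) (a : G) (ha : a ∈ Gam G w) : α a ∈ Gam G w := by
  have hchar : (Gam G w).Characteristic := by
    unfold Gam
    infer_instance
  have h := (Subgroup.characteristic_iff_map_eq.mp hchar) α
  rw [← h]
  exact ⟨a, ha, rfl⟩

theorem compMap_cmk (α : MulAut G) (w : ℕ) (a : G) (ha : a ∈ Gam G w) :
    compMap G α w (cmk G w a ha) = cmk G w (α a) (Gam_aut G α w a ha) := by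
  unfold compMap
  have hmem : α (rep G w (cmk G w a ha)) ∈ Gam G w := Gam_aut G α w _ (gau_rep_mem G w _)
  rw [dif_pos hmem]
  apply gau_cmk_eq
  have h := Gam_aut G α (w + 1) _ (gau_rep_cmk G w a ha)
  rw [map_mul, map_inv] at h
  exact h

theorem compMap_add (α : MulAut G) (w : ℕ) (x y : Comp G w) :
    compMap G α w (x + y) = compMap G α w x + compMap G α w y := by
  obtain ⟨a, ha, rfl⟩ := gau_cmk_surj G w x
  obtain ⟨b, hb, rfl⟩ := gau_cmk_surj G w y
  rw [← gau_cmk_mul, compMap_cmk, compMap_cmk, compMap_cmk, ← gau_cmk_mul]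
  apply gau_cmk_eq
  rw [map_mul, inv_mul_cancel]
  exact one_mem _

theorem compMapHom_apply (α : MulAut G) (w : ℕ) (x : Comp G w) : compMapHom G α w x = compMap G α w x := by
  unfold compMapHom
  rw [dif_pos (compMap_add G α w)]
  rfl

theorem autAdd_of (α : MulAut G) (w : ℕ) (x : Comp G w) :
    autAdd G α (DirectSum.of (Comp G) w x) = DirectSum.of (Comp G) w (compMap G α w x) := by
  unfold autAdd
  rw [DirectSum.toAddMonoid_of, AddMonoidHom.comp_apply, compMapHom_apply]

theorem autAdd_one : autAdd G (1 : MulAut G) = AddMonoidHom.id (AL G) := by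
  apply DirectSum.addHom_ext
  intro w x
  rw [autAdd_of, AddMonoidHom.id_apply]
  obtain ⟨a, ha, rfl⟩ := gau_cmk_surj G w x
  rw [compMap_cmk]
  rfl

theorem autAdd_mul (α β : MulAut G) : autAdd G (α * β) = (autAdd G α).comp (autAdd G β) := by
  apply DirectSum.addHom_ext
  intro w x
  rw [AddMonoidHom.comp_apply, autAdd_of, autAdd_of, autAdd_of]
  obtain ⟨a, ha, rfl⟩ := gau_cmk_surj G w x
  rw [compMap_cmk, compMap_cmk, compMap_cmk]
  rfl

theorem autAdd_pow (α : MulAut G) (k : ℕ) (x : AL G) : autAdd G (α ^ k) x = (⇑(autAdd G α))^[k] x := by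
  induction k generalizing x with
  | zero =>
    rw [pow_zero, autAdd_one]
    rfl
  | succ k ih =>
    rw [pow_succ, autAdd_mul, AddMonoidHom.comp_apply, ih, Function.iterate_succ_apply]

/-- `autAdd_br` with the two GHB statements as hypotheses -/
theorem autAdd_br_core
    (hbrcmk : ∀ (i j : ℕ) (a b : G) (ha : a ∈ Gam G i) (hb : b ∈ Gam G j)
      (hab : ⁅a, b⁆ ∈ Gam G (i + j)),
      hbr G i j (cmk G i a ha) (cmk G j b hb) = cmk G (i + j) ⁅a, b⁆ hab)
    (hbrof : ∀ (i j : ℕ) (x : Comp G i) (y : Comp G j),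
      brHom G (DirectSum.of (Comp G) i x) (DirectSum.of (Comp G) j y) =
        DirectSum.of (Comp G) (i + j) (hbr G i j x y))
    (hCM : ∀ (i j : ℕ) (a b : G), a ∈ Gam G i → b ∈ Gam G j → ⁅a, b⁆ ∈ Gam G (i + j))
    (α : MulAut G) (x y : AL G) :
    autAdd G α (brHom G x y) = brHom G (autAdd G α x) (autAdd G α y) := by
  -- both sides are biadditive in `(x, y)`
  have key : (autAdd G α).compHom.comp (brHom G) =
      ((brHom G).comp (autAdd G α)).compl₂ (autAdd G α) := by
    apply DirectSum.addHom_ext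
    intro i x
    apply DirectSum.addHom_ext
    intro j y
    simp only [AddMonoidHom.comp_apply, AddMonoidHom.compHom_apply_apply,
      AddMonoidHom.compl₂_apply]
    rw [hbrof, autAdd_of, autAdd_of, autAdd_of, hbrof]
    congr 1
    obtain ⟨a, ha, rfl⟩ := gau_cmk_surj G i x
    obtain ⟨b, hb, rfl⟩ := gau_cmk_surj G j y
    rw [hbrcmk i j a b ha hb (hCM i j a b ha hb), compMap_cmk, compMap_cmk, compMap_cmk,
      hbrcmk i j (α a) (α b) _ _ (hCM i j _ _ (Gam_aut G α i a ha) (Gam_aut G α j b hb))]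
    apply gau_cmk_eq
    rw [map_commutatorElement, inv_mul_cancel]
    exact one_mem _
  have := DFunLike.congr_fun (DFunLike.congr_fun key x) y
  simpa only [AddMonoidHom.comp_apply, AddMonoidHom.compHom_apply_apply,
    AddMonoidHom.compl₂_apply] using this

end Cfsg.Agent.Helper23.HKK
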