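import Mathlib
import Cfsg.Agent.Lib.Helper1.OGBASE
import Cfsg.Agent.Lib.Helper1.OGFRAME
import Cfsg.Agent.Lib.Helper28.OGLG

/-!
# S2414 (OG farm-out) piece MINUSC1 (helper18): the element
`c₁ = E(e₂ - f₂ + w₁, w₂ - a f₂)`, `a = B(w₁,w₂)`, `Q w₁ = 1`, `b = Q w₂ ≠ 0`, `a + 2 ≠ 0`.
-/

set_option autoImplicit false
set_option linter.unusedSectionVars false
set_option linter.unusedVariables false

namespace Cfsg.Agent.Helper11.OG

open QuadraticMap Matrix Cfsg.Agent.Helper2.Orth Cfsg.Agent.Helper28.WittQuad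

variable {F : Type*} [Field F] {ι : Type} [Fintype ι] [DecidableEq ι]
variable {Q : QuadraticForm F (ι → F)}

section frame
variable {r : ℕ} {e f : Fin r → (ι → F)}

/-- the centre `z = e₂ - f₂ + w₁` is singular and orthogonal to `w₂ - a f₂`, which has norm `Q w₂` -/
theorem minusc1_basic (fr : HypFrame Q e f) (i2 : Fin r)
    (w1 w2 : ι → F) (hw1 : Perp Q e f w1) (hw2 : Perp Q e f w2) (hQ1 : Q w1 = 1) :
    Q (e i2 - f i2 + w1) = 0 ∧
    polar Q (e i2 - f i2 + w1) (w2 - polar Q w1 w2 • f i2) = 0 ∧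
    Q (w2 - polar Q w1 w2 • f i2) = Q w2 := by
  have p_ef : polar Q (e i2) (f i2) = 1 := by rw [fr.ef, if_pos rfl]
  have p_ff : polar Q (f i2) (f i2) = 0 := fr.ff i2 i2
  have p_ew1 : polar Q (e i2) w1 = 0 := (hw1 i2).1
  have p_fw1 : polar Q (f i2) w1 = 0 := (hw1 i2).2
  have p_ew2 : polar Q (e i2) w2 = 0 := (hw2 i2).1
  have p_fw2 : polar Q (f i2) w2 = 0 := (hw2 i2).2
  have p_w1f : polar Q w1 (f i2) = 0 := by rw [polar_comm]; exact p_fw1
  have p_w2f : polar Q w2 (f i2) = 0 := by rw [polar_comm]; exact p_fw2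
  refine ⟨?_, ?_, ?_⟩
  · rw [QuadraticMap.map_add Q, sub_eq_add_neg, QuadraticMap.map_add Q, QuadraticMap.map_neg, fr.qe,
      fr.qf, hQ1, polar_neg_right, p_ef, polar_add_left, polar_neg_left, p_ew1, p_fw1]
    ring
  · simp only [polar_add_left, polar_sub_left, polar_sub_right, polar_smul_right, p_ef, p_ff,
      p_ew2, p_fw2, p_w1f, smul_eq_mul]
    ring
  · rw [sub_eq_add_neg, QuadraticMap.map_add Q, QuadraticMap.map_neg, QuadraticMap.map_smul, fr.qf,
      polar_neg_right, polar_smul_right, p_w2f]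
    simp

theorem minus_hgen_c1 (hQ : (polarBilin Q).Nondegenerate) (fr : HypFrame Q e f)
    (H : Subgroup (Cfsg.isometryGroup F (⇑Q)))
    (hL : ∀ i j, i ≠ j → ∀ c : F, eichG Q (e i) (c • f j) ∈ H)
    (i0 i1 i2 : Fin r) (h10 : i1 ≠ i0) (h20 : i2 ≠ i0) (h12 : i1 ≠ i2)
    (w1 w2 : ι → F) (hw1 : Perp Q e f w1) (hw2 : Perp Q e f w2) (hQ1 : Q w1 = 1)
    (hQ2 : Q w2 ≠ 0) (ha : polar Q w1 w2 + 2 ≠ 0)
    (hW : ∀ x, Perp Q e f x → ∃ s t : F, x = s • w1 + t • w2)
    (hc : eichG Q (e i2 - f i2 + w1) (w2 - polar Q w1 w2 • f i2) ∈ H) : eichGroup Q ≤ H := by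
  obtain ⟨hz, hzb, hQbb⟩ := minusc1_basic fr i2 w1 w2 hw1 hw2 hQ1
  set a : F := polar Q w1 w2 with ha_def
  set b : F := Q w2 with hb_def
  set z : ι → F := e i2 - f i2 + w1 with hz_def
  set bb : ι → F := w2 - a • f i2 with hbb_def
  set c1 := eichG Q z bb with hc1
  have h02 : i0 ≠ i2 := fun h => h20 h.symm
  have h01 : i0 ≠ i1 := fun h => h10 h.symm
  have h21 : i2 ≠ i1 := fun h => h12 h.symm
  -- polar values
  have pz : ∀ x, polar Q z x = polar Q (e i2) x - polar Q (f i2) x + polar Q w1 x := by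
    intro x
    rw [hz_def, polar_add_left, polar_sub_left]
  have pbb : ∀ x, polar Q bb x = polar Q w2 x - a * polar Q (f i2) x := by
    intro x
    rw [hbb_def, polar_sub_left, polar_smul_left, smul_eq_mul]
  have p_w1x : ∀ j, polar Q w1 (e j) = 0 ∧ polar Q w1 (f j) = 0 := by
    intro j
    constructor
    · rw [polar_comm]; exact (hw1 j).1
    · rw [polar_comm]; exact (hw1 j).2
  have p_w2x : ∀ j, polar Q w2 (e j) = 0 ∧ polar Q w2 (f j) = 0 := by
    intro j
    constructor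
    · rw [polar_comm]; exact (hw2 j).1
    · rw [polar_comm]; exact (hw2 j).2
  have p_w11 : polar Q w1 w1 = 2 := by
    rw [QuadraticMap.polar_self, hQ1, two_nsmul]; norm_num
  have p_w22 : polar Q w2 w2 = 2 * b := by
    rw [QuadraticMap.polar_self, two_nsmul, two_mul]
  have p_w21 : polar Q w2 w1 = a := by rw [polar_comm]
  have capp : ∀ x, c1 • x = x + (polar Q bb x • z - polar Q z x • bb - b • polar Q z x • z) := by
    intro x
    rw [hc1, eichG_apply hz hzb, hQbb]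
  -- `c₁` fixes `e i0`
  have ce0 : c1 • e i0 = e i0 := by
    rw [capp, pz, pbb, fr.ee i2 i0, fr.fe i2 i0, if_neg h20, (p_w1x i0).1, (p_w2x i0).1]
    simp
  -- image of `f₂`
  have cf2 : c1 • f i2 = (1 + a + b) • f i2 - b • e i2 - (w2 + b • w1) := by
    rw [capp, pz, pbb, fr.ef i2 i2, if_pos rfl, fr.ff i2 i2, (p_w1x i2).2, (p_w2x i2).2, hz_def,
      hbb_def]
    module
  -- image of `e₂`
  have ce2 : c1 • e i2 = e i2 + (b - a) • (e i2 - f i2 + w1) + w2 - a • f i2 := by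
    rw [capp, pz, pbb, fr.ee i2 i2, fr.fe i2 i2, if_pos rfl, (p_w1x i2).1, (p_w2x i2).1, hz_def,
      hbb_def]
    module
  -- image of `w' = w₂ + b w₁`
  have cw' : c1 • (w2 + b • w1) = ((1 - a - 2 * b) • w2 + (3 * b - 2 * b ^ 2) • w1) +
      ((2 * b - 2 * b ^ 2) • e i2 + (a * (a + 2 * b) - (2 * b - 2 * b ^ 2)) • f i2) := by
    rw [capp, pz, pbb]
    simp only [polar_add_right, polar_smul_right, (hw2 i2).1, (hw2 i2).2, (hw1 i2).1, (hw1 i2).2,
      p_w11, p_w22, p_w21, ← ha_def, smul_eq_mul, mul_zero, add_zero, sub_zero, zero_add, zero_sub]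
    rw [hz_def, hbb_def]
    module
  have hinv : ∀ v ∈ KS H (e i0) (fr.qe i0), c1 • v ∈ KS H (e i0) (fr.qe i0) :=
    fun v hv => KS_smul_mem hc ce0 hv
  have hf : ∀ j, j ≠ i0 → ∀ c : F, c • f j ∈ KS H (e i0) (fr.qe i0) := KS_f_of_levi fr H hL i0
  -- `c (b e₂ + w')`
  have s1 : ∀ c : F, c • (b • e i2 + (w2 + b • w1)) ∈ KS H (e i0) (fr.qe i0) := by
    intro c
    have h := hinv _ (hf i2 h20 c)
    rw [smul_smul_vec, cf2] at h
    have h' := (KS H (e i0) (fr.qe i0)).sub_mem (hf i2 h20 (c * (1 + a + b))) h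
    convert h' using 1
    module
  -- `F e_{i1}`
  have s2 : ∀ c : F, c • e i1 ∈ KS H (e i0) (fr.qe i0) := by
    intro c
    set g := eichG Q (e i1) ((c * b⁻¹) • f i2) with hg
    have hgH : g ∈ H := hL i1 i2 h12 _
    have hgz : Q (e i1) = 0 := fr.qe i1
    have hgzb : polar Q (e i1) ((c * b⁻¹) • f i2) = 0 := by
      rw [polar_smul_right, fr.ef i1 i2, if_neg h12, smul_zero]
    have gapp : ∀ x, g • x = x + (polar Q ((c * b⁻¹) • f i2) x • e i1 -
        polar Q (e i1) x • ((c * b⁻¹) • f i2) -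
        Q ((c * b⁻¹) • f i2) • polar Q (e i1) x • e i1) := fun x => eichG_apply hgz hgzb x
    have ge0 : g • e i0 = e i0 := by
      rw [gapp, polar_smul_left, fr.fe i2 i0, if_neg h20, fr.ee i1 i0]
      simp
    have gv : g • (b • e i2 + (w2 + b • w1)) = (b • e i2 + (w2 + b • w1)) + c • e i1 := by
      have hb0 : b ≠ 0 := hQ2
      have p1 : polar Q (f i2) (e i2) = 1 := by rw [fr.fe, if_pos rfl]
      have p2 : polar Q (f i2) w1 = 0 := (hw1 i2).2
      have p3 : polar Q (f i2) w2 = 0 := (hw2 i2).2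
      have p4 : polar Q (e i1) (e i2) = 0 := fr.ee i1 i2
      have p5 : polar Q (e i1) w1 = 0 := (hw1 i1).1
      have p6 : polar Q (e i1) w2 = 0 := (hw2 i1).1
      rw [gapp]
      simp only [polar_add_right, polar_smul_right, polar_smul_left, p1, p2, p3, p4, p5, p6,
        smul_eq_mul, mul_zero, add_zero, zero_smul, sub_zero, smul_zero, mul_one]
      have : b * (c * b⁻¹) = c := by field_simp
      rw [this]
    have h := KS_smul_mem hgH ge0 (s1 1)
    rw [one_smul, gv] at h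
    have h' := (KS H (e i0) (fr.qe i0)).sub_mem h (s1 1)
    rw [one_smul] at h'
    convert h' using 1
    module
  have he : ∀ j, j ≠ i0 → ∀ c : F, c • e j ∈ KS H (e i0) (fr.qe i0) :=
    KS_e_of_levi fr H hL i0 ⟨i1, h10, s2⟩
  -- `F w'`
  have s3 : ∀ c : F, c • (w2 + b • w1) ∈ KS H (e i0) (fr.qe i0) := by
    intro c
    have h' := (KS H (e i0) (fr.qe i0)).sub_mem (s1 c) (he i2 h20 (c * b))
    convert h' using 1
    module
  -- `F u`, `u` the `W`-part of `c₁ w'`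
  have s4 : ∀ c : F, c • ((1 - a - 2 * b) • w2 + (3 * b - 2 * b ^ 2) • w1) ∈
      KS H (e i0) (fr.qe i0) := by
    intro c
    have h := hinv _ (s3 c)
    rw [smul_smul_vec, cw'] at h
    have h' := (KS H (e i0) (fr.qe i0)).sub_mem h
      ((KS H (e i0) (fr.qe i0)).add_mem (he i2 h20 (c * (2 * b - 2 * b ^ 2)))
        (hf i2 h20 (c * (a * (a + 2 * b) - (2 * b - 2 * b ^ 2)))))
    convert h' using 1
    module
  have hdet : b * (a + 2) ≠ 0 := mul_ne_zero hQ2 ha
  have s5 : ∀ c : F, c • w1 ∈ KS H (e i0) (fr.qe i0) := by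
    intro c
    have h' := (KS H (e i0) (fr.qe i0)).sub_mem (s4 (c * (b * (a + 2))⁻¹))
      (s3 (c * (b * (a + 2))⁻¹ * (1 - a - 2 * b)))
    convert h' using 1
    have hcc : c * (b * (a + 2))⁻¹ * (b * (a + 2)) = c := by field_simp
    have : (c * (b * (a + 2))⁻¹) • ((1 - a - 2 * b) • w2 + (3 * b - 2 * b ^ 2) • w1) -
        (c * (b * (a + 2))⁻¹ * (1 - a - 2 * b)) • (w2 + b • w1) =
        (c * (b * (a + 2))⁻¹ * (b * (a + 2))) • w1 := by module
    rw [this, hcc]
  have s6 : ∀ c : F, c • w2 ∈ KS H (e i0) (fr.qe i0) := by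
    intro c
    have h' := (KS H (e i0) (fr.qe i0)).sub_mem (s3 c) (s5 (c * b))
    convert h' using 1
    module
  apply levi_gen hQ fr H hL i0 ⟨i1, h10, s2⟩
  · intro x hx
    obtain ⟨s, u, rfl⟩ := hW x hx
    exact (KS H (e i0) (fr.qe i0)).add_mem (s5 s) (s6 u)
  · refine ⟨c1, hc, i2, i2, h20, h20, ce0, ?_, ?_⟩
    · rw [ce2]
      simp only [polar_add_right, polar_sub_right, polar_smul_right, fr.ee i0 i2, fr.ef i0 i2,
        if_neg h02, (hw1 i0).1, (hw2 i0).1]
      simp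
    · rw [ce2]
      have p1 : polar Q (e i2) (f i2) = 1 := by rw [fr.ef, if_pos rfl]
      simp only [polar_add_right, polar_sub_right, polar_smul_right, fr.ee i2 i2, p1,
        (hw1 i2).1, (hw2 i2).1]
      have : (0 : F) + (b - a) • ((0 : F) - 1 + 0) + 0 - a • (1 : F) = -b := by
        simp only [smul_eq_mul]; ring
      rw [this]
      exact neg_ne_zero.mpr hQ2

end frame

end Cfsg.Agent.Helper11.OG
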