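import Mathlib
import Cfsg.Agent.Lib.Helper1.OGBASE
import Cfsg.Agent.Lib.Helper1.OGFRAME
import Cfsg.Agent.Lib.Helper28.OGLG

/-!
# S2414 (OG farm-out) piece MINUSC2 (helper18): characteristic 2, the element
`t = E(e₂,w₁) E(f₂,w₂)` with `Q w₁ = Q w₂ = B(w₁,w₂) = 1`.
-/

set_option autoImplicit false
set_option linter.unusedSectionVars false
set_option linter.unusedVariables false

namespace Cfsg.Agent.Helper11.OG

open QuadraticMap Matrix Cfsg.Agent.Helper2.Orth Cfsg.Agent.Helper28.WittQuad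

variable {F : Type*} [Field F] {ι : Type} [Fintype ι] [DecidableEq ι]
variable {Q : QuadraticForm F (ι → F)}

section frame
variable {r : ℕ} {e f : Fin r → (ι → F)}

/-- the action of `t = E(e₂,w₁) E(f₂,w₂)` (any characteristic) -/
theorem minusc2_t_apply (fr : HypFrame Q e f) (i2 : Fin r)
    (w1 w2 : ι → F) (hw1 : Perp Q e f w1) (hw2 : Perp Q e f w2) (hQ1 : Q w1 = 1)
    (hQ2 : Q w2 = 1) (h12 : polar Q w1 w2 = 1) (x : ι → F) :
    (eichG Q (e i2) w1 * eichG Q (f i2) w2) • x =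
      x + (polar Q w1 x - polar Q (e i2) x - polar Q w2 x) • e i2
        + (polar Q w2 x - polar Q (f i2) x) • f i2
        + (polar Q (f i2) x - polar Q (e i2) x - polar Q w2 x) • w1
        - polar Q (f i2) x • w2 := by
  have hz1 : Q (e i2) = 0 := fr.qe i2
  have hzb1 : polar Q (e i2) w1 = 0 := (hw1 i2).1
  have hz2 : Q (f i2) = 0 := fr.qf i2
  have hzb2 : polar Q (f i2) w2 = 0 := (hw2 i2).2
  have p_ef : polar Q (e i2) (f i2) = 1 := by rw [fr.ef, if_pos rfl]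
  have p_ff : polar Q (f i2) (f i2) = 0 := fr.ff i2 i2
  have p_w1f : polar Q w1 (f i2) = 0 := by rw [polar_comm]; exact (hw1 i2).2
  have p_w2f : polar Q w2 (f i2) = 0 := by rw [polar_comm]; exact (hw2 i2).2
  have p_ew2 : polar Q (e i2) w2 = 0 := (hw2 i2).1
  rw [mul_smul, eichG_apply hz2 hzb2 x, eichG_apply hz1 hzb1]
  simp only [polar_add_right, polar_sub_right, polar_smul_right, hQ1, hQ2, p_ef, p_ff, p_w1f,
    p_w2f, p_ew2, hzb1, hzb2, h12, smul_eq_mul, mul_zero, mul_one, sub_zero, add_zero,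
    polar_self_of_singular Q hz1]
  module

/-- the four images in characteristic 2 -/
theorem minusc2_images (h2 : (2 : F) = 0) (fr : HypFrame Q e f) (i2 : Fin r)
    (w1 w2 : ι → F) (hw1 : Perp Q e f w1) (hw2 : Perp Q e f w2) (hQ1 : Q w1 = 1)
    (hQ2 : Q w2 = 1) (h12 : polar Q w1 w2 = 1) :
    (eichG Q (e i2) w1 * eichG Q (f i2) w2) • e i2 = e i2 + f i2 + w1 + w2 ∧
    (eichG Q (e i2) w1 * eichG Q (f i2) w2) • f i2 = e i2 + f i2 + w1 ∧
    (eichG Q (e i2) w1 * eichG Q (f i2) w2) • w1 = e i2 + f i2 ∧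
    (eichG Q (e i2) w1 * eichG Q (f i2) w2) • w2 = e i2 + w2 := by
  have p_ef : polar Q (e i2) (f i2) = 1 := by rw [fr.ef, if_pos rfl]
  have p_fe : polar Q (f i2) (e i2) = 1 := by rw [fr.fe, if_pos rfl]
  have p_ee : polar Q (e i2) (e i2) = 0 := fr.ee i2 i2
  have p_ff : polar Q (f i2) (f i2) = 0 := fr.ff i2 i2
  have p_ew1 : polar Q (e i2) w1 = 0 := (hw1 i2).1
  have p_fw1 : polar Q (f i2) w1 = 0 := (hw1 i2).2
  have p_ew2 : polar Q (e i2) w2 = 0 := (hw2 i2).1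
  have p_fw2 : polar Q (f i2) w2 = 0 := (hw2 i2).2
  have p_w1e : polar Q w1 (e i2) = 0 := by rw [polar_comm]; exact p_ew1
  have p_w1f : polar Q w1 (f i2) = 0 := by rw [polar_comm]; exact p_fw1
  have p_w2e : polar Q w2 (e i2) = 0 := by rw [polar_comm]; exact p_ew2
  have p_w2f : polar Q w2 (f i2) = 0 := by rw [polar_comm]; exact p_fw2
  have p_w21 : polar Q w2 w1 = 1 := by rw [polar_comm]; exact h12
  have p_w11 : polar Q w1 w1 = 0 := by
    rw [QuadraticMap.polar_self, hQ1, two_nsmul]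
    have : (1 : F) + 1 = 2 := by norm_num
    rw [this, h2]
  have p_w22 : polar Q w2 w2 = 0 := by
    rw [QuadraticMap.polar_self, hQ2, two_nsmul]
    have : (1 : F) + 1 = 2 := by norm_num
    rw [this, h2]
  refine ⟨?_, ?_, ?_, ?_⟩
  · rw [minusc2_t_apply fr i2 w1 w2 hw1 hw2 hQ1 hQ2 h12, p_w1e, p_ee, p_w2e, p_fe]
    linear_combination (norm := module) h2 • (-(f i2 + w2))
  · rw [minusc2_t_apply fr i2 w1 w2 hw1 hw2 hQ1 hQ2 h12, p_w1f, p_ef, p_w2f, p_ff]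
    linear_combination (norm := module) h2 • (-(e i2 + w1))
  · rw [minusc2_t_apply fr i2 w1 w2 hw1 hw2 hQ1 hQ2 h12, p_w11, p_ew1, p_w21, p_fw1]
    linear_combination (norm := module) h2 • (-(e i2))
  · rw [minusc2_t_apply fr i2 w1 w2 hw1 hw2 hQ1 hQ2 h12, h12, p_ew2, p_w22, p_fw2]
    module

/-- `t` fixes the other frame vectors -/
theorem minusc2_fix (fr : HypFrame Q e f) (i2 : Fin r)
    (w1 w2 : ι → F) (hw1 : Perp Q e f w1) (hw2 : Perp Q e f w2) (hQ1 : Q w1 = 1)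
    (hQ2 : Q w2 = 1) (h12 : polar Q w1 w2 = 1) (j : Fin r) (hj : j ≠ i2) :
    (eichG Q (e i2) w1 * eichG Q (f i2) w2) • e j = e j ∧
    (eichG Q (e i2) w1 * eichG Q (f i2) w2) • f j = f j := by
  have hj' : i2 ≠ j := fun h => hj h.symm
  constructor
  · rw [minusc2_t_apply fr i2 w1 w2 hw1 hw2 hQ1 hQ2 h12,
      show polar Q w1 (e j) = 0 by rw [polar_comm]; exact (hw1 j).1,
      show polar Q w2 (e j) = 0 by rw [polar_comm]; exact (hw2 j).1,
      fr.ee i2 j, fr.fe i2 j, if_neg hj']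
    module
  · rw [minusc2_t_apply fr i2 w1 w2 hw1 hw2 hQ1 hQ2 h12,
      show polar Q w1 (f j) = 0 by rw [polar_comm]; exact (hw1 j).2,
      show polar Q w2 (f j) = 0 by rw [polar_comm]; exact (hw2 j).2,
      fr.ff i2 j, fr.ef i2 j, if_neg hj']
    module

theorem minus_hgen_c2 (h2 : (2 : F) = 0) (hQ : (polarBilin Q).Nondegenerate)
    (fr : HypFrame Q e f) (H : Subgroup (Cfsg.isometryGroup F (⇑Q)))
    (hL : ∀ i j, i ≠ j → ∀ c : F, eichG Q (e i) (c • f j) ∈ H)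
    (i0 i2 : Fin r) (h20 : i2 ≠ i0)
    (w1 w2 : ι → F) (hw1 : Perp Q e f w1) (hw2 : Perp Q e f w2) (hQ1 : Q w1 = 1)
    (hQ2 : Q w2 = 1) (h12 : polar Q w1 w2 = 1)
    (hW : ∀ x, Perp Q e f x → ∃ s t : F, x = s • w1 + t • w2)
    (hc : eichG Q (e i2) w1 * eichG Q (f i2) w2 ∈ H) : eichGroup Q ≤ H := by
  obtain ⟨te, tf, tw1, tw2⟩ := minusc2_images h2 fr i2 w1 w2 hw1 hw2 hQ1 hQ2 h12
  have te0 := (minusc2_fix fr i2 w1 w2 hw1 hw2 hQ1 hQ2 h12 i0 (fun h => h20 h.symm)).1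
  set t := eichG Q (e i2) w1 * eichG Q (f i2) w2 with ht
  have hinv : ∀ b ∈ KS H (e i0) (fr.qe i0), t • b ∈ KS H (e i0) (fr.qe i0) :=
    fun b hb => KS_smul_mem hc te0 hb
  have hf2 : ∀ c : F, c • f i2 ∈ KS H (e i0) (fr.qe i0) := KS_f_of_levi fr H hL i0 i2 h20
  -- `c (e₂ + w₁)`
  have s1 : ∀ c : F, c • (e i2 + w1) ∈ KS H (e i0) (fr.qe i0) := by
    intro c
    have h := hinv _ (hf2 c)
    rw [smul_smul_vec, tf] at h
    have h' := (KS H (e i0) (fr.qe i0)).sub_mem h (hf2 c)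
    convert h' using 1
    module
  -- `c (w₁ + w₂)`
  have s2 : ∀ c : F, c • (w1 + w2) ∈ KS H (e i0) (fr.qe i0) := by
    intro c
    have h := hinv _ (s1 c)
    rw [smul_smul_vec, smul_add_vec, te, tw1] at h
    convert h using 1
    linear_combination (norm := module) (h2 • (-(c • (e i2 + f i2))))
  -- `c w₂`
  have s3 : ∀ c : F, c • w2 ∈ KS H (e i0) (fr.qe i0) := by
    intro c
    have h := hinv _ (s2 c)
    rw [smul_smul_vec, smul_add_vec, tw1, tw2] at h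
    have h' := (KS H (e i0) (fr.qe i0)).sub_mem h (hf2 c)
    convert h' using 1
    linear_combination (norm := module) (h2 • (-(c • (e i2))))
  have s4 : ∀ c : F, c • w1 ∈ KS H (e i0) (fr.qe i0) := by
    intro c
    have h' := (KS H (e i0) (fr.qe i0)).sub_mem (s2 c) (s3 c)
    convert h' using 1
    module
  have s5 : ∀ c : F, c • e i2 ∈ KS H (e i0) (fr.qe i0) := by
    intro c
    have h' := (KS H (e i0) (fr.qe i0)).sub_mem (s1 c) (s4 c)
    convert h' using 1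
    module
  apply levi_gen hQ fr H hL i0 ⟨i2, h20, s5⟩
  · intro x hx
    obtain ⟨s, u, rfl⟩ := hW x hx
    exact (KS H (e i0) (fr.qe i0)).add_mem (s4 s) (s3 u)
  · refine ⟨t, hc, i2, i2, h20, h20, te0, ?_, ?_⟩
    · rw [te]
      simp only [polar_add_right]
      rw [fr.ee i0 i2, fr.ef i0 i2, if_neg (fun h => h20 h.symm), (hw1 i0).1, (hw2 i0).1]
      simp
    · rw [te]
      simp only [polar_add_right]
      rw [fr.ee i2 i2, fr.ef i2 i2, if_pos rfl, (hw1 i2).1, (hw2 i2).1]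
      simp

/-- the action of `t` on the span of `e₂, f₂, w₁, w₂` in characteristic 2 -/
theorem minusc2_comb (h2 : (2 : F) = 0) (fr : HypFrame Q e f) (i2 : Fin r)
    (w1 w2 : ι → F) (hw1 : Perp Q e f w1) (hw2 : Perp Q e f w2) (hQ1 : Q w1 = 1)
    (hQ2 : Q w2 = 1) (h12 : polar Q w1 w2 = 1) (a b c d : F) :
    (eichG Q (e i2) w1 * eichG Q (f i2) w2) • (a • e i2 + b • f i2 + c • w1 + d • w2) =
      (a + b + c + d) • e i2 + (a + b + c) • f i2 + (a + b) • w1 + (a + d) • w2 := by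
  obtain ⟨te, tf, tw1, tw2⟩ := minusc2_images h2 fr i2 w1 w2 hw1 hw2 hQ1 hQ2 h12
  rw [smul_add_vec, smul_add_vec, smul_add_vec, smul_smul_vec, smul_smul_vec, smul_smul_vec,
    smul_smul_vec, te, tf, tw1, tw2]
  module

theorem minusc2_pow_five_comb (h2 : (2 : F) = 0) (fr : HypFrame Q e f) (i2 : Fin r)
    (w1 w2 : ι → F) (hw1 : Perp Q e f w1) (hw2 : Perp Q e f w2) (hQ1 : Q w1 = 1)
    (hQ2 : Q w2 = 1) (h12 : polar Q w1 w2 = 1) (a b c d : F) :
    (eichG Q (e i2) w1 * eichG Q (f i2) w2) ^ 5 • (a • e i2 + b • f i2 + c • w1 + d • w2) =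
      a • e i2 + b • f i2 + c • w1 + d • w2 := by
  have hc := minusc2_comb h2 fr i2 w1 w2 hw1 hw2 hQ1 hQ2 h12
  have h5 : ∀ x : ι → F, (eichG Q (e i2) w1 * eichG Q (f i2) w2) ^ 5 • x =
      (eichG Q (e i2) w1 * eichG Q (f i2) w2) • (eichG Q (e i2) w1 * eichG Q (f i2) w2) •
      (eichG Q (e i2) w1 * eichG Q (f i2) w2) • (eichG Q (e i2) w1 * eichG Q (f i2) w2) •
      (eichG Q (e i2) w1 * eichG Q (f i2) w2) • x := by
    intro x
    rw [show (5 : ℕ) = 1 + 1 + 1 + 1 + 1 from rfl, pow_succ, pow_succ, pow_succ, pow_succ, pow_one,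
      mul_smul, mul_smul, mul_smul, mul_smul]
  rw [h5, hc, hc, hc, hc, hc]
  linear_combination (norm := module) h2 •
    ((48 * a + 40 * b + 30 * c + 25 * d) • e i2 + (40 * a + 33 * b + 25 * c + 20 * d) • f i2 +
      (30 * a + 25 * b + 18 * c + 15 * d) • w1 + (25 * a + 20 * b + 15 * c + 13 * d) • w2)

theorem minus_t_pow_five (h2 : (2 : F) = 0) (fr : HypFrame Q e f) (i2 : Fin r)
    (w1 w2 : ι → F) (hw1 : Perp Q e f w1) (hw2 : Perp Q e f w2) (hQ1 : Q w1 = 1)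
    (hQ2 : Q w2 = 1) (h12 : polar Q w1 w2 = 1)
    (hW : ∀ x, Perp Q e f x → ∃ s t : F, x = s • w1 + t • w2) :
    (eichG Q (e i2) w1 * eichG Q (f i2) w2) ^ 5 = 1 := by
  have hcomb := minusc2_pow_five_comb h2 fr i2 w1 w2 hw1 hw2 hQ1 hQ2 h12
  have hfix : ∀ x : ι → F, (eichG Q (e i2) w1 * eichG Q (f i2) w2) • x = x →
      (eichG Q (e i2) w1 * eichG Q (f i2) w2) ^ 5 • x = x := by
    intro x hx
    rw [show (5 : ℕ) = 1 + 1 + 1 + 1 + 1 from rfl, pow_succ, pow_succ, pow_succ, pow_succ, pow_one,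
      mul_smul, mul_smul, mul_smul, mul_smul, hx, hx, hx, hx, hx]
  apply ext_frame fr
  · intro i
    rw [one_smul]
    by_cases hi : i = i2
    · subst hi
      have := hcomb 1 0 0 0
      simpa using this
    · exact hfix _ (minusc2_fix fr i2 w1 w2 hw1 hw2 hQ1 hQ2 h12 i hi).1
  · intro i
    rw [one_smul]
    by_cases hi : i = i2
    · subst hi
      have := hcomb 0 1 0 0
      simpa using this
    · exact hfix _ (minusc2_fix fr i2 w1 w2 hw1 hw2 hQ1 hQ2 h12 i hi).2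
  · intro x hx
    rw [one_smul]
    obtain ⟨s, u, rfl⟩ := hW x hx
    have := hcomb 0 0 s u
    simpa using this

end frame

end Cfsg.Agent.Helper11.OG
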