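import Mathlib
import Cfsg.Agent.Lib.Helper13.InvNDefs
import Cfsg.Agent.Lib.Helper19.InvNFORMCore

/-!
INVN piece MIRROR: the second representation `t = (k v* k⁻¹) h' n_w` of an involution `t = v h n_w`,
`v* = n_w⁻¹ v⁻¹ n_w`.
-/

set_option autoImplicit false
set_option linter.unusedSectionVars false
set_option linter.unusedVariables false

namespace Cfsg.Agent.Helper13.InvN

open Cfsg Cfsg.Lie Cfsg.Agent.Lead.Chev

variable {F : Type*} [Field F] {D : ChevalleyDatum} (hF : ChevFacts D F) (hS : CorSize D) (hI : CorInj D)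
include hF hS hI

/-- for an involutory word, the reversed word acts in the same way -/
theorem mirror_rev (w : List ℕ) (hw : WOK D w) (hinv : Invol D w) :
    ∀ r < D.nroots, reflWord D w.reverse r = reflWord D w r := by
  intro r hr
  have h1 := hinv r hr
  have hwr : reflWord D w r < D.nroots := reflWord_lt D (etaOf D) hF.facts w hw r hr
  have h2 := reflWord_reverse_cancel' D (etaOf D) hF.facts w hw (reflWord D w r) hwr
  rw [h1] at h2
  exact h2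

/-- `n_w⁻¹ k n_w ∈ H` for `k ∈ H` -/
theorem mirror_inv_conj (w : List ℕ) (hw : WOK D w) (m : GL D.Idx F)
    (hm : m = nWordGL D hF.xadd w * nWordGL D hF.xadd w) (hmH : m ∈ D.diagonalSubgroup F)
    (k : GL D.Idx F) (hk : k ∈ D.diagonalSubgroup F) :
    (nWordGL D hF.xadd w)⁻¹ * k * nWordGL D hF.xadd w ∈ D.diagonalSubgroup F := by
  have h1 := nWordGL_conj_mem_diagonal D hF.xadd (etaOf D) hF.nsimple w hw k hk
  have e : (nWordGL D hF.xadd w)⁻¹ * k * nWordGL D hF.xadd w =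
      m⁻¹ * (nWordGL D hF.xadd w * k * (nWordGL D hF.xadd w)⁻¹) * m := by
    rw [hm]; group
  rw [e]
  exact mul_mem (mul_mem (inv_mem hmH) h1) hmH

/-- PIECE MIRROR: the second representation of an involution -/
theorem good_mirror (t : GL D.Idx F) (htt : t * t = 1) (w : List ℕ) (hw : WOK D w) (hinv : Invol D w)
    (v h : GL D.Idx F) (hG : Good hF t w v h) :
    ∃ k ∈ D.diagonalSubgroup F, ∃ h',
      Good hF t w (k * ((nWordGL D hF.xadd w)⁻¹ * v⁻¹ * nWordGL D hF.xadd w) * k⁻¹) h' := by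
  obtain ⟨ht, hv, hh, hvU⟩ := hG
  set n := nWordGL D hF.xadd w with hn
  have hrev := mirror_rev hF hS hI w hw hinv
  have hmH : n * n ∈ D.diagonalSubgroup F := form_sq_mem_diagonal hF hS hI w hw hinv hrev
  set m := n * n with hm
  -- `h₁ = n⁻¹ h⁻¹ n ∈ H`
  have hh1 : n⁻¹ * h⁻¹ * n ∈ D.diagonalSubgroup F :=
    mirror_inv_conj hF hS hI w hw m hm hmH h⁻¹ (inv_mem hh)
  set h1 := n⁻¹ * h⁻¹ * n with hh1def
  -- `v* ∈ U`
  have hvs : n⁻¹ * v⁻¹ * n ∈ D.posUnipotent F := by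
    have := inv_mem hvU
    have e : (n⁻¹ * v * n)⁻¹ = n⁻¹ * v⁻¹ * n := by group
    rw [e] at this
    exact this
  set vs := n⁻¹ * v⁻¹ * n with hvsdef
  -- `t = t⁻¹`
  have htinv : t = t⁻¹ := eq_inv_of_mul_eq_one_left htt
  refine ⟨h1, hh1, h1 * m⁻¹, ?_, ?_, ?_, ?_⟩
  · -- `t = (h₁ v* h₁⁻¹) (h₁ m⁻¹) n`
    have e1 : t = n⁻¹ * h⁻¹ * v⁻¹ := by
      rw [htinv, ht]; group
    show t = h1 * vs * h1⁻¹ * (h1 * m⁻¹) * n
    rw [e1, hh1def, hvsdef, hm]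
    group
  · exact form_diag_conj hF hS hI h1 vs hh1 hvs
  · exact mul_mem hh1 (inv_mem hmH)
  · -- `n⁻¹ (h₁ v* h₁⁻¹) n = k₂ (m⁻¹ v⁻¹ m) k₂⁻¹`
    have hk2 : n⁻¹ * h1 * n ∈ D.diagonalSubgroup F :=
      mirror_inv_conj hF hS hI w hw m hm hmH h1 hh1
    have hmv : m⁻¹ * v⁻¹ * (m⁻¹)⁻¹ ∈ D.posUnipotent F :=
      form_diag_conj hF hS hI m⁻¹ v⁻¹ (inv_mem hmH) (inv_mem hv)
    have e : n⁻¹ * (h1 * vs * h1⁻¹) * n =
        (n⁻¹ * h1 * n) * (m⁻¹ * v⁻¹ * (m⁻¹)⁻¹) * (n⁻¹ * h1 * n)⁻¹ := by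
      rw [hvsdef, hm]; group
    show n⁻¹ * (h1 * vs * h1⁻¹) * n ∈ D.posUnipotent F
    rw [e]
    exact form_diag_conj hF hS hI _ _ hk2 hmv

end Cfsg.Agent.Helper13.InvN
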