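import Mathlib
import Cfsg.Agent.Lib.Helper3.Hall
import Cfsg.Agent.Lib.Helper3.PrimSolv

/-!
# Winter's theorem on solvable linear groups: arithmetic and group-theoretic preliminaries
(helper18)
-/

set_option autoImplicit false
set_option linter.unusedSectionVars false
set_option linter.unusedVariables false

namespace Cfsg.Agent.Helper18.Winter

universe u

/-- The conclusion of Winter's theorem for the prime `p` and the degree `n`. -/
def Good (p n : ℕ) : Prop :=
  ∃ q : ℕ, IsPrimePow q ∧ q ∣ n ∧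
    ((q : ℤ) ≡ -1 [ZMOD p] ∨ (q : ℤ) ≡ 0 [ZMOD p] ∨ (q : ℤ) ≡ 1 [ZMOD p])

theorem Good.of_dvd {p m n : ℕ} (h : Good p m) (hmn : m ∣ n) : Good p n := by
  obtain ⟨q, hq, hqm, hmod⟩ := h
  exact ⟨q, hq, hqm.trans hmn, hmod⟩

theorem good_of_prime_dvd {p n : ℕ} (hp : p.Prime) (h : p ∣ n) : Good p n := by
  refine ⟨p, hp.isPrimePow, h, Or.inr (Or.inl ?_)⟩
  exact (Int.modEq_zero_iff_dvd).mpr (dvd_refl _)

/-- `r^a ≡ r^b (mod p)` with `b < a` and `r ≠ p` gives a good prime power `r^(a-b)`. -/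
theorem good_of_pow_modEq {p r a b n : ℕ} (hp : p.Prime) (hr : r.Prime) (hrp : r ≠ p)
    (hab : b < a) (hmod : r ^ a ≡ r ^ b [MOD p]) (hdvd : r ^ a ∣ n) : Good p n := by
  have hcop : Nat.Coprime (r ^ b) p :=
    Nat.Coprime.pow_left b ((Nat.coprime_primes hr hp).mpr hrp)
  have h1 : r ^ b * r ^ (a - b) ≡ r ^ b * 1 [MOD p] := by
    rw [← pow_add, mul_one, Nat.add_sub_cancel' hab.le]
    exact hmod
  have h2 : r ^ (a - b) ≡ 1 [MOD p] := Nat.ModEq.cancel_left_of_coprime (by
    rw [Nat.gcd_comm]; exact hcop) h1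
  refine ⟨r ^ (a - b), hr.isPrimePow.pow (by omega), ?_, Or.inr (Or.inr ?_)⟩
  · exact (pow_dvd_pow r (Nat.sub_le a b)).trans hdvd
  · have := (Int.natCast_modEq_iff).mpr h2
    simpa using this

/-- `r^(2m) ≡ r^(2c) (mod p)` with `c < m` and `r ≠ p` gives a good prime power `r^(m-c)`. -/
theorem good_of_sq_pow_modEq {p r m c n : ℕ} (hp : p.Prime) (hr : r.Prime) (hrp : r ≠ p)
    (hcm : c < m) (hmod : r ^ (2 * m) ≡ r ^ (2 * c) [MOD p]) (hdvd : r ^ m ∣ n) : Good p n := by
  have hcop : Nat.Coprime (r ^ (2 * c)) p :=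
    Nat.Coprime.pow_left _ ((Nat.coprime_primes hr hp).mpr hrp)
  have h1 : r ^ (2 * c) * r ^ (2 * (m - c)) ≡ r ^ (2 * c) * 1 [MOD p] := by
    rw [← pow_add, mul_one]
    have : 2 * c + 2 * (m - c) = 2 * m := by omega
    rw [this]
    exact hmod
  have h2 : r ^ (2 * (m - c)) ≡ 1 [MOD p] := Nat.ModEq.cancel_left_of_coprime (by
    rw [Nat.gcd_comm]; exact hcop) h1
  set q := r ^ (m - c) with hq
  have h3 : q * q ≡ 1 [MOD p] := by
    have : q * q = r ^ (2 * (m - c)) := by rw [hq, ← pow_add]; congr 1; omega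
    rw [this]; exact h2
  have h4 : (p : ℤ) ∣ ((q : ℤ) - 1) * ((q : ℤ) + 1) := by
    have h5 := (Int.natCast_modEq_iff).mpr h3
    have h6 : (p : ℤ) ∣ ((q * q : ℕ) : ℤ) - ((1 : ℕ) : ℤ) := (Int.modEq_iff_dvd.mp h5.symm)
    have : ((q : ℤ) - 1) * ((q : ℤ) + 1) = ((q * q : ℕ) : ℤ) - ((1 : ℕ) : ℤ) := by
      push_cast; ring
    rw [this]; exact h6
  refine ⟨q, hr.isPrimePow.pow (by omega), ?_, ?_⟩
  · exact (pow_dvd_pow r (Nat.sub_le m c)).trans hdvd
  · rcases (Nat.prime_iff_prime_int.mp hp).dvd_or_dvd h4 with h | h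
    · right; right
      exact (Int.modEq_iff_dvd.mpr h).symm
    · left
      have : (p : ℤ) ∣ (q : ℤ) - (-1) := by simpa using h
      exact (Int.modEq_iff_dvd.mpr this).symm


section FixedPoints

variable {X : Type*} [Group X]

/-- Conjugation action of a subgroup `Q` on a normal subgroup `W`. -/
def conjActOn (W : Subgroup X) [hW : W.Normal] (Q : Subgroup X) : MulAction Q W where
  smul q w := ⟨(q : X) * w * (q : X)⁻¹, hW.conj_mem w w.2 q⟩
  one_smul w := by
    apply Subtype.ext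
    show ((1 : Q) : X) * w * ((1 : Q) : X)⁻¹ = w
    simp
  mul_smul a b w := by
    apply Subtype.ext
    show ((a * b : Q) : X) * w * ((a * b : Q) : X)⁻¹ = (a : X) * ((b : X) * w * (b : X)⁻¹) * (a : X)⁻¹
    simp [mul_assoc]

/-- Fixed-point counting: a `p`-subgroup `Q` acting by conjugation on a normal subgroup `W`
has `|W| ≡ |C_W(Q)|` modulo `p`. -/
theorem card_modEq_card_inf_centralizer [Finite X] {p : ℕ} [Fact p.Prime] (W : Subgroup X)
    [hW : W.Normal] (Q : Subgroup X) (hQ : IsPGroup p Q) :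
    Nat.card W ≡ Nat.card (W ⊓ Subgroup.centralizer (Q : Set X) : Subgroup X) [MOD p] := by
  letI := conjActOn W Q
  have h1 := hQ.card_modEq_card_fixedPoints W
  have h2 : Nat.card (MulAction.fixedPoints Q W) =
      Nat.card (W ⊓ Subgroup.centralizer (Q : Set X) : Subgroup X) := by
    apply Nat.card_congr
    refine ⟨fun w => ⟨(w.1 : X), w.1.2, ?_⟩, fun w => ⟨⟨w.1, w.2.1⟩, ?_⟩, ?_, ?_⟩
    · show (w.1 : X) ∈ Subgroup.centralizer (Q : Set X)
      rw [Subgroup.mem_centralizer_iff]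
      intro q hq
      have h3 := w.2 ⟨q, hq⟩
      have h4 : q * (w.1 : X) * q⁻¹ = (w.1 : X) := congrArg Subtype.val h3
      calc q * (w.1 : X) = q * (w.1 : X) * q⁻¹ * q := by group
        _ = (w.1 : X) * q := by rw [h4]
    · intro q
      apply Subtype.ext
      show (q : X) * w.1 * (q : X)⁻¹ = w.1
      have := Subgroup.mem_centralizer_iff.mp w.2.2 q q.2
      rw [this]; group
    · intro w; rfl
    · intro w; rfl
  rw [← h2]
  exact h1

end FixedPoints

section Fitting

/-- Abstract Fitting decomposition for a finite abelian group with an endomorphism `σ` of "order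
prime to the group order". -/
theorem fitting_aux {A : Type*} [CommGroup A] [Finite A] (σ : A →* A) (o : ℕ)
    (hiter : ∀ v w : A, σ v = w * v → σ w = w → w ^ o = 1)
    (hcop : Nat.Coprime o (Nat.card A)) (w : A) :
    ∃ w₀ v : A, σ w₀ = w₀ ∧ w = w₀ * (σ v / v) := by
  let δ : A →* A := σ / MonoidHom.id A
  have hδ : ∀ a, δ a = σ a / a := fun a => rfl
  have hdisj : Disjoint δ.ker δ.range := by
    rw [Subgroup.disjoint_def]
    intro a hk hr
    obtain ⟨v, hv⟩ := hr
    rw [MonoidHom.mem_ker, hδ, div_eq_one] at hk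
    rw [hδ] at hv
    have h1 : σ v = a * v := by rw [← hv]; simp
    have h2 := hiter v a h1 hk
    have h3 : a ^ Nat.card A = 1 := pow_card_eq_one'
    have h4 : orderOf a ∣ o := orderOf_dvd_of_pow_eq_one h2
    have h5 : orderOf a ∣ Nat.card A := orderOf_dvd_of_pow_eq_one h3
    have h6 : orderOf a = 1 := Nat.eq_one_of_dvd_coprimes hcop h4 h5
    exact orderOf_eq_one_iff.mp h6
  have hcard : Nat.card δ.ker * Nat.card δ.range = Nat.card A := by
    rw [← Subgroup.index_ker]
    exact Subgroup.card_mul_index δ.ker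
  have hcomp := Subgroup.isComplement'_of_card_mul_and_disjoint hcard hdisj
  obtain ⟨⟨k, r⟩, hkr⟩ := hcomp.2 w
  obtain ⟨v, hv⟩ := r.2
  refine ⟨k.1, v, ?_, ?_⟩
  · have : (k : A) ∈ δ.ker := k.2
    rw [MonoidHom.mem_ker, hδ, div_eq_one] at this
    exact this
  · rw [← hδ, hv]
    exact hkr.symm

/-- Fitting decomposition for an abelian subgroup `W` normalized by an element `x` of order prime
to `|W|`: every element of `W` is a product of an element centralized by `x` and a commutator. -/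
theorem fitting_decomp {X : Type*} [Group X] (W : Subgroup X) [Finite W]
    (hc : ∀ a ∈ W, ∀ b ∈ W, a * b = b * a) (x : X) (hx : ∀ w ∈ W, x * w * x⁻¹ ∈ W)
    (hcop : Nat.Coprime (orderOf x) (Nat.card W)) (w : X) (hw : w ∈ W) :
    ∃ w₀ ∈ W, ∃ v ∈ W, x * w₀ * x⁻¹ = w₀ ∧ w = w₀ * (x * v * x⁻¹ * v⁻¹) := by
  letI : CommGroup W :=
    { (inferInstance : Group W) with mul_comm := fun a b => Subtype.ext (hc a a.2 b b.2) }
  let σ : W →* W := MonoidHom.mk' (fun a => ⟨x * a * x⁻¹, hx a a.2⟩) (by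
    intro a b
    apply Subtype.ext
    show x * ((a : X) * (b : X)) * x⁻¹ = (x * a * x⁻¹) * (x * b * x⁻¹)
    group)
  have hσ : ∀ a : W, ((σ a : W) : X) = x * a * x⁻¹ := fun a => rfl
  have hiter : ∀ v w : W, σ v = w * v → σ w = w → w ^ orderOf x = 1 := by
    intro v w hv hw
    have hv' : x * (v : X) * x⁻¹ = (w : X) * v := by
      rw [← hσ, hv]; rfl
    have hw' : x * (w : X) * x⁻¹ = w := by
      rw [← hσ, hw]
    have key : ∀ k : ℕ, x ^ k * (v : X) * (x ^ k)⁻¹ = (w : X) ^ k * v := by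
      intro k
      induction k with
      | zero => simp
      | succ k ih =>
        calc x ^ (k + 1) * (v : X) * (x ^ (k + 1))⁻¹
            = x * (x ^ k * (v : X) * (x ^ k)⁻¹) * x⁻¹ := by rw [pow_succ']; group
          _ = x * ((w : X) ^ k * v) * x⁻¹ := by rw [ih]
          _ = (x * (w : X) * x⁻¹) ^ k * (x * (v : X) * x⁻¹) := by rw [conj_pow]; group
          _ = (w : X) ^ (k + 1) * v := by rw [hw', hv', pow_succ, mul_assoc]
    have h1 := key (orderOf x)
    rw [pow_orderOf_eq_one] at h1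
    have h2 : (w : X) ^ orderOf x = 1 := by
      have : (1 : X) * (v : X) * (1 : X)⁻¹ = (w : X) ^ orderOf x * v := h1
      simpa using this.symm
    apply Subtype.ext
    exact h2
  obtain ⟨w₀, v, h1, h2⟩ := fitting_aux σ (orderOf x) hiter hcop ⟨w, hw⟩
  refine ⟨w₀, w₀.2, v, v.2, ?_, ?_⟩
  · rw [← hσ, h1]
  · have h3 : ((⟨w, hw⟩ : W) : X) = ((w₀ * (σ v / v) : W) : X) := congrArg Subtype.val h2
    have h4 : ((w₀ * (σ v / v) : W) : X) = (w₀ : X) * ((σ v : W) * (v : X)⁻¹) := by
      rw [div_eq_mul_inv]; rfl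
    rw [h4, hσ] at h3
    exact h3

end Fitting

section Primitive

/-- In a finite solvable group with a core-free maximal subgroup `H` and a nontrivial
`p`-subgroup, the index of `H` is good. -/
theorem good_index_of_primitive {X : Type u} [Group X] [Finite X] [Group.IsSolvable X] {p : ℕ}
    (hp : p.Prime) (H : Subgroup X) (hcf : ∀ K : Subgroup X, K.Normal → K ≤ H → K = ⊥)
    (hmax : ∀ K : Subgroup X, H ≤ K → K = H ∨ K = ⊤)
    (Q : Subgroup X) (hQ : IsPGroup p Q) (hQ1 : Q ≠ ⊥) : Good p H.index := by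
  classical
  haveI : Fact p.Prime := ⟨hp⟩
  haveI : Nontrivial X := by
    by_contra hnt
    rw [not_nontrivial_iff_subsingleton] at hnt
    exact hQ1 (Subsingleton.elim _ _)
  obtain ⟨W, hWn, hW1, hWmin⟩ := Cfsg.Agent.Helper3.exists_minimal_normal (G := X)
  haveI := hWn
  have hWc := Cfsg.Agent.Helper3.commute_of_minimal_normal W hW1 hWmin
  obtain ⟨r, d, hr, hd, hcard, hexp⟩ :=
    Cfsg.Agent.Helper3.card_eq_prime_pow_of_minimal_normal W hW1 hWmin hWc
  have hWH : ¬ W ≤ H := fun h => hW1 (hcf W hWn h)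
  have hsup : H ⊔ W = ⊤ := by
    rcases hmax (H ⊔ W) le_sup_left with h | h
    · exact absurd (h ▸ (le_sup_right : W ≤ H ⊔ W)) hWH
    · exact h
  have hdecomp : ∀ g : X, ∃ h ∈ H, ∃ w ∈ W, g = h * w := by
    intro g
    have : g ∈ (↑(H ⊔ W) : Set X) := by rw [hsup]; trivial
    rw [Subgroup.mul_normal] at this
    obtain ⟨h, hh, w, hw, rfl⟩ := Set.mem_mul.mp this
    exact ⟨h, hh, w, hw, rfl⟩
  -- a normality criterion
  have hnormal : ∀ K : Subgroup X, K ≤ H → (∀ y ∈ K, ∀ h ∈ H, h * y * h⁻¹ ∈ K) →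
      (∀ y ∈ K, ∀ w ∈ W, w * y = y * w) → K = ⊥ := by
    intro K hKH h1 h2
    apply hcf K _ hKH
    constructor
    intro y hy g
    obtain ⟨h, hh, w, hw, rfl⟩ := hdecomp g
    have : h * w * y * (h * w)⁻¹ = h * y * h⁻¹ := by
      have := h2 y hy w hw
      calc h * w * y * (h * w)⁻¹ = h * (w * y) * w⁻¹ * h⁻¹ := by group
        _ = h * (y * w) * w⁻¹ * h⁻¹ := by rw [this]
        _ = h * y * h⁻¹ := by group
    rw [this]
    exact h1 y hy h hh
  have hinf : H ⊓ W = ⊥ := by
    apply hnormal _ inf_le_left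
    · intro y hy h hh
      exact ⟨H.mul_mem (H.mul_mem hh hy.1) (H.inv_mem hh), hWn.conj_mem y hy.2 h⟩
    · intro y hy w hw
      exact hWc w hw y hy.2
  have hidx : H.index = Nat.card W := by
    have hcomp : Subgroup.IsComplement' W H := by
      apply Subgroup.isComplement'_of_disjoint_and_mul_eq_univ
      · rw [disjoint_iff, inf_comm]; exact hinf
      · rw [← Subgroup.normal_mul, sup_comm, hsup]; rfl
    exact hcomp.index_eq_card
  rw [hidx, hcard]
  by_cases hrp : r = p
  · apply good_of_prime_dvd hp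
    rw [hrp]
    exact dvd_pow_self p hd.ne'
  -- the prime `r` differs from `p`
  have hCH : (Subgroup.centralizer (W : Set X)) ⊓ H = ⊥ := by
    apply hnormal _ inf_le_right
    · intro y hy h hh
      refine ⟨?_, H.mul_mem (H.mul_mem hh hy.2) (H.inv_mem hh)⟩
      exact (inferInstance : (Subgroup.centralizer (W : Set X)).Normal).conj_mem y hy.1 h
    · intro y hy w hw
      exact Subgroup.mem_centralizer_iff.mp hy.1 w hw
  have hQW : ¬ Q ≤ Subgroup.centralizer (W : Set X) := by
    intro hQC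
    have hQW : Q ≤ W := by
      intro x hx
      obtain ⟨h, hh, w, hw, rfl⟩ := hdecomp x
      have hwC : w ∈ Subgroup.centralizer (W : Set X) := by
        rw [Subgroup.mem_centralizer_iff]
        intro a ha
        exact hWc a ha w hw
      have hhC : h ∈ Subgroup.centralizer (W : Set X) := by
        have := (Subgroup.centralizer (W : Set X)).mul_mem (hQC hx)
          ((Subgroup.centralizer (W : Set X)).inv_mem hwC)
        simpa using this
      have : h ∈ (Subgroup.centralizer (W : Set X)) ⊓ H := ⟨hhC, hh⟩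
      rw [hCH, Subgroup.mem_bot] at this
      rw [this, one_mul]; exact hw
    obtain ⟨a, ha⟩ := hQ.exists_card_eq
    have hdvd : Nat.card Q ∣ Nat.card W := Subgroup.card_dvd_of_le hQW
    rw [ha, hcard] at hdvd
    rcases Nat.eq_zero_or_pos a with h0 | h0
    · rw [h0, pow_zero] at ha
      exact hQ1 (Subgroup.card_eq_one.mp ha)
    · have h1 : p ∣ r ^ d := (dvd_pow_self p h0.ne').trans hdvd
      have h2 : p ∣ r := hp.dvd_of_dvd_pow h1
      exact hrp ((Nat.prime_dvd_prime_iff_eq hp hr).mp h2).symm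
  set F : Subgroup X := W ⊓ Subgroup.centralizer (Q : Set X) with hF
  have hmod := card_modEq_card_inf_centralizer (p := p) W Q hQ
  have hFW : F ≤ W := inf_le_left
  have hFdvd : Nat.card F ∣ r ^ d := hcard ▸ Subgroup.card_dvd_of_le hFW
  obtain ⟨j, hjd, hj⟩ := (Nat.dvd_prime_pow hr).mp hFdvd
  have hjlt : j < d := by
    rcases lt_or_eq_of_le hjd with h | h
    · exact h
    · exfalso
      apply hQW
      have hFeq : F = W := by
        apply Subgroup.eq_of_le_of_card_ge hFW
        rw [hj, hcard, h]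
      intro x hx
      rw [Subgroup.mem_centralizer_iff]
      intro w hw
      have hw' : w ∈ F := hFeq ▸ hw
      exact (Subgroup.mem_centralizer_iff.mp hw'.2 x hx).symm
  rw [hcard, hj] at hmod
  exact good_of_pow_modEq hp hr hrp hjlt hmod (dvd_refl _)

end Primitive

end Cfsg.Agent.Helper18.Winter
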