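import Mathlib
import Cfsg.Agent.Lib.Helper13.G2IDefs

/-!
# S4278 / S4279, piece BASE2A (helper18): the two `SL₂`'s commute; `K ≤ G`; elements of `K` are products
-/

set_option autoImplicit false

namespace Cfsg.Agent.Helper13.G2I

open Cfsg Cfsg.Lie Cfsg.Agent.Lead.Chev Cfsg.Agent.Helper11.G2T Cfsg.Agent.Helper6.SL2Hom
  Cfsg.Agent.Helper6.ChevL Matrix

variable {F : Type*} [Field F]

/-- root elements of `G₂` commute when `commTerms` is empty -/
theorem base2a_comm (r s : ℕ) (hr : r < chevG2.nroots) (hs : s < chevG2.nroots) (hsr : s ≠ r)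
    (hsn : s ≠ chevG2.neg r) (h : chevG2.commTerms r s = []) (t u : F) :
    Commute (X F r t) (X F s u) := by
  have h1 := (g2F F).comm r hr s hs hsr hsn t u
  have h2 : chevG2.commWord F r s t u = [] := by
    unfold ChevalleyDatum.commWord
    rw [h, List.map_nil]
  rw [h2, wordMat_nil, mul_one] at h1
  show X F r t * X F s u = X F s u * X F r t
  apply Units.ext
  rw [Units.val_mul, Units.val_mul, xGL_val, xGL_val]
  exact h1.symm

theorem base2a_c_11_7 (t u : F) : Commute (X F 11 t) (X F 7 u) :=
  base2a_comm 11 7 (by decide) (by decide) (by decide) (by decide) (by decide) t u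
theorem base2a_c_11_4 (t u : F) : Commute (X F 11 t) (X F 4 u) :=
  base2a_comm 11 4 (by decide) (by decide) (by decide) (by decide) (by decide) t u
theorem base2a_c_0_7 (t u : F) : Commute (X F 0 t) (X F 7 u) :=
  base2a_comm 0 7 (by decide) (by decide) (by decide) (by decide) (by decide) t u
theorem base2a_c_0_4 (t u : F) : Commute (X F 0 t) (X F 4 u) :=
  base2a_comm 0 4 (by decide) (by decide) (by decide) (by decide) (by decide) t u

/-- generic: elementwise commuting generating sets give commuting closures -/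
theorem base2a_closure_comm {G : Type*} [Group G] (S T : Set G) (h : ∀ x ∈ S, ∀ y ∈ T, Commute x y) :
    ∀ x ∈ Subgroup.closure S, ∀ y ∈ Subgroup.closure T, Commute x y := by
  intro x hx y hy
  induction hx using Subgroup.closure_induction with
  | mem x hxS =>
    induction hy using Subgroup.closure_induction with
    | mem y hyT => exact h x hxS y hyT
    | one => exact Commute.one_right x
    | mul a b _ _ iha ihb => exact iha.mul_right ihb
    | inv a _ iha => exact iha.inv_right
  | one => exact Commute.one_left y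
  | mul a b _ _ iha ihb => exact iha.mul_left ihb
  | inv a _ iha => exact iha.inv_left

theorem base2a_LL_eq : LL F = Subgroup.closure (Set.range (X F 11) ∪ Set.range (X F 0)) := by
  unfold LL phiL
  rw [(rkL F).hom_range, Subgroup.closure_union]

theorem base2a_LS_eq : LS F = Subgroup.closure (Set.range (X F 7) ∪ Set.range (X F 4)) := by
  unfold LS phiS
  rw [(rkS F).hom_range, Subgroup.closure_union]

theorem phi_comm (A B : SpecialLinearGroup (Fin 2) F) : Commute (phiL F A) (phiS F B) := by
  have hA : phiL F A ∈ LL F := ⟨A, rfl⟩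
  have hB : phiS F B ∈ LS F := ⟨B, rfl⟩
  rw [base2a_LL_eq] at hA
  rw [base2a_LS_eq] at hB
  refine base2a_closure_comm _ _ ?_ _ hA _ hB
  rintro x (⟨t, rfl⟩ | ⟨t, rfl⟩) y (⟨u, rfl⟩ | ⟨u, rfl⟩)
  · exact base2a_c_11_7 t u
  · exact base2a_c_11_4 t u
  · exact base2a_c_0_7 t u
  · exact base2a_c_0_4 t u

/-- elements of `K` are products -/
theorem mem_KK_iff (x : GL chevG2.Idx F) :
    x ∈ KK F ↔ ∃ A B : SpecialLinearGroup (Fin 2) F, x = phiL F A * phiS F B := by
  have hr := MonoidHom.noncommCoprod_range (phiL F) (phiS F) phi_comm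
  have hK : KK F = ((phiL F).noncommCoprod (phiS F) phi_comm).range := by
    rw [hr]; rfl
  rw [hK]
  constructor
  · rintro ⟨⟨A, B⟩, rfl⟩
    exact ⟨A, B, by rw [MonoidHom.noncommCoprod_apply]⟩
  · rintro ⟨A, B, rfl⟩
    exact ⟨(A, B), by rw [MonoidHom.noncommCoprod_apply]⟩

theorem KK_le_GG : KK F ≤ GG F := by
  have hX : ∀ r : ℕ, Set.range (X F r) ⊆ ((GG F : Subgroup (GL chevG2.Idx F)) : Set (GL chevG2.Idx F)) := by
    rintro r _ ⟨t, rfl⟩
    exact xGL_mem_group chevG2 (g2F F).xadd r t
  unfold KK
  rw [sup_le_iff, base2a_LL_eq, base2a_LS_eq, Subgroup.closure_le, Subgroup.closure_le]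
  exact ⟨Set.union_subset (hX 11) (hX 0), Set.union_subset (hX 7) (hX 4)⟩

end Cfsg.Agent.Helper13.G2I
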