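import Mathlib
import Cfsg.Agent.Lib.Helper13.G2I_CENTU
import Cfsg.Agent.Lib.Helper18.G2I_BASE2A
import Cfsg.Agent.Lib.Lead.G2TTC
import Cfsg.Agent.Lib.Helper28.G2I_CENTN

/-!
# S4278 / S4279, piece CENT (helper18): `C = K T` is the centralizer of `z` in `G`
-/

set_option autoImplicit false

namespace Cfsg.Agent.Helper13.G2I

open Cfsg Cfsg.Lie Cfsg.Agent.Lead.Chev Cfsg.Agent.Helper11.G2T Cfsg.Agent.Helper6.SL2Hom
  Cfsg.Agent.Helper6.ChevL Matrix

variable {F : Type*} [Field F]

theorem CC_le_GG : CC F ≤ GG F := by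
  unfold CC
  exact sup_le KK_le_GG (g2F F).diagonal_le_group

/-- elements of `K` commute with `z` -/
theorem cent_KK_comm (x : GL chevG2.Idx F) (hx : x ∈ KK F) : x * zI F = zI F * x := by
  obtain ⟨A, B, rfl⟩ := (mem_KK_iff x).mp hx
  have hB : phiS F B * zI F = zI F * phiS F B := by
    rw [← phiS_neg_one, ← map_mul, ← map_mul]
    congr 1
    simp
  have hA : phiL F A * zI F = zI F * phiL F A := by
    rw [← phiL_neg_one, ← map_mul, ← map_mul]
    congr 1
    simp
  calc phiL F A * phiS F B * zI F = phiL F A * (phiS F B * zI F) := by group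
    _ = phiL F A * (zI F * phiS F B) := by rw [hB]
    _ = (phiL F A * zI F) * phiS F B := by group
    _ = (zI F * phiL F A) * phiS F B := by rw [hA]
    _ = zI F * (phiL F A * phiS F B) := by group

/-- elements of `T` commute with `z` -/
theorem cent_TT_comm (x : GL chevG2.Idx F) (hx : x ∈ TT F) : x * zI F = zI F * x :=
  (g2F F).diagonal_commute x (zI F) hx zI_mem

/-- `C` is the centralizer of `z` in `G` -/
theorem mem_CC_iff_comm (h2 : (2 : F) ≠ 0) (g : GL chevG2.Idx F) (hg : g ∈ GG F) :
    g ∈ CC F ↔ g * zI F = zI F * g := by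
  constructor
  · intro hgC
    have hle : CC F ≤ Subgroup.centralizer ({zI F} : Set (GL chevG2.Idx F)) := by
      unfold CC
      apply sup_le
      · intro x hx
        rw [Subgroup.mem_centralizer_singleton_iff]
        exact cent_KK_comm x hx
      · intro x hx
        rw [Subgroup.mem_centralizer_singleton_iff]
        exact cent_TT_comm x hx
    exact Subgroup.mem_centralizer_singleton_iff.mp (hle hgC)
  · intro e
    obtain ⟨u, hu, t, ht, w, hw, u', hu', eg, en, eu, eu'⟩ :=
      torus_conj g (zI F) (zI F) hg zI_mem zI_mem e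
    have hKC : KK F ≤ CC F := le_sup_left
    have hTC : TT F ≤ CC F := le_sup_right
    have h1 : u ∈ CC F := hKC (centU h2 u hu eu)
    have h2' : u' ∈ CC F := hKC (centU h2 u' hu' eu')
    have h3 : nWordGL chevG2 (g2F F).xadd w ∈ CC F := centN h2 w hw en
    rw [eg]
    exact mul_mem (mul_mem (mul_mem h1 (hTC ht)) h3) h2'

end Cfsg.Agent.Helper13.G2I
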