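import Mathlib
import Cfsg.Prelude
import Cfsg.Agent.Lib.Helper13.SylODefs

/-!
# S4613 / SylO piece SYLO-BSPLIT (helper18): `B = U T`, `U ∩ T = 1`, `p`-elements of `B` lie in `U`.
-/

set_option autoImplicit false

namespace Cfsg.Agent.Helper13.SylO

open Cfsg

section data
variable {H : Type*} [Group H] {P : Cfsg.BNPair H} {p : ℕ} [Fact p.Prime] (D : Data P p)

/-- an element of `T` killed by a power of `p` is trivial -/
theorem Data.bsplit_T_pow [Finite H] (t : H) (hT : t ∈ D.T) (k : ℕ) (hk : t ^ p ^ k = 1) :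
    t = 1 := by
  have h1 : orderOf t ∣ p ^ k := orderOf_dvd_of_pow_eq_one hk
  have h2 : orderOf t ∣ Nat.card D.T := by
    have h := orderOf_dvd_natCard (⟨t, hT⟩ : D.T)
    rwa [Subgroup.orderOf_mk] at h
  have hp : p.Prime := Fact.out
  have hcop : Nat.Coprime (p ^ k) (Nat.card D.T) :=
    Nat.Coprime.pow_left k ((Nat.Prime.coprime_iff_not_dvd hp).2 D.hTp)
  have h3 : orderOf t ∣ Nat.gcd (p ^ k) (Nat.card D.T) := Nat.dvd_gcd h1 h2
  rw [hcop] at h3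
  exact orderOf_eq_one_iff.mp (Nat.dvd_one.mp h3)

/-- PIECE SYLO-BSPLIT (2). -/
theorem Data.eq_one_of_mem [Finite H] (x : H) (hU : x ∈ D.U) (hT : x ∈ D.T) : x = 1 := by
  obtain ⟨k, hk⟩ := D.hUp ⟨x, hU⟩
  have hk' : x ^ p ^ k = 1 := by simpa using congrArg Subtype.val hk
  exact D.bsplit_T_pow x hT k hk'

/-- PIECE SYLO-BSPLIT (1). -/
theorem Data.exists_mul [Finite H] (b : H) (hb : b ∈ P.B) :
    ∃ u ∈ D.U, ∃ t ∈ D.T, b = u * t := by
  classical
  let f : D.U × D.T → P.B := fun q =>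
    ⟨(q.1 : H) * (q.2 : H), P.B.mul_mem (D.hUB q.1.2) (D.hTB q.2.2)⟩
  have hinj : Function.Injective f := by
    rintro ⟨⟨u, hu⟩, ⟨t, ht⟩⟩ ⟨⟨u', hu'⟩, ⟨t', ht'⟩⟩ h
    have h' : u * t = u' * t' := by simpa [f] using congrArg Subtype.val h
    have e1 : u'⁻¹ * u = t' * t⁻¹ := by
      have : u'⁻¹ * (u * t) * t⁻¹ = u'⁻¹ * (u' * t') * t⁻¹ := by rw [h']
      simpa [mul_assoc] using this
    have hmemU : u'⁻¹ * u ∈ D.U := D.U.mul_mem (D.U.inv_mem hu') hu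
    have hmemT : u'⁻¹ * u ∈ D.T := by rw [e1]; exact D.T.mul_mem ht' (D.T.inv_mem ht)
    have h1 : u'⁻¹ * u = 1 := D.eq_one_of_mem _ hmemU hmemT
    have hu_eq : u = u' := by
      have := congrArg (fun z => u' * z) h1
      simpa using this
    have ht_eq : t = t' := by
      rw [hu_eq] at h'
      exact mul_left_cancel h'
    subst hu_eq; subst ht_eq; rfl
  have hcard : Nat.card P.B ≤ Nat.card (D.U × D.T) := by
    rw [Nat.card_prod, D.hcard, mul_comm]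
  have hbij : Function.Bijective f := hinj.bijective_of_nat_card_le hcard
  obtain ⟨⟨⟨u, hu⟩, ⟨t, ht⟩⟩, hq⟩ := hbij.2 ⟨b, hb⟩
  refine ⟨u, hu, t, ht, ?_⟩
  have := congrArg Subtype.val hq
  simpa [f] using this.symm

/-- powers of `u t` -/
theorem Data.bsplit_pow [Finite H] (u t : H) (hu : u ∈ D.U) (ht : t ∈ D.T) (m : ℕ) :
    ∃ v ∈ D.U, (u * t) ^ m = v * t ^ m := by
  induction m with
  | zero => exact ⟨1, D.U.one_mem, by simp⟩
  | succ m ih =>
    obtain ⟨v, hv, hvm⟩ := ih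
    have htm : t ^ m ∈ P.B := P.B.pow_mem (D.hTB ht) m
    refine ⟨v * (t ^ m * u * (t ^ m)⁻¹), D.U.mul_mem hv (D.hUn _ htm u hu), ?_⟩
    rw [pow_succ, hvm, pow_succ]
    group

/-- PIECE SYLO-BSPLIT (3). -/
theorem Data.mem_U_of_pow [Finite H] (x : H) (hx : x ∈ P.B) (k : ℕ) (hk : x ^ p ^ k = 1) :
    x ∈ D.U := by
  obtain ⟨u, hu, t, ht, rfl⟩ := D.exists_mul x hx
  obtain ⟨v, hv, hvm⟩ := D.bsplit_pow u t hu ht (p ^ k)
  rw [hvm] at hk
  have htk : t ^ p ^ k = v⁻¹ := by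
    have := congrArg (fun z => v⁻¹ * z) hk
    simpa using this
  have hmemU : t ^ p ^ k ∈ D.U := by rw [htk]; exact D.U.inv_mem hv
  have hmemT : t ^ p ^ k ∈ D.T := D.T.pow_mem ht _
  have h1 : t ^ p ^ k = 1 := D.eq_one_of_mem _ hmemU hmemT
  have : t = 1 := D.bsplit_T_pow t ht k h1
  subst this
  simpa using hu

end data

end Cfsg.Agent.Helper13.SylO
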