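import Mathlib

/-!
# S4278 / S4279, piece ARITH (helper18): the index is odd; `2 ≠ 0`; nonsquare × nonsquare is a square
-/

set_option autoImplicit false

namespace Cfsg.Agent.Helper13.G2I

variable {F : Type*} [Field F]

theorem index_arith (q : ℕ) (hq : Odd q) (hq1 : 1 < q) :
    q ^ 6 * (q ^ 2 - 1) * (q ^ 6 - 1) = q ^ 2 * (q ^ 2 - 1) ^ 2 * (q ^ 4 * (q ^ 4 + q ^ 2 + 1)) ∧
      Odd (q ^ 4 * (q ^ 4 + q ^ 2 + 1)) ∧ 0 < q ^ 2 * (q ^ 2 - 1) ^ 2 := by
  have h2 : 1 < q ^ 2 := Nat.one_lt_pow (by norm_num) hq1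
  obtain ⟨m, hm⟩ : ∃ m, q ^ 2 = m + 1 := ⟨q ^ 2 - 1, by omega⟩
  have hm0 : 0 < m := by omega
  have e1 : q ^ 2 - 1 = m := by omega
  have e6 : q ^ 6 = (m + 1) ^ 3 := by rw [← hm]; ring
  have e4 : q ^ 4 = (m + 1) ^ 2 := by rw [← hm]; ring
  have e61 : q ^ 6 - 1 = m * (q ^ 4 + q ^ 2 + 1) := by
    rw [e6, e4, hm]
    have : (m + 1) ^ 3 = m * ((m + 1) ^ 2 + (m + 1) + 1) + 1 := by ring
    rw [this, Nat.add_sub_cancel]
  refine ⟨?_, ?_, ?_⟩
  · rw [e61, e1, e6, e4, hm]; ring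
  · have ho4 : Odd (q ^ 4) := hq.pow
    have ho2 : Odd (q ^ 2) := hq.pow
    have hsum : Odd (q ^ 4 + q ^ 2 + 1) := by
      have : Even (q ^ 4 + q ^ 2) := ho4.add_odd ho2
      exact this.add_one
    exact ho4.mul hsum
  · rw [e1]
    have : 0 < q ^ 2 := by omega
    positivity

theorem two_ne_zero_of_odd [Fintype F] (hF : Odd (Fintype.card F)) : (2 : F) ≠ 0 := by
  intro h
  obtain ⟨p, hp⟩ := CharP.exists F
  have hprime : Fact p.Prime := ⟨CharP.char_is_prime F p⟩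
  have h2 : ((2 : ℕ) : F) = 0 := by exact_mod_cast h
  have hdvd : p ∣ 2 := (CharP.cast_eq_zero_iff F p 2).mp h2
  have hp2 : p = 2 := (Nat.prime_dvd_prime_iff_eq hprime.out Nat.prime_two).mp hdvd
  subst hp2
  have hcard : 2 ∣ Fintype.card F := by
    have hc : ((Fintype.card F : ℕ) : F) = 0 := Nat.cast_card_eq_zero F
    exact (CharP.cast_eq_zero_iff F 2 (Fintype.card F)).mp hc
  rcases hF with ⟨k, hk⟩
  omega

/-- in a finite field: nonsquare × nonsquare is a square -/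
theorem nonsq_mul_nonsq [Fintype F] (a b : F) (ha : ¬ IsSquare a) (hb : ¬ IsSquare b) : IsSquare (a * b) := by
  classical
  have ha0 : a ≠ 0 := by
    intro h; apply ha; rw [h]; exact IsSquare.zero
  have hb0 : b ≠ 0 := by
    intro h; apply hb; rw [h]; exact IsSquare.zero
  have h1 : quadraticChar F a = -1 := quadraticChar_neg_one_iff_not_isSquare.mpr ha
  have h2 : quadraticChar F b = -1 := quadraticChar_neg_one_iff_not_isSquare.mpr hb
  have h3 : quadraticChar F (a * b) = 1 := by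
    rw [map_mul, h1, h2]; norm_num
  exact (quadraticChar_one_iff_isSquare (mul_ne_zero ha0 hb0)).mp h3

end Cfsg.Agent.Helper13.G2I
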