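import Mathlib
import Cfsg.Agent.Lib.Helper13.InvNDefsC

/-!
INVN piece TORUS: over a finite field of characteristic 2 every element of `H` is the square of one of its powers.
-/

set_option autoImplicit false
set_option linter.unusedSectionVars false
set_option linter.unusedVariables false

namespace Cfsg.Agent.Helper13.InvN

open Cfsg Cfsg.Lie Cfsg.Agent.Lead.Chev Cfsg.Agent.Helper6.ChevL

variable {F : Type*} [Field F] {D : ChevalleyDatum} (hF : ChevFacts D F) (hS : CorSize D) (hI : CorInj D)
include hF hS hI

section char2

variable [CharP F 2]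

/-- every element of `H` has order dividing `q - 1` -/
theorem torus_pow_card_sub_one [Fintype F] (h : GL D.Idx F) (hh : h ∈ D.diagonalSubgroup F) :
    h ^ (Fintype.card F - 1) = 1 := by
  obtain ⟨c, hc, hval⟩ := exists_Tmat_of_mem D hF.hall h hh
  apply Units.ext
  rw [Units.val_pow_eq_pow_val, hval, Units.val_one]
  unfold Tmat
  rw [Matrix.diagonal_pow, ← Matrix.diagonal_one]
  congr 1
  funext i
  rcases i with i | v
  · simp
  · simp only [Pi.pow_apply, Sum.elim_inr, Pi.one_apply]
    exact FiniteField.pow_card_sub_one_eq_one _ (chi_ne_zero D c hc v.val)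

/-- PIECE TORUS: over a finite field of characteristic 2 every element of `H` is the square of one of its powers -/
theorem diag_sqrt [Fintype F] (h : GL D.Idx F) (hh : h ∈ D.diagonalSubgroup F) :
    ∃ m : ℕ, (h ^ m) * (h ^ m) = h := by
  have h1 := torus_pow_card_sub_one hF hS hI h hh
  have heven : Fintype.card F % 2 = 0 := by
    apply FiniteField.even_card_of_char_two
    exact ringChar.eq F 2
  have hpos : 0 < Fintype.card F := Fintype.card_pos
  refine ⟨Fintype.card F / 2, ?_⟩
  rw [← pow_add]
  have e : Fintype.card F / 2 + Fintype.card F / 2 = (Fintype.card F - 1) + 1 := by omega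
  rw [e, pow_succ, h1, one_mul]

end char2

end Cfsg.Agent.Helper13.InvN
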