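import Mathlib
import Cfsg.Agent.Lib.Helper13.SuBN0

/-!
Piece DEG of helper13's farm-out of S2546: the upper triangular subgroup of the Witt-model special unitary group
is the semidirect product of the diagonal and the unitriangular subgroups, so `|B : T| = |U|`.
-/

set_option autoImplicit false
set_option linter.unusedSectionVars false

namespace Cfsg.Agent.Helper13.SuP

open Matrix Cfsg.Agent.Helper13.SuBN

variable {n : ℕ} {F : Type*} [Field F] {φ : F →+* F}

/-- the diagonal entries of an upper triangular unitary matrix -/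
theorem diag_mul_map_rev {b : WSU n φ} (hb : b ∈ bor n φ) (a : Fin n) :
    mt b a a * φ (mt b (Fin.rev a) (Fin.rev a)) = 1 := by
  have h1 := mul_apply_diag hb ((bor n φ).inv_mem hb) a
  rw [mul_inv_cancel, mt_one, Matrix.one_apply_eq, inv_apply] at h1
  exact h1.symm

theorem det_eq_prod_diag {b : WSU n φ} (hb : b ∈ bor n φ) : ∏ a, mt b a a = 1 := by
  rw [← mt_det b]
  symm
  apply Matrix.det_of_upperTriangular
  intro i j hij
  exact hb i j hij

/-- the diagonal part of an upper triangular unitary matrix -/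
def dpart (b : WSU n φ) (hb : b ∈ bor n φ) : WSU n φ :=
  ⟨⟨Matrix.diagonal fun a => mt b a a, by rw [Matrix.det_diagonal]; exact det_eq_prod_diag hb⟩, by
    constructor
    · show (Matrix.diagonal fun a => mt b a a)ᵀ * Kmat n F * (Matrix.diagonal fun a => mt b a a).map φ = _
      rw [Matrix.diagonal_transpose, Matrix.diagonal_map (map_zero φ)]
      ext a c
      rw [Matrix.mul_diagonal, Matrix.diagonal_mul, Kmat_apply]
      by_cases h : c = Fin.rev a
      · rw [if_pos h, mul_one, h]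
        exact diag_mul_map_rev hb a
      · rw [if_neg h, mul_zero, zero_mul]
    · show (Matrix.diagonal fun a => mt b a a) * Kmat n F * ((Matrix.diagonal fun a => mt b a a).map φ)ᵀ = _
      rw [Matrix.diagonal_map (map_zero φ), Matrix.diagonal_transpose]
      ext a c
      rw [Matrix.mul_diagonal, Matrix.diagonal_mul, Kmat_apply]
      by_cases h : c = Fin.rev a
      · rw [if_pos h, mul_one, h]
        exact diag_mul_map_rev hb a
      · rw [if_neg h, mul_zero, zero_mul]⟩

theorem mt_dpart (b : WSU n φ) (hb : b ∈ bor n φ) :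
    mt (dpart b hb) = Matrix.diagonal fun a => mt b a a := rfl

theorem dpart_mem_tor (b : WSU n φ) (hb : b ∈ bor n φ) : dpart b hb ∈ tor n φ := by
  intro a c hac
  rw [mt_dpart]
  rw [Equiv.Perm.one_apply] at hac
  exact Matrix.diagonal_apply_ne _ hac

theorem inv_dpart_mul_mem_unip (b : WSU n φ) (hb : b ∈ bor n φ) : (dpart b hb)⁻¹ * b ∈ unip n φ := by
  have ht : dpart b hb ∈ bor n φ := tor_le_bor (dpart_mem_tor b hb)
  have hti : (dpart b hb)⁻¹ ∈ bor n φ := (bor n φ).inv_mem ht
  refine ⟨(bor n φ).mul_mem hti hb, fun a => ?_⟩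
  rw [mul_apply_diag hti hb]
  have h1 := mul_apply_diag hti ht a
  rw [inv_mul_cancel, mt_one, Matrix.one_apply_eq, mt_dpart, Matrix.diagonal_apply_eq] at h1
  exact h1.symm

theorem tor_inf_unip : tor n φ ⊓ unip n φ = ⊥ := by
  rw [eq_bot_iff]
  rintro g ⟨hT, hU⟩
  rw [Subgroup.mem_bot]
  apply mt_injective
  rw [mt_one]
  ext a c
  by_cases h : a = c
  · subst h
    rw [hU.2 a, Matrix.one_apply_eq]
  · rw [(mem_tor_iff' g).1 hT a c h, Matrix.one_apply_ne h]

theorem card_bor [Finite F] : Nat.card (bor n φ) = Nat.card (tor n φ) * Nat.card (unip n φ) := by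
  rw [← Nat.card_prod]
  symm
  apply Nat.card_congr
  refine Equiv.ofBijective
    (fun x : (tor n φ) × (unip n φ) => (⟨x.1.1 * x.2.1,
      (bor n φ).mul_mem (tor_le_bor x.1.2) (unip_le_bor x.2.2)⟩ : bor n φ)) ⟨?_, ?_⟩
  · rintro ⟨⟨t, ht⟩, ⟨u, hu⟩⟩ ⟨⟨t', ht'⟩, ⟨u', hu'⟩⟩ e
    have e1 : t * u = t' * u' := congrArg Subtype.val e
    have e2 : t'⁻¹ * t = u' * u⁻¹ := by
      rw [inv_mul_eq_iff_eq_mul, ← mul_assoc, ← e1, mul_inv_cancel_right]
    have h1 : t'⁻¹ * t ∈ tor n φ ⊓ unip n φ :=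
      ⟨(tor n φ).mul_mem ((tor n φ).inv_mem ht') ht, by
        rw [e2]; exact (unip n φ).mul_mem hu' ((unip n φ).inv_mem hu)⟩
    rw [tor_inf_unip, Subgroup.mem_bot] at h1
    have h2 : t = t' := by
      rw [inv_mul_eq_one] at h1
      exact h1.symm
    subst h2
    have h3 : u = u' := mul_left_cancel e1
    subst h3
    rfl
  · rintro ⟨b, hb⟩
    refine ⟨(⟨dpart b hb, dpart_mem_tor b hb⟩, ⟨(dpart b hb)⁻¹ * b, inv_dpart_mul_mem_unip b hb⟩), ?_⟩
    apply Subtype.ext
    show dpart b hb * ((dpart b hb)⁻¹ * b) = b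
    rw [mul_inv_cancel_left]

/-- piece DEG -/
theorem index_tor [Finite F] :
    ((tor n φ).subgroupOf (bor n φ)).index = Nat.card (unip n φ) := by
  have h1 := Subgroup.index_mul_card ((tor n φ).subgroupOf (bor n φ))
  have h2 : Nat.card ((tor n φ).subgroupOf (bor n φ)) = Nat.card (tor n φ) :=
    Nat.card_congr (Subgroup.subgroupOfEquivOfLe tor_le_bor).toEquiv
  rw [h2, card_bor (n := n) (φ := φ)] at h1
  have h3 : 0 < Nat.card (tor n φ) := Nat.card_pos
  rw [mul_comm (Nat.card (tor n φ))] at h1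
  exact Nat.eq_of_mul_eq_mul_right h3 h1

end Cfsg.Agent.Helper13.SuP
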