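import Mathlib
import Cfsg.Agent.Lib.Helper13.SuBN2

/-!
Piece HROOT of helper13's farm-out of S2546: unipotent elements of the Witt-model special unitary group with a
non-zero entry just above the diagonal.
-/

set_option autoImplicit false

namespace Cfsg.Agent.Helper13.SuP

open Matrix Cfsg.Agent.Helper13.SuBN

variable {n : ℕ} {F : Type*} [Field F] {φ : F →+* F}

theorem single_low {i j p q : Fin n} (hij : i < j) (hqp : q ≤ p) (t : F) :
    Matrix.single i j t p q = 0 := by
  rw [Matrix.single_apply, if_neg]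
  rintro ⟨rfl, rfl⟩
  exact absurd hij (not_lt.2 hqp)

theorem mem_unip_of_mt {u : WSU n φ} (h1 : ∀ p q : Fin n, q < p → mt u p q = 0)
    (h2 : ∀ p : Fin n, mt u p p = 1) : u ∈ unip n φ := ⟨h1, h2⟩

theorem TmM_low {a b : Fin n} (hab : a < b) (t : F) {p q : Fin n} (hqp : q ≤ p) :
    TmM φ a b t p q = (1 : Matrix (Fin n) (Fin n) F) p q := by
  unfold TmM
  rw [Matrix.sub_apply, Matrix.add_apply, single_low hab hqp, single_low (Fin.rev_lt_rev.2 hab) hqp]
  ring

theorem LmM_low {a : Fin n} (ha : a < Fin.rev a) (t : F) {p q : Fin n} (hqp : q ≤ p) :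
    LmM a t p q = (1 : Matrix (Fin n) (Fin n) F) p q := by
  unfold LmM
  rw [Matrix.add_apply, single_low ha hqp]
  ring

theorem MmM_low {a c : Fin n} (hac : a < c) (hc : c < Fin.rev a) (u v : F) {p q : Fin n}
    (hqp : q ≤ p) : MmM φ a c u v p q = (1 : Matrix (Fin n) (Fin n) F) p q := by
  unfold MmM
  rw [Matrix.add_apply, Matrix.sub_apply, Matrix.add_apply, single_low hac hqp, single_low hc hqp,
    single_low (lt_trans hac hc) hqp]
  ring

theorem TmM_apply_ab {a b : Fin n} (hab : a ≠ b) (hab' : a ≠ Fin.rev b) (t : F) :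
    TmM φ a b t a b = t := by
  unfold TmM
  rw [Matrix.sub_apply, Matrix.add_apply, Matrix.one_apply_ne hab, Matrix.single_apply_same,
    Matrix.single_apply, if_neg (fun h => hab' h.1.symm)]
  ring

theorem TmM_apply_rev {a b : Fin n} (hab : a ≠ b) (hab' : a ≠ Fin.rev b) (t : F) :
    TmM φ a b t (Fin.rev b) (Fin.rev a) = - φ t := by
  unfold TmM
  rw [Matrix.sub_apply, Matrix.add_apply, Matrix.one_apply_ne (rev_ne_of_ne hab.symm),
    Matrix.single_apply_same, Matrix.single_apply, if_neg (fun h => hab' h.1)]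
  ring

theorem LmM_apply_a {a : Fin n} (ha : a ≠ Fin.rev a) (t : F) : LmM a t a (Fin.rev a) = t := by
  unfold LmM
  rw [Matrix.add_apply, Matrix.one_apply_ne ha, Matrix.single_apply_same]
  ring

theorem MmM_apply_ac {a c : Fin n} (hac : a ≠ c) (hc : c ≠ Fin.rev a) (u v : F) :
    MmM φ a c u v a c = u := by
  unfold MmM
  rw [Matrix.add_apply, Matrix.sub_apply, Matrix.add_apply, Matrix.one_apply_ne hac,
    Matrix.single_apply_same, Matrix.single_apply, if_neg (fun h => hac h.1.symm),
    Matrix.single_apply, if_neg (fun h => hc h.2.symm)]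
  ring

theorem MmM_apply_cr {a c : Fin n} (hac : a ≠ c) (hc : c ≠ Fin.rev a) (u v : F) :
    MmM φ a c u v c (Fin.rev a) = - φ u := by
  unfold MmM
  rw [Matrix.add_apply, Matrix.sub_apply, Matrix.add_apply, Matrix.one_apply_ne hc,
    Matrix.single_apply_same, Matrix.single_apply, if_neg (fun h => hac h.1),
    Matrix.single_apply, if_neg (fun h => hac h.1)]
  ring

/-- piece HROOT -/
theorem exists_unip_apply_ne_zero (hφφ : ∀ x, φ (φ x) = x) (hl : ∃ l : F, l ≠ 0 ∧ l + φ l = 0)
    (htr : ∀ r : F, φ r = r → ∃ s : F, s + φ s = r) (a b : Fin n) (hab : a.val + 1 = b.val) :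
    ∃ u ∈ unip n φ, mt u a b ≠ 0 := by
  have hbn := b.2
  have hra : (Fin.rev a).val = n - 1 - a.val := by rw [Fin.val_rev]; omega
  have hrb : (Fin.rev b).val = n - 1 - b.val := by rw [Fin.val_rev]; omega
  have hne : a ≠ b := fun e => by have := congrArg Fin.val e; omega
  have hlt : a < b := Fin.lt_def.2 (by omega)
  obtain ⟨s, hs⟩ := htr (-1) (by rw [map_neg, map_one])
  have hs' : s + φ s + 1 * φ 1 = 0 := by rw [hs, map_one]; ring
  have hone : (1 : Matrix (Fin n) (Fin n) F) = 1 := rfl
  rcases lt_trichotomy (2 * a.val + 3) n with h | h | h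
  · -- both in the upper half
    have ha : a ≠ Fin.rev a := fun e => by have := congrArg Fin.val e; omega
    have hb : b ≠ Fin.rev b := fun e => by have := congrArg Fin.val e; omega
    have hab' : a ≠ Fin.rev b := fun e => by have := congrArg Fin.val e; omega
    refine ⟨Tm φ a b 1, mem_unip_of_mt ?_ ?_, ?_⟩
    · intro p q hqp
      rw [Tm_coe hφφ hne ha hb, TmM_low hlt 1 hqp.le, Matrix.one_apply_ne hqp.ne']
    · intro p
      rw [Tm_coe hφφ hne ha hb, TmM_low hlt 1 le_rfl, Matrix.one_apply_eq]
    · rw [Tm_coe hφφ hne ha hb, TmM_apply_ab hne hab']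
      exact one_ne_zero
  · -- `b` is the middle index
    have ha : a ≠ Fin.rev a := fun e => by have := congrArg Fin.val e; omega
    have hb : b = Fin.rev b := Fin.ext (by omega)
    have hbra : b ≠ Fin.rev a := fun e => by have := congrArg Fin.val e; omega
    have hlt2 : b < Fin.rev a := Fin.lt_def.2 (by omega)
    refine ⟨Mm φ a b 1 s, mem_unip_of_mt ?_ ?_, ?_⟩
    · intro p q hqp
      rw [Mm_coe hφφ hne ha hb hs', MmM_low hlt hlt2 1 s hqp.le, Matrix.one_apply_ne hqp.ne']
    · intro p
      rw [Mm_coe hφφ hne ha hb hs', MmM_low hlt hlt2 1 s le_rfl, Matrix.one_apply_eq]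
    · rw [Mm_coe hφφ hne ha hb hs', MmM_apply_ac hne hbra]
      exact one_ne_zero
  · rcases lt_trichotomy (2 * a.val + 2) n with h' | h' | h'
    · omega
    · -- `b = rev a`
      obtain ⟨l, hl0, hl1⟩ := hl
      have ha : a ≠ Fin.rev a := fun e => by have := congrArg Fin.val e; omega
      have hb : b = Fin.rev a := Fin.ext (by omega)
      have hlt2 : a < Fin.rev a := by rw [← hb]; exact hlt
      refine ⟨Lm φ a l, mem_unip_of_mt ?_ ?_, ?_⟩
      · intro p q hqp
        rw [Lm_coe ha hl1, LmM_low hlt2 l hqp.le, Matrix.one_apply_ne hqp.ne']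
      · intro p
        rw [Lm_coe ha hl1, LmM_low hlt2 l le_rfl, Matrix.one_apply_eq]
      · rw [Lm_coe ha hl1, hb, LmM_apply_a ha]
        exact hl0
    · rcases lt_trichotomy (2 * a.val + 1) n with h'' | h'' | h''
      · omega
      · -- `a` is the middle index
        have ha : a = Fin.rev a := Fin.ext (by omega)
        have hrba : Fin.rev b ≠ a := fun e => by have := congrArg Fin.val e; omega
        have hrb2 : Fin.rev b ≠ Fin.rev (Fin.rev b) := by
          rw [Fin.rev_rev]
          intro e
          have := congrArg Fin.val e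
          omega
        have hlt1 : Fin.rev b < a := Fin.lt_def.2 (by omega)
        have hlt2 : a < Fin.rev (Fin.rev b) := by rw [Fin.rev_rev]; exact hlt
        have hab2 : a ≠ Fin.rev (Fin.rev b) := by rw [Fin.rev_rev]; exact hne
        refine ⟨Mm φ (Fin.rev b) a 1 s, mem_unip_of_mt ?_ ?_, ?_⟩
        · intro p q hqp
          rw [Mm_coe hφφ hrba hrb2 ha hs', MmM_low hlt1 hlt2 1 s hqp.le, Matrix.one_apply_ne hqp.ne']
        · intro p
          rw [Mm_coe hφφ hrba hrb2 ha hs', MmM_low hlt1 hlt2 1 s le_rfl, Matrix.one_apply_eq]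
        · rw [Mm_coe hφφ hrba hrb2 ha hs']
          have := MmM_apply_cr (φ := φ) hrba hab2 1 s
          rw [Fin.rev_rev] at this
          rw [this, map_one]
          exact neg_ne_zero.2 one_ne_zero
      · -- both in the lower half
        have hrr : Fin.rev b ≠ Fin.rev a := rev_ne_of_ne hne.symm
        have hb2 : Fin.rev b ≠ Fin.rev (Fin.rev b) := by
          rw [Fin.rev_rev]
          intro e
          have := congrArg Fin.val e
          omega
        have ha2 : Fin.rev a ≠ Fin.rev (Fin.rev a) := by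
          rw [Fin.rev_rev]
          intro e
          have := congrArg Fin.val e
          omega
        have hlt1 : Fin.rev b < Fin.rev a := Fin.rev_lt_rev.2 hlt
        have hab2 : Fin.rev b ≠ Fin.rev (Fin.rev a) := by
          rw [Fin.rev_rev]
          intro e
          have := congrArg Fin.val e
          omega
        refine ⟨Tm φ (Fin.rev b) (Fin.rev a) 1, mem_unip_of_mt ?_ ?_, ?_⟩
        · intro p q hqp
          rw [Tm_coe hφφ hrr hb2 ha2, TmM_low hlt1 1 hqp.le, Matrix.one_apply_ne hqp.ne']
        · intro p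
          rw [Tm_coe hφφ hrr hb2 ha2, TmM_low hlt1 1 le_rfl, Matrix.one_apply_eq]
        · rw [Tm_coe hφφ hrr hb2 ha2]
          have := TmM_apply_rev (φ := φ) hrr hab2 1
          rw [Fin.rev_rev, Fin.rev_rev] at this
          rw [this, map_one]
          exact neg_ne_zero.2 one_ne_zero

end Cfsg.Agent.Helper13.SuP
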