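import Mathlib
import Cfsg.Agent.Lib.Helper13.SuBN2
import Cfsg.Agent.Lib.Helper18.SuHRoot

/-!
Piece BC (first part) of helper13's farm-out of S2546: the root elements of the non-reduced simple root of the
Witt-model special unitary group in odd dimension: product, inverse, membership in the Borel subgroup and
conjugation by monomial elements.
-/

set_option autoImplicit false

namespace Cfsg.Agent.Helper13.SuP

open Matrix Cfsg.Agent.Helper13.SuBN

variable {n : ℕ} {F : Type*} [Field F] {φ : F →+* F}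

/-- the entries of a root element of the non-reduced root -/
theorem MmM_apply_of_ne {a c : Fin n} (u v : F) {p q : Fin n} (h1 : p ≠ q) (h2 : ¬ (p = a ∧ q = c))
    (h3 : ¬ (p = c ∧ q = Fin.rev a)) (h4 : ¬ (p = a ∧ q = Fin.rev a)) :
    MmM φ a c u v p q = 0 := by
  unfold MmM
  rw [Matrix.add_apply, Matrix.sub_apply, Matrix.add_apply, Matrix.one_apply_ne h1,
    Matrix.single_apply, Matrix.single_apply, Matrix.single_apply,
    if_neg (fun h => h2 ⟨h.1.symm, h.2.symm⟩), if_neg (fun h => h3 ⟨h.1.symm, h.2.symm⟩),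
    if_neg (fun h => h4 ⟨h.1.symm, h.2.symm⟩)]
  ring

/-- the middle index is the only fixed point of `Fin.rev` -/
theorem eq_of_rev_eq {c x : Fin n} (hc : c = Fin.rev c) (hx : x = Fin.rev x) : x = c := by
  have h1 := congrArg Fin.val hc
  have h2 := congrArg Fin.val hx
  rw [Fin.val_rev] at h1 h2
  apply Fin.ext
  omega

section BC

variable (hφφ : ∀ x, φ (φ x) = x) {a c : Fin n} (hac : a ≠ c) (ha : a ≠ Fin.rev a)
  (hc : c = Fin.rev c)
include hφφ hac ha hc

theorem c_ne_rev_a : c ≠ Fin.rev a := by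
  intro e
  apply hac
  rw [hc] at e
  exact (Fin.rev_inj.1 e).symm

theorem Mm_mul {u v u' v' : F} (huv : v + φ v + u * φ u = 0) (huv' : v' + φ v' + u' * φ u' = 0) :
    Mm φ a c u v * Mm φ a c u' v' = Mm φ a c (u + u') (v + v' - u * φ u') ∧
      (v + v' - u * φ u') + φ (v + v' - u * φ u') + (u + u') * φ (u + u') = 0 := by
  have hc' : c ≠ Fin.rev a := c_ne_rev_a hφφ hac ha hc
  have hnorm : (v + v' - u * φ u') + φ (v + v' - u * φ u') + (u + u') * φ (u + u') = 0 := by
    rw [map_sub, map_add, map_add, map_mul, hφφ]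
    linear_combination huv + huv'
  refine ⟨?_, hnorm⟩
  apply mt_injective
  rw [mt_mul, Mm_coe hφφ hac ha hc huv, Mm_coe hφφ hac ha hc huv', Mm_coe hφφ hac ha hc hnorm]
  unfold MmM
  have hs : Matrix.single a (Fin.rev a) (v + v' - u * φ u') = Matrix.single a (Fin.rev a) v +
      Matrix.single a (Fin.rev a) v' - Matrix.single a (Fin.rev a) (u * φ u') := by
    rw [sub_eq_add_neg, Matrix.single_add, Matrix.single_add, ← Matrix.single_neg, ← sub_eq_add_neg]
  rw [map_add, Matrix.single_add, Matrix.single_add, hs]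
  set X1 := Matrix.single a c u with hX1
  set X2 := Matrix.single c (Fin.rev a) (φ u) with hX2
  set X3 := Matrix.single a (Fin.rev a) v with hX3
  set Y1 := Matrix.single a c u' with hY1
  set Y2 := Matrix.single c (Fin.rev a) (φ u') with hY2
  set Y3 := Matrix.single a (Fin.rev a) v' with hY3
  have p1 : X1 * Y1 = 0 := single_mul_single_ne' hac.symm _ _
  have p2 : X1 * Y2 = Matrix.single a (Fin.rev a) (u * φ u') :=
    Matrix.single_mul_single_same _ _ _ _ _
  have p3 : X1 * Y3 = 0 := single_mul_single_ne' hac.symm _ _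
  have p4 : X2 * Y1 = 0 := single_mul_single_ne' ha.symm _ _
  have p5 : X2 * Y2 = 0 := single_mul_single_ne' hc'.symm _ _
  have p6 : X2 * Y3 = 0 := single_mul_single_ne' ha.symm _ _
  have p7 : X3 * Y1 = 0 := single_mul_single_ne' ha.symm _ _
  have p8 : X3 * Y2 = 0 := single_mul_single_ne' hc'.symm _ _
  have p9 : X3 * Y3 = 0 := single_mul_single_ne' ha.symm _ _
  calc (1 + X1 - X2 + X3) * (1 + Y1 - Y2 + Y3)
      = 1 + (X1 + Y1) - (X2 + Y2) + (X3 + Y3 - X1 * Y2) + (X1 * Y1 + X1 * Y3 - X2 * Y1 + X2 * Y2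
          - X2 * Y3 + X3 * Y1 - X3 * Y2 + X3 * Y3) := by noncomm_ring
    _ = 1 + (X1 + Y1) - (X2 + Y2) + (X3 + Y3 - Matrix.single a (Fin.rev a) (u * φ u')) := by
      rw [p1, p2, p3, p4, p5, p6, p7, p8, p9]
      simp

theorem Mm_zero : Mm φ a c (0 : F) 0 = 1 := by
  have h0 : (0 : F) + φ 0 + 0 * φ 0 = 0 := by rw [map_zero]; ring
  apply mt_injective
  rw [Mm_coe hφφ hac ha hc h0, mt_one]
  unfold MmM
  rw [map_zero, Matrix.single_zero, Matrix.single_zero, Matrix.single_zero]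
  simp

theorem Mm_inv {u v : F} (huv : v + φ v + u * φ u = 0) :
    (Mm φ a c u v)⁻¹ = Mm φ a c (-u) (φ v) ∧ φ v + φ (φ v) + (-u) * φ (-u) = 0 := by
  have hnorm : φ v + φ (φ v) + (-u) * φ (-u) = 0 := by
    rw [hφφ, map_neg]
    linear_combination huv
  refine ⟨?_, hnorm⟩
  rw [inv_eq_iff_mul_eq_one, (Mm_mul hφφ hac ha hc huv hnorm).1]
  have e1 : u + -u = 0 := by ring
  have e2 : v + φ v - u * φ (-u) = 0 := by
    rw [map_neg]
    linear_combination huv
  rw [e1, e2]
  exact Mm_zero hφφ hac ha hc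

theorem Mm_mem_bor (h : a < c) {u v : F} (huv : v + φ v + u * φ u = 0) :
    Mm φ a c u v ∈ bor n φ := by
  have h2 : c < Fin.rev a := by
    rw [hc]
    exact Fin.rev_lt_rev.2 h
  intro p q hqp
  rw [Mm_coe hφφ hac ha hc huv, MmM_low h h2 u v hqp.le, Matrix.one_apply_ne hqp.ne']

theorem conj_Mm_mem_bor {N : WSU n φ} {π : Equiv.Perm (Fin n)} (hN : IsMon (mt N) π)
    (h : π⁻¹ a < π⁻¹ (Fin.rev a)) {u v : F} (huv : v + φ v + u * φ u = 0) :
    N⁻¹ * Mm φ a c u v * N ∈ bor n φ := by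
  have hcomm : ∀ x, π⁻¹ (Fin.rev x) = Fin.rev (π⁻¹ x) := by
    intro x
    rw [Equiv.Perm.inv_eq_iff_eq, hN.comm_rev]
    simp
  have hπc : π⁻¹ c = c := by
    apply eq_of_rev_eq hc
    rw [← hcomm, ← hc]
  have hcv := congrArg Fin.val hc
  rw [Fin.val_rev] at hcv
  rw [hcomm, Fin.lt_def, Fin.val_rev] at h
  apply conj_inv_mem_bor hN
  intro p q hpq
  rw [Mm_coe hφφ hac ha hc huv]
  have hne : π p ≠ π q := by
    intro e
    have := π.injective e
    rw [this] at hpq
    exact lt_irrefl _ hpq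
  rw [Fin.lt_def] at hpq
  apply MmM_apply_of_ne u v hne
  · rintro ⟨e1, e2⟩
    have h1 : π⁻¹ a = p := by rw [← e1]; simp
    have h2 : c = q := by rw [← hπc, ← e2]; simp
    rw [h1] at h
    rw [← h2] at hpq
    omega
  · rintro ⟨e1, e2⟩
    have h1 : c = p := by rw [← hπc, ← e1]; simp
    have h2 : Fin.rev (π⁻¹ a) = q := by rw [← hcomm, ← e2]; simp
    have h3 := congrArg Fin.val h2
    rw [Fin.val_rev] at h3
    rw [← h1] at hpq
    omega
  · rintro ⟨e1, e2⟩
    have h1 : π⁻¹ a = p := by rw [← e1]; simp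
    have h2 : Fin.rev (π⁻¹ a) = q := by rw [← hcomm, ← e2]; simp
    have h3 := congrArg Fin.val h2
    rw [Fin.val_rev] at h3
    rw [h1] at h h3
    omega

end BC

end Cfsg.Agent.Helper13.SuP
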