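import Mathlib
import Cfsg.Agent.Lib.Helper13.SuBN2
import Cfsg.Agent.Lib.Helper18.SuBC

/-!
Piece BC (second part) of helper13's farm-out of S2546: the splitting `B = (B ∩ s⁻¹ B s) X` for the non-reduced
simple root of the Witt-model special unitary group in odd dimension.
-/

set_option autoImplicit false

namespace Cfsg.Agent.Helper13.SuP

open Matrix Cfsg.Agent.Helper13.SuBN

variable {n : ℕ} {F : Type*} [Field F] {φ : F →+* F}

theorem piL_val (a x : Fin n) :
    (piL a x).val = if x.val = a.val then (Fin.rev a).val else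
      if x.val = (Fin.rev a).val then a.val else x.val := by
  unfold piL
  by_cases h1 : x = a
  · rw [h1, Equiv.swap_apply_left, if_pos rfl]
  by_cases h2 : x = Fin.rev a
  · rw [h2, Equiv.swap_apply_right, if_pos rfl]
    split_ifs with h3
    · exact h3.symm
    · rfl
  · rw [Equiv.swap_apply_of_ne_of_ne h1 h2, if_neg (fun e => h1 (Fin.ext e)),
      if_neg (fun e => h2 (Fin.ext e))]

section BC

variable (hφφ : ∀ x, φ (φ x) = x) {a c : Fin n} (hac : a ≠ c) (ha : a ≠ Fin.rev a)
  (hc : c = Fin.rev c)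
include hφφ hac ha hc

/-- `B = (B ∩ s⁻¹ B s) X`; here `a, c, rev a` are consecutive -/
theorem split_bc (hac1 : c.val = a.val + 1) {l : F} (hl0 : l ≠ 0) (hl : l + φ l = 0)
    {g : WSU n φ} (hg : g ∈ bor n φ) :
    ∃ u v : F, v + φ v + u * φ u = 0 ∧
      wL φ a l * (g * (Mm φ a c u v)⁻¹) * (wL φ a l)⁻¹ ∈ bor n φ := by
  have hc' : c ≠ Fin.rev a := c_ne_rev_a hφφ hac ha hc
  have hcv := congrArg Fin.val hc
  rw [Fin.val_rev] at hcv
  have hcn := c.2
  have hrav : (Fin.rev a).val = a.val + 2 := by rw [Fin.val_rev]; omega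
  have halt : a < c := Fin.lt_def.2 (by omega)
  -- the isotropy of the row `a`
  have hiso : mt g a (Fin.rev a) * φ (mt g a a) + mt g a c * φ (mt g a c) +
      mt g a a * φ (mt g a (Fin.rev a)) = 0 := by
    have h1 := row_isotropic g ha
    rw [← Finset.sum_subset (Finset.subset_univ ({a, c, Fin.rev a} : Finset (Fin n)))] at h1
    · rw [Finset.sum_insert (by
        rw [Finset.mem_insert, Finset.mem_singleton]
        rintro (h | h)
        · exact hac h
        · exact ha h), Finset.sum_pair hc', ← hc, Fin.rev_rev] at h1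
      linear_combination h1
    · intro q _ hq
      rw [Finset.mem_insert, Finset.mem_insert, Finset.mem_singleton] at hq
      push_neg at hq
      obtain ⟨q1, q2, q3⟩ := hq
      have q1' : q.val ≠ a.val := fun e => q1 (Fin.ext e)
      have q2' : q.val ≠ c.val := fun e => q2 (Fin.ext e)
      have q3' : q.val ≠ (Fin.rev a).val := fun e => q3 (Fin.ext e)
      by_cases hq : q.val < a.val
      · rw [hg a q (Fin.lt_def.2 hq), map_zero, mul_zero]
      · have : Fin.rev q < a := by
          rw [Fin.lt_def, Fin.val_rev]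
          have := q.2
          omega
        rw [hg a _ this, zero_mul]
  have hd : mt g a a ≠ 0 := diag_ne_zero hg a
  have hd' : φ (mt g a a) ≠ 0 := (map_ne_zero φ).2 hd
  refine ⟨mt g a c / mt g a a, mt g a (Fin.rev a) / mt g a a, ?_, ?_⟩
  · rw [map_div₀, map_div₀]
    field_simp
    linear_combination hiso
  set u := mt g a c / mt g a a with hu
  set v := mt g a (Fin.rev a) / mt g a a with hv
  have huv : v + φ v + u * φ u = 0 := by
    rw [hu, hv, map_div₀, map_div₀]
    field_simp
    linear_combination hiso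
  obtain ⟨hinv, huv'⟩ := Mm_inv hφφ hac ha hc huv
  rw [hinv]
  have hx : Mm φ a c (-u) (φ v) ∈ bor n φ := Mm_mem_bor hφφ hac ha hc halt huv'
  have hg' : g * Mm φ a c (-u) (φ v) ∈ bor n φ := (bor n φ).mul_mem hg hx
  have h1 : mt (g * Mm φ a c (-u) (φ v)) a c = 0 := by
    rw [mul_apply_col, Mm_coe hφφ hac ha hc huv', MmM_mulVec, ev_self, ev_ne hc']
    simp only [mul_zero, zero_smul, sub_zero, add_zero, mul_one, mulVec_add, mulVec_smul,
      Pi.add_apply, Pi.smul_apply, mulVec_ev, smul_eq_mul]
    rw [hu]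
    field_simp
    ring
  have h2 : mt (g * Mm φ a c (-u) (φ v)) a (Fin.rev a) = 0 := by
    rw [mul_apply_col, Mm_coe hφφ hac ha hc huv', MmM_mulVec, ev_self, ev_ne hc'.symm]
    simp only [mul_zero, zero_smul, sub_zero, add_zero, mul_one, mulVec_add, mulVec_sub, mulVec_smul,
      Pi.add_apply, Pi.sub_apply, Pi.smul_apply, mulVec_ev, smul_eq_mul, map_neg]
    rw [hu, hv, map_div₀, map_div₀]
    field_simp
    linear_combination hiso
  have h3 : mt (g * Mm φ a c (-u) (φ v)) c (Fin.rev a) = 0 := by
    have := extra_zero hg' hac1 h1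
    rwa [← hc] at this
  apply conj_mem_bor (wL_isMon ha hl0 hl) hg'
  intro p q hqp hinv'
  rw [piL_inv] at hinv' ⊢
  rw [Fin.lt_def] at hqp hinv'
  have hP := piL_val a p
  have hQ := piL_val a q
  have hpp : piL a (piL a p) = p := by
    have := congrArg (fun σ => σ p) (piL_mul_self a)
    simpa using this
  have hqq : piL a (piL a q) = q := by
    have := congrArg (fun σ => σ q) (piL_mul_self a)
    simpa using this
  have hP2 := piL_val a (piL a p)
  have hQ2 := piL_val a (piL a q)
  rw [hpp] at hP2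
  rw [hqq] at hQ2
  have key : ((piL a p).val = a.val ∧ (piL a q).val = c.val) ∨
      ((piL a p).val = a.val ∧ (piL a q).val = (Fin.rev a).val) ∨
      ((piL a p).val = c.val ∧ (piL a q).val = (Fin.rev a).val) := by
    split_ifs at hP hQ <;> omega
  rcases key with ⟨e1, e2⟩ | ⟨e1, e2⟩ | ⟨e1, e2⟩
  · rw [Fin.ext e1, Fin.ext e2]; exact h1
  · rw [Fin.ext e1, Fin.ext e2]; exact h2
  · rw [Fin.ext e1, Fin.ext e2]; exact h3

end BC

end Cfsg.Agent.Helper13.SuP
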