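import Mathlib
import Cfsg.Agent.Lib.Helper13.SuBNPerm

/-!
Piece INJ of helper13's farm-out of S2546: the simple reflections of the Weyl group of `SU_n` are distinct.
-/

set_option autoImplicit false

namespace Cfsg.Agent.Helper13.SuP

open Cfsg.Agent.Helper13.SuBN

variable {n : ℕ}

theorem pr_apply_of_lt (j : Fin (n / 2)) (k : Fin n) (hk : k.val < j.val) : pr n j k = k := by
  have hj := j.2
  by_cases h : j.val + 1 < n / 2
  · rw [pr_short h]
    unfold piS
    rw [Equiv.Perm.mul_apply]
    have h1 : k ≠ Fin.rev (ix n j) := by
      intro e
      have := congrArg Fin.val e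
      rw [Fin.val_rev] at this
      simp only [ix] at this
      omega
    have h2 : k ≠ Fin.rev (ix' n j h) := by
      intro e
      have := congrArg Fin.val e
      rw [Fin.val_rev] at this
      simp only [ix'] at this
      omega
    rw [Equiv.swap_apply_of_ne_of_ne h1 h2]
    have h3 : k ≠ ix n j := by
      intro e
      have := congrArg Fin.val e
      simp only [ix] at this
      omega
    have h4 : k ≠ ix' n j h := by
      intro e
      have := congrArg Fin.val e
      simp only [ix'] at this
      omega
    exact Equiv.swap_apply_of_ne_of_ne h3 h4
  · rw [pr_long h]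
    unfold piL
    have h1 : k ≠ Fin.rev (ix n j) := by
      intro e
      have := congrArg Fin.val e
      rw [Fin.val_rev] at this
      simp only [ix] at this
      omega
    have h3 : k ≠ ix n j := by
      intro e
      have := congrArg Fin.val e
      simp only [ix] at this
      omega
    exact Equiv.swap_apply_of_ne_of_ne h3 h1

theorem pr_apply_ix_ne (i : Fin (n / 2)) : pr n i (ix n i) ≠ ix n i := by
  have hi := i.2
  by_cases h : i.val + 1 < n / 2
  · rw [pr_short h]
    unfold piS
    rw [Equiv.Perm.mul_apply]
    have h1 : ix n i ≠ Fin.rev (ix n i) := by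
      intro e
      have := congrArg Fin.val e
      rw [Fin.val_rev] at this
      simp only [ix] at this
      omega
    have h2 : ix n i ≠ Fin.rev (ix' n i h) := by
      intro e
      have := congrArg Fin.val e
      rw [Fin.val_rev] at this
      simp only [ix, ix'] at this
      omega
    rw [Equiv.swap_apply_of_ne_of_ne h1 h2, Equiv.swap_apply_left]
    intro e
    have := congrArg Fin.val e
    simp only [ix, ix'] at this
    omega
  · rw [pr_long h]
    unfold piL
    rw [Equiv.swap_apply_left]
    intro e
    have := congrArg Fin.val e
    rw [Fin.val_rev] at this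
    simp only [ix] at this
    omega

/-- piece INJ -/
theorem pr_injective {n : ℕ} : Function.Injective (pr n) := by
  intro i j e
  by_contra hne
  have hv : i.val ≠ j.val := fun h => hne (Fin.ext h)
  rcases lt_or_gt_of_ne hv with h | h
  · have h1 := pr_apply_of_lt j (ix n i) (by simpa only [ix] using h)
    rw [← e] at h1
    exact pr_apply_ix_ne i h1
  · have h1 := pr_apply_of_lt i (ix n j) (by simpa only [ix] using h)
    rw [e] at h1
    exact pr_apply_ix_ne j h1

end Cfsg.Agent.Helper13.SuP
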