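import Mathlib
import Cfsg.Agent.Lib.Helper13.StBN1
import Cfsg.Agent.Lib.Helper13.SdSplit

/-!
# S2549, piece TSPLIT: `B = (B ∩ s⁻¹ B s) X` for the twisted simple root (helper18)
-/

set_option autoImplicit false
set_option linter.unusedSectionVars false
set_option linter.unusedVariables false

namespace Cfsg.Agent.Helper13.StP

open Matrix Cfsg.Agent.Helper13.SuBN Cfsg.Agent.Helper13.SdBN Cfsg.Agent.Helper13.StBN
  Cfsg.Agent.Helper13.SdP

variable {n : ℕ} {K : Type*} [Field K]

section pair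

variable {a c : Fin n} (hac : a ≠ c) (hac' : a ≠ Fin.rev c) (ha : a ≠ Fin.rev a) (hc : c ≠ Fin.rev c)

include hac hac' ha hc in
theorem ts_xG_ev_c (φ : K →+* K) (w : K) :
    mt (xG φ a c w) *ᵥ (ev c : Fin n → K) = ev c + w • ev a := by
  have hc' : Fin.rev c ≠ Fin.rev (Fin.rev c) := by rw [Fin.rev_rev]; exact hc.symm
  unfold xG
  rw [mt_mul, ← mulVec_mulVec, Tm_ev_of_ne hid hac' ha hc' _ hc (ne_rev_symm hac').symm.symm,
    Tm_ev_b hid hac hac' ha hc]

include hac hac' ha hc in
theorem ts_xG_ev_rc (φ : K →+* K) (w : K) :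
    mt (xG φ a c w) *ᵥ (ev (Fin.rev c) : Fin n → K) = ev (Fin.rev c) + φ w • ev a := by
  have hc' : Fin.rev c ≠ Fin.rev (Fin.rev c) := by rw [Fin.rev_rev]; exact hc.symm
  have hac'' : a ≠ Fin.rev (Fin.rev c) := by rw [Fin.rev_rev]; exact hac
  unfold xG
  rw [mt_mul, ← mulVec_mulVec, Tm_ev_b hid hac' hac'' ha hc', mulVec_add, mulVec_smul,
    Tm_ev_of_ne hid hac ha hc _ hc.symm (rev_ne_of_ne hac).symm,
    Tm_ev_of_ne hid hac ha hc _ hac ha]

end pair

/-- the values of the permutation `(a a')(c d)` -/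
theorem ts_val_pi {a c : Fin n} (hac : a ≠ c) (hac' : a ≠ Fin.rev c) (ha : a ≠ Fin.rev a)
    (hc : c ≠ Fin.rev c) (x : Fin n) :
    ((piS a c * piS a (Fin.rev c)) x).val =
      if x.val = a.val then (Fin.rev a).val else if x.val = (Fin.rev a).val then a.val
      else if x.val = c.val then (Fin.rev c).val
      else if x.val = (Fin.rev c).val then c.val else x.val := by
  have hc' : Fin.rev c ≠ Fin.rev (Fin.rev c) := by rw [Fin.rev_rev]; exact hc.symm
  have hac'' : a ≠ Fin.rev (Fin.rev c) := by rw [Fin.rev_rev]; exact hac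
  have n1 : a.val ≠ c.val := fun e => hac (Fin.ext e)
  have n2 : a.val ≠ (Fin.rev c).val := fun e => hac' (Fin.ext e)
  have n3 : a.val ≠ (Fin.rev a).val := fun e => ha (Fin.ext e)
  have n4 : c.val ≠ (Fin.rev c).val := fun e => hc (Fin.ext e)
  have n5 : c.val ≠ (Fin.rev a).val := fun e => (ne_rev_symm hac') (Fin.ext e)
  have n6 : (Fin.rev a).val ≠ (Fin.rev c).val := fun e => (rev_ne_of_ne hac) (Fin.ext e)
  rw [Equiv.Perm.mul_apply, sd_val_piS hac hac' ha hc, sd_val_piS hac' hac'' ha hc', Fin.rev_rev]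
  split_ifs <;> omega

/-- PIECE TSPLIT -/
theorem split_T (hn : n % 2 = 0) (h4 : 4 ≤ n) {φ : K →+* K}
    (hφφ : ∀ x, φ (φ x) = x) {a c : Fin n} (hav : a.val + 2 = n / 2) (hcv : c.val + 1 = n / 2)
    {g : WSU n (RingHom.id K)} (hg : g ∈ borT n φ) :
    ∃ u : K, wG φ a c 1 * (g * (xG φ a c u)⁻¹) * (wG φ a c 1)⁻¹ ∈ bor n (RingHom.id K) := by
  have hrav : (Fin.rev a).val = n / 2 + 1 := by rw [Fin.val_rev]; omega
  have hrcv : (Fin.rev c).val = n / 2 := by rw [Fin.val_rev]; omega
  have hac : a ≠ c := fun e => by rw [e] at hav; omega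
  have hac' : a ≠ Fin.rev c := fun e => by rw [e, hrcv] at hav; omega
  have ha : a ≠ Fin.rev a := fun e => by
    have := congrArg Fin.val e
    rw [hrav] at this
    omega
  have hc : c ≠ Fin.rev c := fun e => by
    have := congrArg Fin.val e
    rw [hrcv] at this
    omega
  have hc' : Fin.rev c ≠ Fin.rev (Fin.rev c) := by rw [Fin.rev_rev]; exact hc.symm
  have hac'' : a ≠ Fin.rev (Fin.rev c) := by rw [Fin.rev_rev]; exact hac
  have hlt1 : a < c := by rw [Fin.lt_def]; omega
  have hlt2 : a < Fin.rev c := by rw [Fin.lt_def, hrcv]; omega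
  have hτa : tauP n a = a := by
    apply Fin.ext
    rw [tauP_val, if_neg (by omega), if_neg (by omega)]
  have hτc : tauP n c = Fin.rev c := by
    apply Fin.ext
    rw [tauP_val, if_pos hcv, hrcv]
  refine ⟨mt g a c / mt g a a, ?_⟩
  set u := mt g a c / mt g a a with hu
  have hxinv : (xG φ a c u)⁻¹ = xG φ a c (-u) := xG_inv hac hac' ha hc φ u
  have hx : xG φ a c (-u) ∈ borQ n K := by
    refine ⟨?_, xG_mem_soq hac hac' ha hc hn φ _⟩
    unfold xG
    exact (bor n (RingHom.id K)).mul_mem (Tm_mem_bor hid hac ha hc hlt1 _)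
      (Tm_mem_bor hid hac' ha hc' hlt2 _)
  have hg' : g * (xG φ a c u)⁻¹ ∈ borQ n K := by
    rw [hxinv]
    exact (borQ n K).mul_mem hg.1 hx
  set g' := g * (xG φ a c u)⁻¹ with hg'def
  have hd0 := diag_ne_zero hg.1.1 a
  -- the twist
  have htw1 : mt g a (Fin.rev c) = φ (mt g a c) := by
    have := twG_apply hg.2 a (Fin.rev c)
    rw [hτa, tauP_rev hn, hτc, Fin.rev_rev] at this
    exact this.symm
  have htw2 : φ (mt g a a) = mt g a a := by
    have := twG_apply hg.2 a a
    rw [hτa] at this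
    exact this
  -- the six entries
  have E1 : mt g' a c = 0 := by
    rw [hg'def, hxinv, mul_apply_col, ts_xG_ev_c hac hac' ha hc, mulVec_add, mulVec_smul,
      Pi.add_apply, Pi.smul_apply, mulVec_ev, mulVec_ev, hu, smul_eq_mul]
    field_simp
    ring
  have E2 : mt g' a (Fin.rev c) = 0 := by
    rw [hg'def, hxinv, mul_apply_col, ts_xG_ev_rc hac hac' ha hc, mulVec_add, mulVec_smul,
      Pi.add_apply, Pi.smul_apply, mulVec_ev, mulVec_ev, hu, smul_eq_mul, htw1, map_neg,
      map_div₀, htw2]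
    field_simp
    ring
  have E3 : mt g' c (Fin.rev c) = 0 := mid_zero hg' (by rw [hrcv]; omega)
  -- columns orthogonal to the column `a'`
  have horth : ∀ P : Fin n, P ≠ Fin.rev a →
      ∑ k, mt g' (Fin.rev k) (Fin.rev P) * mt g' k (Fin.rev a) = 0 := by
    intro P hP
    have h1 : mt (g'⁻¹ * g') P (Fin.rev a) = 0 := by
      rw [inv_mul_cancel, mt_one, Matrix.one_apply_ne hP]
    rw [mt_mul, Matrix.mul_apply] at h1
    rw [← h1]
    apply Finset.sum_congr rfl
    intro k _
    rw [inv_apply]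
    rfl
  have E4 : mt g' (Fin.rev c) (Fin.rev a) = 0 := by
    have h1 := horth (Fin.rev c) (rev_ne_of_ne hac).symm
    rw [Fin.rev_rev, Finset.sum_eq_single (Fin.rev c)] at h1
    · rw [Fin.rev_rev] at h1
      rcases mul_eq_zero.1 h1 with h | h
      · exact absurd h (diag_ne_zero hg'.1 c)
      · exact h
    · intro k _ hk
      have hkv : k.val ≠ n / 2 := fun e => hk (Fin.ext (by rw [e, hrcv]))
      have hk2 := k.2
      by_cases hk1 : n / 2 + 1 < k.val
      · have : Fin.rev a < k := by rw [Fin.lt_def, hrav]; exact hk1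
        rw [hg'.1 _ _ this, mul_zero]
      by_cases hk3 : k.val = n / 2 + 1
      · have e : k = Fin.rev a := Fin.ext (by rw [hk3, hrav])
        rw [e, Fin.rev_rev, E1, zero_mul]
      · have : c < Fin.rev k := by
          rw [Fin.lt_def, Fin.val_rev]
          omega
        rw [hg'.1 _ _ this, zero_mul]
    · intro h; exact absurd (Finset.mem_univ _) h
  have E5 : mt g' c (Fin.rev a) = 0 := by
    have h1 := horth c (ne_rev_symm hac').symm.symm
    rw [Finset.sum_eq_single c] at h1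
    · rcases mul_eq_zero.1 h1 with h | h
      · exact absurd h (diag_ne_zero hg'.1 _)
      · exact h
    · intro k _ hk
      have hkv : k.val ≠ n / 2 - 1 := fun e => hk (Fin.ext (by rw [e]; omega))
      have hk2 := k.2
      by_cases hk1 : n / 2 + 1 < k.val
      · have : Fin.rev a < k := by rw [Fin.lt_def, hrav]; exact hk1
        rw [hg'.1 _ _ this, mul_zero]
      by_cases hk3 : k.val = n / 2 + 1
      · have e : k = Fin.rev a := Fin.ext (by rw [hk3, hrav])
        rw [e, Fin.rev_rev, E2, zero_mul]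
      by_cases hk4 : k.val = n / 2
      · have e : k = Fin.rev c := Fin.ext (by rw [hk4, hrcv])
        rw [e, Fin.rev_rev, E3, zero_mul]
      · have : Fin.rev c < Fin.rev k := by
          rw [Fin.lt_def, hrcv, Fin.val_rev]
          omega
        rw [hg'.1 _ _ this, zero_mul]
    · intro h; exact absurd (Finset.mem_univ _) h
  have E6 : mt g' a (Fin.rev a) = 0 := by
    have h1 := qf_col hg'.2 (Fin.rev a)
    have hi1 : a.val < n / 2 := by omega
    rw [Finset.sum_eq_single (⟨a.val, hi1⟩ : Fin (n / 2))] at h1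
    · have e : ix n (⟨a.val, hi1⟩ : Fin (n / 2)) = a := Fin.ext rfl
      rw [e] at h1
      rcases mul_eq_zero.1 h1 with h | h
      · exact h
      · exact absurd h (diag_ne_zero hg'.1 _)
    · intro k _ hk
      have hkv : k.val ≠ a.val := fun e => hk (Fin.ext e)
      have hk2 := k.2
      by_cases hk1 : k.val = n / 2 - 1
      · have e : ix n k = c := Fin.ext (by show k.val = c.val; omega)
        rw [e, E5, zero_mul]
      · have : Fin.rev a < Fin.rev (ix n k) := by
          rw [Fin.lt_def, hrav, Fin.val_rev]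
          show n / 2 + 1 < n - (k.val + 1)
          omega
        rw [hg'.1 _ _ this, mul_zero]
    · intro h; exact absurd (Finset.mem_univ _) h
  -- conjugating
  have hmon : IsMon (mt (wG φ a c 1)) (piS a c * piS a (Fin.rev c)) :=
    wG_isMon hac hac' ha hc φ one_ne_zero
  apply conj_mem_bor hmon hg'.1
  intro p q h1 h2
  set π := piS a c * piS a (Fin.rev c) with hπ
  set P := π⁻¹ p with hP
  set Q := π⁻¹ q with hQ
  have hpP : π P = p := by rw [hP]; simp
  have hqQ : π Q = q := by rw [hQ]; simp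
  have hp := ts_val_pi hac hac' ha hc P
  have hq := ts_val_pi hac hac' ha hc Q
  rw [← hπ, hpP] at hp
  rw [← hπ, hqQ] at hq
  rw [hrav, hrcv] at hp hq
  rw [Fin.lt_def] at h1 h2
  have hP' := P.2
  have hQ' := Q.2
  have key : (P.val = a.val ∧ Q.val = c.val) ∨ (P.val = a.val ∧ Q.val = n / 2) ∨
      (P.val = a.val ∧ Q.val = n / 2 + 1) ∨ (P.val = c.val ∧ Q.val = n / 2) ∨
      (P.val = c.val ∧ Q.val = n / 2 + 1) ∨ (P.val = n / 2 ∧ Q.val = n / 2 + 1) := by
    split_ifs at hp hq <;> omega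
  rcases key with ⟨e1, e2⟩ | ⟨e1, e2⟩ | ⟨e1, e2⟩ | ⟨e1, e2⟩ | ⟨e1, e2⟩ | ⟨e1, e2⟩
  · rw [Fin.ext e1, Fin.ext e2]
    exact E1
  · have k2 : Q = Fin.rev c := Fin.ext (by rw [e2, hrcv])
    rw [Fin.ext e1, k2]
    exact E2
  · have k2 : Q = Fin.rev a := Fin.ext (by rw [e2, hrav])
    rw [Fin.ext e1, k2]
    exact E6
  · have k2 : Q = Fin.rev c := Fin.ext (by rw [e2, hrcv])
    rw [Fin.ext e1, k2]
    exact E3
  · have k2 : Q = Fin.rev a := Fin.ext (by rw [e2, hrav])
    rw [Fin.ext e1, k2]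
    exact E5
  · have k1 : P = Fin.rev c := Fin.ext (by rw [e1, hrcv])
    have k2 : Q = Fin.rev a := Fin.ext (by rw [e2, hrav])
    rw [k1, k2]
    exact E4

end Cfsg.Agent.Helper13.StP
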