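import Mathlib
import Cfsg.Agent.Lib.Helper13.SuBN2
import Cfsg.Agent.Lib.Helper18.SuHRoot

/-!
Piece HROOTO of helper13's farm-out of S2547: unipotent elements of the Witt-model group in odd dimension with
a non-zero entry just above the diagonal (no trace-zero element needed).
-/

set_option autoImplicit false

namespace Cfsg.Agent.Helper13.SoP

open Matrix Cfsg.Agent.Helper13.SuBN Cfsg.Agent.Helper13.SuP

variable {n : ℕ} {F : Type*} [Field F] {φ : F →+* F}

/-- piece HROOTO -/
theorem exists_unip_apply_ne_zero_odd (hφφ : ∀ x, φ (φ x) = x) (hodd : n % 2 = 1)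
    (htr : ∀ r : F, φ r = r → ∃ s : F, s + φ s = r) (a b : Fin n) (hab : a.val + 1 = b.val) :
    ∃ u ∈ unip n φ, mt u a b ≠ 0 := by
  have hbn := b.2
  have hra : (Fin.rev a).val = n - 1 - a.val := by rw [Fin.val_rev]; omega
  have hrb : (Fin.rev b).val = n - 1 - b.val := by rw [Fin.val_rev]; omega
  have hne : a ≠ b := fun e => by have := congrArg Fin.val e; omega
  have hlt : a < b := Fin.lt_def.2 (by omega)
  obtain ⟨s, hs⟩ := htr (-1) (by rw [map_neg, map_one])
  have hs' : s + φ s + 1 * φ 1 = 0 := by rw [hs, map_one]; ring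
  rcases lt_trichotomy (2 * a.val + 3) n with h | h | h
  · -- both in the upper half
    have ha : a ≠ Fin.rev a := fun e => by have := congrArg Fin.val e; omega
    have hb : b ≠ Fin.rev b := fun e => by have := congrArg Fin.val e; omega
    have hab' : a ≠ Fin.rev b := fun e => by have := congrArg Fin.val e; omega
    refine ⟨Tm φ a b 1, mem_unip_of_mt ?_ ?_, ?_⟩
    · intro p q hqp
      rw [Tm_coe hφφ hne ha hb, TmM_low hlt 1 hqp.le, Matrix.one_apply_ne hqp.ne']
    · intro p
      rw [Tm_coe hφφ hne ha hb, TmM_low hlt 1 le_rfl, Matrix.one_apply_eq]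
    · rw [Tm_coe hφφ hne ha hb, TmM_apply_ab hne hab']
      exact one_ne_zero
  · -- `b` is the middle index
    have ha : a ≠ Fin.rev a := fun e => by have := congrArg Fin.val e; omega
    have hb : b = Fin.rev b := Fin.ext (by omega)
    have hbra : b ≠ Fin.rev a := fun e => by have := congrArg Fin.val e; omega
    have hlt2 : b < Fin.rev a := Fin.lt_def.2 (by omega)
    refine ⟨Mm φ a b 1 s, mem_unip_of_mt ?_ ?_, ?_⟩
    · intro p q hqp
      rw [Mm_coe hφφ hne ha hb hs', MmM_low hlt hlt2 1 s hqp.le, Matrix.one_apply_ne hqp.ne']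
    · intro p
      rw [Mm_coe hφφ hne ha hb hs', MmM_low hlt hlt2 1 s le_rfl, Matrix.one_apply_eq]
    · rw [Mm_coe hφφ hne ha hb hs', MmM_apply_ac hne hbra]
      exact one_ne_zero
  · rcases lt_trichotomy (2 * a.val + 1) n with h'' | h'' | h''
    · omega
    · -- `a` is the middle index
      have ha : a = Fin.rev a := Fin.ext (by omega)
      have hrba : Fin.rev b ≠ a := fun e => by have := congrArg Fin.val e; omega
      have hrb2 : Fin.rev b ≠ Fin.rev (Fin.rev b) := by
        rw [Fin.rev_rev]
        intro e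
        have := congrArg Fin.val e
        omega
      have hlt1 : Fin.rev b < a := Fin.lt_def.2 (by omega)
      have hlt2 : a < Fin.rev (Fin.rev b) := by rw [Fin.rev_rev]; exact hlt
      have hab2 : a ≠ Fin.rev (Fin.rev b) := by rw [Fin.rev_rev]; exact hne
      refine ⟨Mm φ (Fin.rev b) a 1 s, mem_unip_of_mt ?_ ?_, ?_⟩
      · intro p q hqp
        rw [Mm_coe hφφ hrba hrb2 ha hs', MmM_low hlt1 hlt2 1 s hqp.le, Matrix.one_apply_ne hqp.ne']
      · intro p
        rw [Mm_coe hφφ hrba hrb2 ha hs', MmM_low hlt1 hlt2 1 s le_rfl, Matrix.one_apply_eq]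
      · rw [Mm_coe hφφ hrba hrb2 ha hs']
        have := MmM_apply_cr (φ := φ) hrba hab2 1 s
        rw [Fin.rev_rev] at this
        rw [this, map_one]
        exact neg_ne_zero.2 one_ne_zero
    · -- both in the lower half
      have hrr : Fin.rev b ≠ Fin.rev a := rev_ne_of_ne hne.symm
      have hb2 : Fin.rev b ≠ Fin.rev (Fin.rev b) := by
        rw [Fin.rev_rev]
        intro e
        have := congrArg Fin.val e
        omega
      have ha2 : Fin.rev a ≠ Fin.rev (Fin.rev a) := by
        rw [Fin.rev_rev]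
        intro e
        have := congrArg Fin.val e
        omega
      have hlt1 : Fin.rev b < Fin.rev a := Fin.rev_lt_rev.2 hlt
      have hab2 : Fin.rev b ≠ Fin.rev (Fin.rev a) := by
        rw [Fin.rev_rev]
        intro e
        have := congrArg Fin.val e
        omega
      refine ⟨Tm φ (Fin.rev b) (Fin.rev a) 1, mem_unip_of_mt ?_ ?_, ?_⟩
      · intro p q hqp
        rw [Tm_coe hφφ hrr hb2 ha2, TmM_low hlt1 1 hqp.le, Matrix.one_apply_ne hqp.ne']
      · intro p
        rw [Tm_coe hφφ hrr hb2 ha2, TmM_low hlt1 1 le_rfl, Matrix.one_apply_eq]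
      · rw [Tm_coe hφφ hrr hb2 ha2]
        have := TmM_apply_rev (φ := φ) hrr hab2 1
        rw [Fin.rev_rev, Fin.rev_rev] at this
        rw [this, map_one]
        exact neg_ne_zero.2 one_ne_zero

end Cfsg.Agent.Helper13.SoP
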