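import Mathlib
import Cfsg.Agent.Lib.Helper13.SuBN2

/-!
Piece N0G of helper13's farm-out of S2547: a monomial element of the Witt-model group whose permutation is
`Fin.rev`, from monomial elements realising the swaps `z ↔ rev z`.
-/

set_option autoImplicit false

namespace Cfsg.Agent.Helper13.SoP

open Matrix Cfsg.Agent.Helper13.SuBN

variable {n : ℕ} {F : Type*} [Field F] {φ : F →+* F}

theorem exists_n0_of_swaps_aux
    (hsw : ∀ z : Fin n, z ≠ Fin.rev z → ∃ N : WSU n φ, IsMon (mt N) (piL z))
    (k : ℕ) (hk : k ≤ n / 2) :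
    ∃ (N : WSU n φ) (π : Equiv.Perm (Fin n)), IsMon (mt N) π ∧
      ∀ x : Fin n, π x = if x.val < k ∨ (Fin.rev x).val < k then Fin.rev x else x := by
  induction k with
  | zero =>
    refine ⟨1, 1, ?_, ?_⟩
    · rw [mt_one]; exact isMon_one
    · intro x
      rw [if_neg (by omega)]
      rfl
  | succ k ih =>
    obtain ⟨N, π, hN, hπ⟩ := ih (by omega)
    have hkn : k < n := by omega
    set a : Fin n := ⟨k, hkn⟩ with ha_def
    have hav : a.val = k := rfl
    have hrav : (Fin.rev a).val = n - 1 - k := by rw [Fin.val_rev]; omega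
    have ha : a ≠ Fin.rev a := by
      intro e
      have := congrArg Fin.val e
      rw [hrav, hav] at this
      omega
    obtain ⟨W, hW⟩ := hsw a ha
    refine ⟨W * N, piL a * π, ?_, ?_⟩
    · rw [mt_mul]
      exact hW.mul hN
    · intro x
      have hxr : (Fin.rev x).val = n - 1 - x.val := by rw [Fin.val_rev]; omega
      have hx := x.2
      rw [Equiv.Perm.mul_apply, hπ x]
      unfold piL
      by_cases h1 : x.val < k ∨ (Fin.rev x).val < k
      · rw [if_pos h1, if_pos (by omega)]
        apply Equiv.swap_apply_of_ne_of_ne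
        · intro e
          have := congrArg Fin.val e
          rw [hxr, hav] at this
          rw [hxr] at h1
          omega
        · intro e
          have := congrArg Fin.val e
          rw [hxr, hrav] at this
          rw [hxr] at h1
          omega
      · rw [if_neg h1]
        by_cases h2 : x = a
        · rw [h2, Equiv.swap_apply_left, if_pos (by left; rw [hav]; omega)]
        by_cases h3 : x = Fin.rev a
        · rw [h3, Equiv.swap_apply_right, Fin.rev_rev, if_pos (by right; rw [hav]; omega)]
        · rw [Equiv.swap_apply_of_ne_of_ne h2 h3, if_neg]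
          rw [hxr] at h1 ⊢
          have h2' : x.val ≠ k := fun e => h2 (Fin.ext e)
          have h3' : x.val ≠ n - 1 - k := fun e => h3 (Fin.ext (by rw [hrav]; exact e))
          omega

/-- piece N0G -/
theorem exists_n0_of_swaps
    (hsw : ∀ z : Fin n, z ≠ Fin.rev z → ∃ N : WSU n φ, IsMon (mt N) (piL z)) :
    ∃ N : WSU n φ, IsMon (mt N) Fin.revPerm := by
  obtain ⟨N, π, hN, hπ⟩ := exists_n0_of_swaps_aux (n := n) hsw (n / 2) le_rfl
  refine ⟨N, ?_⟩
  have e : π = Fin.revPerm := by
    ext x
    rw [hπ x, Fin.revPerm_apply]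
    have hxr : (Fin.rev x).val = n - 1 - x.val := by rw [Fin.val_rev]; omega
    have hx := x.2
    by_cases h1 : x.val < n / 2 ∨ (Fin.rev x).val < n / 2
    · rw [if_pos h1]
    · rw [if_neg h1, hxr]
      rw [hxr] at h1
      omega
  rw [← e]
  exact hN

end Cfsg.Agent.Helper13.SoP
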