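import Mathlib

/-!
# Linear algebra for the rank count (helper18)

* `rank_map_eq` : the rank of a square matrix over a field does not change under a field
  extension.
* `rank_mul_of_inverses` : `A' * A = 1`, `C * C' = 1` gives `rank (A * C) =` the inner dimension.
* `exists_cols_isUnit_det` : a matrix of full row rank has an invertible maximal minor.
-/

set_option autoImplicit false

namespace Cfsg.Agent.Helper18.Robinson

open Matrix

section NormalForm

variable (F : Type*) [Field F]

theorem rank_fromBlocks_one (r c : ℕ) :
    (fromBlocks (1 : Matrix (Fin r) (Fin r) F) 0 0 (0 : Matrix (Fin c) (Fin c) F)).rank = r := by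
  classical
  apply le_antisymm
  · have h := rank_le_card_of_support_subset
      (fromBlocks (1 : Matrix (Fin r) (Fin r) F) 0 0 (0 : Matrix (Fin c) (Fin c) F))
      (Finset.univ.image Sum.inl) (by
        intro i hi
        rcases i with i | i
        · simp
        · exfalso
          apply hi
          funext j
          rcases j with j | j <;> simp [Matrix.row])
    rw [Finset.card_image_of_injective _ Sum.inl_injective, Finset.card_univ,
      Fintype.card_fin] at h
    exact h
  · have h := rank_submatrix_le
      (fromBlocks (1 : Matrix (Fin r) (Fin r) F) 0 0 (0 : Matrix (Fin c) (Fin c) F))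
      (Sum.inl : Fin r → Fin r ⊕ Fin c) (Sum.inl : Fin r → Fin r ⊕ Fin c)
    have h2 : (fromBlocks (1 : Matrix (Fin r) (Fin r) F) 0 0
        (0 : Matrix (Fin c) (Fin c) F)).submatrix Sum.inl Sum.inl = 1 := by
      ext i j
      simp
    rw [h2, rank_one, Fintype.card_fin] at h
    exact h

end NormalForm

section Map

variable {K L : Type*} [Field K] [Field L]

/-- the rank of a square matrix is invariant under field extension -/
theorem rank_map_eq (φ : K →+* L) {m : Type*} [Fintype m] [DecidableEq m] (Z : Matrix m m K) :
    (Z.map φ).rank = Z.rank := by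
  obtain ⟨V, U, e, hV, hU, h⟩ := exists_rank_normal_form Z
  have hVd : IsUnit V.det := (Matrix.isUnit_iff_isUnit_det _).1 hV
  have hUd : IsUnit U.det := (Matrix.isUnit_iff_isUnit_det _).1 hU
  have hVd' : IsUnit (V.map φ).det := by
    have : (V.map φ).det = φ V.det := by
      rw [RingHom.map_det]
      rfl
    rw [this]
    exact hVd.map φ
  have hUd' : IsUnit (U.map φ).det := by
    have : (U.map φ).det = φ U.det := by
      rw [RingHom.map_det]
      rfl
    rw [this]
    exact hUd.map φ
  have h1 : V.map φ * Z.map φ * U.map φ =
      (fromBlocks (1 : Matrix (Fin Z.rank) (Fin Z.rank) L) 0 0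
        (0 : Matrix (Fin (Fintype.card m - Z.rank)) (Fin (Fintype.card m - Z.rank)) L)).submatrix
        e e := by
    rw [← Matrix.map_mul, ← Matrix.map_mul, h]
    ext i j
    simp only [Matrix.map_apply, Matrix.submatrix_apply]
    rcases e i with a | a <;> rcases e j with b | b <;>
      simp [Matrix.one_apply, apply_ite φ]
  have h2 : (V.map φ * Z.map φ * U.map φ).rank = (Z.map φ).rank := by
    rw [rank_mul_eq_left_of_isUnit_det _ _ hUd', rank_mul_eq_right_of_isUnit_det _ _ hVd']
  rw [← h2, h1, rank_submatrix, rank_fromBlocks_one]

end Map

section Inverses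

variable {k : Type*} [Field k] {m n : Type*} [Fintype m] [Fintype n] [DecidableEq m]
  [DecidableEq n]

theorem rank_mul_of_inverses (A : Matrix m n k) (C : Matrix n m k) (A' : Matrix n m k)
    (C' : Matrix m n k) (hA : A' * A = 1) (hC : C * C' = 1) :
    (A * C).rank = Fintype.card n := by
  apply le_antisymm
  · exact (rank_mul_le_left A C).trans (rank_le_card_width A)
  · have h1 : A' * (A * C) * C' = 1 := by
      rw [← Matrix.mul_assoc, hA, Matrix.one_mul, hC]
    have h2 : (A' * (A * C) * C').rank ≤ (A * C).rank :=
      (rank_mul_le_left _ _).trans (rank_mul_le_right _ _)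
    rw [h1, rank_one] at h2
    exact h2

/-- a matrix of full row rank has an invertible maximal minor -/
theorem exists_cols_isUnit_det (A : Matrix m n k) (h : A.rank = Fintype.card m) :
    ∃ f : m → n, Function.Injective f ∧ IsUnit (A.submatrix id f).det := by
  obtain ⟨g, hg_mem, -, hg_li⟩ := Submodule.exists_fun_fin_finrank_span_eq k (Set.range A.col)
  have hN : Fintype.card m = Module.finrank k (Submodule.span k (Set.range A.col)) := by
    rw [← h, rank_eq_finrank_span_cols]
  let e : m ≃ Fin (Module.finrank k (Submodule.span k (Set.range A.col))) :=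
    Fintype.equivFinOfCardEq hN
  choose j hj using hg_mem
  refine ⟨fun i => j (e i), ?_, ?_⟩
  · intro i i' hii
    have h1 : g (e i) = g (e i') := by
      rw [← hj (e i), ← hj (e i')]
      exact congrArg A.col hii
    exact e.injective (hg_li.injective h1)
  · rw [← Matrix.isUnit_iff_isUnit_det, ← linearIndependent_cols_iff_isUnit]
    have h2 : (A.submatrix id fun i => j (e i)).col = g ∘ e := by
      funext i
      rw [Function.comp_apply, ← hj (e i)]
      rfl
    rw [h2]
    exact hg_li.comp e e.injective

end Inverses

end Cfsg.Agent.Helper18.Robinson
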