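import Mathlib
import Cfsg.Agent.Lib.Helper21.N9KDefs

/-!
# S3702 GROUP piece KJ0 (helper18): `J0` is a normal elementary abelian 3-subgroup of `K0`
-/

set_option autoImplicit false
set_option linter.unusedSectionVars false
set_option linter.unusedVariables false

namespace Cfsg.Agent.Helper21.N9

open Cfsg Cfsg.Agent.Helper16

theorem kj0_gen1 : ∀ q : Idx, Wk q * Wj 1 0 0 * (Wk q)⁻¹ ∈ J0 := by decide +kernel

theorem kj0_gen2 : ∀ q : Idx, Wk q * Wj 0 1 0 * (Wk q)⁻¹ ∈ J0 := by decide +kernel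

theorem kj0_gen3 : ∀ q : Idx, Wk q * Wj 0 0 1 * (Wk q)⁻¹ ∈ J0 := by decide +kernel

theorem kj0_decomp : ∀ i j k : Fin 3,
    Wj i j k = Wj 1 0 0 ^ (i : ℕ) * Wj 0 1 0 ^ (j : ℕ) * Wj 0 0 1 ^ (k : ℕ) := by decide +kernel

theorem kj0_pow : ∀ i j k : Fin 3, Wj i j k ^ 3 = 1 := by decide +kernel

/-- PIECE S3702-GR-KJ0 -/
theorem J0_normal : (J0 : Subgroup ↥K0).Normal := by
  constructor
  intro n hn g
  obtain ⟨q, rfl⟩ := Wk_surjective g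
  obtain ⟨i, j, k, rfl⟩ := (mem_J0_iff n).1 hn
  have h : Wk q * Wj i j k * (Wk q)⁻¹ = MulAut.conj (Wk q) (Wj i j k) := by
    rw [MulAut.conj_apply]
  rw [h, kj0_decomp i j k, map_mul, map_mul, map_pow, map_pow, map_pow]
  refine J0.mul_mem (J0.mul_mem (J0.pow_mem ?_ _) (J0.pow_mem ?_ _)) (J0.pow_mem ?_ _)
  · rw [MulAut.conj_apply]; exact kj0_gen1 q
  · rw [MulAut.conj_apply]; exact kj0_gen2 q
  · rw [MulAut.conj_apply]; exact kj0_gen3 q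

/-- PIECE S3702-GR-KJ0 -/
theorem J0_comm : ∀ x ∈ J0, ∀ y ∈ J0, x * y = y * x := by
  intro x hx y hy
  obtain ⟨i, j, k, rfl⟩ := (mem_J0_iff x).1 hx
  obtain ⟨i', j', k', rfl⟩ := (mem_J0_iff y).1 hy
  rw [Wj_mul, Wj_mul, add_comm i, add_comm j, add_comm k]

/-- PIECE S3702-GR-KJ0 -/
theorem J0_exp : ∀ x ∈ J0, x ^ 3 = 1 := by
  intro x hx
  obtain ⟨i, j, k, rfl⟩ := (mem_J0_iff x).1 hx
  exact kj0_pow i j k

end Cfsg.Agent.Helper21.N9
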