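import Mathlib
import Cfsg.Agent.Lib.Helper14.StGLDefs

/-! S2425 piece VS: the Moebius-type identity for the lattice of subspaces of a nonzero finite vector space. -/

set_option autoImplicit false

namespace Cfsg.Agent.Helper14.StGL

open Module

open scoped Classical

section VS

variable {K : Type*} [Field K] [Fintype K] {M : Type*} [AddCommGroup M] [Module K M] [Fintype M]

theorem stglvs_gam_succ (Q j : ℕ) : gam Q (j + 1) = - ((Q : ℤ) ^ j * gam Q j) := by
  unfold gam
  have h : (j + 1).choose 2 = j + j.choose 2 := by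
    rw [Nat.choose_succ_succ, Nat.choose_one_right]
  rw [h, pow_succ, pow_add]
  ring

/-- the number of vectors of a subspace -/
theorem stglvs_card_mem (N : Submodule K M) :
    (Finset.univ.filter (fun w : M => w ∈ N)).card = Fintype.card K ^ finrank K ↥N := by
  rw [← Module.card_eq_pow_finrank (K := K) (V := ↥N), Fintype.card_subtype]

/-- the number of vectors of `N` outside `H` -/
theorem stglvs_card_diff (N H : Submodule K M) :
    (Finset.univ.filter (fun w : M => w ∈ N ∧ w ∉ H)).card =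
      Fintype.card K ^ finrank K ↥N - Fintype.card K ^ finrank K ↥(N ⊓ H) := by
  have e : Finset.univ.filter (fun w : M => w ∈ N ∧ w ∉ H) =
      Finset.univ.filter (fun w : M => w ∈ N) \ Finset.univ.filter (fun w : M => w ∈ N ⊓ H) := by
    ext w
    simp only [Finset.mem_filter, Finset.mem_univ, true_and, Finset.mem_sdiff, Submodule.mem_inf,
      not_and]
    constructor
    · rintro ⟨h1, h2⟩; exact ⟨h1, fun _ => h2⟩
    · rintro ⟨h1, h2⟩; exact ⟨h1, h2 h1⟩
  rw [e, Finset.card_sdiff_of_subset, stglvs_card_mem, stglvs_card_mem]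
  intro w
  simp only [Finset.mem_filter, Finset.mem_univ, true_and, Submodule.mem_inf]
  exact fun h => h.1

/-- a multiple of `w ∉ H` lying in `H` vanishes -/
theorem stglvs_smul_mem (H : Submodule K M) (w : M) (hw : w ∉ H) (t : K) (h : t • w ∈ H) : t = 0 := by
  by_contra ht
  apply hw
  have := H.smul_mem t⁻¹ h
  rwa [smul_smul, inv_mul_cancel₀ ht, one_smul] at this

theorem stglvs_finrank_sup (N₀ H : Submodule K M) (h0 : N₀ ≤ H) (w : M) (hw : w ∉ H) :
    finrank K ↥(N₀ ⊔ K ∙ w) = finrank K ↥N₀ + 1 := by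
  have hw0 : w ≠ 0 := fun h => hw (h ▸ H.zero_mem)
  have h1 := Submodule.finrank_sup_add_finrank_inf_eq N₀ (K ∙ w)
  have h2 : N₀ ⊓ K ∙ w = ⊥ := by
    rw [eq_bot_iff]
    rintro x ⟨hx1, hx2⟩
    obtain ⟨t, rfl⟩ := Submodule.mem_span_singleton.mp hx2
    have ht := stglvs_smul_mem H w hw t (h0 hx1)
    rw [ht, zero_smul]
    exact Submodule.zero_mem _
  rw [h2, finrank_bot, add_zero, finrank_span_singleton hw0] at h1
  exact h1

/-- (L2) the subspace `N₀ ⊔ K w` meets `H` in `N₀` -/
theorem stglvs_sup_inf (N₀ H : Submodule K M) (h0 : N₀ ≤ H) (w : M) (hw : w ∉ H) :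
    (N₀ ⊔ K ∙ w) ⊓ H = N₀ := by
  apply le_antisymm
  · rintro y ⟨hy1, hy2⟩
    obtain ⟨n, hn, z, hz, rfl⟩ := Submodule.mem_sup.mp hy1
    obtain ⟨t, rfl⟩ := Submodule.mem_span_singleton.mp hz
    have h3 : t • w ∈ H := by
      have := H.sub_mem hy2 (h0 hn)
      rwa [add_sub_cancel_left] at this
    have ht := stglvs_smul_mem H w hw t h3
    rw [ht, zero_smul, add_zero]
    exact hn
  · exact le_inf le_sup_left h0

/-- (L1) a subspace `N ≤ U = H ⊔ K w` containing `w` is determined by `N ⊓ H` -/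
theorem stglvs_eq_sup (U H N : Submodule K M) (w : M) (hU : H ⊔ K ∙ w = U) (hNU : N ≤ U)
    (hwN : w ∈ N) : N = (N ⊓ H) ⊔ K ∙ w := by
  apply le_antisymm
  · intro y hy
    have hyU : y ∈ H ⊔ K ∙ w := by rw [hU]; exact hNU hy
    obtain ⟨h, hh, z, hz, rfl⟩ := Submodule.mem_sup.mp hyU
    obtain ⟨t, rfl⟩ := Submodule.mem_span_singleton.mp hz
    have h3 : h ∈ N := by
      have := N.sub_mem hy (N.smul_mem t hwN)
      rwa [add_sub_cancel_right] at this
    exact Submodule.add_mem_sup ⟨h3, hh⟩ (Submodule.mem_span_singleton.mpr ⟨t, rfl⟩)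
  · exact sup_le inf_le_left ((Submodule.span_singleton_le_iff_mem w N).mpr hwN)

/-- the relative form of the identity: the sum over the subspaces of a nonzero subspace `U` -/
theorem stglvs_rel (U : Submodule K M) (hU : U ≠ ⊥) :
    ∑ N ∈ Finset.univ.filter (fun N : Submodule K M => N ≤ U),
      gam (Fintype.card K) (finrank K ↥N) = 0 := by
  induction' hd : finrank K ↥U using Nat.strong_induction_on with d ih generalizing U
  set Q := Fintype.card K with hQ
  have hQ2 : 2 ≤ Q := Fintype.one_lt_card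
  -- a maximal proper subspace `H` of `U`
  obtain ⟨H, hH, hmax⟩ := Finset.exists_max_image
    (Finset.univ.filter (fun N : Submodule K M => N < U)) (fun N => finrank K ↥N)
    ⟨⊥, by simp [bot_lt_iff_ne_bot.mpr hU]⟩
  simp only [Finset.mem_filter, Finset.mem_univ, true_and] at hH hmax
  have hHU : H ≤ U := hH.le
  have hcov : ∀ w ∈ U, w ∉ H → H ⊔ K ∙ w = U := by
    intro w hwU hwH
    have hle : H ⊔ K ∙ w ≤ U := sup_le hHU ((Submodule.span_singleton_le_iff_mem w U).mpr hwU)
    by_contra hne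
    have hlt : H ⊔ K ∙ w < U := lt_of_le_of_ne hle hne
    have h1 := hmax _ hlt
    have h2 : H < H ⊔ K ∙ w := by
      apply lt_of_le_of_ne le_sup_left
      intro heq
      apply hwH
      rw [heq]
      exact Submodule.mem_sup_right (Submodule.mem_span_singleton_self w)
    have h3 := Submodule.finrank_lt_finrank_of_lt h2
    omega
  obtain ⟨w₀, hw₀U, hw₀H⟩ := SetLike.exists_of_lt hH
  have hdimU : finrank K ↥U = finrank K ↥H + 1 := by
    rw [← hcov w₀ hw₀U hw₀H]
    exact stglvs_finrank_sup H H le_rfl w₀ hw₀H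
  set e := finrank K ↥H with he
  -- the set of the subspaces not contained in `H` with a given intersection with `H`
  set B : Submodule K M → Finset (Submodule K M) := fun N₀ =>
    Finset.univ.filter (fun N : Submodule K M => (N ≤ U ∧ ¬ N ≤ H) ∧ N ⊓ H = N₀) with hB
  -- the members of `B N₀`
  have hBmem : ∀ N₀ N, N ∈ B N₀ → ∃ w, w ∈ N ∧ w ∈ U ∧ w ∉ H ∧ N = N₀ ⊔ K ∙ w := by
    intro N₀ N hN
    simp only [hB, Finset.mem_filter, Finset.mem_univ, true_and] at hN
    obtain ⟨⟨hNU, hNH⟩, hN0⟩ := hN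
    obtain ⟨w, hwN, hwH⟩ := SetLike.not_le_iff_exists.mp hNH
    refine ⟨w, hwN, hNU hwN, hwH, ?_⟩
    have := stglvs_eq_sup U H N w (hcov w (hNU hwN) hwH) hNU hwN
    rw [hN0] at this
    exact this
  have hBdim : ∀ N₀, N₀ ≤ H → ∀ N ∈ B N₀, finrank K ↥N = finrank K ↥N₀ + 1 := by
    intro N₀ h0 N hN
    obtain ⟨w, _, _, hwH, rfl⟩ := hBmem N₀ N hN
    exact stglvs_finrank_sup N₀ H h0 w hwH
  -- the count of `B N₀`
  have hcount : ∀ N₀, N₀ ≤ H → (B N₀).card * Q ^ finrank K ↥N₀ = Q ^ e := by
    intro N₀ h0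
    set j := finrank K ↥N₀ with hj
    set T := Finset.univ.filter (fun w : M => w ∈ U ∧ w ∉ H) with hT
    have hmaps : (T : Set M).MapsTo (fun w => N₀ ⊔ K ∙ w) (B N₀) := by
      intro w hw
      simp only [hT, Finset.coe_filter, Finset.mem_univ, true_and, Set.mem_setOf_eq] at hw
      simp only [hB, Finset.coe_filter, Finset.mem_univ, true_and, Set.mem_setOf_eq]
      refine ⟨⟨sup_le (h0.trans hHU) ((Submodule.span_singleton_le_iff_mem w U).mpr hw.1), ?_⟩,
        stglvs_sup_inf N₀ H h0 w hw.2⟩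
      intro hle
      exact hw.2 (hle (Submodule.mem_sup_right (Submodule.mem_span_singleton_self w)))
    have h1 := Finset.card_eq_sum_card_fiberwise hmaps
    have h2 : ∀ N ∈ B N₀, (T.filter (fun w => N₀ ⊔ K ∙ w = N)).card = Q ^ (j + 1) - Q ^ j := by
      intro N hN
      have hN' := hN
      simp only [hB, Finset.mem_filter, Finset.mem_univ, true_and] at hN'
      obtain ⟨⟨hNU, hNH⟩, hN0⟩ := hN'
      have e1 : T.filter (fun w => N₀ ⊔ K ∙ w = N) =
          Finset.univ.filter (fun w : M => w ∈ N ∧ w ∉ H) := by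
        ext w
        simp only [hT, Finset.mem_filter, Finset.mem_univ, true_and]
        constructor
        · rintro ⟨⟨_, hwH⟩, rfl⟩
          exact ⟨Submodule.mem_sup_right (Submodule.mem_span_singleton_self w), hwH⟩
        · rintro ⟨hwN, hwH⟩
          refine ⟨⟨hNU hwN, hwH⟩, ?_⟩
          have := stglvs_eq_sup U H N w (hcov w (hNU hwN) hwH) hNU hwN
          rw [hN0] at this
          exact this.symm
      rw [e1, stglvs_card_diff, hN0, hBdim N₀ h0 N hN]
    rw [Finset.sum_congr rfl h2, Finset.sum_const, smul_eq_mul] at h1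
    have h3 : T.card = Q ^ (e + 1) - Q ^ e := by
      rw [hT, stglvs_card_diff, inf_eq_right.mpr hHU, hdimU]
    rw [h3] at h1
    -- cancel `Q - 1`
    have h4 : Q ^ (e + 1) - Q ^ e = Q ^ e * (Q - 1) := by
      rw [pow_succ, Nat.mul_sub, mul_one]
    have h5 : Q ^ (j + 1) - Q ^ j = Q ^ j * (Q - 1) := by
      rw [pow_succ, Nat.mul_sub, mul_one]
    rw [h4, h5, ← mul_assoc] at h1
    have hpos : 0 < Q - 1 := by omega
    exact (Nat.eq_of_mul_eq_mul_right hpos h1).symm
  -- split the sum
  have hsplit : Finset.univ.filter (fun N : Submodule K M => N ≤ U) =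
      Finset.univ.filter (fun N : Submodule K M => N ≤ H) ∪
        Finset.univ.filter (fun N : Submodule K M => N ≤ U ∧ ¬ N ≤ H) := by
    ext N
    simp only [Finset.mem_filter, Finset.mem_univ, true_and, Finset.mem_union]
    constructor
    · intro h
      by_cases h' : N ≤ H
      · exact Or.inl h'
      · exact Or.inr ⟨h, h'⟩
    · rintro (h | h)
      · exact h.trans hHU
      · exact h.1
  have hdisj : Disjoint (Finset.univ.filter (fun N : Submodule K M => N ≤ H))
      (Finset.univ.filter (fun N : Submodule K M => N ≤ U ∧ ¬ N ≤ H)) := by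
    rw [Finset.disjoint_left]
    intro N h1 h2
    simp only [Finset.mem_filter, Finset.mem_univ, true_and] at h1 h2
    exact h2.2 h1
  rw [hsplit, Finset.sum_union hdisj]
  -- the second sum, fibrewise over `N ⊓ H`
  have hmaps2 : ((Finset.univ.filter (fun N : Submodule K M => N ≤ U ∧ ¬ N ≤ H) :
      Finset (Submodule K M)) : Set (Submodule K M)).MapsTo (fun N => N ⊓ H)
      (Finset.univ.filter (fun N : Submodule K M => N ≤ H)) := by
    intro N _
    simp only [Finset.coe_filter, Finset.mem_univ, true_and, Set.mem_setOf_eq]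
    exact inf_le_right
  rw [← Finset.sum_fiberwise_of_maps_to hmaps2]
  have hinner : ∀ N₀ ∈ Finset.univ.filter (fun N : Submodule K M => N ≤ H),
      ∑ N ∈ (Finset.univ.filter (fun N : Submodule K M => N ≤ U ∧ ¬ N ≤ H)).filter
        (fun N => N ⊓ H = N₀), gam Q (finrank K ↥N) =
      - ((Q : ℤ) ^ e * gam Q (finrank K ↥N₀)) := by
    intro N₀ hN₀
    simp only [Finset.mem_filter, Finset.mem_univ, true_and] at hN₀
    have hset : (Finset.univ.filter (fun N : Submodule K M => N ≤ U ∧ ¬ N ≤ H)).filter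
        (fun N => N ⊓ H = N₀) = B N₀ := by
      rw [hB, Finset.filter_filter]
    rw [hset]
    have hc : ∀ N ∈ B N₀, gam Q (finrank K ↥N) = gam Q (finrank K ↥N₀ + 1) := by
      intro N hN
      rw [hBdim N₀ hN₀ N hN]
    rw [Finset.sum_congr rfl hc, Finset.sum_const, nsmul_eq_mul, stglvs_gam_succ]
    have := hcount N₀ hN₀
    have hz : ((B N₀).card : ℤ) * (Q : ℤ) ^ finrank K ↥N₀ = (Q : ℤ) ^ e := by exact_mod_cast this
    rw [← hz]
    ring
  rw [Finset.sum_congr rfl hinner, Finset.sum_neg_distrib, ← Finset.mul_sum]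
  -- the sum over the subspaces of `H`
  by_cases hHbot : H = ⊥
  · have he0 : e = 0 := by rw [he, hHbot, finrank_bot]
    rw [he0, pow_zero, one_mul, add_neg_cancel]
  · have hlt : e < d := by omega
    have := ih e hlt H hHbot rfl
    rw [this, mul_zero, neg_zero, add_zero]

end VS

theorem vs_sum {K : Type*} [Field K] [Fintype K] {M : Type*} [AddCommGroup M] [Module K M] [Fintype M]
    [Nontrivial M] : ∑ N : Submodule K M, gam (Fintype.card K) (finrank K ↥N) = 0 := by
  have h := stglvs_rel (K := K) (M := M) ⊤ top_ne_bot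
  have e : Finset.univ.filter (fun N : Submodule K M => N ≤ ⊤) = Finset.univ := by
    ext N; simp
  rw [e] at h
  exact h

end Cfsg.Agent.Helper14.StGL
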