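import Mathlib
import Cfsg.Agent.Lib.Helper14.StGLDefs

/-! S2425 piece COUNT: the normalized factors of a product of powers of distinct monic irreducible polynomials. -/

set_option autoImplicit false

namespace Cfsg.Agent.Helper14.StGL

open Module Polynomial Cfsg.Agent.Helper13.SS

open scoped Classical MatrixGroups

/-- the multiset of the normalized factors of a product of powers of monic irreducible polynomials -/
theorem stglcount_factors {F : Type*} [Field F] (S : Finset F[X]) (hirr : ∀ f ∈ S, Irreducible f)
    (hmon : ∀ f ∈ S, f.Monic) (e : F[X] → ℕ) :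
    UniqueFactorizationMonoid.normalizedFactors (∏ f ∈ S, f ^ e f) =
      ∑ f ∈ S, e f • ({f} : Multiset F[X]) := by
  induction S using Finset.induction_on with
  | empty =>
    simp [UniqueFactorizationMonoid.normalizedFactors_one]
  | insert a S ha ih =>
    have hirr' : ∀ f ∈ S, Irreducible f := fun f hf => hirr f (Finset.mem_insert_of_mem hf)
    have hmon' : ∀ f ∈ S, f.Monic := fun f hf => hmon f (Finset.mem_insert_of_mem hf)
    have ha_irr := hirr a (Finset.mem_insert_self a S)
    have ha_mon := hmon a (Finset.mem_insert_self a S)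
    rw [Finset.prod_insert ha, Finset.sum_insert ha]
    have h1 : a ^ e a ≠ 0 := pow_ne_zero _ ha_irr.ne_zero
    have h2 : ∏ f ∈ S, f ^ e f ≠ 0 := by
      rw [Finset.prod_ne_zero_iff]
      intro f hf
      exact pow_ne_zero _ (hirr' f hf).ne_zero
    rw [UniqueFactorizationMonoid.normalizedFactors_mul h1 h2, ih hirr' hmon',
      UniqueFactorizationMonoid.normalizedFactors_pow,
      UniqueFactorizationMonoid.normalizedFactors_irreducible ha_irr, ha_mon.normalize_eq_self]

theorem count_normalizedFactors {F : Type*} [Field F] (S : Finset F[X]) (hirr : ∀ f ∈ S, Irreducible f)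
    (hmon : ∀ f ∈ S, f.Monic) (e : F[X] → ℕ) :
    (∀ f ∈ S, (UniqueFactorizationMonoid.normalizedFactors (∏ f ∈ S, f ^ e f)).count f = e f) ∧
      ∀ f, f ∈ UniqueFactorizationMonoid.normalizedFactors (∏ f ∈ S, f ^ e f) → f ∈ S := by
  rw [stglcount_factors S hirr hmon e]
  constructor
  · intro f hf
    rw [Multiset.count_sum']
    rw [Finset.sum_eq_single f]
    · rw [Multiset.count_nsmul, Multiset.count_singleton_self, mul_one]
    · intro g _ hgf
      rw [Multiset.count_nsmul, Multiset.count_singleton, if_neg (Ne.symm hgf), mul_zero]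
    · intro h; exact absurd hf h
  · intro f hf
    rw [Multiset.mem_sum] at hf
    obtain ⟨g, hg, hfg⟩ := hf
    have := Multiset.mem_of_mem_nsmul hfg
    rw [Multiset.mem_singleton] at this
    rw [this]; exact hg

end Cfsg.Agent.Helper14.StGL
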