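import Mathlib
import Cfsg.Agent.Lib.Helper14.TC27Defs
import Cfsg.Agent.Lib.Helper14.TC27Core

/-!
# S3701, piece CLS (helper18): the `G`-classes of `t1`, `t2` meet `T` in `{t1, t1⁻¹}`, `{t2, t2⁻¹}`; `t1`, `t2` are not conjugate
-/

set_option autoImplicit false
set_option linter.unusedSectionVars false
set_option linter.unusedVariables false

namespace Cfsg.Agent.Helper14.TC27

open Cfsg

universe u v

section Abs

variable {K : Type v} [Group K] {t1 t2 t3 a b : K}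

/-- `Rel.inj` with natural number exponents -/
theorem cls_inj_nat (r : Rel t1 t2 t3 a b) {i j k i' j' k' : ℕ}
    (hi : i < 3) (hj : j < 3) (hk : k < 3) (hi' : i' < 3) (hj' : j' < 3) (hk' : k' < 3)
    (he : t1 ^ i * t2 ^ j * t3 ^ k = t1 ^ i' * t2 ^ j' * t3 ^ k') : i = i' ∧ j = j' ∧ k = k' := by
  have h := r.inj ⟨i, hi⟩ ⟨j, hj⟩ ⟨k, hk⟩ ⟨i', hi'⟩ ⟨j', hj'⟩ ⟨k', hk'⟩ he
  simpa [Fin.ext_iff] using h

theorem cls_t1_ne_one (r : Rel t1 t2 t3 a b) : t1 ≠ 1 := by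
  intro h1
  have h := cls_inj_nat r (i := 1) (j := 0) (k := 0) (i' := 0) (j' := 0) (k' := 0)
    (by norm_num) (by norm_num) (by norm_num) (by norm_num) (by norm_num) (by norm_num) (by simp [h1])
  omega

theorem cls_t2_ne_one (r : Rel t1 t2 t3 a b) : t2 ≠ 1 := by
  intro h1
  have h := cls_inj_nat r (i := 0) (j := 1) (k := 0) (i' := 0) (j' := 0) (k' := 0)
    (by norm_num) (by norm_num) (by norm_num) (by norm_num) (by norm_num) (by norm_num) (by simp [h1])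
  omega

theorem cls_inv_eq_sq {t : K} (h : t ^ 3 = 1) : t⁻¹ = t ^ 2 := by
  rw [inv_eq_iff_mul_eq_one, ← pow_succ', h]

/-- the action of `a^e b^f` on `t1` -/
theorem cls_word_t1 (r : Rel t1 t2 t3 a b) (e f : Fin 2) :
    (a ^ (e : ℕ) * b ^ (f : ℕ)) * t1 * (a ^ (e : ℕ) * b ^ (f : ℕ))⁻¹ = t1 ∨
      (a ^ (e : ℕ) * b ^ (f : ℕ)) * t1 * (a ^ (e : ℕ) * b ^ (f : ℕ))⁻¹ = t1⁻¹ := by
  have hab : a * b * t1 * (a * b)⁻¹ = t1 := by
    have e1 : a * b * t1 * (a * b)⁻¹ = a * (b * t1 * b⁻¹) * a⁻¹ := by group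
    have e2 : a * t1⁻¹ * a⁻¹ = (a * t1 * a⁻¹)⁻¹ := by group
    rw [e1, r.b1, e2, r.a1, inv_inv]
  fin_cases e <;> fin_cases f
  · left; simp
  · right; simpa using r.b1
  · right; simpa using r.a1
  · left; simpa using hab

/-- the action of `a^e b^f` on `t2` -/
theorem cls_word_t2 (r : Rel t1 t2 t3 a b) (e f : Fin 2) :
    (a ^ (e : ℕ) * b ^ (f : ℕ)) * t2 * (a ^ (e : ℕ) * b ^ (f : ℕ))⁻¹ = t2 ∨
      (a ^ (e : ℕ) * b ^ (f : ℕ)) * t2 * (a ^ (e : ℕ) * b ^ (f : ℕ))⁻¹ = t2⁻¹ := by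
  have hab : a * b * t2 * (a * b)⁻¹ = t2⁻¹ := by
    have e1 : a * b * t2 * (a * b)⁻¹ = a * (b * t2 * b⁻¹) * a⁻¹ := by group
    rw [e1, r.b2, r.a2]
  fin_cases e <;> fin_cases f
  · left; simp
  · left; simpa using r.b2
  · right; simpa using r.a2
  · right; simpa using hab

end Abs

section Grp

variable {G : Type u} [Group G] [Finite G] {T : Sylow 3 G}

/-- conjugation by `s w` with `s ∈ T`, when `w x w⁻¹ ∈ T` -/
theorem cls_conj_word (h : Hyp T) {s w x : G} (hs : s ∈ (T : Subgroup G))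
    (hx : w * x * w⁻¹ ∈ (T : Subgroup G)) : (s * w) * x * (s * w)⁻¹ = w * x * w⁻¹ := by
  have hc := h.comm s hs _ hx
  calc s * w * x * (s * w)⁻¹ = s * (w * x * w⁻¹) * s⁻¹ := by group
    _ = (w * x * w⁻¹) * s * s⁻¹ := by rw [hc]
    _ = w * x * w⁻¹ := by group

/-- PIECE CLS: the `G`-class of `t1` meets `T` in `{t1, t1⁻¹}` -/
theorem conj_t1 (h : Hyp T) (c : Cfg T) {g : G} (hg : g * c.t1 * g⁻¹ ∈ (T : Subgroup G)) :
    g * c.t1 * g⁻¹ = c.t1 ∨ g * c.t1 * g⁻¹ = c.t1⁻¹ := by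
  have hN := mem_normalizer_of_conj h c.ht1 (cls_t1_ne_one c.rel) hg
  obtain ⟨i, j, k, e, f, rfl⟩ := c.nrm g hN
  have hs : c.t1 ^ (i : ℕ) * c.t2 ^ (j : ℕ) * c.t3 ^ (k : ℕ) ∈ (T : Subgroup G) :=
    mul_mem (mul_mem (pow_mem c.ht1 _) (pow_mem c.ht2 _)) (pow_mem c.ht3 _)
  have hw := cls_word_t1 c.rel e f
  have hwT : (c.a ^ (e : ℕ) * c.b ^ (f : ℕ)) * c.t1 * (c.a ^ (e : ℕ) * c.b ^ (f : ℕ))⁻¹ ∈ (T : Subgroup G) := by
    rcases hw with hw | hw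
    · rw [hw]; exact c.ht1
    · rw [hw]; exact inv_mem c.ht1
  have key := cls_conj_word h hs hwT
  rw [mul_assoc (c.t1 ^ (i : ℕ) * c.t2 ^ (j : ℕ) * c.t3 ^ (k : ℕ)), key]
  exact hw

/-- PIECE CLS -/
theorem conj_t2 (h : Hyp T) (c : Cfg T) {g : G} (hg : g * c.t2 * g⁻¹ ∈ (T : Subgroup G)) :
    g * c.t2 * g⁻¹ = c.t2 ∨ g * c.t2 * g⁻¹ = c.t2⁻¹ := by
  have hN := mem_normalizer_of_conj h c.ht2 (cls_t2_ne_one c.rel) hg
  obtain ⟨i, j, k, e, f, rfl⟩ := c.nrm g hN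
  have hs : c.t1 ^ (i : ℕ) * c.t2 ^ (j : ℕ) * c.t3 ^ (k : ℕ) ∈ (T : Subgroup G) :=
    mul_mem (mul_mem (pow_mem c.ht1 _) (pow_mem c.ht2 _)) (pow_mem c.ht3 _)
  have hw := cls_word_t2 c.rel e f
  have hwT : (c.a ^ (e : ℕ) * c.b ^ (f : ℕ)) * c.t2 * (c.a ^ (e : ℕ) * c.b ^ (f : ℕ))⁻¹ ∈ (T : Subgroup G) := by
    rcases hw with hw | hw
    · rw [hw]; exact c.ht2
    · rw [hw]; exact inv_mem c.ht2
  have key := cls_conj_word h hs hwT
  rw [mul_assoc (c.t1 ^ (i : ℕ) * c.t2 ^ (j : ℕ) * c.t3 ^ (k : ℕ)), key]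
  exact hw

/-- PIECE CLS: `t1`, `t2` are not conjugate in `G` -/
theorem not_isConj_t1_t2 (h : Hyp T) (c : Cfg T) : ¬ IsConj c.t1 c.t2 := by
  intro hconj
  obtain ⟨g, hg⟩ := isConj_iff.mp hconj
  have hgT : g * c.t1 * g⁻¹ ∈ (T : Subgroup G) := by rw [hg]; exact c.ht2
  rcases conj_t1 h c hgT with h1 | h1
  · rw [hg] at h1
    have h2 := cls_inj_nat c.rel (i := 0) (j := 1) (k := 0) (i' := 1) (j' := 0) (k' := 0)
      (by norm_num) (by norm_num) (by norm_num) (by norm_num) (by norm_num) (by norm_num) (by simp [h1])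
    omega
  · rw [hg, cls_inv_eq_sq c.rel.o1] at h1
    have h2 := cls_inj_nat c.rel (i := 0) (j := 1) (k := 0) (i' := 2) (j' := 0) (k' := 0)
      (by norm_num) (by norm_num) (by norm_num) (by norm_num) (by norm_num) (by norm_num) (by simp [h1])
    omega

end Grp

end Cfsg.Agent.Helper14.TC27
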