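import Mathlib
import Cfsg.Agent.Lib.Helper26.S3805CCCore
import Cfsg.Agent.Lib.Helper14.TC27Defs
import Cfsg.Agent.Lib.Helper14.TC27Core
import Cfsg.Agent.Lib.Helper18.TC27CLS

/-!
# S3701, piece COUNT (helper18): the class multiplication constants `a_{t1 t2 z}` for `z ∈ T^#`
-/

set_option autoImplicit false
set_option linter.unusedSectionVars false
set_option linter.unusedVariables false

namespace Cfsg.Agent.Helper14.TC27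

open Cfsg

universe u v

section Grp

variable {G : Type u} [Group G] [Finite G] {T : Sylow 3 G}

theorem count_orderOf_conj {t : G} (h3 : t ^ 3 = 1) (h1 : t ≠ 1) (g : G) : orderOf (g * t * g⁻¹) = 3 := by
  have : Fact (Nat.Prime 3) := ⟨Nat.prime_three⟩
  apply orderOf_eq_prime
  · rw [conj_pow, h3]; group
  · intro hh
    apply h1
    have e : t = g⁻¹ * (g * t * g⁻¹) * g := by group
    rw [e, hh]; group

/-- every solution pair consists of elements `t1^(i'+1)`, `t2^(j'+1)` -/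
theorem count_solution (h : Hyp T) (c : Cfg T)
    (hc1 : ∀ g : G, g * c.t1 * g⁻¹ ∈ (T : Subgroup G) → g * c.t1 * g⁻¹ = c.t1 ∨ g * c.t1 * g⁻¹ = c.t1⁻¹)
    (hc2 : ∀ g : G, g * c.t2 * g⁻¹ ∈ (T : Subgroup G) → g * c.t2 * g⁻¹ = c.t2 ∨ g * c.t2 * g⁻¹ = c.t2⁻¹)
    (hnc : ¬ IsConj c.t1 c.t2) {z : G} (hz : z ∈ (T : Subgroup G)) (hz1 : z ≠ 1) (p : G × G)
    (hp : (p.1 * c.t1 * p.1⁻¹) * (p.2 * c.t2 * p.2⁻¹) = z) :
    ∃ i j : Fin 2, p.1 * c.t1 * p.1⁻¹ = c.t1 ^ ((i : ℕ) + 1) ∧ p.2 * c.t2 * p.2⁻¹ = c.t2 ^ ((j : ℕ) + 1) := by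
  have hx := count_orderOf_conj c.rel.o1 (cls_t1_ne_one c.rel) p.1
  have hy := count_orderOf_conj c.rel.o2 (cls_t2_ne_one c.rel) p.2
  have hnc' : ¬ IsConj (p.1 * c.t1 * p.1⁻¹) (p.2 * c.t2 * p.2⁻¹) := by
    intro hh
    apply hnc
    have h1 : IsConj c.t1 (p.1 * c.t1 * p.1⁻¹) := isConj_iff.mpr ⟨p.1, rfl⟩
    have h2 : IsConj c.t2 (p.2 * c.t2 * p.2⁻¹) := isConj_iff.mpr ⟨p.2, rfl⟩
    exact (h1.trans hh).trans h2.symm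
  have hm := mem_of_mul_mem h hx hy (by rw [hp]; exact hz) (by rw [hp]; exact hz1) hnc'
  have e1 : ∃ i : Fin 2, p.1 * c.t1 * p.1⁻¹ = c.t1 ^ ((i : ℕ) + 1) := by
    rcases hc1 p.1 hm.1 with h1 | h1
    · exact ⟨0, by rw [h1]; simp⟩
    · exact ⟨1, by rw [h1, cls_inv_eq_sq c.rel.o1]; simp⟩
  have e2 : ∃ j : Fin 2, p.2 * c.t2 * p.2⁻¹ = c.t2 ^ ((j : ℕ) + 1) := by
    rcases hc2 p.2 hm.2 with h1 | h1
    · exact ⟨0, by rw [h1]; simp⟩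
    · exact ⟨1, by rw [h1, cls_inv_eq_sq c.rel.o2]; simp⟩
  obtain ⟨i, hi⟩ := e1
  obtain ⟨j, hj⟩ := e2
  exact ⟨i, j, hi, hj⟩

theorem count_z_mem (c : Cfg T) (i j : ℕ) : c.t1 ^ i * c.t2 ^ j ∈ (T : Subgroup G) :=
  mul_mem (pow_mem c.ht1 _) (pow_mem c.ht2 _)

theorem count_z_ne_one (c : Cfg T) (i j : Fin 2) : c.t1 ^ ((i : ℕ) + 1) * c.t2 ^ ((j : ℕ) + 1) ≠ 1 := by
  intro h1
  have hi : (i : ℕ) + 1 < 3 := by omega
  have hj : (j : ℕ) + 1 < 3 := by omega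
  have h2 := cls_inj_nat c.rel (i := (i : ℕ) + 1) (j := (j : ℕ) + 1) (k := 0) (i' := 0) (j' := 0) (k' := 0)
    hi hj (by norm_num) (by norm_num) (by norm_num) (by norm_num) (by simp [h1])
  omega

/-- PIECE COUNT: the class constants `a_{t1 t2 z}` for `z = t1^{±1} t2^{±1}` -/
theorem count_pos (h : Hyp T) (c : Cfg T)
    (hc1 : ∀ g : G, g * c.t1 * g⁻¹ ∈ (T : Subgroup G) → g * c.t1 * g⁻¹ = c.t1 ∨ g * c.t1 * g⁻¹ = c.t1⁻¹)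
    (hc2 : ∀ g : G, g * c.t2 * g⁻¹ ∈ (T : Subgroup G) → g * c.t2 * g⁻¹ = c.t2 ∨ g * c.t2 * g⁻¹ = c.t2⁻¹)
    (hnc : ¬ IsConj c.t1 c.t2) (i j : Fin 2) :
    Nat.card {p : G × G // (p.1 * c.t1 * p.1⁻¹) * (p.2 * c.t2 * p.2⁻¹) =
        c.t1 ^ ((i : ℕ) + 1) * c.t2 ^ ((j : ℕ) + 1)} =
      Nat.card (Subgroup.centralizer ({c.t1} : Set G)) * Nat.card (Subgroup.centralizer ({c.t2} : Set G)) := by
  have hx0 : ∃ g : G, g * c.t1 * g⁻¹ = c.t1 ^ ((i : ℕ) + 1) := by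
    fin_cases i
    · exact ⟨1, by simp⟩
    · refine ⟨c.a, ?_⟩
      rw [c.rel.a1, cls_inv_eq_sq c.rel.o1]
  have hy0 : ∃ g : G, g * c.t2 * g⁻¹ = c.t2 ^ ((j : ℕ) + 1) := by
    fin_cases j
    · exact ⟨1, by simp⟩
    · refine ⟨c.a, ?_⟩
      rw [c.rel.a2, cls_inv_eq_sq c.rel.o2]
  apply Cfsg.Agent.Helper8.S3805.CC.card_pairs_eq c.t1 c.t2 _ _ _ hx0 hy0
  intro p
  constructor
  · intro hp
    obtain ⟨i', j', hi', hj'⟩ := count_solution h c hc1 hc2 hnc (count_z_mem c _ _) (count_z_ne_one c i j) p hp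
    rw [hi', hj'] at hp
    have hi3 : (i : ℕ) + 1 < 3 := by omega
    have hj3 : (j : ℕ) + 1 < 3 := by omega
    have hi3' : (i' : ℕ) + 1 < 3 := by omega
    have hj3' : (j' : ℕ) + 1 < 3 := by omega
    have h2 := cls_inj_nat c.rel (i := (i' : ℕ) + 1) (j := (j' : ℕ) + 1) (k := 0)
      (i' := (i : ℕ) + 1) (j' := (j : ℕ) + 1) (k' := 0)
      hi3' hj3' (by norm_num) hi3 hj3 (by norm_num) (by simpa using hp)
    rw [hi', hj', h2.1, h2.2.1]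
    exact ⟨rfl, rfl⟩
  · rintro ⟨h1, h2⟩
    rw [h1, h2]

/-- PIECE COUNT: the class constants `a_{t1 t2 z}` vanish for the other `z ∈ T^#` -/
theorem count_zero (h : Hyp T) (c : Cfg T)
    (hc1 : ∀ g : G, g * c.t1 * g⁻¹ ∈ (T : Subgroup G) → g * c.t1 * g⁻¹ = c.t1 ∨ g * c.t1 * g⁻¹ = c.t1⁻¹)
    (hc2 : ∀ g : G, g * c.t2 * g⁻¹ ∈ (T : Subgroup G) → g * c.t2 * g⁻¹ = c.t2 ∨ g * c.t2 * g⁻¹ = c.t2⁻¹)
    (hnc : ¬ IsConj c.t1 c.t2) {z : G} (hz : z ∈ (T : Subgroup G)) (hz1 : z ≠ 1)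
    (hne : ∀ i j : Fin 2, z ≠ c.t1 ^ ((i : ℕ) + 1) * c.t2 ^ ((j : ℕ) + 1)) :
    Nat.card {p : G × G // (p.1 * c.t1 * p.1⁻¹) * (p.2 * c.t2 * p.2⁻¹) = z} = 0 := by
  apply Cfsg.Agent.Helper8.S3805.CC.card_pairs_zero
  intro p hp
  obtain ⟨i', j', hi', hj'⟩ := count_solution h c hc1 hc2 hnc hz hz1 p hp
  apply hne i' j'
  rw [← hp, hi', hj']

end Grp

end Cfsg.Agent.Helper14.TC27
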