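import Mathlib
import Cfsg.Prelude.Def_Blocks
import Cfsg.Agent.Lib.Helper18.BrauerQE

/-!
# The local version of Brauer's induction theorem (helper18's library)

For a fixed prime `p`, some integer `m` prime to `p` times the principal character is an integer
combination of characters induced from linear characters of `p`-elementary subgroups.
-/

set_option autoImplicit false

namespace Cfsg.Agent.Helper18

open Cfsg Cfsg.Agent.Helper24 Cfsg.Agent.Helper5

universe u

section LocalBanaschewski

/-- The local version of Banaschewski's lemma: if a ring `R` of functions on a finite set takes, at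
each point, some integer value not divisible by `p`, then some constant integer function prime to
`p` lies in `R`. -/
theorem const_mem_of_forall_not_dvd {S : Type*} [Fintype S] {p : ℕ} (hp : p.Prime)
    (R : AddSubgroup (S → ℂ)) (hmul : ∀ f ∈ R, ∀ g ∈ R, f * g ∈ R)
    (hx : ∀ x : S, ∃ f ∈ R, ∃ z : ℤ, f x = z ∧ ¬ (p : ℤ) ∣ z) :
    ∃ m : ℤ, ¬ (p : ℤ) ∣ m ∧ (fun _ : S => (m : ℂ)) ∈ R := by
  classical
  have hpZ : Prime (p : ℤ) := Nat.prime_iff_prime_int.mp hp
  choose f hfR a hfa hpa using hx
  obtain ⟨m, hm⟩ : ∃ m : ℤ, m = ∏ x, a x := ⟨_, rfl⟩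
  have hpm : ¬ (p : ℤ) ∣ m := by
    rw [hm, Prime.dvd_finset_prod_iff hpZ]
    rintro ⟨x, -, hxd⟩
    exact hpa x hxd
  obtain ⟨M, hM⟩ : ∃ M : S → ℂ, M = fun _ => (m : ℂ) := ⟨_, rfl⟩
  obtain ⟨g, hg⟩ : ∃ g : S → S → ℂ, g = fun x => (∏ y ∈ Finset.univ.erase x, a y) • f x :=
    ⟨_, rfl⟩
  have hgR : ∀ x, g x ∈ R := by
    intro x
    rw [hg]
    exact R.zsmul_mem (hfR x) _
  have hgx : ∀ x, g x x = (m : ℂ) := by
    intro x
    rw [hg]
    simp only [Pi.smul_apply, zsmul_eq_mul, hfa x]
    rw [hm, ← Finset.prod_erase_mul _ _ (Finset.mem_univ x)]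
    push_cast
    rfl
  have hMmul : ∀ D ∈ R, M * D ∈ R := by
    intro D hD
    have : M * D = m • D := by
      funext y
      rw [hM]
      simp
    rw [this]
    exact R.zsmul_mem hD _
  have hMpow : ∀ (k : ℕ), ∀ D ∈ R, M ^ k * D ∈ R := by
    intro k
    induction k with
    | zero =>
      intro D hD
      rwa [pow_zero, one_mul]
    | succ k ih =>
      intro D hD
      rw [pow_succ, mul_assoc]
      exact ih _ (hMmul D hD)
  have h2 : ∀ T : Finset S, M ^ T.card - ∏ x ∈ T, (M - g x) ∈ R := by
    intro T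
    induction T using Finset.induction_on with
    | empty =>
      rw [Finset.prod_empty, Finset.card_empty, pow_zero, sub_self]
      exact R.zero_mem
    | insert b T hb ih =>
      rw [Finset.prod_insert hb, Finset.card_insert_of_notMem hb]
      have h3 : M ^ (T.card + 1) - (M - g b) * ∏ x ∈ T, (M - g x) =
          M * (M ^ T.card - ∏ x ∈ T, (M - g x)) + M ^ T.card * g b -
            g b * (M ^ T.card - ∏ x ∈ T, (M - g x)) := by
        ring
      rw [h3]
      exact R.sub_mem (R.add_mem (hMmul _ ih) (hMpow _ _ (hgR b))) (hmul _ (hgR b) _ ih)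
  have h4 : ∏ x ∈ (Finset.univ : Finset S), (M - g x) = 0 := by
    funext y
    rw [Finset.prod_apply]
    apply Finset.prod_eq_zero (Finset.mem_univ y)
    rw [Pi.sub_apply, hgx y, hM]
    simp
  have h5 := h2 Finset.univ
  rw [h4, sub_zero] at h5
  refine ⟨m ^ (Finset.univ : Finset S).card, ?_, ?_⟩
  · intro h
    exact hpm (hpZ.dvd_of_dvd_pow h)
  · have : (fun _ : S => ((m ^ (Finset.univ : Finset S).card : ℤ) : ℂ)) =
        M ^ (Finset.univ : Finset S).card := by
      funext y
      rw [hM]
      simp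
    rw [this]
    exact h5

end LocalBanaschewski

section Span

/-- The integer span of the functions induced from homomorphisms `E →* ℂˣ` of `p`-elementary
subgroups `E`, for a fixed `p`. -/
def brauerSpanP (p : ℕ) (H : Type u) [Group H] [Fintype H] : AddSubgroup (H → ℂ) :=
  AddSubgroup.closure {f | ∃ (E : Subgroup H) (lam : E →* ℂˣ),
    IsElementary p E ∧ f = indFun E (fun e => ((lam e : ℂˣ) : ℂ))}

variable {H : Type u} [Group H] [Fintype H] {p : ℕ}

theorem indFun_hom_mem_brauerSpanP (E : Subgroup H) (lam : E →* ℂˣ)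
    (hE : IsElementary p E) : indFun E (fun e => ((lam e : ℂˣ) : ℂ)) ∈ brauerSpanP p H :=
  AddSubgroup.subset_closure ⟨E, lam, hE, rfl⟩

/-- Induction maps the span for a subgroup into the span for the group. -/
theorem indFun_mem_brauerSpanP (K : Subgroup H) [Fintype K] {f : K → ℂ}
    (hf : f ∈ brauerSpanP p K) : indFun K f ∈ brauerSpanP p H := by
  unfold brauerSpanP at hf
  induction hf using AddSubgroup.closure_induction with
  | mem f hf =>
    obtain ⟨E, lam, hE, rfl⟩ := hf
    rw [indFun_indFun_map]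
    let τ : (E.map K.subtype) →* E :=
      { toFun := fun y => ⟨⟨y.1, Subgroup.map_subtype_le E y.2⟩, by
          obtain ⟨e, he, hey⟩ := Subgroup.mem_map.mp y.2
          have : (⟨y.1, Subgroup.map_subtype_le E y.2⟩ : K) = e := Subtype.ext hey.symm
          rw [this]
          exact he⟩
        map_one' := rfl
        map_mul' := fun a b => rfl }
    have hE' : IsElementary p (E.map K.subtype) :=
      isElementary_of_mulEquiv (Subgroup.equivMapOfInjective E K.subtype K.subtype_injective) hE
    exact indFun_hom_mem_brauerSpanP (E.map K.subtype) (lam.comp τ) hE'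
  | zero =>
    rw [indFun_zero']
    exact (brauerSpanP p H).zero_mem
  | add a b _ _ ha hb =>
    rw [indFun_add]
    exact (brauerSpanP p H).add_mem ha hb
  | neg a _ ha =>
    rw [indFun_neg']
    exact (brauerSpanP p H).neg_mem ha

/-- A character of a `p`-elementary group lies in the span. -/
theorem isCharacter_mem_brauerSpanP_of_isElementary (hp : p.Prime)
    (hE : IsElementary p H) {φ : H → ℂ} (hφ : IsCharacter H φ) : φ ∈ brauerSpanP p H := by
  classical
  letI : Fintype (IrrCharacter H) := irrFintype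
  haveI : Group.IsNilpotent H := isNilpotent_of_isElementary hp hE
  obtain ⟨hm, hdec⟩ := isCharacter_decomp hφ
  rw [hdec]
  apply AddSubgroup.sum_mem
  intro μ _
  obtain ⟨n, hn⟩ := hm μ
  rw [hn]
  have h1 : ((n : ℂ) • (μ : H → ℂ)) = n • (μ : H → ℂ) := by
    funext g
    simp
  rw [h1]
  apply AddSubgroup.nsmul_mem
  obtain ⟨F, ν, hν⟩ := Cfsg.Agent.S0176.result (μ : H → ℂ) μ.2
  rw [hν]
  exact indFun_hom_mem_brauerSpanP F ν (isElementary_subgroup hp hE F)

/-- The span is an ideal in the ring of characters. -/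
theorem mul_mem_brauerSpanP (hp : p.Prime) {f : H → ℂ} (hf : f ∈ brauerSpanP p H) {ψ : H → ℂ}
    (hψ : IsCharacter H ψ) : f * ψ ∈ brauerSpanP p H := by
  unfold brauerSpanP at hf
  induction hf using AddSubgroup.closure_induction with
  | mem f hf =>
    obtain ⟨E, lam, hE, rfl⟩ := hf
    rw [← indFun_mul_restrict E _ (isClassFunction_of_isCharacter hψ)]
    haveI : Fintype E := Fintype.ofFinite E
    apply indFun_mem_brauerSpanP
    apply isCharacter_mem_brauerSpanP_of_isElementary hp hE
    exact isCharacter_mul (isCharacter_of_isIrrCharacter (isIrrCharacter_of_monoidHom lam))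
      (isCharacter_restrict E hψ)
  | zero =>
    rw [zero_mul]
    exact (brauerSpanP p H).zero_mem
  | add a b _ _ ha hb =>
    rw [add_mul]
    exact (brauerSpanP p H).add_mem ha hb
  | neg a _ ha =>
    rw [neg_mul]
    exact (brauerSpanP p H).neg_mem ha

theorem mul_genChar_mem_brauerSpanP (hp : p.Prime) {f : H → ℂ} (hf : f ∈ brauerSpanP p H)
    {ψ : H → ℂ} (hψ : IsGeneralizedCharacter H ψ) : f * ψ ∈ brauerSpanP p H := by
  obtain ⟨a, b, ha, hb, rfl⟩ := hψ
  rw [mul_sub]
  exact (brauerSpanP p H).sub_mem (mul_mem_brauerSpanP hp hf ha) (mul_mem_brauerSpanP hp hf hb)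

/-- If the principal character lies in the span, so does every generalized character. -/
theorem genChar_mem_brauerSpanP (hp : p.Prime) (h1 : (fun _ : H => (1 : ℂ)) ∈ brauerSpanP p H)
    {ψ : H → ℂ} (hψ : IsGeneralizedCharacter H ψ) : ψ ∈ brauerSpanP p H := by
  have := mul_genChar_mem_brauerSpanP hp h1 hψ
  have h2 : (fun _ : H => (1 : ℂ)) * ψ = ψ := by
    funext g
    simp
  rwa [h2] at this

/-- Conversion to the list form. -/
theorem exists_list_of_mem_brauerSpanP {f : H → ℂ} (hf : f ∈ brauerSpanP p H) :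
    ∃ l : List ((E : Subgroup H) × ((E →* ℂˣ) × ℤ)),
      (∀ t ∈ l, Cfsg.IsElementary p t.1) ∧
        f = (l.map fun t => (t.2.2 : ℂ) • Cfsg.indFun t.1 (fun e => (t.2.1 e : ℂ))).sum := by
  unfold brauerSpanP at hf
  induction hf using AddSubgroup.closure_induction with
  | mem f hf =>
    obtain ⟨E, lam, hE, rfl⟩ := hf
    refine ⟨[⟨E, lam, 1⟩], ?_, ?_⟩
    · intro t ht
      rw [List.mem_singleton] at ht
      rw [ht]
      exact hE
    · simp
  | zero => exact ⟨[], by simp, by simp⟩
  | add a b _ _ ha hb =>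
    obtain ⟨l₁, h₁, rfl⟩ := ha
    obtain ⟨l₂, h₂, rfl⟩ := hb
    refine ⟨l₁ ++ l₂, ?_, ?_⟩
    · intro t ht
      rcases List.mem_append.mp ht with h | h
      · exact h₁ t h
      · exact h₂ t h
    · rw [List.map_append, List.sum_append]
  | neg a _ ha =>
    obtain ⟨l, hl, rfl⟩ := ha
    refine ⟨l.map (fun t => ⟨t.1, t.2.1, -t.2.2⟩), ?_, ?_⟩
    · intro t ht
      obtain ⟨s, hs, rfl⟩ := List.mem_map.mp ht
      exact hl s hs
    · rw [List.map_map]
      have key : ∀ l' : List ((E : Subgroup H) × ((E →* ℂˣ) × ℤ)),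
          -(l'.map fun t => (t.2.2 : ℂ) • Cfsg.indFun t.1 (fun e => (t.2.1 e : ℂ))).sum =
          (l'.map ((fun t : (E : Subgroup H) × ((E →* ℂˣ) × ℤ) =>
            (t.2.2 : ℂ) • Cfsg.indFun t.1 (fun e => (t.2.1 e : ℂ))) ∘
              fun t => ⟨t.1, t.2.1, -t.2.2⟩)).sum := by
        intro l'
        induction l' with
        | nil => simp
        | cons t l' ih =>
          rw [List.map_cons, List.sum_cons, neg_add, ih, List.map_cons, List.sum_cons]
          congr 1
          simp
      exact key l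

end Span

section Main

variable {H : Type u} [Group H] [Fintype H]

variable {p : ℕ} [hp : Fact p.Prime] (c : H) (P : Sylow p H)

local notation "𝒞" => Subgroup.zpowers c
local notation "𝒵" => (Subgroup.zpowers c ⊓ Subgroup.centralizer ((P : Subgroup H) : Set H))

/-- Every nonprincipal irreducible constituent of the character induced from the principal
character of `E` lies in the local span, assuming the statement for proper subgroups. -/
theorem irr_mem_brauerSpanP [hcn : (𝒞).Normal] (hcp : (orderOf c).Coprime p)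
    (hCP : 𝒞 ⊔ (P : Subgroup H) = ⊤)
    (ih : ∀ (T : Subgroup H) [Fintype T], T ≠ ⊤ → (fun _ : T => (1 : ℂ)) ∈ brauerSpanP p T)
    (E : Subgroup H) [Fintype E] (hE : E = 𝒵 ⊔ (P : Subgroup H))
    {χ : H → ℂ} (hχ : IsIrrCharacter H χ) (hne : χ ≠ fun _ => (1 : ℂ))
    (hcon : classInner (fun _ : E => (1 : ℂ)) (fun e : E => χ e) ≠ 0) :
    χ ∈ brauerSpanP p H := by
  classical
  haveI : Fintype 𝒞 := Fintype.ofFinite _
  have hχC : IsCharacter 𝒞 (fun n : 𝒞 => χ n) :=
    isCharacter_restrict 𝒞 (isCharacter_of_isIrrCharacter hχ)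
  have hχC0 : (fun n : 𝒞 => χ n) ≠ 0 := by
    intro h
    have h1 := congrFun h 1
    have h2 : χ 1 = 0 := h1
    letI : Fintype (IrrCharacter H) := irrFintype
    rw [irr_one_eq_charDegree hχ] at h2
    have := charDegree_pos hχ
    have h3 : charDegree χ = 0 := by exact_mod_cast h2
    omega
  obtain ⟨lam, hlam, hcon'⟩ := exists_constituent hχC hχC0
  by_cases hT : inertia 𝒞 lam = ⊤
  · exfalso
    apply false_of_invariant c P hcp hCP E hE hχ hne hcon hlam hcon'
    intro g
    rw [← mem_inertia, hT]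
    exact Subgroup.mem_top g
  · haveI : Fintype (inertia 𝒞 lam) := Fintype.ofFinite _
    obtain ⟨ψ, hψ, hind, -⟩ := clifford_correspondence 𝒞 hχ hlam hcon'
    rw [← hind]
    apply indFun_mem_brauerSpanP
    exact genChar_mem_brauerSpanP hp.out (ih _ hT)
      (isGenChar_of_isCharacter (isCharacter_of_isIrrCharacter hψ))

end Main

section Final

/-- The local form of Isaacs 8.10: the principal character of a `p`-quasi-elementary group lies in
the span of the characters induced from linear characters of `p`-elementary subgroups. -/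
theorem one_mem_brauerSpanP_of_isQuasiElem (n : ℕ) :
    ∀ (H : Type u) [Group H] [Fintype H] (p : ℕ), p.Prime → IsQuasiElem p H →
      Nat.card H = n → (fun _ : H => (1 : ℂ)) ∈ brauerSpanP p H := by
  classical
  induction n using Nat.strong_induction_on with
  | _ n ih =>
    intro H _ _ p hp hQE hn
    haveI : Fact p.Prime := ⟨hp⟩
    obtain ⟨c, hcn, hcp, k, hk⟩ := id hQE
    haveI := hcn
    obtain ⟨P⟩ : Nonempty (Sylow p H) := inferInstance
    have hCP : Subgroup.zpowers c ⊔ (P : Subgroup H) = ⊤ := sup_sylow_eq_top _ hk P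
    have hCcomm : ∀ a ∈ Subgroup.zpowers c, ∀ b ∈ Subgroup.zpowers c, a * b = b * a := by
      intro a ha b hb
      have := mul_comm' (⟨a, ha⟩ : Subgroup.zpowers c) ⟨b, hb⟩
      exact congrArg Subtype.val this
    have hZcen : Subgroup.zpowers c ⊓ Subgroup.centralizer ((P : Subgroup H) : Set H) ≤
        Subgroup.center H := inf_centralizer_le_center _ (P : Subgroup H) hCcomm hCP
    haveI hZn : (Subgroup.zpowers c ⊓ Subgroup.centralizer ((P : Subgroup H) : Set H)).Normal :=
      normal_of_le_center hZcen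
    obtain ⟨E, hE⟩ : ∃ E : Subgroup H, E =
        (Subgroup.zpowers c ⊓ Subgroup.centralizer ((P : Subgroup H) : Set H)) ⊔
          (P : Subgroup H) := ⟨_, rfl⟩
    haveI : Fintype E := Fintype.ofFinite _
    -- the induction hypothesis for proper subgroups
    have ih' : ∀ (T : Subgroup H) [Fintype T], T ≠ ⊤ →
        (fun _ : T => (1 : ℂ)) ∈ brauerSpanP p T := by
      intro T _ hT
      have hlt : Nat.card T < n := by
        rw [← hn]
        have h3 := Subgroup.card_le_card_group T
        have h4 : Nat.card T ≠ Nat.card H := fun h => hT (Subgroup.eq_top_of_card_eq T h)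
        omega
      exact ih _ hlt T p hp (isQuasiElem_subgroup hp hQE T) rfl
    -- `E` is elementary
    have hEel : IsElementary p E := by
      have hZE : Subgroup.zpowers c ⊓ Subgroup.centralizer ((P : Subgroup H) : Set H) ≤ E := by
        rw [hE]; exact le_sup_left
      haveI : IsCyclic
          (Subgroup.zpowers c ⊓ Subgroup.centralizer ((P : Subgroup H) : Set H) : Subgroup H) :=
        Subgroup.isCyclic_of_le (inf_le_left : _ ≤ Subgroup.zpowers c)
      obtain ⟨z, hz⟩ := isCyclic_iff_exists_zpowers_eq_top.mp (inferInstance : IsCyclic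
          (Subgroup.zpowers c ⊓ Subgroup.centralizer ((P : Subgroup H) : Set H) : Subgroup H))
      have hz' : Subgroup.zpowers (z : H) =
          Subgroup.zpowers c ⊓ Subgroup.centralizer ((P : Subgroup H) : Set H) :=
        (zpowers_coe_eq_top_iff _ z).mpr hz
      refine ⟨⟨(z : H), hZE z.2⟩, ?_, ?_, ?_⟩
      · rw [Subgroup.mem_center_iff]
        intro g
        apply Subtype.ext
        exact Subgroup.mem_center_iff.mp (hZcen z.2) (g : H)
      · have h1 : orderOf (⟨(z : H), hZE z.2⟩ : E) = orderOf (z : H) :=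
          (Subgroup.orderOf_coe (⟨(z : H), hZE z.2⟩ : E)).symm
        rw [h1]
        exact Nat.Coprime.coprime_dvd_left (orderOf_dvd_of_mem_zpowers z.2.1) hcp
      · rw [zpowers_mk_eq_subgroupOf, hz']
        have h2 : (Subgroup.zpowers c ⊓
            Subgroup.centralizer ((P : Subgroup H) : Set H)).relIndex E ∣
            Nat.card (P : Subgroup H) := by
          rw [hE, Subgroup.relIndex_sup_left]
          exact Subgroup.relIndex_dvd_card _ _
        obtain ⟨m, hm⟩ := IsPGroup.iff_card.mp P.2
        rw [hm] at h2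
        obtain ⟨j, -, hj⟩ := (Nat.dvd_prime_pow hp).mp h2
        exact ⟨j, hj⟩
    -- the induced character
    letI : Fintype (IrrCharacter H) := irrFintype
    obtain ⟨θ, hθdef⟩ : ∃ θ : H → ℂ, θ = indFun E (fun _ : E => (1 : ℂ)) := ⟨_, rfl⟩
    have hθmem : θ ∈ brauerSpanP p H := by
      have := indFun_hom_mem_brauerSpanP E (1 : E →* ℂˣ) hEel
      rw [hθdef]
      simpa using this
    have hθchar : IsCharacter H θ := by
      rw [hθdef]
      exact isCharacter_indFun E isCharacter_one
    obtain ⟨hm, hdec⟩ := isCharacter_decomp hθchar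
    have hfrob : ∀ μ : IrrCharacter H, classInner θ (μ : H → ℂ) =
        classInner (fun _ : E => (1 : ℂ)) (fun e : E => (μ : H → ℂ) e) := fun μ => by
      rw [hθdef]
      exact frobenius_reciprocity E _ (isClassFunction_of_isIrrCharacter μ.2)
    have h11 : classInner θ
        ((⟨fun _ => 1, isIrrCharacter_one⟩ : IrrCharacter H) : H → ℂ) = 1 := by
      rw [hfrob]
      have := irr_orthogonality (isIrrCharacter_one (G := E)) (isIrrCharacter_one (G := E))
      rw [if_pos rfl] at this
      exact this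
    have h1eq : (fun _ : H => (1 : ℂ)) = θ -
        ∑ μ ∈ (Finset.univ : Finset (IrrCharacter H)).erase ⟨fun _ => 1, isIrrCharacter_one⟩,
          classInner θ (μ : H → ℂ) • (μ : H → ℂ) := by
      rw [eq_sub_iff_add_eq]
      conv_rhs => rw [hdec]
      rw [← Finset.add_sum_erase _ _
        (Finset.mem_univ (⟨fun _ => 1, isIrrCharacter_one⟩ : IrrCharacter H)), h11, one_smul]
    rw [h1eq]
    apply (brauerSpanP p H).sub_mem hθmem
    apply AddSubgroup.sum_mem
    intro μ hμ
    obtain ⟨m, hmμ⟩ := hm μ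
    rw [hmμ]
    have h1 : ((m : ℂ) • (μ : H → ℂ)) = m • (μ : H → ℂ) := by
      funext g
      simp
    rw [h1]
    by_cases hm0 : m = 0
    · rw [hm0, zero_smul]
      exact (brauerSpanP p H).zero_mem
    · apply AddSubgroup.nsmul_mem
      have hne : (μ : H → ℂ) ≠ fun _ => (1 : ℂ) := by
        intro h
        exact (Finset.mem_erase.mp hμ).1 (Subtype.ext h)
      have hcon : classInner (fun _ : E => (1 : ℂ)) (fun e : E => (μ : H → ℂ) e) ≠ 0 := by
        rw [← hfrob, hmμ]
        exact_mod_cast hm0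
      exact irr_mem_brauerSpanP c P hcp hCP ih' E hE μ.2 hne hcon

end Final

section LocalSolomon

variable {G : Type u} [Group G] [Fintype G]

/-- The integer span of the generalized characters induced from `p`-quasi-elementary subgroups,
for a fixed `p`. -/
def quasiElemSpanP (p : ℕ) (G : Type u) [Group G] [Fintype G] : AddSubgroup (G → ℂ) :=
  AddSubgroup.closure {f | ∃ (K : Subgroup G) (ψ : K → ℂ),
    IsQuasiElem p K ∧ IsGeneralizedCharacter K ψ ∧ f = indFun K ψ}

variable {p : ℕ}

theorem isGenChar_of_mem_quasiElemSpanP {f : G → ℂ} (hf : f ∈ quasiElemSpanP p G) :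
    IsGeneralizedCharacter G f := by
  unfold quasiElemSpanP at hf
  induction hf using AddSubgroup.closure_induction with
  | mem f hf =>
    obtain ⟨K, ψ, -, hψ, rfl⟩ := hf
    exact isGenChar_indFun K hψ
  | zero => exact isGenChar_zero
  | add a b _ _ ha hb => exact isGenChar_add ha hb
  | neg a _ ha => exact isGenChar_neg ha

theorem mul_mem_quasiElemSpanP {f g : G → ℂ} (hf : f ∈ quasiElemSpanP p G)
    (hg : IsGeneralizedCharacter G g) : f * g ∈ quasiElemSpanP p G := by
  unfold quasiElemSpanP at hf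
  induction hf using AddSubgroup.closure_induction with
  | mem f hf =>
    obtain ⟨K, ψ, hK, hψ, rfl⟩ := hf
    rw [← indFun_mul_restrict K ψ
      (Cfsg.Agent.Helper8.isClassFunction_of_isGeneralizedCharacter hg)]
    exact AddSubgroup.subset_closure
      ⟨K, _, hK, isGenChar_mul hψ (isGenChar_restrict K hg), rfl⟩
  | zero =>
    rw [zero_mul]
    exact (quasiElemSpanP p G).zero_mem
  | add a b _ _ ha hb =>
    rw [add_mul]
    exact (quasiElemSpanP p G).add_mem ha hb
  | neg a _ ha =>
    rw [neg_mul]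
    exact (quasiElemSpanP p G).neg_mem ha

/-- The local form of Solomon's induction theorem. -/
theorem exists_const_mem_quasiElemSpanP (hp : p.Prime) :
    ∃ m : ℤ, ¬ (p : ℤ) ∣ m ∧ (fun _ : G => (m : ℂ)) ∈ quasiElemSpanP p G := by
  classical
  have key : ∃ m : ℤ, ¬ (p : ℤ) ∣ m ∧
      (fun _ : G => (m : ℂ)) ∈ quasiElemSpanP p G ⊓ intValued G := by
    apply const_mem_of_forall_not_dvd hp
    · rintro f ⟨hf1, hf2⟩ g ⟨hg1, hg2⟩
      refine ⟨mul_mem_quasiElemSpanP hf1 (isGenChar_of_mem_quasiElemSpanP hg1), ?_⟩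
      intro x
      obtain ⟨a, ha⟩ := hf2 x
      obtain ⟨b, hb⟩ := hg2 x
      exact ⟨a * b, by rw [Pi.mul_apply, ha, hb]; push_cast; rfl⟩
    · intro x
      haveI : Fact p.Prime := ⟨hp⟩
      obtain ⟨K, hK, z, hz, hpz⟩ := exists_quasiElem (p := p) x
      refine ⟨indFun K (fun _ => (1 : ℂ)), ⟨?_, ?_⟩, (z : ℤ), ?_, ?_⟩
      · exact AddSubgroup.subset_closure ⟨K, _, hK, isGenChar_one, rfl⟩
      · intro y
        exact ⟨(Nat.card (MulAction.fixedBy (G ⧸ K) y) : ℤ), by
          rw [indFun_one_eq_card_fixedBy]; push_cast; rfl⟩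
      · rw [hz]
        push_cast
        rfl
      · intro h
        exact hpz (Int.natCast_dvd_natCast.mp h)
  obtain ⟨m, hm, hmem⟩ := key
  exact ⟨m, hm, hmem.1⟩

theorem quasiElemSpanP_le_brauerSpanP (hp : p.Prime) :
    quasiElemSpanP p G ≤ brauerSpanP p G := by
  classical
  unfold quasiElemSpanP
  rw [AddSubgroup.closure_le]
  rintro f ⟨K, ψ, hK, hψ, rfl⟩
  haveI : Fintype K := Fintype.ofFinite K
  apply indFun_mem_brauerSpanP
  exact genChar_mem_brauerSpanP hp (one_mem_brauerSpanP_of_isQuasiElem _ K p hp hK rfl) hψ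

/-- **The local form of Brauer's induction theorem**. -/
theorem exists_const_mem_brauerSpanP (hp : p.Prime) :
    ∃ m : ℤ, ¬ (p : ℤ) ∣ m ∧ (fun _ : G => (m : ℂ)) ∈ brauerSpanP p G := by
  obtain ⟨m, hm, hmem⟩ := exists_const_mem_quasiElemSpanP (G := G) hp
  exact ⟨m, hm, quasiElemSpanP_le_brauerSpanP hp hmem⟩

end LocalSolomon

end Cfsg.Agent.Helper18
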