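import Mathlib
import Cfsg.Agent.Lib.Helper20.A3Defs

set_option autoImplicit false
set_option linter.unusedSectionVars false
set_option linter.unusedVariables false

/-! S3117 piece QMK: the squaring map on representatives. -/

namespace Cfsg.Agent.Helper20.A3

section Glue

variable {C : Type*} [Group C] [Finite C]

/-- **A3-QMK.** The squaring map on representatives. -/
theorem qq_mk (hC : IsPGroup 2 C) (hΦ : frattini C ≤ Subgroup.center C) (x : C) :
    qq C (QuotientGroup.mk x) = QuotientGroup.mk (x ^ 2) := by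
  unfold qq
  set x' : C := Quotient.out (QuotientGroup.mk x : C ⧸ frattini C) with hx'
  have h1 : (QuotientGroup.mk x' : C ⧸ frattini C) = QuotientGroup.mk x := by
    rw [hx']
    exact Quotient.out_eq _
  have h2 : x⁻¹ * x' ∈ frattini C := QuotientGroup.eq.mp h1.symm
  set f : C := x⁻¹ * x' with hf
  have hxf : x' = x * f := by rw [hf]; group
  have hfc : ∀ g : C, g * f = f * g := fun g => Subgroup.mem_center_iff.mp (hΦ h2) g
  rw [QuotientGroup.eq]
  have hsq : (x' ^ 2)⁻¹ * x ^ 2 = (f⁻¹) ^ 2 := by
    rw [hxf]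
    have hc : Commute x f := hfc x
    rw [hc.mul_pow]
    rw [mul_inv_rev]
    simp [mul_assoc]
  rw [hsq]
  unfold sqF
  exact Subgroup.subset_closure ⟨f⁻¹, Subgroup.inv_mem _ h2, rfl⟩

end Glue

end Cfsg.Agent.Helper20.A3
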