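import Mathlib
import Cfsg.Agent.Lib.Helper2.AICDefs

set_option autoImplicit false

namespace Cfsg.Agent.Helper2.AIC

/-- an element whose order is coprime to the index of a normal subgroup lies in it -/
theorem b3b_mem_of_coprime {E : Type*} [Group E] [Finite E] (K : Subgroup E) [K.Normal] (x : E)
    (h : Nat.Coprime (orderOf x) K.index) : x ∈ K := by
  have h1 : x ^ K.index ∈ K := Subgroup.pow_index_mem K x
  by_cases ho : orderOf x = 1
  · rw [orderOf_eq_one_iff.mp ho]; exact K.one_mem
  have ho0 : 0 < orderOf x := orderOf_pos x
  have ho1 : 1 < orderOf x := by omega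
  obtain ⟨a, -, ha⟩ := Nat.exists_mul_mod_eq_one_of_coprime h.symm ho1
  have h2 : (x ^ K.index) ^ a ∈ K := K.pow_mem h1 a
  rw [← pow_mul, ← pow_mod_orderOf, ha, pow_one] at h2
  exact h2

theorem exists_odd_normal {E : Type*} [Group E] [Finite E] (hcyc : ∀ T : Sylow 2 E, IsCyclic T) :
    ∃ E2 : Subgroup E, E2.Normal ∧ Odd (Nat.card E2) ∧ ∀ x : E, Odd (orderOf x) → x ∈ E2 := by
  by_cases hodd : Odd (Nat.card E)
  · refine ⟨⊤, inferInstance, ?_, fun x _ => Subgroup.mem_top x⟩
    rw [Subgroup.card_top]; exact hodd
  · have heven : 2 ∣ Nat.card E := by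
      rcases Nat.even_or_odd (Nat.card E) with h | h
      · exact even_iff_two_dvd.mp h
      · exact absurd h hodd
    have hmin : (Nat.card E).minFac = 2 := (Nat.minFac_eq_two_iff _).mpr heven
    obtain ⟨T⟩ : Nonempty (Sylow 2 E) := inferInstance
    have hT := hcyc T
    have hcompl := IsCyclic.isComplement' hmin hT
    set K : Subgroup E := (MonoidHom.transferSylow T (hT.normalizer_le_centralizer hmin)).ker with hK
    have hKn : K.Normal := by rw [hK]; infer_instance
    have hcard : Nat.card K * Nat.card T = Nat.card E := hcompl.card_mul
    have hidx : K.index = Nat.card T := hcompl.symm.index_eq_card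
    obtain ⟨k, hk⟩ := T.2.exists_card_eq
    have hKodd : Odd (Nat.card K) := by
      by_contra hne
      have h2K : 2 ∣ Nat.card K := by
        rcases Nat.even_or_odd (Nat.card K) with h | h
        · exact even_iff_two_dvd.mp h
        · exact absurd h hne
      -- then 2 * |T| divides |E|, contradicting the Sylow property
      have hdvd : 2 ^ (k + 1) ∣ Nat.card E := by
        rw [← hcard, hk, pow_succ, mul_comm]
        exact Nat.mul_dvd_mul h2K dvd_rfl
      have hmul := T.card_eq_multiplicity
      rw [hk] at hmul
      have hk' : k = (Nat.card E).factorization 2 :=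
        Nat.pow_right_injective (le_refl 2) hmul
      have hle := (Nat.Prime.pow_dvd_iff_le_factorization Nat.prime_two
        (Nat.card_pos (α := E)).ne').mp hdvd
      omega
    refine ⟨K, hKn, hKodd, ?_⟩
    intro x hx
    have := hKn
    apply b3b_mem_of_coprime K x
    rw [hidx, hk]
    exact Nat.Coprime.pow_right k (Nat.coprime_two_right.mpr hx)

theorem isCyclic_of_unique_inv {T : Type*} [Group T] [Finite T] (hT : IsPGroup 2 T)
    (hcomm : ∀ x y : T, x * y = y * x)
    (huniq : ∀ v w : T, orderOf v = 2 → orderOf w = 2 → v = w) : IsCyclic T := by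
  classical
  haveI : Fintype T := Fintype.ofFinite T
  -- the elements of square one
  obtain ⟨v0, hv0⟩ : ∃ v0 : T, ∀ w : T, w ^ 2 = 1 → w = 1 ∨ w = v0 := by
    by_cases h : ∃ v : T, orderOf v = 2
    · obtain ⟨v, hv⟩ := h
      refine ⟨v, fun w hw => ?_⟩
      have h1 : orderOf w ∣ 2 := orderOf_dvd_of_pow_eq_one hw
      rcases (Nat.dvd_prime Nat.prime_two).mp h1 with h2 | h2
      · exact Or.inl (orderOf_eq_one_iff.mp h2)
      · exact Or.inr (huniq w v h2 hv)
    · refine ⟨1, fun w hw => ?_⟩
      have h1 : orderOf w ∣ 2 := orderOf_dvd_of_pow_eq_one hw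
      rcases (Nat.dvd_prime Nat.prime_two).mp h1 with h2 | h2
      · exact Or.inl (orderOf_eq_one_iff.mp h2)
      · exact absurd ⟨w, h2⟩ h
  have key : ∀ n : ℕ, 0 < n → (Finset.univ.filter (fun a : T => a ^ n = 1)).card ≤ n := by
    intro n
    induction n using Nat.strong_induction_on with
    | _ n ih =>
      intro hn
      rcases Nat.even_or_odd n with he | ho
      · obtain ⟨m, hm⟩ := he
        have hm0 : 0 < m := by omega
        have hmn : m < n := by omega
        have h1 := ih m hmn hm0
        have h2 : (Finset.univ.filter (fun a : T => a ^ n = 1)).card ≤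
            2 * (Finset.univ.filter (fun a : T => a ^ m = 1)).card := by
          apply Finset.card_le_mul_card_image_of_maps_to (f := fun a : T => a ^ 2)
          · intro a ha
            rw [Finset.mem_filter] at ha ⊢
            refine ⟨Finset.mem_univ _, ?_⟩
            rw [← pow_mul, two_mul, ← hm]
            exact ha.2
          · intro b _
            by_cases hne : (Finset.filter (fun a : T => a ^ 2 = b)
                (Finset.univ.filter (fun a : T => a ^ n = 1))).Nonempty
            · obtain ⟨a0, ha0⟩ := hne
              rw [Finset.mem_filter] at ha0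
              have hsub : Finset.filter (fun a : T => a ^ 2 = b)
                  (Finset.univ.filter (fun a : T => a ^ n = 1)) ⊆ {a0, v0 * a0} := by
                intro a ha
                rw [Finset.mem_filter] at ha
                have hw : (a * a0⁻¹) ^ 2 = 1 := by
                  have hc : Commute a a0⁻¹ := hcomm a a0⁻¹
                  rw [hc.mul_pow, inv_pow, ha.2, ha0.2, mul_inv_cancel]
                rw [Finset.mem_insert, Finset.mem_singleton]
                rcases hv0 _ hw with h | h
                · left
                  exact mul_inv_eq_one.mp h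
                · right
                  rw [← h]
                  group
              exact (Finset.card_le_card hsub).trans Finset.card_le_two
            · rw [Finset.not_nonempty_iff_eq_empty] at hne
              rw [hne]
              simp
        omega
      · -- odd exponent: only the identity
        have hsub : Finset.univ.filter (fun a : T => a ^ n = 1) ⊆ {1} := by
          intro a ha
          rw [Finset.mem_filter] at ha
          rw [Finset.mem_singleton]
          obtain ⟨k, hk⟩ := hT a
          have h1 : orderOf a ∣ n := orderOf_dvd_of_pow_eq_one ha.2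
          have h2 : orderOf a ∣ 2 ^ k := orderOf_dvd_of_pow_eq_one hk
          have h3 : Nat.Coprime n (2 ^ k) :=
            Nat.Coprime.pow_right k (Nat.coprime_two_right.mpr ho)
          have h4 : orderOf a = 1 := Nat.eq_one_of_dvd_coprimes h3 h1 h2
          exact orderOf_eq_one_iff.mp h4
        have := Finset.card_le_card hsub
        rw [Finset.card_singleton] at this
        omega
  exact isCyclic_of_card_pow_eq_one_le key

end Cfsg.Agent.Helper2.AIC
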