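import Mathlib
import Cfsg.Prelude.Def_JComponents
import Cfsg.Agent.Lib.Helper15.JC45Defs
import Cfsg.Agent.Lib.Helper3.Thompson
import Cfsg.Agent.Lib.Helper4.ZJElementary
import Cfsg.Agent.Lib.Helper25.JCSyl

/-!
# S2945 piece OFFL (helper18): an elementary abelian 2-subgroup of `L` is no larger than a member of `𝒜(T)`,
`T` a Sylow 2-subgroup of `L`.
-/

set_option autoImplicit false

namespace Cfsg.Agent.Helper15.JC45

open Cfsg Cfsg.Agent.Helper4.ZJ

universe u

variable {G : Type u} [Group G] [Finite G]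

theorem offl {T L A E : Subgroup G} (hTL : IsSylowTwoIn T L) (hA : A ∈ famE 2 T) (hEL : E ≤ L)
    (hE : IsElementaryAbelian 2 E) : Nat.card E ≤ Nat.card A := by
  have hE2 : IsPGroup 2 ↥E := Cfsg.Agent.Helper3.IsElementaryAbelian.isPGroup hE
  obtain ⟨S, hES, hSL⟩ := Cfsg.Agent.Helper25.JC.exists_isSylowTwoIn_of_le hEL hE2
  obtain ⟨n, hnL, hT⟩ := Cfsg.Agent.Helper25.JC.isSylowTwoIn_conj hSL hTL
  set E' : Subgroup G := E.map (MulAut.conj n).toMonoidHom with hE'
  have hE'T : E' ≤ T := by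
    rw [hT]
    exact Subgroup.map_mono hES
  have hE'ea : IsElementaryAbelian 2 E' :=
    Cfsg.Agent.Helper3.isElementaryAbelian_map (MulAut.conj n).toMonoidHom hE
  have hcard : Nat.card ↥E' = Nat.card ↥E :=
    Subgroup.card_map_of_injective (MulAut.conj n).injective
  rw [← hcard]
  exact (mem_famE.mp hA).2.2 E' hE'T hE'ea

end Cfsg.Agent.Helper15.JC45
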