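import Mathlib
import Cfsg.Prelude.Def_JComponents
import Cfsg.Agent.Lib.Helper13.JCASM1
import Cfsg.Agent.Lib.Helper7.JC48A
import Cfsg.Agent.Lib.Helper14.Ambient
import Cfsg.Agent.Lib.Helper14.Kieler
import Cfsg.Agent.Lib.Helper23.KUABS

/-!
# KS12b / S2950 (farm-out of helper27), PIECE TRN (helper18): transport to `L ∈ jOvergroups T`
-/

set_option autoImplicit false
set_option linter.unusedVariables false
set_option linter.unusedSectionVars false
set_option linter.style.haveILetI false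

namespace Cfsg.Agent.Helper27.KU

open Cfsg Cfsg.Agent.Helper13.JCFF

universe u

variable {G : Type u} [Group G] [Finite G]

/-- PIECE TRN (0) -/
theorem mem_normalizer_of_subgroupOf {K L : Subgroup G} (hKL : K ≤ L) {g : ↥L}
    (hg : g ∈ Subgroup.normalizer ((K.subgroupOf L : Subgroup ↥L) : Set ↥L)) :
    (g : G) ∈ Subgroup.normalizer (K : Set G) := by
  rw [Subgroup.mem_normalizer_iff] at hg ⊢
  intro x
  constructor
  · intro hx
    have h1 := (hg ⟨x, hKL hx⟩).1 (Subgroup.mem_subgroupOf.2 hx)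
    exact Subgroup.mem_subgroupOf.1 h1
  · intro hx
    have hxL : x ∈ L := by
      have h2 : (g : G) * x * (g : G)⁻¹ ∈ L := hKL hx
      have h3 : x = (g : G)⁻¹ * ((g : G) * x * (g : G)⁻¹) * (g : G) := by group
      rw [h3]
      exact L.mul_mem (L.mul_mem (L.inv_mem g.2) h2) g.2
    have h1 := (hg ⟨x, hxL⟩).2 (Subgroup.mem_subgroupOf.2 hx)
    exact Subgroup.mem_subgroupOf.1 h1

/-- PIECE TRN (1). -/
theorem comp_le_normalizer_comp
    (hN : ∀ N : Subgroup G, IsTwoLocal N → Group.IsSolvable ↥N)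
    (hZ : ∀ S : Sylow 2 G, Subgroup.centralizer (omegaCenterOf (S : Subgroup G) : Set G) ≤
      Subgroup.normalizer ((S : Subgroup G) : Set G))
    (T : Subgroup G) (hT1 : T ≠ ⊥) (L : Subgroup G) (hLT : L ∈ jOvergroups T)
    {K K' : Subgroup G} (hK : IsJComponent T K) (hK' : IsJComponent T K') (hKL : K ≤ L)
    (hK'L : K' ≤ L) : K' ≤ Subgroup.normalizer (K : Set G) := by
  have h := ks_of_mem_jOvergroups hN hZ T hT1 L hLT
  have hTL : T ≤ L := hLT.1.1
  have h1 := ks_comp_le_normalizer h ((asm_isJComponent_subgroupOf hTL hKL).2 hK)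
    ((asm_isJComponent_subgroupOf hTL hK'L).2 hK')
  intro x hx
  exact mem_normalizer_of_subgroupOf hKL (g := ⟨x, hK'L hx⟩) (h1 (Subgroup.mem_subgroupOf.2 hx))

/-- PIECE TRN (2). -/
theorem J_le_normalizer_comp
    (hN : ∀ N : Subgroup G, IsTwoLocal N → Group.IsSolvable ↥N)
    (hZ : ∀ S : Sylow 2 G, Subgroup.centralizer (omegaCenterOf (S : Subgroup G) : Set G) ≤
      Subgroup.normalizer ((S : Subgroup G) : Set G))
    (T : Subgroup G) (hT1 : T ≠ ⊥) (L : Subgroup G) (hLT : L ∈ jOvergroups T)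
    {K : Subgroup G} (hK : IsJComponent T K) (hKL : K ≤ L) :
    thompsonSubgroupOf 2 L ≤ Subgroup.normalizer (K : Set G) := by
  have h := ks_of_mem_jOvergroups hN hZ T hT1 L hLT
  have hTL : T ≤ L := hLT.1.1
  have h1 := ks_J_le_normalizer h ((asm_isJComponent_subgroupOf hTL hKL).2 hK)
  intro x hx
  unfold thompsonSubgroupOf at hx
  obtain ⟨y, hy, rfl⟩ := Subgroup.mem_map.1 hx
  exact mem_normalizer_of_subgroupOf hKL (h1 hy)

/-- PIECE TRN (3). -/
theorem pCoreOf_J_ne_bot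
    (hN : ∀ N : Subgroup G, IsTwoLocal N → Group.IsSolvable ↥N)
    (hZ : ∀ S : Sylow 2 G, Subgroup.centralizer (omegaCenterOf (S : Subgroup G) : Set G) ≤
      Subgroup.normalizer ((S : Subgroup G) : Set G))
    (T : Subgroup G) (hT1 : T ≠ ⊥) (L : Subgroup G) (hLT : L ∈ jOvergroups T) :
    pCoreOf 2 (thompsonSubgroupOf 2 L) ≠ ⊥ := by
  have h := ks_of_mem_jOvergroups hN hZ T hT1 L hLT
  have h3 := ks_pCore_inf_J_ne_bot h
  -- the subgroup `N`
  set N : Subgroup G := pCoreOf 2 L ⊓ thompsonSubgroupOf 2 L with hNdef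
  have hNmap : N = (pCore 2 ↥L ⊓ thompsonSubgroup 2 ↥L).map L.subtype := by
    rw [hNdef, Subgroup.map_inf_eq _ _ _ L.subtype_injective]
    rfl
  have hNne : N ≠ ⊥ := by
    intro h0
    apply h3
    rw [hNmap] at h0
    exact (Subgroup.map_eq_bot_iff_of_injective _ L.subtype_injective).1 h0
  have hNJ : N ≤ thompsonSubgroupOf 2 L := inf_le_right
  have hNp : IsPGroup 2 N :=
    (Cfsg.Agent.Helper14.pCoreOf_isPGroup 2 L).to_le inf_le_left
  have hLN : L ≤ Subgroup.normalizer (N : Set G) := by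
    intro g hg
    have h1 := Cfsg.Agent.Helper14.le_normalizer_pCoreOf 2 L hg
    have h2 := Cfsg.Agent.Helper7.JC48.le_normalizer_J L hg
    rw [Subgroup.mem_normalizer_iff] at h1 h2 ⊢
    intro x
    rw [hNdef, Subgroup.mem_inf, Subgroup.mem_inf, h1 x, h2 x]
  have hJL : thompsonSubgroupOf 2 L ≤ L := by
    unfold thompsonSubgroupOf
    intro x hx
    obtain ⟨y, -, rfl⟩ := Subgroup.mem_map.1 hx
    exact y.2
  have hle : N ≤ pCoreOf 2 (thompsonSubgroupOf 2 L) :=
    Cfsg.Agent.Helper14.le_pCoreOf hNJ (hJL.trans hLN) hNp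
  intro h0
  apply hNne
  rw [h0] at hle
  exact le_bot_iff.1 hle

end Cfsg.Agent.Helper27.KU
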