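import Mathlib
import Cfsg.Agent.Lib.Helper2.AICDefs

set_option autoImplicit false

namespace Cfsg.Agent.Helper2.AIC

variable {G : Type*} [Group G] [Finite G]

omit [Finite G] in
/-- an element of odd order is a power of its square -/
theorem fact_half {x : G} (hx : Odd (orderOf x)) : (x ^ 2) ^ ((orderOf x + 1) / 2) = x := by
  obtain ⟨m, hm⟩ := hx
  rw [← pow_mul, hm]
  have : 2 * ((2 * m + 1 + 1) / 2) = (2 * m + 1) + 1 := by omega
  rw [this, pow_succ, ← hm, pow_orderOf_eq_one, one_mul]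

omit [Finite G] in
theorem fact_conj_pow (u x : G) (n : ℕ) : u * x ^ n * u⁻¹ = (u * x * u⁻¹) ^ n := by
  induction n with
  | zero => simp
  | succ n ih => rw [pow_succ, pow_succ, ← ih]; group

omit [Finite G] in
theorem fact_sq_one {u : G} (hu : orderOf u = 2) : u * u = 1 := by
  rw [← pow_two, ← hu, pow_orderOf_eq_one]

omit [Finite G] in
theorem fact_inv_eq {u : G} (hu : orderOf u = 2) : u⁻¹ = u :=
  inv_eq_of_mul_eq_one_left (fact_sq_one hu)

/-- A8 : `D = C_D(u) * I_u(D)` -/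
theorem fact_odd {D : Subgroup G} (hodd : Odd (Nat.card D)) {u : G} (hu : orderOf u = 2)
    (hN : ∀ d ∈ D, u * d * u⁻¹ ∈ D) {d : G} (hd : d ∈ D) :
    ∃ c ∈ D, ∃ y ∈ D, u * c * u⁻¹ = c ∧ u * y * u⁻¹ = y⁻¹ ∧ d = c * y := by
  have huu : u * u = 1 := fact_sq_one hu
  have hui : u⁻¹ = u := fact_inv_eq hu
  set x : G := d⁻¹ * (u * d * u⁻¹) with hx
  have hxD : x ∈ D := D.mul_mem (D.inv_mem hd) (hN d hd)
  have hxinv : u * x * u⁻¹ = x⁻¹ := by
    rw [hx]
    have h1 : u * (d⁻¹ * (u * d * u⁻¹)) * u⁻¹ =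
        (u * d⁻¹ * u⁻¹) * ((u * u) * d * (u * u)⁻¹) := by group
    rw [h1, huu]
    group
  have hxo : Odd (orderOf x) := by
    have h1 : orderOf (⟨x, hxD⟩ : D) ∣ Nat.card D := orderOf_dvd_natCard _
    have h2 : orderOf (⟨x, hxD⟩ : D) = orderOf x := by
      rw [← Subgroup.orderOf_coe]
    rw [h2] at h1
    exact Odd.of_dvd_nat hodd h1
  set n := (orderOf x + 1) / 2 with hn
  set y' : G := x ^ n with hy'
  have hy'D : y' ∈ D := D.pow_mem hxD n
  have hy'sq : y' * y' = x := by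
    have := fact_half hxo
    rw [← pow_mul, mul_comm, pow_mul, pow_two] at this
    exact this
  have hy'inv : u * y' * u⁻¹ = y'⁻¹ := by
    rw [hy', fact_conj_pow, hxinv, inv_pow]
  refine ⟨d * y', D.mul_mem hd hy'D, y'⁻¹, D.inv_mem hy'D, ?_, ?_, ?_⟩
  · have h1 : u * (d * y') * u⁻¹ = (u * d * u⁻¹) * (u * y' * u⁻¹) := by group
    rw [h1, hy'inv]
    have h2 : u * d * u⁻¹ = d * x := by rw [hx]; group
    rw [h2, ← hy'sq]
    group
  · have h1 : u * y'⁻¹ * u⁻¹ = (u * y' * u⁻¹)⁻¹ := by group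
    rw [h1, hy'inv]
  · group

set_option linter.unusedSectionVars false in
/-- an odd-order element commuting with the square of `y`... : `y ^ 2` centralizes `k` => `y` does -/
theorem commute_of_sq_commute {y k : G} (hy : Odd (orderOf y)) (h : y ^ 2 * k = k * y ^ 2) :
    y * k = k * y := by
  have hc : Commute (y ^ 2) k := h
  have := (hc.pow_left ((orderOf y + 1) / 2)).eq
  rwa [fact_half hy] at this

/-- a fixed-point-free involutory automorphism inverts -/
theorem fpf_inverts {N : Subgroup G} {t : G} (ht : t * t = 1) (htN : ∀ n ∈ N, t * n * t⁻¹ ∈ N)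
    (hfpf : ∀ n ∈ N, t * n * t⁻¹ = n → n = 1) : ∀ n ∈ N, t * n * t⁻¹ = n⁻¹ := by
  have hti : t⁻¹ = t := inv_eq_of_mul_eq_one_left ht
  let φ : N → N := fun n => ⟨(n : G)⁻¹ * (t * n * t⁻¹), N.mul_mem (N.inv_mem n.2) (htN n n.2)⟩
  have hinj : Function.Injective φ := by
    intro n m hnm
    have h1 : (n : G)⁻¹ * (t * n * t⁻¹) = (m : G)⁻¹ * (t * m * t⁻¹) := congrArg Subtype.val hnm
    have h2 : t * ((m : G) * (n : G)⁻¹) * t⁻¹ = (m : G) * (n : G)⁻¹ := by
      have h3 : t * ((m : G) * (n : G)⁻¹) * t⁻¹ = (t * m * t⁻¹) * (t * n * t⁻¹)⁻¹ := by group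
      rw [h3]
      have h4 : t * m * t⁻¹ = (m : G) * ((n : G)⁻¹ * (t * n * t⁻¹)) := by rw [h1]; group
      rw [h4]
      group
    have h5 := hfpf _ (N.mul_mem m.2 (N.inv_mem n.2)) h2
    apply Subtype.ext
    exact (mul_inv_eq_one.mp h5).symm
  have hsurj : Function.Surjective φ := Finite.surjective_of_injective hinj
  intro n hn
  obtain ⟨m, hm⟩ := hsurj ⟨n, hn⟩
  have hm' : (m : G)⁻¹ * (t * m * t⁻¹) = n := congrArg Subtype.val hm
  rw [← hm']
  have h1 : t * ((m : G)⁻¹ * (t * m * t⁻¹)) * t⁻¹ =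
      (t * (m : G)⁻¹ * t⁻¹) * ((t * t) * m * (t * t)⁻¹) := by group
  rw [h1, ht]
  group

theorem card_fact_odd {D : Subgroup G} (hodd : Odd (Nat.card D)) {u : G} (hu : orderOf u = 2)
    (hN : ∀ d ∈ D, u * d * u⁻¹ ∈ D) :
    Nat.card D = Nat.card {c : G // c ∈ D ∧ u * c * u⁻¹ = c} *
      Nat.card {y : G // y ∈ D ∧ u * y * u⁻¹ = y⁻¹} := by
  rw [← Nat.card_prod]
  symm
  let f : {c : G // c ∈ D ∧ u * c * u⁻¹ = c} × {y : G // y ∈ D ∧ u * y * u⁻¹ = y⁻¹} → D :=
    fun cy => ⟨cy.1.1 * cy.2.1, D.mul_mem cy.1.2.1 cy.2.2.1⟩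
  have hodd_of : ∀ w ∈ D, Odd (orderOf w) := by
    intro w hw
    have h1 : orderOf (⟨w, hw⟩ : D) ∣ Nat.card D := orderOf_dvd_natCard _
    have h2 : orderOf (⟨w, hw⟩ : D) = orderOf w := by
      rw [← Subgroup.orderOf_coe]
    rw [h2] at h1
    exact Odd.of_dvd_nat hodd h1
  refine Nat.card_congr (Equiv.ofBijective f ⟨?_, ?_⟩)
  · rintro ⟨⟨c, hcD, hc⟩, ⟨y, hyD, hy⟩⟩ ⟨⟨c', hc'D, hc'⟩, ⟨y', hy'D, hy'⟩⟩ h
    have h0 : c * y = c' * y' := congrArg Subtype.val h
    -- w := c'⁻¹ c is fixed, y' = w y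
    set w : G := c'⁻¹ * c with hw
    have hwD : w ∈ D := D.mul_mem (D.inv_mem hc'D) hcD
    have hwfix : u * w * u⁻¹ = w := by
      have : u * w * u⁻¹ = (u * c' * u⁻¹)⁻¹ * (u * c * u⁻¹) := by rw [hw]; group
      rw [this, hc, hc']
    have hy'w : y' = w * y := by
      rw [hw, mul_assoc, h0]; group
    -- conjugating: y'⁻¹ = w y⁻¹
    have h1 : y'⁻¹ = w * y⁻¹ := by
      rw [← hy', hy'w]
      have : u * (w * y) * u⁻¹ = (u * w * u⁻¹) * (u * y * u⁻¹) := by group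
      rw [this, hwfix, hy]
    -- so y w y⁻¹... : w y = y w⁻¹
    have h2 : w * y = y * w⁻¹ := by
      have : y' = (w * y⁻¹)⁻¹ := by rw [← h1, inv_inv]
      rw [← hy'w, this]; group
    -- y² commutes with w
    have h3 : y ^ 2 * w = w * y ^ 2 := by
      have h4 : w * y * y = y * w⁻¹ * y := by rw [h2]
      have h5 : w⁻¹ * y = y * w := by
        have : w⁻¹ * (w * y) * w = w⁻¹ * (y * w⁻¹) * w := by rw [h2]
        calc w⁻¹ * y = w⁻¹ * (y * w⁻¹) * w := by group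
          _ = w⁻¹ * (w * y) * w := by rw [h2]
          _ = y * w := by group
      calc y ^ 2 * w = y * (y * w) := by rw [pow_two, mul_assoc]
        _ = y * (w⁻¹ * y) := by rw [h5]
        _ = (y * w⁻¹) * y := by rw [mul_assoc]
        _ = (w * y) * y := by rw [h2]
        _ = w * y ^ 2 := by rw [pow_two, mul_assoc]
    have h4 : y * w = w * y := commute_of_sq_commute (hodd_of y hyD) h3
    -- hence w = w⁻¹
    have h5 : w * w = 1 := by
      have : y * w = y * w⁻¹ := by rw [h4, h2]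
      have := mul_left_cancel this
      calc w * w = w * w⁻¹ := by rw [← this]
        _ = 1 := mul_inv_cancel w
    have h6 : w = 1 := by
      have hwo := hodd_of w hwD
      have : orderOf w ∣ 2 := orderOf_dvd_of_pow_eq_one (by rw [pow_two, h5])
      have h7 : orderOf w = 1 := by
        rcases (Nat.dvd_prime Nat.prime_two).mp this with h | h
        · exact h
        · rw [h] at hwo; exact absurd hwo (by decide)
      exact orderOf_eq_one_iff.mp h7
    have hcc : c = c' := by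
      have : c'⁻¹ * c = 1 := h6
      exact (inv_mul_eq_one.mp this).symm
    have hyy : y = y' := by rw [hy'w, h6, one_mul]
    subst hcc
    subst hyy
    rfl
  · rintro ⟨d, hd⟩
    obtain ⟨c, hcD, y, hyD, hc, hy, hdcy⟩ := fact_odd hodd hu hN hd
    exact ⟨⟨⟨c, hcD, hc⟩, ⟨y, hyD, hy⟩⟩, Subtype.ext hdcy.symm⟩

end Cfsg.Agent.Helper2.AIC
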