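import Mathlib
import Cfsg.Agent.Lib.Helper26.CG3Defs

/-!
# S3412 piece G0 (helper18): trivial facts on `cc g`, the order of the centralizer of `g`
-/

set_option autoImplicit false

namespace Cfsg.Agent.Helper26.CG3

universe u

section G

variable {H : Type u} [Group H] [Finite H] {t : H}

/-- G0: a subgroup of `C(g)` has order dividing `cc g` -/
theorem card_dvd_cc (g : H) (K : Subgroup H) (hK : K ≤ Subgroup.centralizer ({g} : Set H)) :
    Nat.card K ∣ cc g :=
  Subgroup.card_dvd_of_le hK

/-- G0 -/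
theorem orderOf_dvd_cc (g : H) : orderOf g ∣ cc g := by
  have h1 : Subgroup.zpowers g ≤ Subgroup.centralizer ({g} : Set H) := by
    rw [Subgroup.zpowers_le]
    rw [Subgroup.mem_centralizer_singleton_iff]
  have h2 := card_dvd_cc g (Subgroup.zpowers g) h1
  rwa [Nat.card_zpowers] at h2

omit [Finite H] in
/-- G0 -/
theorem cc_conj (c g : H) : cc (c * g * c⁻¹) = cc g := by
  unfold cc
  refine Nat.card_congr ?_
  refine
    { toFun := fun x => ⟨c⁻¹ * x.1 * c, ?_⟩
      invFun := fun x => ⟨c * x.1 * c⁻¹, ?_⟩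
      left_inv := ?_
      right_inv := ?_ }
  · have hx := x.2
    rw [Subgroup.mem_centralizer_singleton_iff] at hx ⊢
    have : c⁻¹ * (x.1 * (c * g * c⁻¹)) * c = c⁻¹ * ((c * g * c⁻¹) * x.1) * c := by rw [hx]
    calc c⁻¹ * x.1 * c * g = c⁻¹ * (x.1 * (c * g * c⁻¹)) * c := by group
      _ = c⁻¹ * ((c * g * c⁻¹) * x.1) * c := this
      _ = g * (c⁻¹ * x.1 * c) := by group
  · have hx := x.2
    rw [Subgroup.mem_centralizer_singleton_iff] at hx ⊢
    calc c * x.1 * c⁻¹ * (c * g * c⁻¹) = c * (x.1 * g) * c⁻¹ := by group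
      _ = c * (g * x.1) * c⁻¹ := by rw [hx]
      _ = c * g * c⁻¹ * (c * x.1 * c⁻¹) := by group
  · intro x
    apply Subtype.ext
    show c * (c⁻¹ * x.1 * c) * c⁻¹ = x.1
    group
  · intro x
    apply Subtype.ext
    show c⁻¹ * (c * x.1 * c⁻¹) * c = x.1
    group

omit [Finite H] in
/-- G0 -/
theorem cc_inv (g : H) : cc g⁻¹ = cc g := by
  unfold cc
  have : Subgroup.centralizer ({g⁻¹} : Set H) = Subgroup.centralizer ({g} : Set H) := by
    ext x
    rw [Subgroup.mem_centralizer_singleton_iff, Subgroup.mem_centralizer_singleton_iff]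
    constructor
    · intro h
      have : g * (x * g⁻¹) * g = g * (g⁻¹ * x) * g := by rw [h]
      calc x * g = g * (g⁻¹ * x) * g := by group
        _ = g * (x * g⁻¹) * g := this.symm
        _ = g * x := by group
    · intro h
      calc x * g⁻¹ = g⁻¹ * (g * x) * g⁻¹ := by group
        _ = g⁻¹ * (x * g) * g⁻¹ := by rw [h]
        _ = g⁻¹ * x := by group
  rw [this]

omit [Finite H] in
/-- G0 -/
theorem cc_one : cc (1 : H) = Nat.card H := by
  unfold cc
  have : Subgroup.centralizer ({1} : Set H) = ⊤ := by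
    ext x
    rw [Subgroup.mem_centralizer_singleton_iff]
    simp
  rw [this]
  exact Subgroup.card_top

end G

end Cfsg.Agent.Helper26.CG3
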