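import Mathlib

/-!
# S4707 piece GRP3 (helper18): an involution of `N(P)` inverts the self-centralizing subgroup `P` of odd prime order
-/

set_option autoImplicit false
set_option linter.unusedSectionVars false
set_option linter.unusedVariables false

namespace Cfsg.Agent.Helper16.ITO

universe u

section Grp

variable {G : Type u} [Group G] [Finite G]

/-- PIECE GRP3: the element of `N(P) ∖ P` inverts `P`. -/
theorem exists_inverting (p : ℕ) [Fact p.Prime] (hp2 : p ≠ 2) (P : Subgroup G)
    (hcard : Nat.card P = p) (hcent : Subgroup.centralizer (P : Set G) ≤ P)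
    (hN : Nat.card (Subgroup.normalizer (P : Set G)) = 2 * p) :
    ∃ n ∈ Subgroup.normalizer (P : Set G), ∀ a ∈ P, n * a * n⁻¹ = a⁻¹ := by
  classical
  have hp : p.Prime := Fact.out
  haveI : Fact (Nat.Prime 2) := ⟨Nat.prime_two⟩
  -- an involution of the normalizer
  obtain ⟨n', hn'⟩ := exists_prime_orderOf_dvd_card' (G := Subgroup.normalizer (P : Set G)) 2
    (by rw [hN]; exact dvd_mul_right 2 p)
  set n : G := (n' : G) with hn_def
  have hnN : n ∈ Subgroup.normalizer (P : Set G) := n'.2
  have hn2 : orderOf n = 2 := by rw [hn_def, Subgroup.orderOf_coe]; exact hn'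
  have hnn : n * n = 1 := by
    have := pow_orderOf_eq_one n
    rw [hn2, pow_two] at this
    exact this
  have hninv : n⁻¹ = n := inv_eq_of_mul_eq_one_left hnn
  -- `n ∉ P`
  have hnP : n ∉ P := by
    intro h
    have h1 : orderOf (⟨n, h⟩ : P) ∣ Nat.card P := orderOf_dvd_natCard _
    rw [Subgroup.orderOf_mk, hn2, hcard] at h1
    exact hp2 ((Nat.prime_dvd_prime_iff_eq Nat.prime_two hp).1 h1).symm
  -- `P` is commutative
  have hPcomm : ∀ a ∈ P, ∀ b ∈ P, a * b = b * a := by
    haveI : Fact (Nat.card P).Prime := ⟨by rw [hcard]; exact hp⟩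
    haveI : IsCyclic P := isCyclic_of_prime_card rfl
    intro a ha b hb
    have h := (IsCyclic.commGroup (α := P)).mul_comm ⟨a, ha⟩ ⟨b, hb⟩
    exact congrArg Subtype.val h
  -- conjugation by `n` keeps `P`
  have hconj : ∀ a ∈ P, n * a * n⁻¹ ∈ P := by
    intro a ha
    exact (Subgroup.mem_normalizer_iff.1 hnN a).1 ha
  -- the fixed points of `n` in `P`
  let C : Subgroup G := P ⊓ Subgroup.centralizer ({n} : Set G)
  have hCbot : C = ⊥ := by
    have hle : C ≤ P := inf_le_left
    have hdvd : Nat.card C ∣ Nat.card P := Subgroup.card_dvd_of_le hle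
    rw [hcard] at hdvd
    rcases (Nat.dvd_prime hp).1 hdvd with h1 | h1
    · exact Subgroup.card_eq_one.1 h1
    · exfalso
      have hCP : C = P := by
        apply Subgroup.eq_of_le_of_card_ge hle
        rw [h1, hcard]
      apply hnP
      apply hcent
      rw [Subgroup.mem_centralizer_iff]
      intro a ha
      have haC : a ∈ C := by rw [hCP]; exact ha
      have := Subgroup.mem_centralizer_iff.1 haC.2 n (Set.mem_singleton n)
      exact this.symm
  refine ⟨n, hnN, ?_⟩
  intro a ha
  have hb : a * (n * a * n⁻¹) ∈ C := by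
    refine Subgroup.mem_inf.2 ⟨P.mul_mem ha (hconj a ha), ?_⟩
    rw [Subgroup.mem_centralizer_iff]
    intro x hx
    rw [Set.mem_singleton_iff] at hx
    rw [hx, hninv]
    -- n * (a * (n a n)) = (a * (n a n)) * n
    have h1 : n * (a * (n * a * n)) = (n * a * n) * a * n := by group
    have h2 : (n * a * n) * a = a * (n * a * n) := by
      have := hPcomm a ha (n * a * n⁻¹) (hconj a ha)
      rw [hninv] at this
      exact this.symm
    rw [h1, h2]
  rw [hCbot, Subgroup.mem_bot] at hb
  exact eq_inv_of_mul_eq_one_right hb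

end Grp

end Cfsg.Agent.Helper16.ITO
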