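import Mathlib
import Cfsg.Agent.Lib.Helper16.TC648Defs
import Cfsg.Agent.Lib.Helper16.TC648Core

/-!
# S3702, piece INTE (helper18): integrality from the model group `3³ : C₂`
-/

set_option autoImplicit false
set_option linter.unusedSectionVars false
set_option linter.unusedVariables false

namespace Cfsg.Agent.Helper16.TC648

open Cfsg Cfsg.Agent.Helper24
open scoped ComplexConjugate

universe u

section Gen

variable {X : Type*} [Group X]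

theorem inte_pow_add3 {x : X} (h : x ^ 3 = 1) (a b : Fin 3) :
    x ^ ((a + b : Fin 3) : ℕ) = x ^ (a : ℕ) * x ^ (b : ℕ) := by
  rw [Fin.val_add, ← pow_add, ← pow_eq_pow_mod _ h]

theorem inte_pow_add2 {x : X} (h : x ^ 2 = 1) (a b : Fin 2) :
    x ^ ((a + b : Fin 2) : ℕ) = x ^ (a : ℕ) * x ^ (b : ℕ) := by
  rw [Fin.val_add, ← pow_add, ← pow_eq_pow_mod _ h]

theorem inte_pow_neg3 {x : X} (h : x ^ 3 = 1) (a : Fin 3) :
    x ^ ((-a : Fin 3) : ℕ) = (x ^ (a : ℕ))⁻¹ := by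
  have h1 := inte_pow_add3 h a (-a)
  rw [add_neg_cancel] at h1
  simp only [Fin.val_zero, pow_zero] at h1
  exact (inv_eq_of_mul_eq_one_right h1.symm).symm

theorem inte_mul3 {x y z : X} (hxy : Commute x y) (hxz : Commute x z) (hyz : Commute y z)
    (a b c a' b' c' : ℕ) :
    (x ^ a * y ^ b * z ^ c) * (x ^ a' * y ^ b' * z ^ c') =
      (x ^ a * x ^ a') * (y ^ b * y ^ b') * (z ^ c * z ^ c') := by
  have h1 : z ^ c * x ^ a' = x ^ a' * z ^ c := ((hxz.pow_pow a' c).symm).eq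
  have h2 : z ^ c * y ^ b' = y ^ b' * z ^ c := ((hyz.pow_pow b' c).symm).eq
  have h3 : y ^ b * x ^ a' = x ^ a' * y ^ b := ((hxy.pow_pow a' b).symm).eq
  calc (x ^ a * y ^ b * z ^ c) * (x ^ a' * y ^ b' * z ^ c')
      = x ^ a * y ^ b * (z ^ c * x ^ a') * y ^ b' * z ^ c' := by simp only [mul_assoc]
    _ = x ^ a * y ^ b * (x ^ a' * z ^ c) * y ^ b' * z ^ c' := by rw [h1]
    _ = x ^ a * (y ^ b * x ^ a') * (z ^ c * y ^ b') * z ^ c' := by simp only [mul_assoc]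
    _ = x ^ a * (x ^ a' * y ^ b) * (y ^ b' * z ^ c) * z ^ c' := by rw [h3, h2]
    _ = (x ^ a * x ^ a') * (y ^ b * y ^ b') * (z ^ c * z ^ c') := by simp only [mul_assoc]

end Gen

/-- the model group `3³ : C₂` -/
structure inte_Model where
  i : Fin 3
  j : Fin 3
  k : Fin 3
  l : Fin 2
deriving DecidableEq

namespace inte_Model

def equivProd : inte_Model ≃ Fin 3 × Fin 3 × Fin 3 × Fin 2 where
  toFun a := (a.i, a.j, a.k, a.l)
  invFun p := ⟨p.1, p.2.1, p.2.2.1, p.2.2.2⟩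
  left_inv a := by cases a; rfl
  right_inv p := by rfl

instance : Fintype inte_Model := Fintype.ofEquiv _ equivProd.symm

instance : Mul inte_Model :=
  ⟨fun a b => if a.l = 0 then ⟨a.i + b.i, a.j + b.j, a.k + b.k, a.l + b.l⟩
    else ⟨a.i + b.j, a.j + b.i, a.k - b.k, a.l + b.l⟩⟩

instance : One inte_Model := ⟨⟨0, 0, 0, 0⟩⟩

instance : Inv inte_Model :=
  ⟨fun a => if a.l = 0 then ⟨-a.i, -a.j, -a.k, a.l⟩ else ⟨-a.j, -a.i, a.k, a.l⟩⟩

theorem mul_def (a b : inte_Model) :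
    a * b = if a.l = 0 then ⟨a.i + b.i, a.j + b.j, a.k + b.k, a.l + b.l⟩
      else ⟨a.i + b.j, a.j + b.i, a.k - b.k, a.l + b.l⟩ := rfl

theorem one_def : (1 : inte_Model) = ⟨0, 0, 0, 0⟩ := rfl

theorem inv_def (a : inte_Model) :
    a⁻¹ = if a.l = 0 then ⟨-a.i, -a.j, -a.k, a.l⟩ else ⟨-a.j, -a.i, a.k, a.l⟩ := rfl

theorem l_cases (l : Fin 2) : l = 0 ∨ l = 1 := by
  fin_cases l <;> simp

instance : Group inte_Model where
  mul_assoc a b c := by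
    obtain ⟨i, j, k, l⟩ := a
    obtain ⟨i', j', k', l'⟩ := b
    obtain ⟨i'', j'', k'', l''⟩ := c
    rcases l_cases l with rfl | rfl <;> rcases l_cases l' with rfl | rfl <;>
      simp [mul_def]
    all_goals (try refine ⟨?_, ?_, ?_, ?_⟩)
    all_goals (try refine ⟨?_, ?_, ?_⟩)
    all_goals abel
  one_mul a := by
    obtain ⟨i, j, k, l⟩ := a
    simp [mul_def, one_def]
  mul_one a := by
    obtain ⟨i, j, k, l⟩ := a
    rcases l_cases l with rfl | rfl <;> simp [mul_def, one_def]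
  inv_mul_cancel a := by
    obtain ⟨i, j, k, l⟩ := a
    rcases l_cases l with rfl | rfl <;> simp [mul_def, one_def, inv_def]

theorem mul_l (a b : inte_Model) : (a * b).l = a.l + b.l := by
  rw [mul_def]; split_ifs <;> rfl

end inte_Model

variable {G : Type u} [Group G]

/-- conjugation by `s` on the words of `J` -/
theorem inte_conj (C : Cfg G) (a b c : ℕ) :
    C.s * (C.t1 ^ a * C.t2 ^ b * C.t3 ^ c) * C.s⁻¹ = C.t2 ^ a * C.t1 ^ b * (C.t3 ^ c)⁻¹ := by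
  rw [← conj_mul, ← conj_mul, ← conj_pow, ← conj_pow, ← conj_pow, C.rel.s1, C.rel.s12, C.rel.s3, inv_pow]

theorem inte_mul3' {X : Type*} [Group X] {x1 y1 z1 x2 y2 z2 : X} (h1 : z1 * x2 = x2 * z1)
    (h2 : z1 * y2 = y2 * z1) (h3 : y1 * x2 = x2 * y1) :
    (x1 * y1 * z1) * (x2 * y2 * z2) = (x1 * x2) * (y1 * y2) * (z1 * z2) := by
  calc (x1 * y1 * z1) * (x2 * y2 * z2)
      = x1 * y1 * (z1 * x2) * y2 * z2 := by simp only [mul_assoc]
    _ = x1 * y1 * (x2 * z1) * y2 * z2 := by rw [h1]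
    _ = x1 * (y1 * x2) * (z1 * y2) * z2 := by simp only [mul_assoc]
    _ = x1 * (x2 * y1) * (y2 * z1) * z2 := by rw [h3, h2]
    _ = (x1 * x2) * (y1 * y2) * (z1 * z2) := by simp only [mul_assoc]

/-- the homomorphism from the model onto the words -/
noncomputable def inte_iota (C : Cfg G) : inte_Model →* G where
  toFun a := C.t1 ^ (a.i : ℕ) * C.t2 ^ (a.j : ℕ) * C.t3 ^ (a.k : ℕ) * C.s ^ (a.l : ℕ)
  map_one' := by simp [inte_Model.one_def]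
  map_mul' a b := by
    obtain ⟨i, j, k, l⟩ := a
    obtain ⟨i', j', k', l'⟩ := b
    have h12 : Commute C.t1 C.t2 := C.rel.c12
    have h13 : Commute C.t1 C.t3 := C.rel.c13
    have h23 : Commute C.t2 C.t3 := C.rel.c23
    rcases inte_Model.l_cases l with rfl | rfl
    · simp only [inte_Model.mul_def, if_true, zero_add, Fin.val_zero, pow_zero, mul_one]
      rw [inte_pow_add3 C.rel.o1, inte_pow_add3 C.rel.o2, inte_pow_add3 C.rel.o3,
        ← inte_mul3 h12 h13 h23]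
      simp only [mul_assoc]
    · have h10 : ¬ ((1 : Fin 2) = 0) := by decide
      simp only [inte_Model.mul_def, h10, if_false]
      rw [inte_pow_add3 C.rel.o1, inte_pow_add3 C.rel.o2, inte_pow_add2 C.rel.s2, sub_eq_add_neg,
        inte_pow_add3 C.rel.o3, inte_pow_neg3 C.rel.o3]
      have hs : C.s ^ ((1 : Fin 2) : ℕ) = C.s := by simp
      rw [hs]
      have e2 : C.t2 ^ (i' : ℕ) * C.t1 ^ (j' : ℕ) = C.t1 ^ (j' : ℕ) * C.t2 ^ (i' : ℕ) :=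
        ((h12.pow_pow (j' : ℕ) (i' : ℕ)).symm).eq
      have e : C.s * (C.t1 ^ (i' : ℕ) * C.t2 ^ (j' : ℕ) * C.t3 ^ (k' : ℕ)) =
          (C.t1 ^ (j' : ℕ) * C.t2 ^ (i' : ℕ) * (C.t3 ^ (k' : ℕ))⁻¹) * C.s := by
        rw [← e2, ← inte_conj]; group
      have m3 : (C.t1 ^ (i : ℕ) * C.t2 ^ (j : ℕ) * C.t3 ^ (k : ℕ)) *
          (C.t1 ^ (j' : ℕ) * C.t2 ^ (i' : ℕ) * (C.t3 ^ (k' : ℕ))⁻¹) =
          (C.t1 ^ (i : ℕ) * C.t1 ^ (j' : ℕ)) * (C.t2 ^ (j : ℕ) * C.t2 ^ (i' : ℕ)) *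
            (C.t3 ^ (k : ℕ) * (C.t3 ^ (k' : ℕ))⁻¹) :=
        inte_mul3' ((h13.pow_pow (j' : ℕ) (k : ℕ)).symm).eq ((h23.pow_pow (i' : ℕ) (k : ℕ)).symm).eq
          ((h12.pow_pow (j' : ℕ) (j : ℕ)).symm).eq
      rw [← m3]
      calc (C.t1 ^ (i : ℕ) * C.t2 ^ (j : ℕ) * C.t3 ^ (k : ℕ)) *
            (C.t1 ^ (j' : ℕ) * C.t2 ^ (i' : ℕ) * (C.t3 ^ (k' : ℕ))⁻¹) * (C.s * C.s ^ (l' : ℕ))
          = (C.t1 ^ (i : ℕ) * C.t2 ^ (j : ℕ) * C.t3 ^ (k : ℕ)) *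
            ((C.t1 ^ (j' : ℕ) * C.t2 ^ (i' : ℕ) * (C.t3 ^ (k' : ℕ))⁻¹) * C.s) * C.s ^ (l' : ℕ) := by
            simp only [mul_assoc]
        _ = (C.t1 ^ (i : ℕ) * C.t2 ^ (j : ℕ) * C.t3 ^ (k : ℕ)) *
            (C.s * (C.t1 ^ (i' : ℕ) * C.t2 ^ (j' : ℕ) * C.t3 ^ (k' : ℕ))) * C.s ^ (l' : ℕ) := by
            rw [e]
        _ = C.t1 ^ (i : ℕ) * C.t2 ^ (j : ℕ) * C.t3 ^ (k : ℕ) * C.s *
            (C.t1 ^ (i' : ℕ) * C.t2 ^ (j' : ℕ) * C.t3 ^ (k' : ℕ) * C.s ^ (l' : ℕ)) := by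
            simp only [mul_assoc]

/-- the linear character `μ̃ (t1^i t2^j t3^k s^l) = ω^(i+j)` of the model -/
noncomputable def inte_mu (w : ℂˣ) (hw : w ^ 3 = 1) : inte_Model →* ℂˣ where
  toFun a := w ^ (a.i : ℕ) * w ^ (a.j : ℕ)
  map_one' := by simp [inte_Model.one_def]
  map_mul' a b := by
    obtain ⟨i, j, k, l⟩ := a
    obtain ⟨i', j', k', l'⟩ := b
    rcases inte_Model.l_cases l with rfl | rfl
    · simp only [inte_Model.mul_def, if_true]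
      rw [inte_pow_add3 hw, inte_pow_add3 hw]
      ac_rfl
    · have h10 : ¬ ((1 : Fin 2) = 0) := by decide
      simp only [inte_Model.mul_def, h10, if_false]
      rw [inte_pow_add3 hw, inte_pow_add3 hw]
      ac_rfl

/-- the sign character `ε (t1^i t2^j t3^k s^l) = (-1)^l` of the model -/
noncomputable def inte_eps : inte_Model →* ℂˣ where
  toFun a := (-1) ^ (a.l : ℕ)
  map_one' := by simp [inte_Model.one_def]
  map_mul' a b := by
    rw [inte_Model.mul_l, inte_pow_add2 (by norm_num)]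

theorem inte_card : Fintype.card inte_Model = 54 := by
  rw [Fintype.card_congr inte_Model.equivProd]
  simp

theorem inte_sum (f : inte_Model → ℂ) :
    ∑ x : inte_Model, f x = ∑ i : Fin 3, ∑ j : Fin 3, ∑ k : Fin 3, ∑ l : Fin 2, f ⟨i, j, k, l⟩ := by
  rw [← Equiv.sum_comp inte_Model.equivProd.symm f]
  simp only [Fintype.sum_prod_type]
  rfl

/-- PIECE INTE: `I = ⟨t1,t2,t3⟩⟨s⟩`, `μ̃(t1^i t2^j t3^k s^l) = ω^(i+j)`, sign `(-1)^l` -/
theorem int_E (C : Cfg G) {ω : ℂ} (hω : ω ^ 2 + ω + 1 = 0) {χ : G → ℂ} (hχ : IsCharacter G χ) (n : Fin 2) :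
    ∃ a : ℤ, (a : ℂ) * 54 = ∑ i : Fin 3, ∑ j : Fin 3, ∑ k : Fin 3, ∑ l : Fin 2,
      χ (C.wJ i j k * C.s ^ (l : ℕ)) * (ω ^ (2 * ((i : ℕ) + (j : ℕ))) - 1) * (-1) ^ ((n : ℕ) * (l : ℕ)) := by
  have h0 := omega_ne_zero hω
  have h3 := omega_cube hω
  set w : ℂˣ := Units.mk0 ω h0 with hw
  have hw3 : w ^ 3 = 1 := by
    apply Units.ext
    simp [hw, h3]
  obtain ⟨a, ha⟩ := int_of_model (inte_iota C) (inte_mu w hw3 * inte_eps ^ (n : ℕ)) (inte_eps ^ (n : ℕ)) hχ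
  refine ⟨a, ?_⟩
  rw [inte_card] at ha
  rw [inte_sum] at ha
  have h54 : ((54 : ℕ) : ℂ) = 54 := by norm_num
  rw [h54] at ha
  rw [ha]
  refine Finset.sum_congr rfl fun i _ => Finset.sum_congr rfl fun j _ => Finset.sum_congr rfl fun k _ =>
    Finset.sum_congr rfl fun l _ => ?_
  have e1 : inte_iota C ⟨i, j, k, l⟩ = C.wJ i j k * C.s ^ (l : ℕ) := rfl
  rw [e1]
  have e2 : (((inte_mu w hw3 * inte_eps ^ (n : ℕ)) ⟨i, j, k, l⟩ : ℂˣ) : ℂ) =
      ω ^ (i : ℕ) * ω ^ (j : ℕ) * ((-1) ^ (l : ℕ)) ^ (n : ℕ) := by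
    simp [inte_mu, inte_eps, hw]
  have e3 : (((inte_eps ^ (n : ℕ)) ⟨i, j, k, l⟩ : ℂˣ) : ℂ) = ((-1) ^ (l : ℕ)) ^ (n : ℕ) := by
    simp [inte_eps]
  rw [e2, e3]
  simp only [map_mul, map_pow, map_neg, map_one, conj_omega hω]
  rw [← pow_mul, ← pow_mul, ← pow_mul, mul_comm (l : ℕ) (n : ℕ)]
  ring

end Cfsg.Agent.Helper16.TC648
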