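import Mathlib
import Cfsg.Agent.Lib.Helper16.TC648Defs
import Cfsg.Agent.Lib.Helper16.TC648Core
import Cfsg.Agent.Lib.Helper18.TC648INTE

/-!
# S3702, piece INTV (helper18): integrality from the model group `3³ : C₃`
-/

set_option autoImplicit false
set_option linter.unusedSectionVars false
set_option linter.unusedVariables false

namespace Cfsg.Agent.Helper16.TC648

open Cfsg Cfsg.Agent.Helper24
open scoped ComplexConjugate

universe u

/-- the model group `3³ : C₃` -/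
structure intv_Model where
  i : Fin 3
  j : Fin 3
  k : Fin 3
  l : Fin 3
deriving DecidableEq

namespace intv_Model

def equivProd : intv_Model ≃ Fin 3 × Fin 3 × Fin 3 × Fin 3 where
  toFun a := (a.i, a.j, a.k, a.l)
  invFun p := ⟨p.1, p.2.1, p.2.2.1, p.2.2.2⟩
  left_inv a := by cases a; rfl
  right_inv p := by rfl

instance : Fintype intv_Model := Fintype.ofEquiv _ equivProd.symm

instance : Mul intv_Model :=
  ⟨fun a b => if a.l = 0 then ⟨a.i + b.i, a.j + b.j, a.k + b.k, a.l + b.l⟩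
    else if a.l = 1 then ⟨a.i + b.k, a.j + b.i, a.k + b.j, a.l + b.l⟩
    else ⟨a.i + b.j, a.j + b.k, a.k + b.i, a.l + b.l⟩⟩

instance : One intv_Model := ⟨⟨0, 0, 0, 0⟩⟩

instance : Inv intv_Model :=
  ⟨fun a => if a.l = 0 then ⟨-a.i, -a.j, -a.k, 0⟩
    else if a.l = 1 then ⟨-a.j, -a.k, -a.i, 2⟩
    else ⟨-a.k, -a.i, -a.j, 1⟩⟩

theorem mul_def (a b : intv_Model) :
    a * b = if a.l = 0 then ⟨a.i + b.i, a.j + b.j, a.k + b.k, a.l + b.l⟩
    else if a.l = 1 then ⟨a.i + b.k, a.j + b.i, a.k + b.j, a.l + b.l⟩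
    else ⟨a.i + b.j, a.j + b.k, a.k + b.i, a.l + b.l⟩ := rfl

theorem one_def : (1 : intv_Model) = ⟨0, 0, 0, 0⟩ := rfl

theorem inv_def (a : intv_Model) :
    a⁻¹ = if a.l = 0 then ⟨-a.i, -a.j, -a.k, 0⟩
    else if a.l = 1 then ⟨-a.j, -a.k, -a.i, 2⟩
    else ⟨-a.k, -a.i, -a.j, 1⟩ := rfl

theorem l_cases (l : Fin 3) : l = 0 ∨ l = 1 ∨ l = 2 := by
  fin_cases l <;> simp

theorem h10 : ¬ ((1 : Fin 3) = 0) := by decide
theorem h20 : ¬ ((2 : Fin 3) = 0) := by decide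
theorem h21 : ¬ ((2 : Fin 3) = 1) := by decide
theorem h11 : ((1 : Fin 3) + 1 = 2) := by decide
theorem h12 : ((1 : Fin 3) + 2 = 0) := by decide
theorem h2_1 : ((2 : Fin 3) + 1 = 0) := by decide
theorem h22 : ((2 : Fin 3) + 2 = 1) := by decide

instance : Group intv_Model where
  mul_assoc a b c := by
    obtain ⟨i, j, k, l⟩ := a
    obtain ⟨i', j', k', l'⟩ := b
    obtain ⟨i'', j'', k'', l''⟩ := c
    rcases l_cases l with rfl | rfl | rfl <;> rcases l_cases l' with rfl | rfl | rfl <;>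
      simp [mul_def, h10, h20, h21, h11, h12, h2_1, h22]
    all_goals (try refine ⟨?_, ?_, ?_, ?_⟩)
    all_goals (try refine ⟨?_, ?_, ?_⟩)
    all_goals (first | abel1 | (rcases l_cases l'' with rfl | rfl | rfl <;> decide))
  one_mul a := by
    obtain ⟨i, j, k, l⟩ := a
    simp [mul_def, one_def]
  mul_one a := by
    obtain ⟨i, j, k, l⟩ := a
    rcases l_cases l with rfl | rfl | rfl <;> simp [mul_def, one_def, h10, h20, h21]
  inv_mul_cancel a := by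
    obtain ⟨i, j, k, l⟩ := a
    rcases l_cases l with rfl | rfl | rfl <;>
      simp [mul_def, one_def, inv_def, h10, h20, h21, h11, h12, h2_1, h22]

theorem mul_l (a b : intv_Model) : (a * b).l = a.l + b.l := by
  rw [mul_def]; split_ifs <;> rfl

end intv_Model

variable {G : Type u} [Group G]

/-- conjugation by `c` on the words of `J` -/
theorem intv_conj (C : Cfg G) (a b c : ℕ) :
    C.c * (C.t1 ^ a * C.t2 ^ b * C.t3 ^ c) = (C.t1 ^ c * C.t2 ^ a * C.t3 ^ b) * C.c := by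
  have h12 : Commute C.t1 C.t2 := C.rel.c12
  have h13 : Commute C.t1 C.t3 := C.rel.c13
  have h23 : Commute C.t2 C.t3 := C.rel.c23
  have e : C.c * (C.t1 ^ a * C.t2 ^ b * C.t3 ^ c) * C.c⁻¹ = C.t2 ^ a * C.t3 ^ b * C.t1 ^ c := by
    rw [← conj_mul, ← conj_mul, ← conj_pow, ← conj_pow, ← conj_pow, C.rel.c1, C.rel.c2, C.rel.c31]
  have e' : C.t2 ^ a * C.t3 ^ b * C.t1 ^ c = C.t1 ^ c * C.t2 ^ a * C.t3 ^ b := by
    rw [((h12.pow_pow c a).mul_right (h13.pow_pow c b)).symm.eq, ← mul_assoc]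
  rw [← e', ← e]; group

theorem intv_conj2 (C : Cfg G) (a b c : ℕ) :
    C.c ^ 2 * (C.t1 ^ a * C.t2 ^ b * C.t3 ^ c) = (C.t1 ^ b * C.t2 ^ c * C.t3 ^ a) * C.c ^ 2 := by
  rw [pow_two, mul_assoc, intv_conj, ← mul_assoc, intv_conj, mul_assoc]

/-- the homomorphism from the model onto the words -/
noncomputable def intv_iota (C : Cfg G) : intv_Model →* G where
  toFun a := C.t1 ^ (a.i : ℕ) * C.t2 ^ (a.j : ℕ) * C.t3 ^ (a.k : ℕ) * C.c ^ (a.l : ℕ)
  map_one' := by simp [intv_Model.one_def]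
  map_mul' a b := by
    obtain ⟨i, j, k, l⟩ := a
    obtain ⟨i', j', k', l'⟩ := b
    have h12 : Commute C.t1 C.t2 := C.rel.c12
    have h13 : Commute C.t1 C.t3 := C.rel.c13
    have h23 : Commute C.t2 C.t3 := C.rel.c23
    have key : ∀ (a b c : ℕ) (x : G) (l : Fin 3),
        x * (C.t1 ^ (i' : ℕ) * C.t2 ^ (j' : ℕ) * C.t3 ^ (k' : ℕ)) = (C.t1 ^ a * C.t2 ^ b * C.t3 ^ c) * x →
        x = C.c ^ (l : ℕ) →
        (C.t1 ^ (i : ℕ) * C.t1 ^ a) * (C.t2 ^ (j : ℕ) * C.t2 ^ b) * (C.t3 ^ (k : ℕ) * C.t3 ^ c) *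
          (C.c ^ (l : ℕ) * C.c ^ (l' : ℕ)) =
        C.t1 ^ (i : ℕ) * C.t2 ^ (j : ℕ) * C.t3 ^ (k : ℕ) * C.c ^ (l : ℕ) *
          (C.t1 ^ (i' : ℕ) * C.t2 ^ (j' : ℕ) * C.t3 ^ (k' : ℕ) * C.c ^ (l' : ℕ)) := by
      intro a b c x l hx hxl
      rw [← inte_mul3 h12 h13 h23, ← hxl]
      calc (C.t1 ^ (i : ℕ) * C.t2 ^ (j : ℕ) * C.t3 ^ (k : ℕ)) * (C.t1 ^ a * C.t2 ^ b * C.t3 ^ c) *
            (x * C.c ^ (l' : ℕ))
          = (C.t1 ^ (i : ℕ) * C.t2 ^ (j : ℕ) * C.t3 ^ (k : ℕ)) * ((C.t1 ^ a * C.t2 ^ b * C.t3 ^ c) * x) *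
            C.c ^ (l' : ℕ) := by simp only [mul_assoc]
        _ = (C.t1 ^ (i : ℕ) * C.t2 ^ (j : ℕ) * C.t3 ^ (k : ℕ)) *
            (x * (C.t1 ^ (i' : ℕ) * C.t2 ^ (j' : ℕ) * C.t3 ^ (k' : ℕ))) * C.c ^ (l' : ℕ) := by rw [hx]
        _ = _ := by simp only [mul_assoc]
    rcases intv_Model.l_cases l with rfl | rfl | rfl
    · simp only [intv_Model.mul_def, if_true]
      rw [inte_pow_add3 C.rel.o1, inte_pow_add3 C.rel.o2, inte_pow_add3 C.rel.o3, inte_pow_add3 C.rel.c3]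
      exact key _ _ _ 1 0 (by simp) (by simp)
    · simp only [intv_Model.mul_def, intv_Model.h10, if_false, if_true]
      rw [inte_pow_add3 C.rel.o1, inte_pow_add3 C.rel.o2, inte_pow_add3 C.rel.o3, inte_pow_add3 C.rel.c3]
      exact key _ _ _ C.c 1 (intv_conj C _ _ _) (by simp)
    · simp only [intv_Model.mul_def, intv_Model.h20, intv_Model.h21, if_false]
      rw [inte_pow_add3 C.rel.o1, inte_pow_add3 C.rel.o2, inte_pow_add3 C.rel.o3, inte_pow_add3 C.rel.c3]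
      exact key _ _ _ (C.c ^ 2) 2 (intv_conj2 C _ _ _) (by simp)

/-- the linear character `ν̃ (t1^i t2^j t3^k c^l) = ω^(i+j+k)` of the model -/
noncomputable def intv_nu (w : ℂˣ) (hw : w ^ 3 = 1) : intv_Model →* ℂˣ where
  toFun a := w ^ (a.i : ℕ) * w ^ (a.j : ℕ) * w ^ (a.k : ℕ)
  map_one' := by simp [intv_Model.one_def]
  map_mul' a b := by
    obtain ⟨i, j, k, l⟩ := a
    obtain ⟨i', j', k', l'⟩ := b
    rcases intv_Model.l_cases l with rfl | rfl | rfl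
    · simp only [intv_Model.mul_def, if_true]
      rw [inte_pow_add3 hw, inte_pow_add3 hw, inte_pow_add3 hw]
      ac_rfl
    · simp only [intv_Model.mul_def, intv_Model.h10, if_false, if_true]
      rw [inte_pow_add3 hw, inte_pow_add3 hw, inte_pow_add3 hw]
      ac_rfl
    · simp only [intv_Model.mul_def, intv_Model.h20, intv_Model.h21, if_false]
      rw [inte_pow_add3 hw, inte_pow_add3 hw, inte_pow_add3 hw]
      ac_rfl

/-- the linear character `ω_c (t1^i t2^j t3^k c^l) = ω^l` of the model -/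
noncomputable def intv_eps (w : ℂˣ) (hw : w ^ 3 = 1) : intv_Model →* ℂˣ where
  toFun a := w ^ (a.l : ℕ)
  map_one' := by simp [intv_Model.one_def]
  map_mul' a b := by
    rw [intv_Model.mul_l, inte_pow_add3 hw]

theorem intv_card : Fintype.card intv_Model = 81 := by
  rw [Fintype.card_congr intv_Model.equivProd]
  simp

theorem intv_sum (f : intv_Model → ℂ) :
    ∑ x : intv_Model, f x = ∑ i : Fin 3, ∑ j : Fin 3, ∑ k : Fin 3, ∑ l : Fin 3, f ⟨i, j, k, l⟩ := by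
  rw [← Equiv.sum_comp intv_Model.equivProd.symm f]
  simp only [Fintype.sum_prod_type]
  rfl

/-- PIECE INTV: `I = ⟨t1,t2,t3⟩⟨c⟩`, `ν̃(t1^i t2^j t3^k c^l) = ω^(i+j+k)`, `ω_c(..) = ω^l` -/
theorem int_V (C : Cfg G) {ω : ℂ} (hω : ω ^ 2 + ω + 1 = 0) {χ : G → ℂ} (hχ : IsCharacter G χ) (n : Fin 3) :
    ∃ a : ℤ, (a : ℂ) * 81 = ∑ i : Fin 3, ∑ j : Fin 3, ∑ k : Fin 3, ∑ l : Fin 3,
      χ (C.wJ i j k * C.c ^ (l : ℕ)) * (ω ^ (2 * ((i : ℕ) + (j : ℕ) + (k : ℕ))) - 1) *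
        ω ^ (2 * (n : ℕ) * (l : ℕ)) := by
  have h0 := omega_ne_zero hω
  have h3 := omega_cube hω
  set w : ℂˣ := Units.mk0 ω h0 with hw
  have hw3 : w ^ 3 = 1 := by
    apply Units.ext
    simp [hw, h3]
  obtain ⟨a, ha⟩ := int_of_model (intv_iota C) (intv_nu w hw3 * intv_eps w hw3 ^ (n : ℕ))
    (intv_eps w hw3 ^ (n : ℕ)) hχ
  refine ⟨a, ?_⟩
  rw [intv_card] at ha
  rw [intv_sum] at ha
  have h81 : ((81 : ℕ) : ℂ) = 81 := by norm_num
  rw [h81] at ha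
  rw [ha]
  refine Finset.sum_congr rfl fun i _ => Finset.sum_congr rfl fun j _ => Finset.sum_congr rfl fun k _ =>
    Finset.sum_congr rfl fun l _ => ?_
  have e1 : intv_iota C ⟨i, j, k, l⟩ = C.wJ i j k * C.c ^ (l : ℕ) := rfl
  rw [e1]
  have e2 : (((intv_nu w hw3 * intv_eps w hw3 ^ (n : ℕ)) ⟨i, j, k, l⟩ : ℂˣ) : ℂ) =
      ω ^ (i : ℕ) * ω ^ (j : ℕ) * ω ^ (k : ℕ) * (ω ^ (l : ℕ)) ^ (n : ℕ) := by
    simp [intv_nu, intv_eps, hw]
  have e3 : (((intv_eps w hw3 ^ (n : ℕ)) ⟨i, j, k, l⟩ : ℂˣ) : ℂ) = (ω ^ (l : ℕ)) ^ (n : ℕ) := by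
    simp [intv_eps, hw]
  rw [e2, e3]
  simp only [map_mul, map_pow, conj_omega hω]
  simp only [← pow_mul]
  have e4 : 2 * (l : ℕ) * (n : ℕ) = 2 * (n : ℕ) * (l : ℕ) := by ring
  rw [e4]
  ring

end Cfsg.Agent.Helper16.TC648
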