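import Mathlib

set_option autoImplicit false

namespace Cfsg.Agent.Helper18

open MulAction

section Burnside

variable {G X : Type*} [Group G] [MulAction G X]

/-- Burnside's lemma with `Nat.card`. -/
theorem burnside_natCard [Fintype G] [Finite X] :
    ∑ g : G, Nat.card (fixedBy X g) = Nat.card (orbitRel.Quotient G X) * Nat.card G := by
  classical
  haveI : Fintype X := Fintype.ofFinite X
  haveI : Fintype (orbitRel.Quotient G X) := Fintype.ofFinite _
  haveI : ∀ g : G, Fintype (fixedBy X g) := fun g => Fintype.ofFinite _
  have := MulAction.sum_card_fixedBy_eq_card_orbits_mul_card_group G X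
  simp only [Nat.card_eq_fintype_card]
  convert this

/-- Burnside's lemma for a subgroup, with fixed points computed in the big group. -/
theorem burnside_subgroup [Finite G] [Finite X] (D : Subgroup G) [Fintype D] :
    ∑ d : D, Nat.card (fixedBy X (d : G)) = Nat.card (orbitRel.Quotient D X) * Nat.card D := by
  rw [← burnside_natCard (G := D) (X := X)]
  rfl

end Burnside

section Derangements

variable {G X : Type*} [Group G] [MulAction G X]

/-- If a subgroup `D` of a finite transitive group contains all derangements, then `D` is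
transitive and every element outside `D` has exactly one fixed point. -/
theorem der_main [Finite G] [Finite X] [IsPretransitive G X] (D : Subgroup G)
    (hD : ∀ g : G, (∀ ω : X, g • ω ≠ ω) → g ∈ D) :
    IsPretransitive D X ∧ ∀ g : G, g ∉ D → Nat.card (fixedBy X g) = 1 := by
  classical
  rcases isEmpty_or_nonempty X with hX | hX
  · refine ⟨⟨fun x => isEmptyElim x⟩, fun g hg => ?_⟩
    exact absurd (hD g (fun ω => isEmptyElim ω)) hg
  haveI : Fintype G := Fintype.ofFinite G
  set f : G → ℕ := fun g => Nat.card (fixedBy X g) with hf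
  -- Burnside for G
  have h1 : ∑ g : G, f g = Nat.card G := by
    have hb := burnside_natCard (G := G) (X := X)
    haveI : Unique (orbitRel.Quotient G X) :=
      (pretransitive_iff_unique_quotient_of_nonempty G X).mp inferInstance |>.some
    rw [Nat.card_unique, one_mul] at hb
    exact hb
  -- Burnside for D
  have h2 : ∑ d : D, f (d : G) = Nat.card (orbitRel.Quotient D X) * Nat.card D :=
    burnside_subgroup D
  -- split the sum
  have h3 : ∑ g : G, f g = ∑ g ∈ Finset.univ.filter (fun g => g ∈ D), f g +
      ∑ g ∈ Finset.univ.filter (fun g => ¬ g ∈ D), f g :=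
    (Finset.sum_filter_add_sum_filter_not _ _ _).symm
  have h4 : ∑ g ∈ Finset.univ.filter (fun g => g ∈ D), f g = ∑ d : D, f (d : G) := by
    apply Finset.sum_subtype
    intro x; simp
  -- elements outside D have at least one fixed point
  have h5 : ∀ g : G, g ∉ D → 1 ≤ f g := by
    intro g hg
    have : ¬ ∀ ω : X, g • ω ≠ ω := fun h => hg (hD g h)
    simp only [ne_eq, not_forall, not_not] at this
    obtain ⟨ω, hω⟩ := this
    have : Nonempty (fixedBy X g) := ⟨⟨ω, hω⟩⟩
    exact Nat.card_pos
  have h6 : ∑ g ∈ Finset.univ.filter (fun g => ¬ g ∈ D), f g =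
      (Finset.univ.filter (fun g : G => ¬ g ∈ D)).card +
        ∑ g ∈ Finset.univ.filter (fun g => ¬ g ∈ D), (f g - 1) := by
    rw [Finset.card_eq_sum_ones, ← Finset.sum_add_distrib]
    apply Finset.sum_congr rfl
    intro g hg
    have := h5 g (Finset.mem_filter.mp hg).2
    omega
  have h7 : (Finset.univ.filter (fun g : G => g ∈ D)).card = Nat.card D := by
    rw [Nat.card_eq_fintype_card, Fintype.card_subtype]
  have h8 : (Finset.univ.filter (fun g : G => g ∈ D)).card +
      (Finset.univ.filter (fun g : G => ¬ g ∈ D)).card = Nat.card G := by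
    rw [Finset.card_filter_add_card_filter_not, Finset.card_univ, Nat.card_eq_fintype_card]
  have hDpos : 0 < Nat.card D := Nat.card_pos
  have hkpos : 0 < Nat.card (orbitRel.Quotient D X) := by
    have : Nonempty (orbitRel.Quotient D X) := ⟨Quotient.mk'' hX.some⟩
    exact Nat.card_pos
  -- combine
  have h9 : Nat.card (orbitRel.Quotient D X) * Nat.card D +
      ∑ g ∈ Finset.univ.filter (fun g => ¬ g ∈ D), (f g - 1) = Nat.card D := by
    rw [h3, h4, h2, h6] at h1
    omega
  have h10 : Nat.card (orbitRel.Quotient D X) = 1 := by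
    have : Nat.card (orbitRel.Quotient D X) * Nat.card D ≤ 1 * Nat.card D := by omega
    have := Nat.le_of_mul_le_mul_right this hDpos
    omega
  have h11 : ∑ g ∈ Finset.univ.filter (fun g => ¬ g ∈ D), (f g - 1) = 0 := by
    rw [h10] at h9; omega
  refine ⟨?_, fun g hg => ?_⟩
  · rw [pretransitive_iff_subsingleton_quotient]
    exact (Nat.card_eq_one_iff_unique.mp h10).1
  · have := (Finset.sum_eq_zero_iff.mp h11) g (Finset.mem_filter.mpr ⟨Finset.mem_univ _, hg⟩)
    have := h5 g hg
    change f g = 1
    omega

/-- Fixed points of `g` on `X × X`. -/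
theorem card_fixedBy_prod [Finite X] (g : G) :
    Nat.card (fixedBy (X × X) g) = Nat.card (fixedBy X g) * Nat.card (fixedBy X g) := by
  rw [← Nat.card_prod]
  apply Nat.card_congr
  exact
    { toFun := fun p => (⟨p.1.1, by
          have := p.2; rw [mem_fixedBy] at this; exact congrArg Prod.fst this⟩,
        ⟨p.1.2, by
          have := p.2; rw [mem_fixedBy] at this; exact congrArg Prod.snd this⟩)
      invFun := fun q => ⟨(q.1.1, q.2.1), by
          rw [mem_fixedBy]
          exact Prod.ext q.1.2 q.2.2⟩
      left_inv := fun p => rfl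
      right_inv := fun q => rfl }

/-- The rank relation between a transitive group and a subgroup containing all derangements. -/
theorem rank_eq [Finite G] [Finite X] [IsPretransitive G X] (D : Subgroup G)
    (hD : ∀ g : G, (∀ ω : X, g • ω ≠ ω) → g ∈ D) :
    Nat.card (orbitRel.Quotient G (X × X)) * D.index + 1 =
      Nat.card (orbitRel.Quotient D (X × X)) + D.index := by
  classical
  haveI : Fintype G := Fintype.ofFinite G
  obtain ⟨-, hone⟩ := der_main D hD
  set f : G → ℕ := fun g => Nat.card (fixedBy (X × X) g) with hf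
  have h1 : ∑ g : G, f g = Nat.card (orbitRel.Quotient G (X × X)) * Nat.card G :=
    burnside_natCard (G := G) (X := X × X)
  have h2 : ∑ d : D, f (d : G) = Nat.card (orbitRel.Quotient D (X × X)) * Nat.card D :=
    burnside_subgroup (X := X × X) D
  have h3 : ∑ g : G, f g = ∑ g ∈ Finset.univ.filter (fun g => g ∈ D), f g +
      ∑ g ∈ Finset.univ.filter (fun g => ¬ g ∈ D), f g :=
    (Finset.sum_filter_add_sum_filter_not _ _ _).symm
  have h4 : ∑ g ∈ Finset.univ.filter (fun g => g ∈ D), f g = ∑ d : D, f (d : G) := by
    apply Finset.sum_subtype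
    intro x; simp
  have h6 : ∑ g ∈ Finset.univ.filter (fun g => ¬ g ∈ D), f g =
      (Finset.univ.filter (fun g : G => ¬ g ∈ D)).card := by
    rw [Finset.card_eq_sum_ones]
    apply Finset.sum_congr rfl
    intro g hg
    have := hone g (Finset.mem_filter.mp hg).2
    change Nat.card (fixedBy (X × X) g) = 1
    rw [card_fixedBy_prod, this]
  have h7 : (Finset.univ.filter (fun g : G => g ∈ D)).card = Nat.card D := by
    rw [Nat.card_eq_fintype_card, Fintype.card_subtype]
  have h8 : (Finset.univ.filter (fun g : G => g ∈ D)).card +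
      (Finset.univ.filter (fun g : G => ¬ g ∈ D)).card = Nat.card G := by
    rw [Finset.card_filter_add_card_filter_not, Finset.card_univ, Nat.card_eq_fintype_card]
  have hDpos : 0 < Nat.card D := Nat.card_pos
  have hidx : D.index * Nat.card D = Nat.card G := D.index_mul_card
  have h9 : Nat.card (orbitRel.Quotient G (X × X)) * Nat.card G + Nat.card D =
      Nat.card (orbitRel.Quotient D (X × X)) * Nat.card D + Nat.card G := by
    rw [h3, h4, h2, h6] at h1
    omega
  have h10 : (Nat.card (orbitRel.Quotient G (X × X)) * D.index + 1) * Nat.card D =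
      (Nat.card (orbitRel.Quotient D (X × X)) + D.index) * Nat.card D := by
    rw [← hidx] at h9
    nlinarith [h9]
  exact Nat.eq_of_mul_eq_mul_right hDpos h10

end Derangements

section IndexDvd

variable {K Y : Type*} [Group K] [MulAction K Y]

/-- If all point stabilizers lie in the subgroup `L`, the index of `L` divides the number of
points. -/
theorem index_dvd_card_of_stabilizer_le [Finite K] [Finite Y] (L : Subgroup K)
    (h : ∀ y : Y, stabilizer K y ≤ L) : L.index ∣ Nat.card Y := by
  classical
  haveI : Fintype (orbitRel.Quotient K Y) := Fintype.ofFinite _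
  rw [Nat.card_congr (selfEquivSigmaOrbits' K Y), Nat.card_sigma]
  apply Finset.dvd_sum
  intro ω _
  rw [orbitRel.Quotient.orbit_eq_orbit_out ω Quotient.out_eq', Nat.card_coe_set_eq,
    ← index_stabilizer]
  exact Subgroup.index_dvd_of_le (h _)

end IndexDvd

section DerSubgroup

variable {G X : Type*} [Group G] [MulAction G X]

/-- The subgroup generated by the derangements is normal. -/
theorem closure_der_normal :
    (Subgroup.closure {g : G | ∀ ω : X, g • ω ≠ ω}).Normal := by
  have h : Subgroup.closure {g : G | ∀ ω : X, g • ω ≠ ω} =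
      Subgroup.normalClosure {g : G | ∀ ω : X, g • ω ≠ ω} := by
    apply le_antisymm
    · exact Subgroup.closure_le_normalClosure
    · unfold Subgroup.normalClosure
      apply Subgroup.closure_mono
      intro x hx
      rw [Group.mem_conjugatesOfSet_iff] at hx
      obtain ⟨a, ha, hax⟩ := hx
      obtain ⟨c, hc⟩ := isConj_iff.mp hax
      intro ω hω
      apply ha (c⁻¹ • ω)
      rw [← hc] at hω
      have := congrArg (fun z => c⁻¹ • z) hω
      simpa [mul_smul] using this
  rw [h]
  infer_instance

/-- A subgroup containing the derangements contains every two-point stabilizer. -/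
theorem mem_of_fix_two [Finite G] [Finite X] [IsPretransitive G X] (D : Subgroup G)
    (hD : ∀ g : G, (∀ ω : X, g • ω ≠ ω) → g ∈ D) (g : G) (a b : X) (hab : a ≠ b)
    (ha : g • a = a) (hb : g • b = b) : g ∈ D := by
  obtain ⟨-, hone⟩ := der_main D hD
  by_contra hcon
  have h1 := hone g hcon
  have : Subsingleton (fixedBy X g) := (Nat.card_eq_one_iff_unique.mp h1).1
  have := congrArg Subtype.val (Subsingleton.elim (⟨a, ha⟩ : fixedBy X g) ⟨b, hb⟩)
  exact hab this

/-- For a transitive normal subgroup `D`, the index of `D ∩ G_a` in `G_a` is the index of `D`. -/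
theorem index_subgroupOf_stabilizer (D : Subgroup G) [D.Normal] [IsPretransitive D X] (a : X) :
    (D.subgroupOf (stabilizer G a)).index = D.index := by
  change D.relIndex (stabilizer G a) = D.index
  rw [← Subgroup.relIndex_sup_right, ← Subgroup.relIndex_top_right]
  congr 1
  rw [eq_top_iff]
  intro g _
  obtain ⟨d, hd⟩ := exists_smul_eq D a (g • a)
  have hmem : (d : G)⁻¹ * g ∈ stabilizer G a := by
    rw [mem_stabilizer_iff, mul_smul]
    have : (d : G) • a = g • a := hd
    rw [← this, inv_smul_smul]
  have : g = (d : G)⁻¹⁻¹ * ((d : G)⁻¹ * g) := by group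
  rw [this]
  rw [inv_inv]
  exact Subgroup.mul_mem _ (Subgroup.mem_sup_right d.2) (Subgroup.mem_sup_left hmem)

/-- If `D` is a normal subgroup containing all derangements of a finite transitive group, then
the index of `D` divides the size of any subset not containing `a` which is invariant under the
stabilizer of `a`. -/
theorem index_dvd_ncard_of_invariant [Finite G] [Finite X] [IsPretransitive G X] (D : Subgroup G)
    [D.Normal] (hD : ∀ g : G, (∀ ω : X, g • ω ≠ ω) → g ∈ D) (a : X) (S : Set X)
    (hS : ∀ g ∈ stabilizer G a, ∀ x ∈ S, g • x ∈ S) (haS : a ∉ S) : D.index ∣ S.ncard := by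
  classical
  obtain ⟨hDtrans, -⟩ := der_main D hD
  -- the sub-action of the stabilizer on S
  let T : SubMulAction (stabilizer G a) X :=
    { carrier := S
      smul_mem' := fun g x hx => hS g g.2 x hx }
  have hstab : ∀ y : T, stabilizer (stabilizer G a) y ≤ D.subgroupOf (stabilizer G a) := by
    intro y g hg
    rw [Subgroup.mem_subgroupOf]
    rw [mem_stabilizer_iff] at hg
    have hgy : (g : G) • (y : X) = (y : X) := congrArg Subtype.val hg
    have hga : (g : G) • a = a := g.2
    have hya : a ≠ (y : X) := fun h => haS (h ▸ y.2)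
    exact mem_of_fix_two D hD (g : G) a y hya hga hgy
  have h1 := index_dvd_card_of_stabilizer_le (K := stabilizer G a) (Y := T) _ hstab
  have h2 : Nat.card T = S.ncard := Nat.card_coe_set_eq S
  rw [← index_subgroupOf_stabilizer D a, ← h2]
  exact h1

/-- If the index of `D` is `n - 1`, the group is sharply 2-transitive: two-point stabilizers are
trivial and the order is `n (n - 1)`. -/
theorem sharp_of_index_eq [Finite G] [Finite X] [FaithfulSMul G X] [IsPretransitive G X]
    (D : Subgroup G) [D.Normal] (hD : ∀ g : G, (∀ ω : X, g • ω ≠ ω) → g ∈ D)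
    (hn : 2 ≤ Nat.card X) (hidx : D.index = Nat.card X - 1) :
    (∀ (g : G) (a b : X), a ≠ b → g • a = a → g • b = b → g = 1) ∧
      Nat.card G = Nat.card X * (Nat.card X - 1) := by
  classical
  obtain ⟨hDtrans, -⟩ := der_main D hD
  -- key: for each point a, D ∩ G_a is trivial
  have key : ∀ a : X, D.subgroupOf (stabilizer G a) = ⊥ := by
    intro a
    set K := stabilizer G a with hK
    set L := D.subgroupOf K with hL
    have hLidx : L.index = Nat.card X - 1 := by
      rw [hL, hK, index_subgroupOf_stabilizer D a, hidx]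
    have hT : Nat.card (SubMulAction.ofStabilizer G a) = Nat.card X - 1 :=
      SubMulAction.nat_card_ofStabilizer_eq G a
    -- every element of L fixes every point
    have hfix : ∀ l ∈ L, ∀ y : SubMulAction.ofStabilizer G a, l • y = y := by
      intro l hl y
      have hle : stabilizer K y ≤ L := by
        intro g hg
        rw [hL, Subgroup.mem_subgroupOf]
        rw [mem_stabilizer_iff] at hg
        have hgy : (g : G) • (y : X) = (y : X) := congrArg Subtype.val hg
        have hga : (g : G) • a = a := g.2
        have hya : a ≠ (y : X) := fun h => y.2 (by simp [h.symm])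
        exact mem_of_fix_two D hD (g : G) a y hya hga hgy
      have h1 : L.index ∣ (stabilizer K y).index := Subgroup.index_dvd_of_le hle
      have h2 : (stabilizer K y).index ≤ Nat.card X - 1 := by
        rw [index_stabilizer, ← hT, ← Nat.card_coe_set_eq]
        exact Nat.card_le_card_of_injective _ Subtype.val_injective
      have h3 : (stabilizer K y).index ≠ 0 := Subgroup.index_ne_zero_of_finite
      have h4 : (stabilizer K y).index = Nat.card X - 1 := by
        rw [hLidx] at h1
        exact le_antisymm h2 (Nat.le_of_dvd (Nat.pos_of_ne_zero h3) h1)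
      have h5 := Subgroup.relIndex_mul_index hle
      rw [h4, hLidx] at h5
      have h6 : (stabilizer K y).relIndex L = 1 := by
        have hpos : 0 < Nat.card X - 1 := by omega
        have : (stabilizer K y).relIndex L * (Nat.card X - 1) = 1 * (Nat.card X - 1) := by
          rw [h5, one_mul]
        exact Nat.eq_of_mul_eq_mul_right hpos this
      have h7 : L ≤ stabilizer K y := Subgroup.relIndex_eq_one.mp h6
      exact mem_stabilizer_iff.mp (h7 hl)
    rw [eq_bot_iff]
    intro l hl
    rw [Subgroup.mem_bot]
    apply Subtype.ext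
    apply FaithfulSMul.eq_of_smul_eq_smul (α := X)
    intro x
    by_cases hx : x = a
    · subst hx
      rw [Subgroup.coe_one, one_smul]; exact l.2
    · have := hfix l hl ⟨x, hx⟩
      have := congrArg Subtype.val this
      rw [Subgroup.coe_one, one_smul]
      exact this
  constructor
  · intro g a b hab ha hb
    have hgD : g ∈ D := mem_of_fix_two D hD g a b hab ha hb
    have : (⟨g, ha⟩ : stabilizer G a) ∈ D.subgroupOf (stabilizer G a) := by
      rw [Subgroup.mem_subgroupOf]; exact hgD
    rw [key a, Subgroup.mem_bot] at this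
    exact congrArg Subtype.val this
  · have hne : Nonempty X := by
      rw [← Finite.card_pos_iff]; omega
    obtain ⟨a⟩ := hne
    have h1 : (D.subgroupOf (stabilizer G a)).index * Nat.card (D.subgroupOf (stabilizer G a)) =
        Nat.card (stabilizer G a) := Subgroup.index_mul_card _
    rw [index_subgroupOf_stabilizer D a, hidx, key a, Subgroup.card_bot, mul_one] at h1
    have h2 : (stabilizer G a).index * Nat.card (stabilizer G a) = Nat.card G :=
      Subgroup.index_mul_card _
    rw [index_stabilizer_of_transitive, ← h1] at h2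
    exact h2.symm

/-- The number of derangements in a sharply 2-transitive group of degree `n` is `n - 1`. -/
theorem card_der_of_sharp [Fintype G] [DecidableEq G] [Finite X] [IsPretransitive G X]
    [DecidablePred fun g : G => ∀ ω : X, g • ω ≠ ω]
    (hn : 2 ≤ Nat.card X)
    (hsharp : ∀ (g : G) (a b : X), a ≠ b → g • a = a → g • b = b → g = 1)
    (hcard : Nat.card G = Nat.card X * (Nat.card X - 1)) :
    (Finset.univ.filter (fun g : G => ∀ ω : X, g • ω ≠ ω)).card = Nat.card X - 1 := by
  have hne : Nonempty X := by
    rw [← Finite.card_pos_iff]; omega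
  set Der : Finset G := Finset.univ.filter (fun g : G => ∀ ω : X, g • ω ≠ ω) with hDer
  set f : G → ℕ := fun g => Nat.card (fixedBy X g) with hf
  have hb : ∑ g : G, f g = Nat.card G := by
    have hb := burnside_natCard (G := G) (X := X)
    haveI : Unique (orbitRel.Quotient G X) :=
      (pretransitive_iff_unique_quotient_of_nonempty G X).mp inferInstance |>.some
    rw [Nat.card_unique, one_mul] at hb
    exact hb
  have hsplit : ∑ g : G, f g = ∑ g ∈ Der, f g + ∑ g ∈ Finset.univ.filter (fun g => ¬ ∀ ω : X, g • ω ≠ ω), f g :=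
    (Finset.sum_filter_add_sum_filter_not _ _ _).symm
  have h0 : ∑ g ∈ Der, f g = 0 := by
    apply Finset.sum_eq_zero
    intro g hg
    rw [hDer, Finset.mem_filter] at hg
    change Nat.card (fixedBy X g) = 0
    have : IsEmpty (fixedBy X g) := ⟨fun x => hg.2 x.1 x.2⟩
    exact Nat.card_of_isEmpty
  have h1 : ∀ g ∈ Finset.univ.filter (fun g : G => ¬ ∀ ω : X, g • ω ≠ ω),
      f g = 1 + (if g = 1 then Nat.card X - 1 else 0) := by
    intro g hg
    rw [Finset.mem_filter] at hg
    by_cases hg1 : g = 1
    · subst hg1
      rw [if_pos rfl]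
      change Nat.card (fixedBy X (1 : G)) = _
      have : fixedBy X (1 : G) = Set.univ := by
        ext x; simp [mem_fixedBy]
      rw [this, Nat.card_coe_set_eq, Set.ncard_univ]
      omega
    · rw [if_neg hg1, add_zero]
      change Nat.card (fixedBy X g) = 1
      have hex := hg.2
      simp only [ne_eq, not_forall, not_not] at hex
      obtain ⟨ω, hω⟩ := hex
      have : Unique (fixedBy X g) :=
        { default := ⟨ω, hω⟩
          uniq := fun y => by
            by_contra hy
            apply hg1
            apply hsharp g y.1 ω _ y.2 hω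
            intro h
            exact hy (Subtype.ext h) }
      exact Nat.card_unique
  have h1not : (1 : G) ∈ Finset.univ.filter (fun g : G => ¬ ∀ ω : X, g • ω ≠ ω) := by
    rw [Finset.mem_filter]
    refine ⟨Finset.mem_univ _, ?_⟩
    intro h
    exact h hne.some (one_smul _ _)
  have h2 : ∑ g ∈ Finset.univ.filter (fun g => ¬ ∀ ω : X, g • ω ≠ ω), f g =
      (Finset.univ.filter (fun g : G => ¬ ∀ ω : X, g • ω ≠ ω)).card + (Nat.card X - 1) := by
    rw [Finset.sum_congr rfl h1, Finset.sum_add_distrib, Finset.sum_ite_eq', if_pos h1not,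
      Finset.card_eq_sum_ones]
  have h3 : Der.card + (Finset.univ.filter (fun g : G => ¬ ∀ ω : X, g • ω ≠ ω)).card = Nat.card G := by
    rw [hDer, Finset.card_filter_add_card_filter_not, Finset.card_univ, Nat.card_eq_fintype_card]
  rw [hsplit, h0, h2, zero_add] at hb
  have hmul : Nat.card X * (Nat.card X - 1) = Nat.card X * (Nat.card X - 1) := rfl
  generalize Nat.card X * (Nat.card X - 1) = N at hcard
  omega

/-- The degree of a finite sharply 2-transitive group is a prime power. -/
theorem isPrimePow_of_sharp [Finite G] [Finite X] [IsPretransitive G X]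
    (hn : 2 ≤ Nat.card X)
    (hsharp : ∀ (g : G) (a b : X), a ≠ b → g • a = a → g • b = b → g = 1)
    (hcard : Nat.card G = Nat.card X * (Nat.card X - 1)) :
    IsPrimePow (Nat.card X) := by
  classical
  haveI : Fintype G := Fintype.ofFinite G
  have hne : Nonempty X := by
    rw [← Finite.card_pos_iff]; omega
  obtain ⟨a₀⟩ := hne
  have hder := card_der_of_sharp (G := G) (X := X) hn hsharp hcard
  set Der : Finset G := Finset.univ.filter (fun g : G => ∀ ω : X, g • ω ≠ ω) with hDer
  have hDerne : Der.Nonempty := by
    rw [← Finset.card_pos, hder]; omega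
  obtain ⟨z, hz⟩ := hDerne
  have hzder : ∀ ω : X, z • ω ≠ ω := (Finset.mem_filter.mp hz).2
  set Cz : Subgroup (ConjAct G) := stabilizer (ConjAct G) z with hCz
  -- elements of Cz commute with z
  have hcomm : ∀ c ∈ Cz, ConjAct.ofConjAct c * z = z * ConjAct.ofConjAct c := by
    intro c hc
    rw [hCz, mem_stabilizer_iff, ConjAct.smul_def] at hc
    have := congrArg (fun w => w * ConjAct.ofConjAct c) hc
    simpa using this
  -- Cz is semiregular
  have hsemi : ∀ c ∈ Cz, ∀ ω : X, (ConjAct.ofConjAct c) • ω = ω → c = 1 := by
    intro c hc ω hω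
    have h2 : (ConjAct.ofConjAct c) • (z • ω) = z • ω := by
      rw [← mul_smul, hcomm c hc, mul_smul, hω]
    have := hsharp (ConjAct.ofConjAct c) ω (z • ω) (hzder ω).symm hω h2
    exact ConjAct.ofConjAct.injective (by rw [this, ConjAct.ofConjAct_one])
  -- hence |Cz| ≤ n
  have hCzle : Nat.card Cz ≤ Nat.card X := by
    apply Nat.card_le_card_of_injective (fun c : Cz => (ConjAct.ofConjAct (c : ConjAct G)) • a₀)
    intro c c' hcc
    have hcc' : (ConjAct.ofConjAct (c : ConjAct G)) • a₀ = (ConjAct.ofConjAct (c' : ConjAct G)) • a₀ := hcc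
    have hmem : (c : ConjAct G)⁻¹ * (c' : ConjAct G) ∈ Cz :=
      Subgroup.mul_mem _ (Subgroup.inv_mem _ c.2) c'.2
    have hfix : (ConjAct.ofConjAct ((c : ConjAct G)⁻¹ * (c' : ConjAct G))) • a₀ = a₀ := by
      rw [ConjAct.ofConjAct_mul, ConjAct.ofConjAct_inv, mul_smul, ← hcc', inv_smul_smul]
    have := hsemi _ hmem a₀ hfix
    apply Subtype.ext
    have h3 := congrArg (fun w => (c : ConjAct G) * w) this
    simpa using h3.symm
  -- the conjugacy class of z consists of derangements
  have horb : orbit (ConjAct G) z ⊆ (Der : Set G) := by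
    rintro _ ⟨c, rfl⟩
    rw [Finset.mem_coe, hDer, Finset.mem_filter]
    refine ⟨Finset.mem_univ _, ?_⟩
    intro ω hω
    change (c • z) • ω = ω at hω
    rw [ConjAct.smul_def, mul_smul, mul_smul] at hω
    apply hzder ((ConjAct.ofConjAct c)⁻¹ • ω)
    have := congrArg (fun w => (ConjAct.ofConjAct c)⁻¹ • w) hω
    simpa using this
  have hidxle : Cz.index ≤ Nat.card X - 1 := by
    rw [hCz, index_stabilizer, ← hder]
    have := Set.ncard_le_ncard horb (Finset.finite_toSet Der)
    rwa [Set.ncard_coe_finset] at this
  have hprod : Cz.index * Nat.card Cz = Nat.card X * (Nat.card X - 1) := by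
    rw [Subgroup.index_mul_card, ← hcard]
    exact Nat.card_congr ConjAct.ofConjAct.toEquiv
  have hCzcard : Nat.card Cz = Nat.card X := by
    by_contra hlt
    have hlt' : Nat.card Cz < Nat.card X := lt_of_le_of_ne hCzle hlt
    have hpos : 0 < Nat.card X - 1 := by omega
    have : Cz.index * Nat.card Cz < Nat.card X * (Nat.card X - 1) := by
      calc Cz.index * Nat.card Cz ≤ (Nat.card X - 1) * Nat.card Cz :=
            Nat.mul_le_mul_right _ hidxle
        _ < (Nat.card X - 1) * Nat.card X := Nat.mul_lt_mul_of_pos_left hlt' hpos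
        _ = Nat.card X * (Nat.card X - 1) := mul_comm _ _
    omega
  have hidxeq : Cz.index = Nat.card X - 1 := by
    rw [hCzcard, mul_comm] at hprod
    have hpos : 0 < Nat.card X := by omega
    exact Nat.eq_of_mul_eq_mul_left hpos hprod
  -- the class of z is the set of all derangements
  have horbeq : orbit (ConjAct G) z = (Der : Set G) := by
    apply Set.eq_of_subset_of_ncard_le horb _ (Finset.finite_toSet Der)
    rw [Set.ncard_coe_finset, hder, ← hidxeq, hCz, index_stabilizer]
  -- every nonidentity element of Cz has the order of z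
  have hord : ∀ c ∈ Cz, c ≠ 1 → orderOf c = orderOf z := by
    intro c hc hc1
    have hcder : ConjAct.ofConjAct c ∈ (Der : Set G) := by
      rw [Finset.mem_coe, hDer, Finset.mem_filter]
      exact ⟨Finset.mem_univ _, fun ω hω => hc1 (hsemi c hc ω hω)⟩
    rw [← horbeq] at hcder
    obtain ⟨d, hd⟩ := hcder
    have hd' : ConjAct.ofConjAct c = MulAut.conj (ConjAct.ofConjAct d) z := by
      rw [← hd]; exact ConjAct.smul_eq_mulAut_conj d z
    have h1 : orderOf (ConjAct.ofConjAct c) = orderOf c := MulEquiv.orderOf_eq ConjAct.ofConjAct c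
    rw [← h1, hd', MulEquiv.orderOf_eq]
  -- a prime dividing n
  have hn1 : Nat.card X ≠ 1 := by omega
  obtain ⟨p, hp, hpdvd⟩ := Nat.exists_prime_and_dvd hn1
  have : Fact p.Prime := ⟨hp⟩
  rw [← hCzcard] at hpdvd
  obtain ⟨c, hc⟩ := exists_prime_orderOf_dvd_card' p hpdvd
  have hc1 : (c : ConjAct G) ≠ 1 := by
    intro h
    have : c = 1 := Subtype.ext h
    rw [this, orderOf_one] at hc
    exact hp.one_lt.ne hc
  have hzp : orderOf z = p := by
    rw [← hord c c.2 hc1, Subgroup.orderOf_coe, hc]
  have hpgroup : IsPGroup p Cz := by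
    intro c'
    by_cases h : c' = 1
    · exact ⟨0, by rw [h]; simp⟩
    · refine ⟨1, ?_⟩
      have hne' : (c' : ConjAct G) ≠ 1 := fun h' => h (Subtype.ext h')
      have := hord c' c'.2 hne'
      rw [hzp, Subgroup.orderOf_coe] at this
      rw [pow_one, ← this]
      exact pow_orderOf_eq_one c'
  obtain ⟨j, hj⟩ := IsPGroup.iff_card.mp hpgroup
  rw [isPrimePow_nat_iff]
  refine ⟨p, j, hp, ?_, ?_⟩
  · rcases Nat.eq_zero_or_pos j with h | h
    · rw [h, pow_zero, hCzcard] at hj; omega
    · exact h
  · rw [← hj, hCzcard]

end DerSubgroup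

end Cfsg.Agent.Helper18
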