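import Mathlib

set_option autoImplicit false

namespace Cfsg.Agent.Helper17.TT2

section SYL
variable {G : Type*} [Group G] [Finite G]

theorem exists_sylow_sub {p : ℕ} (hp : p.Prime) (H P : Subgroup G) (hPH : P ≤ H)
    (hP : IsPGroup p P) :
    ∃ S : Subgroup G, P ≤ S ∧ S ≤ H ∧ IsPGroup p S ∧
      Nat.card S = p ^ (Nat.card H).factorization p := by
  have : Fact p.Prime := ⟨hp⟩
  have hP' : IsPGroup p (P.subgroupOf H) :=
    hP.comap_of_injective (H.subtype) (Subgroup.subtype_injective H)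
  obtain ⟨S, hS⟩ := hP'.exists_le_sylow
  refine ⟨(S : Subgroup H).map H.subtype, ?_, ?_, ?_, ?_⟩
  · intro x hx
    exact ⟨⟨x, hPH hx⟩, hS (by simpa [Subgroup.mem_subgroupOf] using hx), rfl⟩
  · exact Subgroup.map_subtype_le _
  · exact S.isPGroup'.map H.subtype
  · rw [Subgroup.card_map_of_injective (Subgroup.subtype_injective H)]
    exact S.card_eq_multiplicity

theorem sylow_sub_conj {p : ℕ} (hp : p.Prime) (H P P' : Subgroup G) (hPH : P ≤ H) (hP'H : P' ≤ H)
    (hP : IsPGroup p P) (hP' : IsPGroup p P')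
    (hc : Nat.card P = p ^ (Nat.card H).factorization p) (hc' : Nat.card P' = Nat.card P) :
    ∃ h ∈ H, ∀ x : G, x ∈ P ↔ h * x * h⁻¹ ∈ P' := by
  have : Fact p.Prime := ⟨hp⟩
  have e1 : Nat.card (P.subgroupOf H) = p ^ (Nat.card H).factorization p := by
    rw [← hc]
    exact Nat.card_congr (Subgroup.subgroupOfEquivOfLe hPH).toEquiv
  have e2 : Nat.card (P'.subgroupOf H) = p ^ (Nat.card H).factorization p := by
    rw [← hc, ← hc']
    exact Nat.card_congr (Subgroup.subgroupOfEquivOfLe hP'H).toEquiv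
  let S1 : Sylow p H := Sylow.ofCard (P.subgroupOf H) e1
  let S2 : Sylow p H := Sylow.ofCard (P'.subgroupOf H) e2
  obtain ⟨h, hh⟩ := MulAction.exists_smul_eq H S1 S2
  refine ⟨(h : G), h.2, ?_⟩
  intro x
  have key : ∀ y : H, y ∈ (S2 : Subgroup H) ↔ h⁻¹ * y * h ∈ (S1 : Subgroup H) := by
    intro y
    rw [← hh]
    show y ∈ ((h • S1 : Sylow p H) : Subgroup H) ↔ _
    rw [Sylow.smul_def, Sylow.pointwise_smul_def, Subgroup.mem_pointwise_smul_iff_inv_smul_mem]
    simp [MulAut.smul_def, mul_assoc]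
  constructor
  · intro hx
    have hxH : x ∈ H := hPH hx
    have := (key ⟨(h:G) * x * (h:G)⁻¹, H.mul_mem (H.mul_mem h.2 hxH) (H.inv_mem h.2)⟩).mpr (by
      show _ ∈ P.subgroupOf H
      rw [Subgroup.mem_subgroupOf]
      simpa [mul_assoc] using hx)
    have h2 : (⟨(h:G) * x * (h:G)⁻¹, H.mul_mem (H.mul_mem h.2 hxH) (H.inv_mem h.2)⟩ : H) ∈ P'.subgroupOf H := this
    rw [Subgroup.mem_subgroupOf] at h2
    exact h2
  · intro hx
    have hxH' : (h:G) * x * (h:G)⁻¹ ∈ H := hP'H hx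
    have h3 := (key ⟨(h:G) * x * (h:G)⁻¹, hxH'⟩).mp (by
      show _ ∈ P'.subgroupOf H
      rw [Subgroup.mem_subgroupOf]
      exact hx)
    have h4 : h⁻¹ * ⟨(h:G) * x * (h:G)⁻¹, hxH'⟩ * h ∈ P.subgroupOf H := h3
    rw [Subgroup.mem_subgroupOf] at h4
    simpa [mul_assoc] using h4

theorem card_eq_of_conj (g : G) (A B : Subgroup G) (h : ∀ x : G, x ∈ A ↔ g * x * g⁻¹ ∈ B) :
    Nat.card A = Nat.card B := by
  refine Nat.card_congr
    { toFun := fun x => ⟨g * x.1 * g⁻¹, (h x.1).mp x.2⟩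
      invFun := fun y => ⟨g⁻¹ * y.1 * g, (h _).mpr (by simpa [mul_assoc] using y.2)⟩
      left_inv := ?_
      right_inv := ?_ }
  · intro x
    apply Subtype.ext
    simp [mul_assoc]
  · intro y
    apply Subtype.ext
    simp [mul_assoc]

end SYL

end Cfsg.Agent.Helper17.TT2
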