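import Mathlib
import Cfsg.Agent.Lib.Helper20.A3Defs

set_option autoImplicit false
set_option linter.unusedSectionVars false
set_option linter.unusedVariables false

/-! S3117 piece CLOS: an invariant set of one or two nontrivial elements generates an invariant
subgroup of order at most four. -/

namespace Cfsg.Agent.Helper20.A3

section Abs

variable {W U : Type*} [Group W] [Group U] [Finite W] [Finite U]

/-- The four-element subgroup `{1, s, t, s * t}` of a group of exponent two. -/
def closFour (hW : ∀ w : W, w * w = 1) (s t : W) : Subgroup W where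
  carrier := {1, s, t, s * t}
  one_mem' := by simp
  mul_mem' := by
    have hcomm : ∀ a b : W, a * b = b * a := by
      intro a b
      have h1 := hW (a * b)
      have h2 : a * b = (a * b)⁻¹ := eq_inv_of_mul_eq_one_left h1
      have ha : a⁻¹ = a := (eq_inv_of_mul_eq_one_left (hW a)).symm
      have hb : b⁻¹ = b := (eq_inv_of_mul_eq_one_left (hW b)).symm
      rw [h2, mul_inv_rev, ha, hb]
    have hss := hW s
    have htt := hW t
    have hts : t * s = s * t := hcomm t s
    have hss' : ∀ x : W, s * (s * x) = x := fun x => by rw [← mul_assoc, hss, one_mul]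
    have htt' : ∀ x : W, t * (t * x) = x := fun x => by rw [← mul_assoc, htt, one_mul]
    have hts' : ∀ x : W, t * (s * x) = s * (t * x) := fun x => by
      rw [← mul_assoc, hts, mul_assoc]
    intro a b ha hb
    simp only [Set.mem_insert_iff, Set.mem_singleton_iff] at ha hb ⊢
    rcases ha with ha | ha | ha | ha <;> rcases hb with hb | hb | hb | hb <;> rw [ha, hb] <;>
      simp [mul_assoc, hss, htt, hts, hss', htt', hts']
  inv_mem' := by
    intro a ha
    have hinv : a⁻¹ = a := (eq_inv_of_mul_eq_one_left (hW a)).symm
    rw [hinv]
    exact ha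

theorem clos_card_closFour (hW : ∀ w : W, w * w = 1) (s t : W) :
    Nat.card (closFour hW s t) ≤ 4 := by
  classical
  have h : Nat.card (closFour hW s t) = Nat.card (({1, s, t, s * t} : Finset W) : Set W) := by
    apply Nat.card_congr
    refine Equiv.setCongr ?_
    ext x
    simp [closFour]
  rw [h, Nat.card_coe_set_eq, Set.ncard_coe_finset]
  exact Finset.card_le_four

/-- **A3-CLOS.** An `R`-invariant set of one or two nontrivial elements generates an
`R`-invariant proper nontrivial subgroup when `#W ≥ 8`. -/
theorem exists_inv_of_small_set (hW : ∀ w : W, w * w = 1) (R : Subgroup (MulAut W))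
    (hcard : 8 ≤ Nat.card W) (T : Set W) (hT1 : ∀ t ∈ T, t ≠ 1) (hTne : T.Nonempty)
    (hTcard : Nat.card T ≤ 2) (hTR : ∀ g ∈ R, ∀ t ∈ T, g t ∈ T) :
    ∃ N : Subgroup W, N ≠ ⊥ ∧ Nat.card N ≤ 4 ∧ ∀ g ∈ R, ∀ n ∈ N, g n ∈ N := by
  classical
  obtain ⟨s, hs⟩ := hTne
  -- `T ⊆ {s, t}` for some `t`
  have hsub : ∃ t : W, T ⊆ {s, t} := by
    by_cases h : ∃ t ∈ T, t ≠ s
    · obtain ⟨t, ht, hts⟩ := h
      refine ⟨t, ?_⟩
      intro r hr
      by_contra hne
      simp only [Set.mem_insert_iff, Set.mem_singleton_iff, not_or] at hne
      have hfin : T.Finite := Set.toFinite T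
      have h3 : ({s, t, r} : Finset W).card = 3 := by
        rw [Finset.card_insert_of_notMem, Finset.card_insert_of_notMem, Finset.card_singleton]
        · simp only [Finset.mem_singleton]; exact fun h => hne.2 h.symm
        · simp only [Finset.mem_insert, Finset.mem_singleton, not_or]
          exact ⟨fun h => hts h.symm, fun h => hne.1 h.symm⟩
      have hle : (({s, t, r} : Finset W) : Set W).ncard ≤ T.ncard := by
        apply Set.ncard_le_ncard _ hfin
        intro x hx
        simp only [Finset.coe_insert, Finset.coe_singleton, Set.mem_insert_iff,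
          Set.mem_singleton_iff] at hx
        rcases hx with rfl | rfl | rfl <;> assumption
      rw [Set.ncard_coe_finset, h3] at hle
      rw [Nat.card_coe_set_eq] at hTcard
      omega
    · push Not at h
      refine ⟨s, ?_⟩
      intro r hr
      simp [h r hr]
  obtain ⟨t, hTst⟩ := hsub
  refine ⟨Subgroup.closure T, ?_, ?_, ?_⟩
  · intro hbot
    have : s ∈ Subgroup.closure T := Subgroup.subset_closure hs
    rw [hbot, Subgroup.mem_bot] at this
    exact hT1 s hs this
  · have hle : Subgroup.closure T ≤ closFour hW s t := by
      rw [Subgroup.closure_le]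
      intro x hx
      have := hTst hx
      simp only [Set.mem_insert_iff, Set.mem_singleton_iff] at this
      show x ∈ ({1, s, t, s * t} : Set W)
      rcases this with rfl | rfl <;> simp
    calc Nat.card (Subgroup.closure T) ≤ Nat.card (closFour hW s t) :=
          Subgroup.card_le_of_le hle
      _ ≤ 4 := clos_card_closFour hW s t
  · intro g hg n hn
    induction hn using Subgroup.closure_induction with
    | mem x hx => exact Subgroup.subset_closure (hTR g hg x hx)
    | one => rw [map_one]; exact Subgroup.one_mem _
    | mul a b _ _ iha ihb => rw [map_mul]; exact Subgroup.mul_mem _ iha ihb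
    | inv a _ iha => rw [map_inv]; exact Subgroup.inv_mem _ iha

end Abs

end Cfsg.Agent.Helper20.A3
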