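import Mathlib
import Cfsg.Agent.Lib.Helper20.A3Defs

set_option autoImplicit false
set_option linter.unusedSectionVars false
set_option linter.unusedVariables false

/-! S3117 piece SQ: elements of `sqF C` are squares of Frattini elements when `Φ(C) ≤ Z(C)`. -/

namespace Cfsg.Agent.Helper20.A3

section Glue

variable {C : Type*} [Group C] [Finite C]

/-- **A3-SQ.** If `Φ(C) ≤ Z(C)`, every element of `sqF C` is the square of an element
of `Φ(C)`. -/
theorem exists_sq_of_mem_sqF (hΦ : frattini C ≤ Subgroup.center C) (y : C) (hy : y ∈ sqF C) :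
    ∃ f ∈ frattini C, y = f ^ 2 := by
  unfold sqF at hy
  induction hy using Subgroup.closure_induction with
  | mem x hx => exact hx
  | one => exact ⟨1, Subgroup.one_mem _, by simp⟩
  | mul a b _ _ iha ihb =>
    obtain ⟨f, hf, rfl⟩ := iha
    obtain ⟨g, hg, rfl⟩ := ihb
    refine ⟨f * g, Subgroup.mul_mem _ hf hg, ?_⟩
    have hc : Commute f g := by
      have := Subgroup.mem_center_iff.mp (hΦ hf) g
      exact this.symm
    exact (hc.mul_pow 2).symm
  | inv a _ iha =>
    obtain ⟨f, hf, rfl⟩ := iha
    exact ⟨f⁻¹, Subgroup.inv_mem _ hf, by simp⟩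

end Glue

end Cfsg.Agent.Helper20.A3
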