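import Mathlib
import Cfsg.Agent.Lib.Helper20.A3Defs
import Cfsg.Agent.Lib.Helper18.A3SQ
import Cfsg.Agent.Lib.Helper18.A3QMK
import Cfsg.Agent.S0012

set_option autoImplicit false
set_option linter.unusedSectionVars false
set_option linter.unusedVariables false

/-! S3117 piece CNT: counting involutions of a `2`-group with `Φ(C) ≤ Z(C)`. -/

namespace Cfsg.Agent.Helper20.A3

section Glue

variable {C : Type*} [Group C] [Finite C]

/-- The squaring homomorphism of the (central, hence abelian) Frattini subgroup. -/
noncomputable def cntSq (hΦ : frattini C ≤ Subgroup.center C) :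
    ↥(frattini C) →* ↥(frattini C) where
  toFun f := f ^ 2
  map_one' := one_pow 2
  map_mul' a b := by
    have hc : Commute a b := by
      show a * b = b * a
      apply Subtype.ext
      have := Subgroup.mem_center_iff.mp (hΦ a.2) (b : C)
      simpa using this.symm
    exact hc.mul_pow 2

/-- The restriction to `Φ(C)` of the projection `C → C/Φ(C)²`. -/
noncomputable def cntPsi : ↥(frattini C) →* C ⧸ sqF C :=
  (QuotientGroup.mk' (sqF C)).comp (frattini C).subtype

theorem cnt_ker_eq (hΦ : frattini C ≤ Subgroup.center C) :
    (cntPsi (C := C)).ker = (cntSq hΦ).range := by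
  ext f
  rw [MonoidHom.mem_ker, MonoidHom.mem_range]
  show (QuotientGroup.mk (f : C) : C ⧸ sqF C) = 1 ↔ _
  rw [QuotientGroup.eq_one_iff]
  constructor
  · intro h
    obtain ⟨g, hg, hfg⟩ := exists_sq_of_mem_sqF hΦ (f : C) h
    refine ⟨⟨g, hg⟩, ?_⟩
    apply Subtype.ext
    show (g : C) ^ 2 = f
    exact hfg.symm
  · rintro ⟨g, rfl⟩
    show ((g ^ 2 : ↥(frattini C)) : C) ∈ sqF C
    unfold sqF
    exact Subgroup.subset_closure ⟨(g : C), g.2, by simp⟩

theorem cnt_card_range (hΦ : frattini C ≤ Subgroup.center C) :
    Nat.card (cntPsi (C := C)).range = Nat.card (cntSq hΦ).ker := by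
  have h1 : Nat.card (cntPsi (C := C)).ker * Nat.card (cntPsi (C := C)).range
      = Nat.card ↥(frattini C) := by
    rw [← Subgroup.index_ker]; exact Subgroup.card_mul_index _
  have h2 : Nat.card (cntSq hΦ).ker * Nat.card (cntSq hΦ).range
      = Nat.card ↥(frattini C) := by
    rw [← Subgroup.index_ker]; exact Subgroup.card_mul_index _
  rw [cnt_ker_eq hΦ] at h1
  have hpos : 0 < Nat.card (cntSq hΦ).range := Nat.card_pos
  have : Nat.card (cntSq hΦ).range * Nat.card (cntPsi (C := C)).range
      = Nat.card (cntSq hΦ).range * Nat.card (cntSq hΦ).ker := by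
    rw [h1, mul_comm, h2]
  exact Nat.eq_of_mul_eq_mul_left hpos this

theorem cnt_UU_le_range (hC : IsPGroup 2 C) (hΦ : frattini C ≤ Subgroup.center C) :
    UU C ≤ (cntPsi (C := C)).range := by
  unfold UU
  rw [Subgroup.closure_le]
  rintro _ ⟨w, rfl⟩
  obtain ⟨x, rfl⟩ := QuotientGroup.mk_surjective w
  rw [qq_mk hC hΦ x]
  have : Fact (Nat.Prime 2) := ⟨Nat.prime_two⟩
  have hx : x ^ 2 ∈ frattini C := (Cfsg.Agent.S0012.result 2 hC).2 x
  exact ⟨⟨x ^ 2, hx⟩, rfl⟩

/-- **A3-CNT.** Counting involutions. -/
theorem n0_add_card_le (hC : IsPGroup 2 C) (hΦ : frattini C ≤ Subgroup.center C) :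
    n0 (qU C) + Nat.card ↥(UU C) ≤ Nat.card {x : C // orderOf x = 2} + 1 := by
  classical
  letI : Fintype C := Fintype.ofFinite C
  -- the two kinds of elements
  set Sout : Finset C := Finset.univ.filter (fun x => orderOf x = 2 ∧ x ∉ frattini C) with hSout
  set Sin : Finset C := Finset.univ.filter (fun x => x ∈ frattini C ∧ x ^ 2 = 1) with hSin
  set Sinv : Finset C := Finset.univ.filter (fun x => orderOf x = 2) with hSinv
  have hInv : Nat.card {x : C // orderOf x = 2} = Sinv.card := by
    rw [Nat.card_eq_fintype_card, Fintype.card_subtype]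
  -- (0) `Sout` and `Sin` are disjoint inside `insert 1 Sinv`
  have h0 : Sout.card + Sin.card ≤ Sinv.card + 1 := by
    have hdisj : Disjoint Sout Sin := by
      rw [Finset.disjoint_left]
      intro x hx1 hx2
      simp only [hSout, hSin, Finset.mem_filter, Finset.mem_univ, true_and] at hx1 hx2
      exact hx1.2 hx2.1
    rw [← Finset.card_union_of_disjoint hdisj]
    calc (Sout ∪ Sin).card ≤ (insert 1 Sinv).card := by
          apply Finset.card_le_card
          intro x hx
          simp only [hSout, hSin, hSinv, Finset.mem_union, Finset.mem_filter, Finset.mem_univ,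
            true_and, Finset.mem_insert] at hx ⊢
          rcases hx with hx | hx
          · exact Or.inr hx.1
          · by_cases h1 : x = 1
            · exact Or.inl h1
            · exact Or.inr (orderOf_eq_prime hx.2 h1)
      _ ≤ Sinv.card + 1 := Finset.card_insert_le _ _
  -- (1) singular vectors lift to involutions outside `Φ`
  have h1 : n0 (qU C) ≤ Sout.card := by
    unfold n0
    have hex : ∀ w : {w : C ⧸ frattini C // w ≠ 1 ∧ qU C w = 1},
        ∃ y : C, y ∈ Sout ∧ (QuotientGroup.mk y : C ⧸ frattini C) = w.1 := by
      rintro ⟨w, hw1, hqw⟩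
      obtain ⟨x, rfl⟩ := QuotientGroup.mk_surjective w
      have hq : qq C (QuotientGroup.mk x) = 1 := by
        have := congrArg (Subtype.val) hqw
        simpa [qU_coe] using this
      rw [qq_mk hC hΦ x, QuotientGroup.eq_one_iff] at hq
      obtain ⟨f, hf, hxf⟩ := exists_sq_of_mem_sqF hΦ (x ^ 2) hq
      have hxnot : x ∉ frattini C := by
        intro hx
        apply hw1
        exact (QuotientGroup.eq_one_iff x).mpr hx
      have hfc : Commute x f⁻¹ := by
        have := Subgroup.mem_center_iff.mp (hΦ (Subgroup.inv_mem _ hf)) x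
        exact this
      have hsq : (x * f⁻¹) ^ 2 = 1 := by
        rw [hfc.mul_pow, hxf]
        simp
      have hne : x * f⁻¹ ≠ 1 := by
        intro h
        apply hxnot
        have : x = f := by
          have := mul_inv_eq_one.mp h
          exact this
        rw [this]; exact hf
      have hnot : x * f⁻¹ ∉ frattini C := by
        intro h
        apply hxnot
        have := Subgroup.mul_mem _ h hf
        simpa using this
      refine ⟨x * f⁻¹, ?_, ?_⟩
      · simp only [hSout, Finset.mem_filter, Finset.mem_univ, true_and]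
        exact ⟨orderOf_eq_prime hsq hne, hnot⟩
      · show (QuotientGroup.mk (x * f⁻¹) : C ⧸ frattini C) = QuotientGroup.mk x
        rw [QuotientGroup.eq]
        have : (x * f⁻¹)⁻¹ * x = f * (x⁻¹ * x) := by
          rw [mul_inv_rev, inv_inv, mul_assoc]
        rw [this]
        simpa using hf
    choose φ hφ1 hφ2 using hex
    have hinj : Function.Injective (fun w => (⟨φ w, hφ1 w⟩ : {y : C // y ∈ Sout})) := by
      intro a b hab
      have : φ a = φ b := congrArg Subtype.val hab
      apply Subtype.ext
      rw [← hφ2 a, ← hφ2 b, this]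
    have := Nat.card_le_card_of_injective _ hinj
    rw [Nat.card_eq_fintype_card (α := {y : C // y ∈ Sout}), Fintype.card_coe] at this
    exact this
  -- (2) `#UU ≤ #Ω₁(Φ)`
  have h2 : Nat.card ↥(UU C) ≤ Sin.card := by
    calc Nat.card ↥(UU C) ≤ Nat.card (cntPsi (C := C)).range :=
          Subgroup.card_le_of_le (cnt_UU_le_range hC hΦ)
      _ = Nat.card (cntSq hΦ).ker := cnt_card_range hΦ
      _ ≤ Sin.card := by
          have hinj : Function.Injective
              (fun f : (cntSq hΦ).ker => (⟨((f : ↥(frattini C)) : C), by
                simp only [hSin, Finset.mem_filter, Finset.mem_univ, true_and]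
                refine ⟨(f : ↥(frattini C)).2, ?_⟩
                have := f.2
                rw [MonoidHom.mem_ker] at this
                have h3 := congrArg Subtype.val this
                simpa [cntSq] using h3⟩ : {y : C // y ∈ Sin})) := by
            intro a b hab
            have h3 := congrArg (fun z : {y : C // y ∈ Sin} => (z : C)) hab
            simp only at h3
            exact Subtype.ext (Subtype.ext h3)
          have := Nat.card_le_card_of_injective _ hinj
          rw [Nat.card_eq_fintype_card (α := {y : C // y ∈ Sin}), Fintype.card_coe] at this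
          exact this
  rw [hInv]
  omega

end Glue

end Cfsg.Agent.Helper20.A3
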