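import Mathlib
import Cfsg.Agent.Lib.Helper20.A5QDefs
import Cfsg.Agent.Lib.Helper20.A3Defs
import Cfsg.Agent.Lib.Helper20.A3LAM2
import Cfsg.Agent.Lib.Helper23.A3U2
import Cfsg.Agent.Lib.Helper12.A3BIL
import Cfsg.Agent.Lib.Helper22.A3EQV
import Cfsg.Agent.Lib.Helper18.A3QMK
import Cfsg.Agent.Lib.Helper20.A5QN0
import Cfsg.Agent.Lib.Helper25.A5QBR0

set_option autoImplicit false
set_option linter.unusedSectionVars false
set_option linter.unusedVariables false

/-! S3106 piece CINV3: involutions of a `2`-group with `Φ` central of type `2^2`, `C/Φ` of order `16`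
and a free automorphism of order `5` lie in `Φ`. -/

namespace Cfsg.Agent.Helper20.A5Q

open Cfsg.Agent.Helper22.SecRank
open Cfsg.Agent.Helper20.A3

section TwoGroups

variable {C : Type*} [Group C] [Finite C]

/-- if `Φ(C)` has exponent `2`, the subgroup `sqF C` is trivial -/
theorem cinv3_sqF_bot (hexp : ∀ x ∈ frattini C, x ^ 2 = 1) : sqF C = ⊥ := by
  unfold sqF
  rw [Subgroup.closure_eq_bot_iff]
  rintro y ⟨f, hf, rfl⟩
  exact hexp f hf

/-- the automorphism of `C/Φ(C)` induced by `φ` -/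
noncomputable def cinv3Bar (φ : MulAut C) : MulAut (C ⧸ frattini C) :=
  QuotientGroup.congr (frattini C) (frattini C) φ
    (Subgroup.characteristic_iff_map_eq.mp frattini_characteristic φ)

theorem cinv3Bar_mk (φ : MulAut C) (x : C) :
    cinv3Bar φ (QuotientGroup.mk x) = QuotientGroup.mk (φ x) := rfl

theorem cinv3Bar_pow_mk (φ : MulAut C) (n : ℕ) (x : C) :
    (cinv3Bar φ ^ n) (QuotientGroup.mk x) = QuotientGroup.mk ((φ ^ n) x) := by
  induction n generalizing x with
  | zero => simp
  | succ n ih =>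
    rw [pow_succ, pow_succ, MulAut.mul_apply, MulAut.mul_apply, cinv3Bar_mk, ih]

/-- `UU C` is the image of `Φ(C)`, of the same order, when `sqF C = ⊥` -/
theorem cinv3_card_UU (hC : IsPGroup 2 C) (hΦ : frattini C ≤ Subgroup.center C)
    (hexp : ∀ x ∈ frattini C, x ^ 2 = 1) : Nat.card ↥(UU C) = Nat.card ↥(frattini C) := by
  have hbot := cinv3_sqF_bot hexp
  have hinj : Function.Injective (QuotientGroup.mk' (sqF C)) := by
    rw [← MonoidHom.ker_eq_bot_iff, QuotientGroup.ker_mk', hbot]
  have hUU : UU C = (frattini C).map (QuotientGroup.mk' (sqF C)) := by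
    apply le_antisymm
    · unfold UU
      rw [Subgroup.closure_le]
      rintro _ ⟨w, rfl⟩
      obtain ⟨x, rfl⟩ := QuotientGroup.mk_surjective w
      rw [qq_mk hC hΦ x]
      exact ⟨x ^ 2, bil_sq_mem hC x, rfl⟩
    · rw [frattini_eq_closure_sq hC, MonoidHom.map_closure, Subgroup.closure_le]
      rintro _ ⟨y, ⟨x, rfl⟩, rfl⟩
      unfold UU
      apply Subgroup.subset_closure
      exact ⟨QuotientGroup.mk x, qq_mk hC hΦ x⟩
  rw [hUU]
  exact Subgroup.card_map_of_injective hinj

/-- the range of `qU C` generates `UU C` -/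
theorem cinv3_gen : Subgroup.closure (Set.range (qU C)) = (⊤ : Subgroup ↥(UU C)) := by
  have h := Subgroup.closure_closure_coe_preimage (k := Set.range (qq C))
  have e : Set.range (qU C) =
      ((↑) : ↥(Subgroup.closure (Set.range (qq C))) → C ⧸ sqF C) ⁻¹' Set.range (qq C) := by
    ext u
    constructor
    · rintro ⟨w, rfl⟩
      exact ⟨w, rfl⟩
    · rintro ⟨w, hw⟩
      exact ⟨w, Subtype.ext hw⟩
  rw [e]
  exact h

/-- **A5Q-CINV3.** `C` a `2`-group, `Φ(C)` central of exponent `2` and order `4`,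
`#C/Φ(C) = 16`, `φ` an automorphism of order `5` acting freely on `C/Φ(C)`: all involutions of
`C` lie in `Φ(C)`. -/
theorem invol_mem_frattini (hC : IsPGroup 2 C) (hΦ : frattini C ≤ Subgroup.center C)
    (hexp : ∀ x ∈ frattini C, x ^ 2 = 1) (h4 : Nat.card ↥(frattini C) = 4)
    (h16 : Nat.card (C ⧸ frattini C) = 16) (φ : MulAut C) (hφ5 : φ ^ 5 = 1)
    (hfree : ∀ x : C, φ x * x⁻¹ ∈ frattini C → x ∈ frattini C) :
    ∀ x : C, x ^ 2 = 1 → x ∈ frattini C := by
  -- the induced automorphism has order `5`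
  have hbar5 : cinv3Bar φ ^ 5 = 1 := by
    ext w
    obtain ⟨x, rfl⟩ := QuotientGroup.mk_surjective w
    rw [cinv3Bar_pow_mk, hφ5]
    rfl
  have hbarne : cinv3Bar φ ≠ 1 := by
    intro h1
    -- then every element lies in `Φ`, so `C/Φ` is trivial
    have hall : ∀ x : C, x ∈ frattini C := by
      intro x
      apply hfree
      have := congrArg (fun f : MulAut (C ⧸ frattini C) => f (QuotientGroup.mk x)) h1
      simp only [cinv3Bar_mk, MulAut.one_apply] at this
      have h2 := QuotientGroup.eq.mp this.symm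
      have e : φ x * x⁻¹ = x * (x⁻¹ * φ x) * x⁻¹ := by group
      rw [e]
      have hn : (frattini C).Normal := inferInstance
      exact hn.conj_mem _ h2 x
    have hone : Nat.card (C ⧸ frattini C) = 1 := by
      rw [Nat.card_eq_one_iff_unique]
      refine ⟨⟨fun a b => ?_⟩, ⟨1⟩⟩
      obtain ⟨x, rfl⟩ := QuotientGroup.mk_surjective a
      obtain ⟨y, rfl⟩ := QuotientGroup.mk_surjective b
      rw [(QuotientGroup.eq_one_iff x).mpr (hall x), (QuotientGroup.eq_one_iff y).mpr (hall y)]
    omega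
  have hn0 : n0 (qU C) = 0 :=
    n0_eq_zero (frattini_quot_exp_two hC) (UU_exp_two hC hΦ) h16
      (by rw [cinv3_card_UU hC hΦ hexp, h4]) (qU C) (qU_isQuadMap hC hΦ) cinv3_gen
      (cinv3Bar φ) hbar5 hbarne (qU_equivariant hC hΦ φ)
  intro x hx
  by_contra hxn
  have hw1 : (QuotientGroup.mk x : C ⧸ frattini C) ≠ 1 := by
    intro h
    exact hxn ((QuotientGroup.eq_one_iff x).mp h)
  have hq : qU C (QuotientGroup.mk x) = 1 := by
    apply Subtype.ext
    rw [qU_coe, qq_mk hC hΦ x, hx]
    rfl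
  unfold n0 at hn0
  have hfin : Finite {w : C ⧸ frattini C // w ≠ 1 ∧ qU C w = 1} := inferInstance
  have hempty := (Nat.card_eq_zero.mp hn0).resolve_right (by
    intro h; exact h.false)
  exact hempty.false ⟨QuotientGroup.mk x, hw1, hq⟩

end TwoGroups

end Cfsg.Agent.Helper20.A5Q
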