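import Mathlib
import Cfsg.Agent.Lib.Helper20.A5QDefs
import Cfsg.Agent.Lib.Helper20.A3Defs

set_option autoImplicit false
set_option linter.unusedSectionVars false
set_option linter.unusedVariables false

/-! S3106 piece D10: a dihedral group of order `10` acting on `2^4`. -/

namespace Cfsg.Agent.Helper20.A5Q

open Cfsg.Agent.Helper22.SecRank
open Cfsg.Agent.Helper20.A3

section Abstract

variable {W : Type*} [Group W] [Finite W]

theorem d10_comm (hW : ∀ w : W, w * w = 1) (a b : W) : a * b = b * a := by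
  have h1 := hW (a * b)
  have h2 : a * b = (a * b)⁻¹ := eq_inv_of_mul_eq_one_left h1
  have ha : a⁻¹ = a := (eq_inv_of_mul_eq_one_left (hW a)).symm
  have hb : b⁻¹ = b := (eq_inv_of_mul_eq_one_left (hW b)).symm
  rw [h2, mul_inv_rev, ha, hb]

/-- the subgroup of the fixed points of an automorphism -/
def d10Fix (σ : MulAut W) : Subgroup W where
  carrier := {w | σ w = w}
  one_mem' := map_one σ
  mul_mem' := by
    intro a b ha hb
    show σ (a * b) = a * b
    rw [map_mul, ha, hb]
  inv_mem' := by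
    intro a ha
    show σ a⁻¹ = a⁻¹
    rw [map_inv, ha]

theorem d10_mem_fix (σ : MulAut W) (w : W) : w ∈ d10Fix σ ↔ σ w = w := Iff.rfl

/-- the norm map `v ↦ v * σ v` -/
def d10Norm (hW : ∀ w : W, w * w = 1) (σ : MulAut W) : W →* W where
  toFun v := v * σ v
  map_one' := by rw [map_one, one_mul]
  map_mul' := by
    intro a b
    rw [map_mul, mul_assoc, ← mul_assoc b, d10_comm hW b (σ a), mul_assoc, ← mul_assoc]

theorem d10_norm_ker (hW : ∀ w : W, w * w = 1) (σ : MulAut W) :
    (d10Norm hW σ).ker = d10Fix σ := by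
  ext v
  rw [MonoidHom.mem_ker, d10_mem_fix]
  show v * σ v = 1 ↔ σ v = v
  constructor
  · intro h
    have h2 : σ v = v⁻¹ := eq_inv_of_mul_eq_one_right h
    rw [h2]
    exact (eq_inv_of_mul_eq_one_left (hW v)).symm
  · intro h
    rw [h]; exact hW v

theorem d10_norm_range_le (hW : ∀ w : W, w * w = 1) (σ : MulAut W) (hσ : σ * σ = 1) :
    (d10Norm hW σ).range ≤ d10Fix σ := by
  rintro _ ⟨v, rfl⟩
  rw [d10_mem_fix]
  show σ (v * σ v) = v * σ v
  have h2 : σ (σ v) = v := by
    have := congrArg (fun f : MulAut W => f v) hσ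
    simpa using this
  rw [map_mul, h2, d10_comm hW]

theorem d10_card_mul (hW : ∀ w : W, w * w = 1) (σ : MulAut W) :
    Nat.card (d10Fix σ) * Nat.card (d10Norm hW σ).range = Nat.card W := by
  rw [← d10_norm_ker hW σ, ← Subgroup.index_ker]
  exact Subgroup.card_mul_index _

/-- an automorphism of order `5` of `2^4` has no nontrivial fixed point -/
theorem d10_free (hW : ∀ w : W, w * w = 1) (hcard : Nat.card W = 16) (φ : MulAut W)
    (hφ5 : φ ^ 5 = 1) (hφ : φ ≠ 1) : ∀ w : W, φ w = w → w = 1 := by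
  classical
  -- the cyclic group generated by `φ` is a `5`-group
  have hP : IsPGroup 5 (Subgroup.zpowers φ) := by
    intro g
    obtain ⟨g, hg⟩ := g
    obtain ⟨k, rfl⟩ := Subgroup.mem_zpowers_iff.mp hg
    refine ⟨1, ?_⟩
    apply Subtype.ext
    show (φ ^ k) ^ 5 ^ 1 = 1
    rw [pow_one, ← zpow_natCast, ← zpow_mul, mul_comm, zpow_mul, zpow_natCast, hφ5, one_zpow]
  have : Fact (Nat.Prime 5) := ⟨by norm_num⟩
  have hmod := hP.card_modEq_card_fixedPoints (α := W)
  -- the fixed points are `d10Fix φ`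
  have hfix : Nat.card (MulAction.fixedPoints (Subgroup.zpowers φ) W) = Nat.card (d10Fix φ) := by
    apply Nat.card_congr
    refine Equiv.setCongr ?_
    ext w
    simp only [MulAction.mem_fixedPoints, Subtype.forall, Subgroup.mem_zpowers_iff]
    constructor
    · intro h
      exact h φ ⟨1, zpow_one φ⟩
    · rintro h g ⟨k, rfl⟩
      show (φ ^ k) w = w
      have hw : w ∈ d10Fix φ := h
      have : ∀ n : ℕ, (φ ^ n) w = w := by
        intro n
        induction n with
        | zero => simp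
        | succ n ih => rw [pow_succ, MulAut.mul_apply, h, ih]
      -- reduce the integer power to a natural one
      have hk : φ ^ k = φ ^ (k % 5).toNat := by
        have h5 : φ ^ (5 : ℤ) = 1 := by exact_mod_cast hφ5
        conv_lhs => rw [← Int.emod_add_mul_ediv k 5]
        rw [zpow_add, zpow_mul, h5, one_zpow, mul_one]
        have hnn : 0 ≤ k % 5 := Int.emod_nonneg k (by norm_num)
        conv_lhs => rw [← Int.toNat_of_nonneg hnn]
        exact zpow_natCast φ _
      rw [hk]
      exact this _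
  rw [hfix] at hmod
  rw [hcard] at hmod
  -- the order of the fixed subgroup divides 16
  have hdvd : Nat.card (d10Fix φ) ∣ 16 := by
    have := Subgroup.card_subgroup_dvd_card (d10Fix φ)
    rw [hcard] at this
    exact this
  have hle : Nat.card (d10Fix φ) ≤ 16 := Nat.le_of_dvd (by norm_num) hdvd
  have hcases : Nat.card (d10Fix φ) = 1 ∨ Nat.card (d10Fix φ) = 16 := by
    have hm : 16 % 5 = Nat.card (d10Fix φ) % 5 := hmod
    interval_cases h : Nat.card (d10Fix φ) <;> simp_all
  rcases hcases with h1 | h16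
  · intro w hw
    have hwm : w ∈ d10Fix φ := hw
    have hbot : d10Fix φ = ⊥ := Subgroup.card_eq_one.mp h1
    rw [hbot] at hwm
    exact Subgroup.mem_bot.mp hwm
  · exfalso
    apply hφ
    have htop : d10Fix φ = ⊤ := by
      apply Subgroup.eq_top_of_card_eq
      rw [h16, hcard]
    ext w
    have : w ∈ d10Fix φ := by rw [htop]; trivial
    exact this

/-- **A5Q-D10.** A dihedral group of order `10` acting on `2^4`: the involution has exactly `4`
fixed points, the element of order `5` has none, and every fixed point of the involution is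
of the form `v * τ v`. -/
theorem d10_fixed (hW : ∀ w : W, w * w = 1) (hcard : Nat.card W = 16) (φ τ : MulAut W)
    (hφ5 : φ ^ 5 = 1) (hφ : φ ≠ 1) (hτ : τ * τ = 1) (hinv : τ * φ * τ⁻¹ = φ⁻¹) :
    Nat.card {w : W // τ w = w} = 4 ∧ (∀ w : W, φ w = w → w = 1) ∧
      ∀ w : W, τ w = w → ∃ v : W, w = v * τ v := by
  have hfree := d10_free hW hcard φ hφ5 hφ
  -- `τ φ` is an involution too
  have hτinv : τ⁻¹ = τ := (eq_inv_of_mul_eq_one_left hτ).symm
  have hσ : (τ * φ) * (τ * φ) = 1 := by
    have : τ * φ * τ = φ⁻¹ := by rw [hτinv] at hinv; exact hinv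
    calc (τ * φ) * (τ * φ) = (τ * φ * τ) * φ := by group
      _ = φ⁻¹ * φ := by rw [this]
      _ = 1 := by group
  -- both fixed subgroups have order at least `4`
  have hge : ∀ σ : MulAut W, σ * σ = 1 → 16 ≤ Nat.card (d10Fix σ) * Nat.card (d10Fix σ) := by
    intro σ hσ2
    have h1 := d10_card_mul hW σ
    have h2 : Nat.card (d10Norm hW σ).range ≤ Nat.card (d10Fix σ) :=
      Subgroup.card_le_of_le (d10_norm_range_le hW σ hσ2)
    calc 16 = Nat.card (d10Fix σ) * Nat.card (d10Norm hW σ).range := by rw [h1, hcard]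
      _ ≤ Nat.card (d10Fix σ) * Nat.card (d10Fix σ) := Nat.mul_le_mul_left _ h2
  -- the two fixed subgroups meet trivially
  have hinj : Function.Injective (fun p : d10Fix τ × d10Fix (τ * φ) => (p.1 : W) * (p.2 : W)) := by
    rintro ⟨⟨a, ha⟩, ⟨b, hb⟩⟩ ⟨⟨a', ha'⟩, ⟨b', hb'⟩⟩ h
    change a * b = a' * b' at h
    -- `a'⁻¹ a = b' b⁻¹` lies in both
    have e : a'⁻¹ * a = b' * b⁻¹ := by
      have h3 : a'⁻¹ * (a * b) * b⁻¹ = a'⁻¹ * (a' * b') * b⁻¹ := by rw [h]
      have h4 : a'⁻¹ * (a * b) * b⁻¹ = a'⁻¹ * a := by group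
      have h5 : a'⁻¹ * (a' * b') * b⁻¹ = b' * b⁻¹ := by group
      rw [← h4, h3, h5]
    have hc1 : a'⁻¹ * a ∈ d10Fix τ := mul_mem (inv_mem ha') ha
    have hc2 : a'⁻¹ * a ∈ d10Fix (τ * φ) := by rw [e]; exact mul_mem hb' (inv_mem hb)
    have hc : a'⁻¹ * a = 1 := by
      apply hfree
      have h1 : τ (a'⁻¹ * a) = a'⁻¹ * a := hc1
      have h2 : τ (φ (a'⁻¹ * a)) = a'⁻¹ * a := hc2
      have h3 : τ (φ (a'⁻¹ * a)) = τ (a'⁻¹ * a) := by rw [h2, h1]
      exact τ.injective h3
    have haa : a = a' := by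
      have := inv_mul_eq_one.mp hc
      exact this.symm
    have hbb : b = b' := by
      rw [hc] at e
      have := mul_inv_eq_one.mp e.symm
      exact this.symm
    subst haa; subst hbb; rfl
  have hprod : Nat.card (d10Fix τ) * Nat.card (d10Fix (τ * φ)) ≤ 16 := by
    have := Nat.card_le_card_of_injective _ hinj
    rw [Nat.card_prod, hcard] at this
    exact this
  have h1 := hge τ hτ
  have h2 := hge (τ * φ) hσ
  have hA : Nat.card (d10Fix τ) = 4 := by
    have ha : 4 ≤ Nat.card (d10Fix τ) := by nlinarith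
    have hb : 4 ≤ Nat.card (d10Fix (τ * φ)) := by nlinarith
    nlinarith
  refine ⟨?_, hfree, ?_⟩
  · have : Nat.card {w : W // τ w = w} = Nat.card (d10Fix τ) := rfl
    rw [this, hA]
  · -- the image of the norm map is the whole fixed subgroup
    have hc := d10_card_mul hW τ
    rw [hA, hcard] at hc
    have hr : Nat.card (d10Norm hW τ).range = 4 := by omega
    have heq : (d10Norm hW τ).range = d10Fix τ := by
      apply Subgroup.eq_of_le_of_card_ge (d10_norm_range_le hW τ hτ)
      rw [hr, hA]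
    intro w hw
    have hwm : w ∈ d10Fix τ := hw
    rw [← heq] at hwm
    obtain ⟨v, hv⟩ := hwm
    exact ⟨v, hv.symm⟩

end Abstract

end Cfsg.Agent.Helper20.A5Q
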