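import Mathlib
import Cfsg.Agent.Lib.Helper20.A5QDefs
import Cfsg.Agent.Lib.Helper20.A3Defs
import Cfsg.Agent.Lib.Helper25.A5QBR0
import Cfsg.Agent.Lib.Helper12.FrattiniAct

set_option autoImplicit false
set_option linter.unusedSectionVars false
set_option linter.unusedVariables false

/-! S3106 piece INITF: the action of a `2`-constrained group with `O(X) = 1` on the Frattini quotient
of `O_2(X)` is faithful modulo `O_2(X)`, seen inside a subgroup `L ≥ O_2(X)`. -/

namespace Cfsg.Agent.Helper20.A5Q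

open Cfsg.Agent.Helper22.SecRank
open Cfsg.Agent.Helper20.A3

/-- the image in `X` of the Frattini subgroup of a `2`-subgroup `R` is `Sq R` -/
theorem initf_frattini_map {X : Type*} [Group X] [Finite X] (R : Subgroup X) (hR : IsPGroup 2 R) :
    (frattini ↥R).map R.subtype = Sq R := by
  rw [frattini_eq_closure_sq hR, MonoidHom.map_closure]
  unfold Sq
  congr 1
  ext z
  constructor
  · rintro ⟨_, ⟨x, rfl⟩, rfl⟩
    exact ⟨x.1, x.2, by simp⟩
  · rintro ⟨k, hk, rfl⟩
    exact ⟨(⟨k, hk⟩ : ↥R) ^ 2, ⟨⟨k, hk⟩, rfl⟩, by simp⟩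

/-- the image in `X` of `Sq (R.subgroupOf L)` lies in `Sq R` -/
theorem initf_Sq_subgroupOf {X : Type*} [Group X] (R L : Subgroup X) (z : ↥L)
    (hz : z ∈ Sq (R.subgroupOf L)) : (z : X) ∈ Sq R := by
  unfold Sq at hz
  induction hz using Subgroup.closure_induction with
  | mem x hx =>
    obtain ⟨k, hk, rfl⟩ := hx
    have : ((k ^ 2 : ↥L) : X) = (k : X) ^ 2 := by simp
    rw [this]
    exact sq_mem_Sq (Subgroup.mem_subgroupOf.mp hk)
  | one => exact Subgroup.one_mem _
  | mul a b _ _ iha ihb =>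
    rw [Subgroup.coe_mul]
    exact Subgroup.mul_mem _ iha ihb
  | inv a _ iha =>
    rw [Subgroup.coe_inv]
    exact Subgroup.inv_mem _ iha

/-- **A5Q-INITF.** Faithful action on the Frattini quotient of `O_2(X)`, seen in a subgroup `L`. -/
theorem faith_of_constrained {X : Type*} [Group X] [Finite X] (hc : Cfsg.IsPConstrained 2 X)
    (hO : Cfsg.oddCore X = ⊥) (L : Subgroup X) (hRL : Cfsg.pCore 2 X ≤ L) :
    ∀ y : ↥L, (∀ x ∈ (Cfsg.pCore 2 X).subgroupOf L,
      y * x * y⁻¹ * x⁻¹ ∈ Sq ((Cfsg.pCore 2 X).subgroupOf L)) →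
        y ∈ (Cfsg.pCore 2 X).subgroupOf L := by
  intro y hy
  have : Fact (Nat.Prime 2) := ⟨Nat.prime_two⟩
  set R := Cfsg.pCore 2 X with hRdef
  have hRp : IsPGroup 2 ↥R := Cfsg.Agent.Helper14.pCore_isPGroup 2 X
  have hker := Cfsg.Agent.Helper12.FA.ker_rho_le (p := 2) (X := X)
    (Cfsg.Agent.Helper12.FA.centralizer_pCore_le hc hO)
  rw [Subgroup.mem_subgroupOf]
  apply hker
  rw [MonoidHom.mem_ker]
  apply MulEquiv.ext
  intro w
  induction w using QuotientGroup.induction_on with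
  | H q =>
    rw [Cfsg.Agent.Helper12.FA.rho_mk, MulAut.one_apply, QuotientGroup.eq]
    -- the commutator `y q y⁻¹ q⁻¹` lies in `Sq R = Φ(R)`
    have hqL : (q : X) ∈ L := hRL q.2
    have h1 := hy ⟨(q : X), hqL⟩ (Subgroup.mem_subgroupOf.mpr q.2)
    have h2 := initf_Sq_subgroupOf R L _ h1
    rw [← initf_frattini_map R hRp] at h2
    obtain ⟨z, hz, hzeq⟩ := h2
    -- `(conj q)⁻¹ * q = q⁻¹ z⁻¹ q`-type element
    have hn : (frattini ↥R).Normal := inferInstance
    have e : (MulAut.conjNormal (y : X) q)⁻¹ * q = q⁻¹ * z⁻¹ * q⁻¹⁻¹ := by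
      apply Subtype.ext
      rw [Subgroup.coe_mul, Subgroup.coe_inv, Subgroup.coe_mul, Subgroup.coe_mul, Subgroup.coe_inv,
        Subgroup.coe_inv, Subgroup.coe_inv, Subgroup.coe_inv, MulAut.conjNormal_apply]
      have hz' : (z : X) = (y : X) * (q : X) * (y : X)⁻¹ * (q : X)⁻¹ := by
        rw [show ((z : ↥R) : X) = R.subtype z from rfl, hzeq]
        simp
      rw [hz']
      group
    rw [e]
    exact hn.conj_mem _ (inv_mem hz) _

end Cfsg.Agent.Helper20.A5Q
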