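import Mathlib

/-!
# Counting along a chain (for S4144): if `C 0 = ⊤ > C 1 > ... > C n = ⊥` is a chain with steps of index `≤ p` in a
finite `p`-group, `B ≤ H` are subgroups and every `h ∈ H ⊓ C i` outside `C (i+1)` (`1 ≤ i ≤ n - p`) produces an element of
`B ⊓ C (i+p-1)` outside `C (i+p)`, then `|H| ≤ p^p |B|` (given `|C (n-p+1)| ≤ p^(p-1)`).
-/

set_option autoImplicit false

namespace Cfsg.Agent.Helper18.ChainCount

variable {G : Type*} [Group G] [Finite G] {p : ℕ} [hp : Fact p.Prime]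

omit hp in
theorem card_inf_le (A C D : Subgroup G) (hDC : D ≤ C) (hcard : Nat.card C ≤ p * Nat.card D) :
    Nat.card (A ⊓ C : Subgroup G) ≤ p * Nat.card (A ⊓ D : Subgroup G) := by
  have hle : A ⊓ D ≤ A ⊓ C := inf_le_inf_left A hDC
  have h1 : (A ⊓ D).relIndex (A ⊓ C) * Nat.card (A ⊓ D : Subgroup G) = Nat.card (A ⊓ C : Subgroup G) := by
    rw [Subgroup.relIndex, ← ((A ⊓ D).subgroupOf (A ⊓ C)).index_mul_card]
    congr 1
    exact (Nat.card_congr (Subgroup.subgroupOfEquivOfLe hle).toEquiv).symm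
  have h2 : (A ⊓ D).relIndex (A ⊓ C) = D.relIndex (A ⊓ C) := by
    have e : A ⊓ D = (A ⊓ C) ⊓ D := by
      rw [inf_assoc, inf_eq_right.2 hDC]
    rw [e, Subgroup.inf_relIndex_left]
  have h3 : D.relIndex (A ⊓ C) ≤ D.relIndex C := by
    apply Subgroup.relIndex_le_of_le_right inf_le_right
    intro h0
    have := Subgroup.relIndex_mul_index hDC
    have hfin : D.index ≠ 0 := Subgroup.index_ne_zero_of_finite
    rw [h0, zero_mul] at this
    exact hfin this.symm
  have h4 : D.relIndex C * Nat.card D = Nat.card C := by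
    rw [Subgroup.relIndex, ← (D.subgroupOf C).index_mul_card]
    congr 1
    exact (Nat.card_congr (Subgroup.subgroupOfEquivOfLe hDC).toEquiv).symm
  have hDpos : 0 < Nat.card D := Nat.card_pos
  have h5 : D.relIndex C ≤ p := by
    rw [← h4] at hcard
    exact Nat.le_of_mul_le_mul_right hcard hDpos
  rw [← h1, h2]
  exact Nat.mul_le_mul_right _ (h3.trans h5)

theorem card_inf_ge (hG : IsPGroup p G) (B C D : Subgroup G) (hDC : D ≤ C) (b : G) (hb : b ∈ B)
    (hbC : b ∈ C) (hbD : b ∉ D) :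
    p * Nat.card (B ⊓ D : Subgroup G) ≤ Nat.card (B ⊓ C : Subgroup G) := by
  have hpp : p.Prime := hp.out
  have hle : B ⊓ D ≤ B ⊓ C := inf_le_inf_left B hDC
  have hlt : B ⊓ D < B ⊓ C := by
    refine lt_of_le_of_ne hle ?_
    intro heq
    have : b ∈ B ⊓ C := ⟨hb, hbC⟩
    rw [← heq] at this
    exact hbD this.2
  obtain ⟨a, ha⟩ := (hG.to_subgroup (B ⊓ D)).exists_card_eq
  obtain ⟨c, hc⟩ := (hG.to_subgroup (B ⊓ C)).exists_card_eq
  have hcardlt : Nat.card (B ⊓ D : Subgroup G) < Nat.card (B ⊓ C : Subgroup G) := by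
    have hdvd := Subgroup.card_dvd_of_le hle
    have hle' := Nat.le_of_dvd Nat.card_pos hdvd
    refine lt_of_le_of_ne hle' ?_
    intro heq
    exact hlt.ne (Subgroup.eq_of_le_of_card_ge hle heq.ge)
  rw [ha, hc] at hcardlt ⊢
  have hac : a < c := (Nat.pow_lt_pow_iff_right hpp.one_lt).1 hcardlt
  calc p * p ^ a = p ^ (a + 1) := by rw [pow_succ, mul_comm]
    _ ≤ p ^ c := Nat.pow_le_pow_right hpp.pos hac

theorem chain_count (hG : IsPGroup p G) (n : ℕ) (C : ℕ → Subgroup G) (hanti : Antitone C)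
    (h0 : C 0 = ⊤) (hn : C n = ⊥)
    (hstep : ∀ i, i < n → Nat.card (C i) ≤ p * Nat.card (C (i + 1))) (hpn : p ≤ n)
    (H B : Subgroup G)
    (hPS : ∀ i, 1 ≤ i → i + p ≤ n → ∀ h ∈ H, h ∈ C i → h ∉ C (i + 1) →
      ∃ b ∈ B, b ∈ C (i + p - 1) ∧ b ∉ C (i + p))
    (htop : Nat.card (C (n - p + 1)) ≤ p ^ (p - 1)) :
    Nat.card H ≤ p ^ p * Nat.card B := by
  have hpp : p.Prime := hp.out
  have hp1 : 1 ≤ p := hpp.one_lt.le
  -- main claim
  have claim : ∀ k, k ≤ n - p →
      Nat.card (H ⊓ C (n - p + 1 - k) : Subgroup G) ≤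
        Nat.card (B ⊓ C (n - k) : Subgroup G) * Nat.card (H ⊓ C (n - p + 1) : Subgroup G) := by
    intro k
    induction k with
    | zero =>
      intro _
      have : Nat.card (B ⊓ C (n - 0) : Subgroup G) = 1 := by
        rw [Nat.sub_zero, hn, inf_bot_eq]
        exact Subgroup.card_bot
      rw [this, one_mul, Nat.sub_zero]
    | succ k ih =>
      intro hk
      have ih' := ih (by omega)
      set i := n - p + 1 - (k + 1) with hi
      have hi1 : 1 ≤ i := by omega
      have hi2 : i + 1 = n - p + 1 - k := by omega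
      have hi3 : i + p = n - k := by omega
      have hi4 : i + p - 1 = n - (k + 1) := by omega
      rw [← hi2] at ih'
      by_cases hex : ∃ h ∈ H, h ∈ C i ∧ h ∉ C (i + 1)
      · obtain ⟨h, hh, hhC, hhD⟩ := hex
        obtain ⟨b, hb, hbC, hbD⟩ := hPS i hi1 (by omega) h hh hhC hhD
        rw [hi4] at hbC
        rw [hi3] at hbD
        have hmono : C (n - k) ≤ C (n - (k + 1)) := hanti (by omega)
        have h1 := card_inf_ge hG B (C (n - (k + 1))) (C (n - k)) hmono b hb hbC hbD
        have h2 := card_inf_le (p := p) H (C i) (C (i + 1)) (hanti (by omega)) (hstep i (by omega))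
        calc Nat.card (H ⊓ C i : Subgroup G) ≤ p * Nat.card (H ⊓ C (i + 1) : Subgroup G) := h2
          _ ≤ p * (Nat.card (B ⊓ C (n - k) : Subgroup G) *
                Nat.card (H ⊓ C (n - p + 1) : Subgroup G)) := Nat.mul_le_mul_left _ ih'
          _ = (p * Nat.card (B ⊓ C (n - k) : Subgroup G)) *
                Nat.card (H ⊓ C (n - p + 1) : Subgroup G) := by ring
          _ ≤ Nat.card (B ⊓ C (n - (k + 1)) : Subgroup G) *
                Nat.card (H ⊓ C (n - p + 1) : Subgroup G) := Nat.mul_le_mul_right _ h1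
      · have heq : H ⊓ C i = H ⊓ C (i + 1) := by
          apply le_antisymm
          · intro x hx
            refine ⟨hx.1, ?_⟩
            by_contra hxn
            exact hex ⟨x, hx.1, hx.2, hxn⟩
          · exact inf_le_inf_left H (hanti (by omega))
        rw [heq]
        have hmono : B ⊓ C (n - k) ≤ B ⊓ C (n - (k + 1)) := inf_le_inf_left B (hanti (by omega))
        have hc := Nat.le_of_dvd Nat.card_pos (Subgroup.card_dvd_of_le hmono)
        exact ih'.trans (Nat.mul_le_mul_right _ hc)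
  have hfin := claim (n - p) le_rfl
  have e1 : n - p + 1 - (n - p) = 1 := by omega
  have e2 : n - (n - p) = p := by omega
  rw [e1, e2] at hfin
  -- `|H| ≤ p |H ⊓ C 1|`
  have h3 : Nat.card (H ⊓ C 0 : Subgroup G) ≤ p * Nat.card (H ⊓ C (0 + 1) : Subgroup G) :=
    card_inf_le (p := p) H (C 0) (C (0 + 1)) (hanti (by omega)) (hstep 0 (by omega))
  rw [h0, inf_top_eq, zero_add] at h3
  have h4 : Nat.card (B ⊓ C p : Subgroup G) ≤ Nat.card B :=
    Nat.le_of_dvd Nat.card_pos (Subgroup.card_dvd_of_le inf_le_left)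
  have h5 : Nat.card (H ⊓ C (n - p + 1) : Subgroup G) ≤ p ^ (p - 1) :=
    (Nat.le_of_dvd Nat.card_pos (Subgroup.card_dvd_of_le inf_le_right)).trans htop
  calc Nat.card H ≤ p * Nat.card (H ⊓ C 1 : Subgroup G) := h3
    _ ≤ p * (Nat.card (B ⊓ C p : Subgroup G) * Nat.card (H ⊓ C (n - p + 1) : Subgroup G)) :=
        Nat.mul_le_mul_left _ hfin
    _ ≤ p * (Nat.card B * p ^ (p - 1)) := Nat.mul_le_mul_left _ (Nat.mul_le_mul h4 h5)
    _ = p ^ p * Nat.card B := by
        have : p ^ p = p * p ^ (p - 1) := by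
          rw [← pow_succ']
          congr 1
          omega
        rw [this]
        ring

/-- relIndex form -/
theorem relIndex_le_of_card_le {m : ℕ} (H B : Subgroup G) (hBH : B ≤ H)
    (h : Nat.card H ≤ m * Nat.card B) : B.relIndex H ≤ m := by
  have h1 : B.relIndex H * Nat.card B = Nat.card H := by
    rw [Subgroup.relIndex, ← (B.subgroupOf H).index_mul_card]
    congr 1
    exact (Nat.card_congr (Subgroup.subgroupOfEquivOfLe hBH).toEquiv).symm
  rw [← h1] at h
  exact Nat.le_of_mul_le_mul_right h Nat.card_pos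

end Cfsg.Agent.Helper18.ChainCount
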