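import Mathlib
import Cfsg.Agent.Lib.Helper18.ChainCount

/-!
# S4144, the case `p = 2` (and the general shape): in a finite group with a cyclic subgroup `C` of index `≤ 2`... more
precisely: if `C` is a cyclic subgroup of index `q` (normal), then every subgroup `H` satisfies
`|H : ⟨h^q : h ∈ H⟩| ≤ q * q`. For `q = 2` this is the case `p = 2` of S4144 via S0113.
-/

set_option autoImplicit false

namespace Cfsg.Agent.Helper18.AgemoTwo

variable {X : Type*} [Group X] [Finite X]

theorem card_le_of_cyclic (D B : Subgroup X) (hD : IsCyclic D) (q : ℕ) (hq : 0 < q)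
    (hB : ∀ d ∈ D, d ^ q ∈ B) : Nat.card D ≤ q * Nat.card B := by
  obtain ⟨d, hd⟩ := hD.exists_generator
  have hcard : orderOf (d : X) = Nat.card D := by
    rw [Subgroup.orderOf_coe]
    exact orderOf_eq_card_of_forall_mem_zpowers hd
  have hpow : orderOf ((d : X) ^ q) = orderOf (d : X) / Nat.gcd (orderOf (d : X)) q :=
    orderOf_pow' (d : X) hq.ne'
  have hle : Subgroup.zpowers ((d : X) ^ q) ≤ B := by
    rw [Subgroup.zpowers_le]
    exact hB d d.2
  have h1 : orderOf ((d : X) ^ q) ≤ Nat.card B := by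
    rw [← Nat.card_zpowers]
    exact Nat.le_of_dvd Nat.card_pos (Subgroup.card_dvd_of_le hle)
  set o := orderOf (d : X) with ho
  have hg : Nat.gcd o q ∣ o := Nat.gcd_dvd_left o q
  have hgq : Nat.gcd o q ≤ q := Nat.le_of_dvd hq (Nat.gcd_dvd_right o q)
  have h2 : o = Nat.gcd o q * (o / Nat.gcd o q) := (Nat.mul_div_cancel' hg).symm
  rw [← hcard]
  calc o = Nat.gcd o q * (o / Nat.gcd o q) := h2
    _ ≤ q * (o / Nat.gcd o q) := Nat.mul_le_mul_right _ hgq
    _ ≤ q * Nat.card B := Nat.mul_le_mul_left _ (by rw [← hpow]; exact h1)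

theorem relIndex_le_of_cyclic_index (C : Subgroup X) (hC : IsCyclic C) (q : ℕ) (hq : 0 < q)
    (hidx : C.index = q) [C.Normal] (H : Subgroup X) :
    (Subgroup.closure {y : X | ∃ h ∈ H, y = h ^ q}).relIndex H ≤ q * q := by
  set B := Subgroup.closure {y : X | ∃ h ∈ H, y = h ^ q} with hB
  have hBH : B ≤ H := by
    rw [hB, Subgroup.closure_le]
    rintro _ ⟨h, hh, rfl⟩
    exact pow_mem hh q
  set D := H ⊓ C with hD
  -- `D` is cyclic
  have hDC : D ≤ C := inf_le_right
  have hDcyc : IsCyclic D := by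
    have : IsCyclic C := hC
    have h1 : IsCyclic (D.subgroupOf C) := inferInstance
    exact isCyclic_of_surjective (Subgroup.subgroupOfEquivOfLe hDC).toMonoidHom
      (Subgroup.subgroupOfEquivOfLe hDC).surjective
  have h1 : Nat.card D ≤ q * Nat.card B := by
    apply card_le_of_cyclic D B hDcyc q hq
    intro d hd
    exact Subgroup.subset_closure ⟨d, hd.1, rfl⟩
  -- `|H| ≤ q |D|`
  have h2 : Nat.card H ≤ q * Nat.card D := by
    have h3 : D.relIndex H * Nat.card D = Nat.card H := by
      rw [Subgroup.relIndex, ← (D.subgroupOf H).index_mul_card]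
      congr 1
      exact (Nat.card_congr (Subgroup.subgroupOfEquivOfLe (inf_le_left : D ≤ H)).toEquiv).symm
    have h4 : D.relIndex H = C.relIndex H := by
      rw [hD, Subgroup.inf_relIndex_left]
    have h5 : C.relIndex H ∣ C.index := Subgroup.relIndex_dvd_index_of_normal C H
    have h6 : C.relIndex H ≤ q := by
      rw [hidx] at h5
      exact Nat.le_of_dvd hq h5
    rw [← h3, h4]
    exact Nat.mul_le_mul_right _ h6
  apply Cfsg.Agent.Helper18.ChainCount.relIndex_le_of_card_le H B hBH
  calc Nat.card H ≤ q * Nat.card D := h2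
    _ ≤ q * (q * Nat.card B) := Nat.mul_le_mul_left _ h1
    _ = q * q * Nat.card B := by ring

end Cfsg.Agent.Helper18.AgemoTwo
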