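import Mathlib
import Cfsg.Prelude.Def_Blocks
import Cfsg.Agent.Lib.Helper23.BlockLocal
import Cfsg.Agent.Lib.Helper23.BlockResidue

/-!
# Lifting modular linear characters (helper18's shared library)

Every homomorphism from a finite group to the units of the residue field `AlgInt ⧸ M` lifts to a
homomorphism to `ℂˣ` with root of unity values reducing to the given ones.
-/

set_option autoImplicit false
set_option linter.unusedSectionVars false
set_option linter.style.haveILetI false

namespace Cfsg.Agent.Helper18.LiftLinear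

open Cfsg Cfsg.Agent.Helper23.Blk

variable {M : Ideal AlgInt} {p : ℕ}

section

variable [hMax : M.IsMaximal]

theorem red_pow {z : ℂ} (hz : MemLocalRing M z) (n : ℕ) : red M (z ^ n) = red M z ^ n := by
  haveI : M.IsPrime := hMax.isPrime
  induction n with
  | zero => simp [red_one]
  | succ n ih => rw [pow_succ, pow_succ, red_mul (memLocalRing_pow hz n) hz, ih]

theorem red_natCast (n : ℕ) : red M (n : ℂ) = (n : AlgInt ⧸ M) := by
  have := red_algInt (M := M) (n : AlgInt)
  simpa using this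

theorem natCast_ne_zero (hM : IsPModular p M) (n : ℕ) (hn : ¬ p ∣ n) :
    (n : AlgInt ⧸ M) ≠ 0 := by
  haveI : M.IsPrime := hMax.isPrime
  rw [← red_natCast, Ne, red_eq_zero_iff (memLocalRing_natCast n), memLocalIdeal_natCast_iff hM]
  exact hn

theorem memLocalRing_of_pow_eq_one {n : ℕ} (hn : 0 < n) {ζ : ℂ} (hζ : ζ ^ n = 1) :
    MemLocalRing M ζ := by
  apply memLocalRing_of_isIntegral _ hMax.ne_top
  apply IsIntegral.of_pow hn
  rw [hζ]
  exact isIntegral_one

/-- reduction is injective on the roots of unity of order prime to `p` -/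
theorem eq_one_of_red_eq_one (hM : IsPModular p M) {n : ℕ} (hn : 0 < n) (hpn : ¬ p ∣ n) {ζ : ℂ}
    (hζ : ζ ^ n = 1) (hr : red M ζ = 1) : ζ = 1 := by
  haveI : M.IsPrime := hMax.isPrime
  by_contra hne
  have hgeom : ∑ i ∈ Finset.range n, ζ ^ i = 0 := by
    have := mul_geom_sum ζ n
    rw [hζ, sub_self] at this
    exact (mul_eq_zero.mp this).resolve_left (sub_ne_zero.mpr hne)
  have hloc : MemLocalRing M ζ := memLocalRing_of_pow_eq_one hn hζ
  have h1 : red M (∑ i ∈ Finset.range n, ζ ^ i) = ∑ i ∈ Finset.range n, red M (ζ ^ i) :=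
    red_sum _ _ (fun i _ => memLocalRing_pow hloc i)
  rw [hgeom, red_zero] at h1
  have h2 : ∀ i, red M (ζ ^ i) = 1 := by
    intro i
    rw [red_pow hloc, hr, one_pow]
  rw [Finset.sum_congr rfl (fun i _ => h2 i), Finset.sum_const, Finset.card_range,
    nsmul_eq_mul, mul_one] at h1
  exact natCast_ne_zero hM n hpn h1.symm

theorem charP_res (hM : IsPModular p M) : CharP (AlgInt ⧸ M) p := by
  apply (CharP.charP_iff_prime_eq_zero hM.1).mpr
  rw [← map_natCast (Ideal.Quotient.mk M), Ideal.Quotient.eq_zero_iff_mem]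
  exact hM.2.2

/-- the Frobenius map is injective on the residue field -/
theorem eq_one_of_pow_p_pow (hM : IsPModular p M) (u : AlgInt ⧸ M) (a : ℕ)
    (h : u ^ p ^ a = 1) : u = 1 := by
  haveI := charP_res hM
  haveI : Fact p.Prime := ⟨hM.1⟩
  have h1 : (u - 1) ^ p ^ a = 0 := by
    rw [sub_pow_char_pow, h, one_pow, sub_self]
  exact sub_eq_zero.mp (pow_eq_zero_iff (pow_ne_zero a hM.1.ne_zero) |>.mp h1)

/-- **Lifting**: a homomorphism to the units of the residue field lifts to characteristic zero. -/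
theorem exists_lift (hM : IsPModular p M) {G : Type*} [Group G] [Finite G]
    (ν : G →* (AlgInt ⧸ M)ˣ) :
    ∃ lam : G →* ℂˣ, (∀ g, IsIntegral ℤ ((lam g : ℂˣ) : ℂ)) ∧
      (∀ g, red M ((lam g : ℂˣ) : ℂ) = ((ν g : (AlgInt ⧸ M)ˣ) : AlgInt ⧸ M)) ∧
      (∀ g, ν g = 1 → lam g = 1) := by
  classical
  haveI : M.IsPrime := hMax.isPrime
  haveI : Fact p.Prime := ⟨hM.1⟩
  set a := (Nat.card G).factorization p with ha
  set n := Nat.card G / p ^ a with hn
  have hcard : Nat.card G = p ^ a * n := by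
    rw [hn, Nat.mul_div_cancel' (Nat.ordProj_dvd _ _)]
  have hn0 : 0 < n := by
    rcases Nat.eq_zero_or_pos n with h | h
    · rw [h, mul_zero] at hcard
      exact absurd hcard Nat.card_pos.ne'
    · exact h
  have hpn : ¬ p ∣ n := Nat.not_dvd_ordCompl hM.1 Nat.card_pos.ne'
  haveI : NeZero n := ⟨hn0.ne'⟩
  -- values of `ν` are `n`-th roots of unity
  have hν : ∀ g, ν g ∈ rootsOfUnity n (AlgInt ⧸ M) := by
    intro g
    rw [mem_rootsOfUnity']
    apply eq_one_of_pow_p_pow hM _ a
    rw [← pow_mul, mul_comm, ← hcard]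
    have : (ν g) ^ Nat.card G = 1 := by
      rw [← map_pow, pow_card_eq_one', map_one]
    have h2 := congrArg Units.val this
    simpa using h2
  -- the reduction map on roots of unity
  have hloc : ∀ ζ : rootsOfUnity n ℂ, MemLocalRing M ((ζ : ℂˣ) : ℂ) := by
    intro ζ
    apply memLocalRing_of_pow_eq_one hn0
    exact (mem_rootsOfUnity' n _).mp ζ.2
  have hredpow : ∀ ζ : rootsOfUnity n ℂ, red M ((ζ : ℂˣ) : ℂ) ^ n = 1 := by
    intro ζ
    rw [← red_pow (hloc ζ), (mem_rootsOfUnity' n _).mp ζ.2, red_one]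
  have hne : ∀ ζ : rootsOfUnity n ℂ, red M ((ζ : ℂˣ) : ℂ) ≠ 0 := by
    intro ζ h0
    have := hredpow ζ
    rw [h0, zero_pow hn0.ne'] at this
    exact zero_ne_one this
  let ρ : rootsOfUnity n ℂ →* rootsOfUnity n (AlgInt ⧸ M) :=
    { toFun := fun ζ => ⟨Units.mk0 (red M ((ζ : ℂˣ) : ℂ)) (hne ζ), by
        rw [mem_rootsOfUnity']
        exact hredpow ζ⟩
      map_one' := by
        apply Subtype.ext
        apply Units.ext
        simp [red_one]
      map_mul' := by
        intro ζ ξ
        apply Subtype.ext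
        apply Units.ext
        simp only [Subgroup.coe_mul, Units.val_mul, Units.val_mk0]
        exact red_mul (hloc ζ) (hloc ξ) }
  have hρ : ∀ ζ : rootsOfUnity n ℂ,
      (((ρ ζ : rootsOfUnity n (AlgInt ⧸ M)) : (AlgInt ⧸ M)ˣ) : AlgInt ⧸ M) =
        red M ((ζ : ℂˣ) : ℂ) := fun ζ => rfl
  have hinj : Function.Injective ρ := by
    rw [injective_iff_map_eq_one]
    intro ζ hζ
    have h1 : red M ((ζ : ℂˣ) : ℂ) = 1 := by
      rw [← hρ, hζ]
      rfl
    have := eq_one_of_red_eq_one hM hn0 hpn ((mem_rootsOfUnity' n _).mp ζ.2) h1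
    apply Subtype.ext
    apply Units.ext
    exact this
  have hbij : Function.Bijective ρ := by
    rw [Nat.bijective_iff_injective_and_card]
    refine ⟨hinj, ?_⟩
    apply le_antisymm
    · exact Nat.card_le_card_of_injective ρ hinj
    · rw [Complex.card_rootsOfUnity]
      exact card_rootsOfUnity (AlgInt ⧸ M) n
  let e : rootsOfUnity n ℂ ≃* rootsOfUnity n (AlgInt ⧸ M) := MulEquiv.ofBijective ρ hbij
  let ν' : G →* rootsOfUnity n (AlgInt ⧸ M) := ν.codRestrict _ hν
  refine ⟨(rootsOfUnity n ℂ).subtype.comp (e.symm.toMonoidHom.comp ν'), ?_, ?_, ?_⟩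
  · intro g
    apply IsIntegral.of_pow hn0
    have := (mem_rootsOfUnity' n _).mp (e.symm (ν' g)).2
    simp only [MonoidHom.coe_comp, Function.comp_apply]
    rw [show ((rootsOfUnity n ℂ).subtype (e.symm.toMonoidHom (ν' g)) : ℂˣ) =
      ((e.symm (ν' g) : rootsOfUnity n ℂ) : ℂˣ) from rfl, this]
    exact isIntegral_one
  · intro g
    have h1 : e (e.symm (ν' g)) = ν' g := e.apply_symm_apply _
    have h2 := hρ (e.symm (ν' g))
    have h3 : ρ (e.symm (ν' g)) = ν' g := h1
    rw [h3] at h2
    exact h2.symm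
  · intro g hg
    have : ν' g = 1 := by
      apply Subtype.ext
      exact hg
    simp only [MonoidHom.coe_comp, Function.comp_apply]
    rw [this]
    simp

end

end Cfsg.Agent.Helper18.LiftLinear
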