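import Mathlib
import Cfsg.Prelude.Def_Blocks
import Cfsg.Agent.Lib.Helper23.BlockConv
import Cfsg.Agent.Lib.Helper23.BlockBrauer
import Cfsg.Agent.Lib.Helper24.CharComplete
import Cfsg.Agent.Lib.Helper24.CharIntegral
import Cfsg.Agent.Lib.Helper5.IrrOfChar

/-!
# Relative central characters (helper18's shared library)

For a normal subgroup `N` of `G` and an irreducible character `ψ` of `G` whose restriction to `N`
is irreducible, the functional `a ↦ omega ψ a` is multiplicative on the functions invariant under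
conjugation by `N` (the centralizer of `N` in the group algebra), and takes algebraic integer
values on the integer valued ones.
-/

set_option autoImplicit false
set_option linter.unusedSectionVars false
set_option linter.style.haveILetI false

namespace Cfsg.Agent.Helper18.RelCentral

open Cfsg Cfsg.Agent.Helper24 Cfsg.Agent.Helper23.Blk Cfsg.Agent.Helper5
open scoped ComplexConjugate

universe u

variable {G : Type u} [Group G] [Fintype G]

/-- invariance under conjugation by the elements of `N` -/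
def IsNInv (N : Subgroup G) (a : G → ℂ) : Prop :=
  ∀ n ∈ N, ∀ g : G, a (n * g * n⁻¹) = a g

/-- integer valued -/
def IsZVal (a : G → ℂ) : Prop := ∀ g : G, ∃ m : ℤ, a g = m

/-- **Schur relation** for a character of `G` restricting irreducibly to `N`. -/
theorem schur_sum (N : Subgroup G) [Fintype N] {ψ : G → ℂ} (hψ : IsIrrCharacter G ψ)
    (hθ : IsIrrCharacter N (fun n : N => ψ n)) (x y : G) :
    (∑ n : N, ψ (x * ((n : G) * y * (n : G)⁻¹))) * ψ 1 = (Nat.card N : ℂ) * ψ x * ψ y := by
  classical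
  obtain ⟨k, ρ, -, hρ⟩ := hψ
  let ρN : Representation ℂ N (Fin k → ℂ) := ρ.comp N.subtype
  have hρN : ρN.character = fun n : N => ψ n := by
    funext n
    rw [← hρ]
    rfl
  have hirr : ρN.IsIrreducible := by
    apply isIrreducible_of_isIrrCharacter
    rw [hρN]
    exact hθ
  let T : Module.End ℂ (Fin k → ℂ) := ∑ n : N, ρ ((n : G) * y * (n : G)⁻¹)
  have hT : ∀ m : N, T ∘ₗ ρN m = ρN m ∘ₗ T := by
    intro m
    show T * ρ (m : G) = ρ (m : G) * T
    rw [Finset.sum_mul, Finset.mul_sum]
    rw [← Equiv.sum_comp (Equiv.mulLeft m)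
      (fun n : N => ρ ((n : G) * y * (n : G)⁻¹) * ρ (m : G))]
    apply Finset.sum_congr rfl
    intro n _
    rw [← map_mul, ← map_mul]
    congr 1
    simp only [Equiv.coe_mulLeft, Subgroup.coe_mul]
    group
  obtain ⟨c, hc⟩ := exists_scalar_of_comm ρN hirr T hT
  have hone : ψ 1 = LinearMap.trace ℂ (Fin k → ℂ) 1 := by
    rw [← hρ]
    show LinearMap.trace ℂ _ (ρ 1) = _
    rw [map_one ρ]
  have htr1 : LinearMap.trace ℂ _ T = c * ψ 1 := by
    rw [hc, map_smul, smul_eq_mul, hone]
  have hcl : IsClassFunction G ψ := by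
    rw [← hρ]
    intro g h
    exact Representation.char_conj ρ g h
  have htr2 : LinearMap.trace ℂ _ T = (Nat.card N : ℂ) * ψ y := by
    show LinearMap.trace ℂ _ (∑ n : N, ρ ((n : G) * y * (n : G)⁻¹)) = _
    rw [map_sum]
    have : ∀ n : N, LinearMap.trace ℂ _ (ρ ((n : G) * y * (n : G)⁻¹)) = ψ y := by
      intro n
      have := hcl y (n : G)
      rw [← hρ] at this ⊢
      exact this
    rw [Finset.sum_congr rfl (fun n _ => this n), Finset.sum_const, Finset.card_univ,
      nsmul_eq_mul, Nat.card_eq_fintype_card]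
  have htr3 : (∑ n : N, ψ (x * ((n : G) * y * (n : G)⁻¹))) = c * ψ x := by
    have h1 : LinearMap.trace ℂ _ (ρ x * T) = c * ψ x := by
      rw [hc, mul_smul_comm, mul_one, map_smul, smul_eq_mul, ← hρ]
      rfl
    rw [← h1]
    show _ = LinearMap.trace ℂ _ (ρ x * ∑ n : N, ρ ((n : G) * y * (n : G)⁻¹))
    rw [Finset.mul_sum, map_sum]
    apply Finset.sum_congr rfl
    intro n _
    rw [← map_mul, ← hρ]
    rfl
  rw [htr3]
  have : c * ψ x * ψ 1 = ψ x * (c * ψ 1) := by ring
  rw [this, ← htr1, htr2]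
  ring

variable (N : Subgroup G) [N.Normal] [Fintype N]

/-- the key averaging identity -/
theorem sum_mul_shift {ψ : G → ℂ} (hψ : IsIrrCharacter G ψ)
    (hθ : IsIrrCharacter N (fun n : N => ψ n)) {b : G → ℂ} (hb : IsNInv N b) (h : G) :
    (∑ k : G, b k * ψ (h * k)) = ψ h * omega ψ b := by
  classical
  have hψ1 : ψ 1 ≠ 0 := irr_one_ne_zero hψ
  have hN0 : (Nat.card N : ℂ) ≠ 0 := by
    exact_mod_cast (Nat.card_pos (α := N)).ne'
  have h1 : ∀ n : N, (∑ k : G, b k * ψ (h * k)) =
      ∑ k : G, b k * ψ (h * ((n : G) * k * (n : G)⁻¹)) := by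
    intro n
    rw [← Equiv.sum_comp (MulAut.conj (n : G)).toEquiv (fun k : G => b k * ψ (h * k))]
    apply Finset.sum_congr rfl
    intro k _
    simp only [MulEquiv.toEquiv_eq_coe, MulEquiv.coe_toEquiv, MulAut.conj_apply]
    rw [hb n n.2 k]
  have h2 : (Nat.card N : ℂ) * (∑ k : G, b k * ψ (h * k)) * ψ 1 =
      (Nat.card N : ℂ) * (ψ h * (∑ k : G, b k * ψ k)) := by
    have : (Nat.card N : ℂ) * (∑ k : G, b k * ψ (h * k)) =
        ∑ n : N, ∑ k : G, b k * ψ (h * ((n : G) * k * (n : G)⁻¹)) := by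
      rw [← Finset.sum_congr rfl (fun n _ => h1 n), Finset.sum_const, Finset.card_univ,
        nsmul_eq_mul, Nat.card_eq_fintype_card]
    rw [this, Finset.sum_comm, Finset.sum_mul]
    have hR : (Nat.card N : ℂ) * (ψ h * ∑ k : G, b k * ψ k) =
        ∑ k : G, b k * ((Nat.card N : ℂ) * ψ h * ψ k) := by
      rw [Finset.mul_sum, Finset.mul_sum]
      apply Finset.sum_congr rfl
      intro k _
      ring
    rw [hR]
    apply Finset.sum_congr rfl
    intro k _
    rw [← Finset.mul_sum, mul_assoc, schur_sum N hψ hθ h k]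
  have h3 : (∑ k : G, b k * ψ (h * k)) * ψ 1 = ψ h * ∑ k : G, b k * ψ k := by
    apply mul_left_cancel₀ hN0
    rw [← mul_assoc]
    exact h2
  unfold omega
  rw [mul_div_assoc', eq_div_iff hψ1]
  exact h3

/-- `omega ψ` is multiplicative on the `N`-invariant functions. -/
theorem omega_conv {ψ : G → ℂ} (hψ : IsIrrCharacter G ψ)
    (hθ : IsIrrCharacter N (fun n : N => ψ n)) (a : G → ℂ) {b : G → ℂ} (hb : IsNInv N b) :
    omega ψ (conv a b) = omega ψ a * omega ψ b := by
  classical
  have hψ1 : ψ 1 ≠ 0 := irr_one_ne_zero hψ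
  have h1 : (∑ g : G, conv a b g * ψ g) = ∑ h : G, a h * (ψ h * omega ψ b) := by
    simp only [conv_apply, Finset.sum_mul]
    rw [Finset.sum_comm]
    apply Finset.sum_congr rfl
    intro h _
    rw [← sum_mul_shift N hψ hθ hb h, Finset.mul_sum]
    rw [← Equiv.sum_comp (Equiv.mulLeft h) (fun g : G => a h * b (h⁻¹ * g) * ψ g)]
    apply Finset.sum_congr rfl
    intro k _
    simp only [Equiv.coe_mulLeft, inv_mul_cancel_left]
    ring
  have h2 : (∑ h : G, a h * (ψ h * omega ψ b)) = (∑ h : G, a h * ψ h) * omega ψ b := by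
    rw [Finset.sum_mul]
    apply Finset.sum_congr rfl
    intro h _
    ring
  have h3 : omega ψ (conv a b) = (∑ g : G, conv a b g * ψ g) / ψ 1 := rfl
  have h4 : omega ψ a = (∑ g : G, a g * ψ g) / ψ 1 := rfl
  rw [h3, h1, h2, h4]
  ring

/-- `omega ψ` takes algebraic integer values on integer valued `N`-invariant functions. -/
theorem isIntegral_omega {ψ : G → ℂ} (hψ : IsIrrCharacter G ψ)
    (hθ : IsIrrCharacter N (fun n : N => ψ n)) {a : G → ℂ} (ha : IsNInv N a)
    (haz : IsZVal a) : IsIntegral ℤ (omega ψ a) := by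
  classical
  let S : Submodule ℤ ℂ := Submodule.span ℤ (Set.range ψ)
  have hS : S ≠ ⊥ := by
    intro h
    have h1 : ψ 1 ∈ S := Submodule.subset_span ⟨1, rfl⟩
    rw [h, Submodule.mem_bot] at h1
    exact irr_one_ne_zero hψ h1
  have hfg : S.FG := Submodule.fg_span (Set.finite_range ψ)
  refine isIntegral_of_smul_mem_submodule S hS hfg (omega ψ a) ?_
  intro z hz
  induction hz using Submodule.span_induction with
  | mem z hz =>
    obtain ⟨x, rfl⟩ := hz
    rw [smul_eq_mul, mul_comm, ← sum_mul_shift N hψ hθ ha x]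
    apply Submodule.sum_mem
    intro k _
    obtain ⟨m, hm⟩ := haz k
    rw [hm]
    have : (m : ℂ) * ψ (x * k) = m • ψ (x * k) := by simp
    rw [this]
    exact Submodule.smul_mem _ _ (Submodule.subset_span ⟨x * k, rfl⟩)
  | zero => simp
  | add u v _ _ hu hv =>
    rw [smul_add]
    exact Submodule.add_mem _ hu hv
  | smul k u _ hu =>
    rw [smul_comm]
    exact Submodule.smul_mem _ _ hu

omit [Fintype N] in
/-- convolution preserves `N`-invariance -/
theorem isNInv_conv {a b : G → ℂ} (ha : IsNInv N a) (hb : IsNInv N b) : IsNInv N (conv a b) := by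
  classical
  intro n hn g
  rw [conv_apply, conv_apply]
  rw [← Equiv.sum_comp (MulAut.conj n).toEquiv (fun h : G => a h * b (h⁻¹ * (n * g * n⁻¹)))]
  apply Finset.sum_congr rfl
  intro h _
  simp only [MulEquiv.toEquiv_eq_coe, MulEquiv.coe_toEquiv, MulAut.conj_apply]
  rw [ha n hn h]
  congr 1
  have : (n * h * n⁻¹)⁻¹ * (n * g * n⁻¹) = n * (h⁻¹ * g) * n⁻¹ := by group
  rw [this, hb n hn]

omit [Fintype N] [N.Normal] in
theorem isZVal_conv {a b : G → ℂ} (ha : IsZVal a) (hb : IsZVal b) : IsZVal (conv a b) := by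
  classical
  intro g
  choose fa hfa using ha
  choose fb hfb using hb
  refine ⟨∑ h : G, fa h * fb (h⁻¹ * g), ?_⟩
  rw [conv_apply]
  push_cast
  apply Finset.sum_congr rfl
  intro h _
  rw [hfa, hfb]

omit [Fintype N] [N.Normal] in
/-- the sum of the values of a convolution -/
theorem sum_conv (a b : G → ℂ) : ∑ g : G, conv a b g = (∑ g : G, a g) * ∑ g : G, b g := by
  classical
  simp only [conv_apply]
  rw [Finset.sum_comm, Finset.sum_mul]
  apply Finset.sum_congr rfl
  intro h _
  rw [← Finset.mul_sum]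
  congr 1
  exact Equiv.sum_comp (Equiv.mulLeft h⁻¹) b

end Cfsg.Agent.Helper18.RelCentral
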