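import Mathlib
import Cfsg.Prelude.Def_Blocks
import Cfsg.Agent.Lib.Helper18.RelCentral
import Cfsg.Agent.Lib.Helper18.LiftLinear
import Cfsg.Agent.Lib.Helper5.DetChar

/-!
# Extensions in the principal block (helper18's shared library)

`N ⊴ G`, `P` a Sylow `p`-subgroup of `N` with `G = N C_G(P)`, `θ` in the principal block of `N`
extending to `G`: some extension lies in the principal block of every `J` with `N ≤ J ≤ G`.
-/

set_option autoImplicit false
set_option linter.unusedSectionVars false
set_option linter.style.haveILetI false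

namespace Cfsg.Agent.Helper18.ExtPrincipal

open Cfsg Cfsg.Agent.Helper24 Cfsg.Agent.Helper23.Blk Cfsg.Agent.Helper5
open Cfsg.Agent.Helper18.RelCentral Cfsg.Agent.Helper18.LiftLinear
open scoped ComplexConjugate

universe u

section General

variable {G : Type u} [Group G] [Fintype G]

/-- a sum over `G` of a function vanishing off a subgroup -/
theorem sum_eq_sum_subgroup (H : Subgroup G) [Fintype H] (f : G → ℂ)
    (hf : ∀ z, z ∉ H → f z = 0) : ∑ z : G, f z = ∑ h : H, f h := by
  classical
  have h1 : ∑ z : G, f z = ∑ z ∈ Finset.univ.filter (· ∈ H), f z := by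
    rw [Finset.sum_filter]
    apply Finset.sum_congr rfl
    intro z _
    by_cases hz : z ∈ H
    · rw [if_pos hz]
    · rw [if_neg hz, hf z hz]
  rw [h1]
  exact Finset.sum_subtype _ (fun x => by simp) f

/-- restriction to an intermediate subgroup stays irreducible -/
theorem isIrrCharacter_restrict_of_le (N J : Subgroup G) (hNJ : N ≤ J) {χ : G → ℂ}
    (hχ : IsIrrCharacter G χ) (hN : IsIrrCharacter N (fun n : N => χ n)) :
    IsIrrCharacter J (fun j : J => χ j) := by
  classical
  letI : Fintype N := Fintype.ofFinite N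
  obtain ⟨k, ρ, -, rfl⟩ := hχ
  let ρJ : Representation ℂ J (Fin k → ℂ) := ρ.comp J.subtype
  let ρN : Representation ℂ N (Fin k → ℂ) := ρ.comp N.subtype
  have hirrN : ρN.IsIrreducible := by
    apply isIrreducible_of_isIrrCharacter
    exact hN
  have hirrJ : ρJ.IsIrreducible := by
    rw [isIrreducible_iff] at hirrN ⊢
    refine ⟨hirrN.1, ?_⟩
    intro U hU
    apply hirrN.2 U
    intro n v hv
    exact hU ⟨n, hNJ n.2⟩ v hv
  exact ⟨k, ρJ, hirrJ, rfl⟩

end General

section Core

variable {G : Type u} [Group G] [Fintype G] (N : Subgroup G) [hNn : N.Normal] [Fintype N]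
variable {M : Ideal AlgInt} {p : ℕ} [hMax : M.IsMaximal]

/-- support inside the coset `xN` -/
def SuppIn (x : G) (a : G → ℂ) : Prop := ∀ z, a z ≠ 0 → x⁻¹ * z ∈ N

omit [Fintype N] in
theorem suppIn_conv {x y : G} {a b : G → ℂ} (ha : SuppIn N x a) (hb : SuppIn N y b) :
    SuppIn N (x * y) (conv a b) := by
  classical
  intro z hz
  rw [conv_apply] at hz
  obtain ⟨h, -, hh⟩ := Finset.exists_ne_zero_of_sum_ne_zero hz
  have h1 : a h ≠ 0 := left_ne_zero_of_mul hh
  have h2 : b (h⁻¹ * z) ≠ 0 := right_ne_zero_of_mul hh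
  have m1 := ha h h1
  have m2 := hb _ h2
  have : (x * y)⁻¹ * z = (y⁻¹ * (x⁻¹ * h) * y⁻¹⁻¹) * (y⁻¹ * (h⁻¹ * z)) := by group
  rw [this]
  exact N.mul_mem (hNn.conj_mem _ m1 _) m2

/-- **Key congruence**: products landing in `N` are controlled by the principal block of `N`. -/
theorem cong_of_supp {ψ : G → ℂ} (hψ : IsIrrCharacter G ψ)
    (hθ : IsIrrCharacter N (fun n : N => ψ n))
    (hB : SameBlock M (fun _ : N => (1 : ℂ)) (fun n : N => ψ n))
    {a b : G → ℂ} (ha : IsNInv N a) (hb : IsNInv N b) (haz : IsZVal a) (hbz : IsZVal b)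
    (x : G) (hsa : SuppIn N x a) (hsb : SuppIn N x⁻¹ b) :
    MemLocalIdeal M (omega ψ a * omega ψ b - (∑ g : G, a g) * ∑ g : G, b g) := by
  classical
  haveI hMp : M.IsPrime := hMax.isPrime
  set c := conv a b with hc
  have hcs : ∀ z, z ∉ N → c z = 0 := by
    intro z hz
    by_contra hne
    have := suppIn_conv N hsa hsb z hne
    rw [mul_inv_cancel, inv_one, one_mul] at this
    exact hz this
  have hcinv : IsNInv N c := isNInv_conv N ha hb
  have hcz : IsZVal c := isZVal_conv haz hbz
  have h1 : omega ψ c = omega ψ a * omega ψ b := omega_conv N hψ hθ a hb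
  have h2 : ∑ g : G, c g = (∑ g : G, a g) * ∑ g : G, b g := sum_conv a b
  rw [← h1, ← h2]
  -- pass to `N`
  let θ : IrrCharacter N := ⟨fun n : N => ψ n, hθ⟩
  let one : IrrCharacter N := ⟨fun _ => (1 : ℂ), isIrrCharacter_one⟩
  let cN : N → ℂ := fun n => c n
  have hcl : IsClassFunction N cN := by
    intro g h
    show c ((h * g * h⁻¹ : N) : G) = c g
    push_cast
    exact hcinv h h.2 g
  have hR : ∀ n : N, MemLocalRing M (cN n) := by
    intro n
    obtain ⟨m, hm⟩ := hcz n
    show MemLocalRing M (c n)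
    rw [hm]
    exact memLocalRing_intCast m
  have hsame : SameBlock M ((θ : IrrCharacter N) : N → ℂ) ((one : IrrCharacter N) : N → ℂ) :=
    sameBlock_symm hB
  have key := memLocalIdeal_omega_sub hsame hcl hR
  have e1 : omega ((θ : IrrCharacter N) : N → ℂ) cN = omega ψ c := by
    unfold omega
    congr 1
    rw [sum_eq_sum_subgroup N (fun z => c z * ψ z) (fun z hz => by rw [hcs z hz, zero_mul])]
  have e2 : omega ((one : IrrCharacter N) : N → ℂ) cN = ∑ g : G, c g := by
    unfold omega
    rw [sum_eq_sum_subgroup N c hcs]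
    simp [one, cN]
  rw [e1, e2] at key
  exact key

end Core

section Witness

variable {G : Type u} [Group G] [Fintype G] (N : Subgroup G) [hNn : N.Normal]
variable (P : Subgroup N) (y : G)

/-- conjugates of `y` parametrized by the cosets of `P` in `N` (for `y` centralizing `P`) -/
noncomputable def orbMap (hy : ∀ q ∈ P, (q : G) * y = y * (q : G)) : N ⧸ P → G :=
  Quotient.lift (fun n : N => (n : G) * y * (n : G)⁻¹) (by
    intro a b hab
    have h1 : a⁻¹ * b ∈ P := QuotientGroup.leftRel_apply.mp hab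
    have h2 := hy _ h1
    have h3 : (b : G) = (a : G) * ((a⁻¹ * b : N) : G) := by
      push_cast; group
    show (a : G) * y * (a : G)⁻¹ = (b : G) * y * (b : G)⁻¹
    rw [h3]
    set q : G := ((a⁻¹ * b : N) : G) with hq
    have : (a : G) * q * y * ((a : G) * q)⁻¹ = (a : G) * (q * y) * q⁻¹ * (a : G)⁻¹ := by group
    rw [this, h2]
    group)

theorem orbMap_mk (hy : ∀ q ∈ P, (q : G) * y = y * (q : G)) (n : N) :
    orbMap N P y hy (QuotientGroup.mk n) = (n : G) * y * (n : G)⁻¹ := rfl

theorem orbMap_smul (hy : ∀ q ∈ P, (q : G) * y = y * (q : G)) (m : N) (q : N ⧸ P) :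
    orbMap N P y hy (m • q) = (m : G) * orbMap N P y hy q * (m : G)⁻¹ := by
  induction q using QuotientGroup.induction_on with
  | H n =>
    rw [show m • (QuotientGroup.mk n : N ⧸ P) = QuotientGroup.mk (m * n) from rfl, orbMap_mk,
      orbMap_mk]
    push_cast
    group

open Classical in
/-- the witness function: multiplicities of the conjugates of `y` over `N/P` -/
noncomputable def wit (hy : ∀ q ∈ P, (q : G) * y = y * (q : G)) (z : G) : ℂ :=
  haveI : Fintype (N ⧸ P) := Fintype.ofFinite _
  ∑ q : N ⧸ P, if orbMap N P y hy q = z then (1 : ℂ) else 0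

theorem wit_isZVal (hy : ∀ q ∈ P, (q : G) * y = y * (q : G)) : IsZVal (wit N P y hy) := by
  classical
  intro z
  letI : Fintype (N ⧸ P) := Fintype.ofFinite _
  refine ⟨∑ q : N ⧸ P, if orbMap N P y hy q = z then (1 : ℤ) else 0, ?_⟩
  unfold wit
  push_cast
  apply Finset.sum_congr
  · ext q; simp
  · intro q _
    split_ifs <;> rfl

theorem wit_isNInv (hy : ∀ q ∈ P, (q : G) * y = y * (q : G)) : IsNInv N (wit N P y hy) := by
  classical
  intro m hm z
  letI : Fintype (N ⧸ P) := Fintype.ofFinite _
  unfold wit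
  have hconv : ∀ q : N ⧸ P, (orbMap N P y hy ((⟨m, hm⟩ : N) • q) = m * z * m⁻¹) ↔
      (orbMap N P y hy q = z) := by
    intro q
    rw [orbMap_smul]
    constructor
    · intro h
      have := congrArg (fun w => m⁻¹ * w * m) h
      simp only at this
      have e1 : m⁻¹ * ((⟨m, hm⟩ : N) * orbMap N P y hy q * ((⟨m, hm⟩ : N) : G)⁻¹) * m =
          orbMap N P y hy q := by
        show m⁻¹ * (m * orbMap N P y hy q * m⁻¹) * m = _
        group
      have e2 : m⁻¹ * (m * z * m⁻¹) * m = z := by group
      rw [e1, e2] at this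
      exact this
    · intro h
      rw [h]
  calc (∑ q : N ⧸ P, if orbMap N P y hy q = m * z * m⁻¹ then (1 : ℂ) else 0)
      = ∑ q : N ⧸ P, if orbMap N P y hy ((⟨m, hm⟩ : N) • q) = m * z * m⁻¹ then (1 : ℂ) else 0 := by
        refine (Equiv.sum_comp (MulAction.toPerm (⟨m, hm⟩ : N))
          (fun q : N ⧸ P => if orbMap N P y hy q = m * z * m⁻¹ then (1 : ℂ) else 0)).symm.trans ?_
        apply Finset.sum_congr
        · ext q; simp
        · intro q _; rfl
    _ = ∑ q : N ⧸ P, if orbMap N P y hy q = z then (1 : ℂ) else 0 := by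
        apply Finset.sum_congr rfl
        intro q _
        simp only [hconv q]

theorem sum_wit (hy : ∀ q ∈ P, (q : G) * y = y * (q : G)) :
    ∑ z : G, wit N P y hy z = (P.index : ℂ) := by
  classical
  letI : Fintype (N ⧸ P) := Fintype.ofFinite _
  unfold wit
  rw [Finset.sum_comm]
  have : ∀ q : N ⧸ P, (∑ z : G, if orbMap N P y hy q = z then (1 : ℂ) else 0) = 1 := by
    intro q
    rw [Finset.sum_ite_eq, if_pos (Finset.mem_univ _)]
  have h2 : (∑ q : N ⧸ P, ∑ z : G, if orbMap N P y hy q = z then (1 : ℂ) else 0) =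
      ∑ q : N ⧸ P, (1 : ℂ) := Finset.sum_congr rfl (fun q _ => this q)
  rw [h2, Finset.sum_const, Finset.card_univ, nsmul_eq_mul, mul_one, Subgroup.index,
    Nat.card_eq_fintype_card]

theorem wit_suppIn (hy : ∀ q ∈ P, (q : G) * y = y * (q : G)) : SuppIn N y (wit N P y hy) := by
  classical
  intro z hz
  letI : Fintype (N ⧸ P) := Fintype.ofFinite _
  unfold wit at hz
  obtain ⟨q, -, hq⟩ := Finset.exists_ne_zero_of_sum_ne_zero hz
  have hq' : orbMap N P y hy q = z := by
    by_contra h
    rw [if_neg h] at hq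
    exact hq rfl
  induction q using QuotientGroup.induction_on with
  | H n =>
    rw [orbMap_mk] at hq'
    rw [← hq']
    have : y⁻¹ * ((n : G) * y * (n : G)⁻¹) = (y⁻¹ * (n : G) * y⁻¹⁻¹) * (n : G)⁻¹ := by group
    rw [this]
    exact N.mul_mem (hNn.conj_mem _ n.2 _) (N.inv_mem n.2)

end Witness

section Red

variable {M : Ideal AlgInt} [hMax : M.IsMaximal]

theorem red_eq_of_cong {x y : ℂ} (hx : MemLocalRing M x) (hy : MemLocalRing M y)
    (h : MemLocalIdeal M (x - y)) : red M x = red M y := by
  haveI : M.IsPrime := hMax.isPrime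
  have h1 : x = (x - y) + y := by ring
  have h2 : red M (x - y) = 0 := (red_eq_zero_iff (memLocalRing_sub hx hy)).mpr h
  rw [h1, red_add (memLocalRing_sub hx hy) hy, h2, zero_add]

theorem cong_of_red_eq {x y : ℂ} (hx : MemLocalRing M x) (hy : MemLocalRing M y)
    (h : red M x = red M y) : MemLocalIdeal M (x - y) := by
  haveI : M.IsPrime := hMax.isPrime
  rw [← red_eq_zero_iff (memLocalRing_sub hx hy)]
  have h1 : x = (x - y) + y := by ring
  have h2 : red M x = red M (x - y) + red M y := by
    conv_lhs => rw [h1]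
    exact red_add (memLocalRing_sub hx hy) hy
  rw [h] at h2
  exact (add_eq_right.mp h2.symm)

end Red

section Main

variable {G : Type u} [Group G] [Fintype G] (N : Subgroup G) [hNn : N.Normal] [Fintype N]
variable {M : Ideal AlgInt} {p : ℕ} [hMax : M.IsMaximal] [hp : Fact p.Prime]

/-- admissible functions for the coset `gN` -/
structure Adm (g : G) (a : G → ℂ) : Prop where
  inv : IsNInv N a
  zval : IsZVal a
  supp : SuppIn N g a

omit [Fintype N] hNn in
theorem sum_isInt {a : G → ℂ} (ha : IsZVal a) : ∃ m : ℤ, ∑ g : G, a g = m := by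
  choose f hf using ha
  exact ⟨∑ g : G, f g, by push_cast; exact Finset.sum_congr rfl (fun g _ => hf g)⟩

omit [Fintype N] hNn in
theorem memLocalRing_sum_zval {a : G → ℂ} (ha : IsZVal a) : MemLocalRing M (∑ g : G, a g) := by
  haveI : M.IsPrime := hMax.isPrime
  obtain ⟨m, hm⟩ := sum_isInt ha
  rw [hm]
  exact memLocalRing_intCast m

theorem memLocalRing_omega_adm {ψ : G → ℂ} (hψ : IsIrrCharacter G ψ)
    (hθ : IsIrrCharacter N (fun n : N => ψ n)) {a : G → ℂ} (ha : IsNInv N a) (haz : IsZVal a) :
    MemLocalRing M (omega ψ a) :=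
  memLocalRing_of_isIntegral (isIntegral_omega N hψ hθ ha haz) hMax.ne_top

variable (hM : IsPModular p M) (P : Sylow p N)
  (hcov : N ⊔ Subgroup.centralizer (((P : Subgroup N).map N.subtype : Subgroup G) : Set G) = ⊤)

include hcov in
omit [Fintype G] [Fintype N] hp in
/-- coset representatives centralizing `P` -/
theorem exists_rep (g : G) : ∃ y : G, (∀ q ∈ (P : Subgroup N), (q : G) * y = y * (q : G)) ∧
    g⁻¹ * y ∈ N := by
  have hg : g ∈ N ⊔ Subgroup.centralizer
      (((P : Subgroup N).map N.subtype : Subgroup G) : Set G) := by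
    rw [hcov]; trivial
  rw [← SetLike.mem_coe, Subgroup.normal_mul] at hg
  obtain ⟨n, hn, c, hc, hnc⟩ := Set.mem_mul.mp hg
  refine ⟨c, ?_, ?_⟩
  · intro q hq
    have := Subgroup.mem_centralizer_iff.mp hc (q : G) ⟨q, hq, rfl⟩
    exact this
  · rw [← hnc]
    have : (n * c)⁻¹ * c = c⁻¹ * n⁻¹ * c⁻¹⁻¹ := by group
    rw [this]
    exact hNn.conj_mem _ (N.inv_mem hn) _

include hM in
omit [Fintype N] in
theorem red_index_ne_zero : red M ((P : Subgroup N).index : ℂ) ≠ 0 := by
  rw [red_natCast]
  exact natCast_ne_zero hM _ (Sylow.not_dvd_index P)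

include hM hcov in
/-- every coset carries an admissible function with unit augmentation -/
theorem exists_adm (g : G) : ∃ a : G → ℂ, Adm N g a ∧ red M (∑ z : G, a z) ≠ 0 := by
  obtain ⟨y, hy, hgy⟩ := exists_rep N P hcov g
  refine ⟨wit N (P : Subgroup N) y hy, ⟨wit_isNInv N _ y hy, wit_isZVal N _ y hy, ?_⟩, ?_⟩
  · intro z hz
    have := wit_suppIn N _ y hy z hz
    have e : g⁻¹ * z = (g⁻¹ * y) * (y⁻¹ * z) := by group
    rw [e]
    exact N.mul_mem hgy this
  · rw [sum_wit]
    exact red_index_ne_zero N hM P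

include hM hcov in
/-- **the modular linear character**: existence of the scalar for each coset -/
theorem exists_scalar {ψ : G → ℂ} (hψ : IsIrrCharacter G ψ)
    (hθ : IsIrrCharacter N (fun n : N => ψ n))
    (hB : SameBlock M (fun _ : N => (1 : ℂ)) (fun n : N => ψ n)) (g : G) :
    ∃ v : (AlgInt ⧸ M)ˣ, ∀ a : G → ℂ, Adm N g a →
      red M (omega ψ a) * (v : AlgInt ⧸ M) = red M (∑ z : G, a z) := by
  classical
  haveI : M.IsPrime := hMax.isPrime
  obtain ⟨y, hy, hgy⟩ := exists_rep N P hcov g⁻¹
  rw [inv_inv] at hgy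
  set b := wit N (P : Subgroup N) y hy with hb
  have hbinv : IsNInv N b := wit_isNInv N _ y hy
  have hbz : IsZVal b := wit_isZVal N _ y hy
  have hbs : SuppIn N g⁻¹ b := by
    intro z hz
    have := wit_suppIn N _ y hy z hz
    have e : g⁻¹⁻¹ * z = (g * y) * (y⁻¹ * z) := by group
    rw [e]
    exact N.mul_mem hgy this
  set t := omega ψ b with ht
  have htR : MemLocalRing M t := memLocalRing_omega_adm N hψ hθ hbinv hbz
  have hsumb : ∑ z : G, b z = ((P : Subgroup N).index : ℂ) := sum_wit N _ y hy
  have hm0 : red M ((P : Subgroup N).index : ℂ) ≠ 0 := red_index_ne_zero N hM P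
  have hmR : MemLocalRing M ((P : Subgroup N).index : ℂ) := memLocalRing_natCast _
  have key : ∀ a : G → ℂ, Adm N g a →
      red M (omega ψ a) * red M t = red M (∑ z : G, a z) * red M ((P : Subgroup N).index : ℂ) := by
    intro a ha
    have h1 := cong_of_supp (M := M) N hψ hθ hB ha.inv hbinv ha.zval hbz g ha.supp hbs
    rw [hsumb] at h1
    have haR : MemLocalRing M (omega ψ a) := memLocalRing_omega_adm N hψ hθ ha.inv ha.zval
    have hsR : MemLocalRing M (∑ z : G, a z) := memLocalRing_sum_zval ha.zval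
    have h2 := red_eq_of_cong (memLocalRing_mul haR htR) (memLocalRing_mul hsR hmR) h1
    rw [red_mul haR htR, red_mul hsR hmR] at h2
    exact h2
  have ht0 : red M t ≠ 0 := by
    obtain ⟨a', ha', hne⟩ := exists_adm N hM P hcov g
    intro h0
    have := key a' ha'
    rw [h0, mul_zero] at this
    exact mul_ne_zero hne hm0 this.symm
  refine ⟨Units.mk0 (red M t * (red M ((P : Subgroup N).index : ℂ))⁻¹)
    (mul_ne_zero ht0 (inv_ne_zero hm0)), ?_⟩
  intro a ha
  rw [Units.val_mk0, ← mul_assoc, key a ha, mul_assoc, mul_inv_cancel₀ hm0, mul_one]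

end Main

section Main2

variable {G : Type u} [Group G] [Fintype G] (N : Subgroup G) [hNn : N.Normal] [Fintype N]
variable {M : Ideal AlgInt} {p : ℕ} [hMax : M.IsMaximal] [hp : Fact p.Prime]
variable (hM : IsPModular p M) (P : Sylow p N)
  (hcov : N ⊔ Subgroup.centralizer (((P : Subgroup N).map N.subtype : Subgroup G) : Set G) = ⊤)

open Classical in
/-- the unit of the group algebra, as a coefficient function -/
noncomputable def delta : G → ℂ := fun z => if z = 1 then 1 else 0

omit [Fintype G] [Fintype N] in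
theorem adm_delta (n : G) (hn : n ∈ N) : Adm N n (delta (G := G)) := by
  classical
  refine ⟨?_, ?_, ?_⟩
  · intro m _ z
    unfold delta
    have : m * z * m⁻¹ = 1 ↔ z = 1 := by
      constructor
      · intro h
        have h' : m⁻¹ * (m * z * m⁻¹) * m = m⁻¹ * 1 * m := by rw [h]
        have e : m⁻¹ * (m * z * m⁻¹) * m = z := by group
        rw [e] at h'
        rw [h']; group
      · rintro rfl; group
    simp only [this]
  · intro z
    unfold delta
    by_cases h : z = 1
    · exact ⟨1, by rw [if_pos h, Int.cast_one]⟩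
    · exact ⟨0, by rw [if_neg h, Int.cast_zero]⟩
  · intro z hz
    unfold delta at hz
    have : z = 1 := by
      by_contra h
      rw [if_neg h] at hz
      exact hz rfl
    rw [this, mul_one]
    exact N.inv_mem hn

omit [Fintype N] hNn in
theorem omega_delta {ψ : G → ℂ} (h1 : ψ 1 ≠ 0) : omega ψ (delta (G := G)) = 1 := by
  classical
  unfold omega delta
  simp only [ite_mul, one_mul, zero_mul]
  rw [Finset.sum_ite_eq', if_pos (Finset.mem_univ _), div_self h1]

omit [Fintype N] hNn in
theorem sum_delta : ∑ z : G, delta (G := G) z = 1 := by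
  classical
  unfold delta
  rw [Finset.sum_ite_eq', if_pos (Finset.mem_univ _)]

include hM hcov in
/-- the modular linear character of `G/N` attached to an extension `ψ` -/
theorem exists_modular_hom {ψ : G → ℂ} (hψ : IsIrrCharacter G ψ)
    (hθ : IsIrrCharacter N (fun n : N => ψ n))
    (hB : SameBlock M (fun _ : N => (1 : ℂ)) (fun n : N => ψ n)) :
    ∃ ν : G →* (AlgInt ⧸ M)ˣ, (∀ n ∈ N, ν n = 1) ∧ ∀ (g : G) (a : G → ℂ), Adm N g a →
      red M (omega ψ a) * ((ν g : (AlgInt ⧸ M)ˣ) : AlgInt ⧸ M) = red M (∑ z : G, a z) := by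
  classical
  haveI : M.IsPrime := hMax.isPrime
  choose v hv using exists_scalar N hM P hcov hψ hθ hB
  have hmul : ∀ g h : G, v (g * h) = v g * v h := by
    intro g h
    obtain ⟨a, ha, hane⟩ := exists_adm N hM P hcov g
    obtain ⟨a', ha', ha'ne⟩ := exists_adm N hM P hcov h
    have hc : Adm N (g * h) (conv a a') :=
      ⟨isNInv_conv N ha.inv ha'.inv, isZVal_conv ha.zval ha'.zval, suppIn_conv N ha.supp ha'.supp⟩
    have e1 := hv (g * h) (conv a a') hc
    have e2 := hv g a ha
    have e3 := hv h a' ha'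
    have haR : MemLocalRing M (omega ψ a) := memLocalRing_omega_adm N hψ hθ ha.inv ha.zval
    have ha'R : MemLocalRing M (omega ψ a') := memLocalRing_omega_adm N hψ hθ ha'.inv ha'.zval
    rw [omega_conv N hψ hθ a ha'.inv, red_mul haR ha'R, sum_conv,
      red_mul (memLocalRing_sum_zval ha.zval) (memLocalRing_sum_zval ha'.zval), ← e2, ← e3] at e1
    have hA : red M (omega ψ a) ≠ 0 := by
      intro h0
      rw [h0, zero_mul] at e2
      exact hane e2.symm
    have hA' : red M (omega ψ a') ≠ 0 := by
      intro h0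
      rw [h0, zero_mul] at e3
      exact ha'ne e3.symm
    apply Units.ext
    rw [Units.val_mul]
    apply mul_left_cancel₀ (mul_ne_zero hA hA')
    rw [e1]
    ring
  refine ⟨MonoidHom.mk' v hmul, ?_, ?_⟩
  · intro n hn
    have := hv n delta (adm_delta N n hn)
    rw [omega_delta (irr_one_ne_zero hψ), sum_delta, red_one, one_mul] at this
    apply Units.ext
    exact this
  · intro g a ha
    exact hv g a ha

include hM hcov in
/-- **the good extension**: a twist of `ψ` whose `omega` agrees with the augmentation modulo the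
local ideal on all integer valued `N`-invariant functions. -/
theorem exists_twist {ψ : G → ℂ} (hψ : IsIrrCharacter G ψ)
    (hθ : IsIrrCharacter N (fun n : N => ψ n))
    (hB : SameBlock M (fun _ : N => (1 : ℂ)) (fun n : N => ψ n)) :
    ∃ lam : G →* ℂˣ, (∀ n ∈ N, lam n = 1) ∧ ∀ a : G → ℂ, IsNInv N a → IsZVal a →
      MemLocalIdeal M (omega (fun g => ((lam g : ℂˣ) : ℂ) * ψ g) a - ∑ z : G, a z) := by
  classical
  haveI : M.IsPrime := hMax.isPrime
  obtain ⟨ν, hνN, hν⟩ := exists_modular_hom N hM P hcov hψ hθ hB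
  obtain ⟨lam, hint, hred, hker⟩ := exists_lift hM ν
  have hlamN : ∀ n ∈ N, lam n = 1 := fun n hn => hker n (hνN n hn)
  refine ⟨lam, hlamN, ?_⟩
  set χ : G → ℂ := fun g => ((lam g : ℂˣ) : ℂ) * ψ g with hχ
  have hψ1 : ψ 1 ≠ 0 := irr_one_ne_zero hψ
  have hχ1 : χ 1 = ψ 1 := by
    rw [hχ]; simp
  -- the single coset case
  have single : ∀ (g : G) (a : G → ℂ), Adm N g a →
      MemLocalIdeal M (omega χ a - ∑ z : G, a z) := by
    intro g a ha
    have h1 : omega χ a = ((lam g : ℂˣ) : ℂ) * omega ψ a := by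
      unfold omega
      rw [hχ1, ← mul_div_assoc, Finset.mul_sum]
      congr 1
      apply Finset.sum_congr rfl
      intro z _
      by_cases hz : a z = 0
      · rw [hz]; ring
      · have hmem := ha.supp z hz
        have : lam z = lam g := by
          have e : z = g * (g⁻¹ * z) := by group
          rw [e, map_mul, hlamN _ hmem, mul_one]
        rw [hχ]
        simp only
        rw [this]
        ring
    have hlamR : MemLocalRing M ((lam g : ℂˣ) : ℂ) :=
      memLocalRing_of_isIntegral (hint g) hMax.ne_top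
    have hoR : MemLocalRing M (omega ψ a) := memLocalRing_omega_adm N hψ hθ ha.inv ha.zval
    have hsR : MemLocalRing M (∑ z : G, a z) := memLocalRing_sum_zval ha.zval
    rw [h1]
    apply cong_of_red_eq (memLocalRing_mul hlamR hoR) hsR
    rw [red_mul hlamR hoR, hred g, mul_comm]
    exact hν g a ha
  -- the general case: decompose along the cosets
  intro a hainv haz
  letI : Fintype (G ⧸ N) := Fintype.ofFinite _
  let aX : G ⧸ N → G → ℂ := fun X z => if (QuotientGroup.mk z : G ⧸ N) = X then a z else 0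
  have hadm : ∀ X : G ⧸ N, Adm N (Quotient.out X) (aX X) := by
    intro X
    refine ⟨?_, ?_, ?_⟩
    · intro n hn z
      have hmk : (QuotientGroup.mk (n * z * n⁻¹) : G ⧸ N) = QuotientGroup.mk z := by
        rw [QuotientGroup.eq]
        have : (n * z * n⁻¹)⁻¹ * z = n * (z⁻¹ * n⁻¹ * z⁻¹⁻¹) := by group
        rw [this]
        exact N.mul_mem hn (hNn.conj_mem _ (N.inv_mem hn) _)
      show (if (QuotientGroup.mk (n * z * n⁻¹) : G ⧸ N) = X then a (n * z * n⁻¹) else 0) =
        if (QuotientGroup.mk z : G ⧸ N) = X then a z else 0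
      rw [hmk, hainv n hn z]
    · intro z
      show ∃ m : ℤ, (if (QuotientGroup.mk z : G ⧸ N) = X then a z else 0) = m
      by_cases h : (QuotientGroup.mk z : G ⧸ N) = X
      · rw [if_pos h]; exact haz z
      · rw [if_neg h]; exact ⟨0, by simp⟩
    · intro z hz
      have hX : (QuotientGroup.mk z : G ⧸ N) = X := by
        by_contra h
        apply hz
        show (if (QuotientGroup.mk z : G ⧸ N) = X then a z else 0) = 0
        rw [if_neg h]
      rw [← QuotientGroup.eq, hX]
      exact QuotientGroup.out_eq' X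
  have hdec : ∀ z : G, a z = ∑ X : G ⧸ N, aX X z := by
    intro z
    show a z = ∑ X : G ⧸ N, if (QuotientGroup.mk z : G ⧸ N) = X then a z else 0
    rw [Finset.sum_ite_eq, if_pos (Finset.mem_univ _)]
  have e1 : omega χ a = ∑ X : G ⧸ N, omega χ (aX X) := by
    unfold omega
    rw [← Finset.sum_div]
    congr 1
    rw [Finset.sum_comm]
    apply Finset.sum_congr rfl
    intro z _
    rw [hdec z, Finset.sum_mul]
  have e2 : ∑ z : G, a z = ∑ X : G ⧸ N, ∑ z : G, aX X z := by
    rw [Finset.sum_comm]
    exact Finset.sum_congr rfl (fun z _ => hdec z)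
  rw [e1, e2, ← Finset.sum_sub_distrib]
  apply memLocalIdeal_sum
  intro X _
  exact single _ _ (hadm X)

end Main2

section Final

variable {G : Type u} [Group G] [Fintype G] (N : Subgroup G)
variable {M : Ideal AlgInt} [hMax : M.IsMaximal]

/-- the augmentation congruence on `N`-invariant functions puts every irreducible restriction to
a group between `N` and `G` into the principal block -/
theorem sameBlock_of_key {H : Type u} [Group H] [Fintype H] (f : H →* G)
    (hf : Function.Injective f) (hN : N ≤ f.range) {χ : G → ℂ}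
    (hξ : IsIrrCharacter H (fun h => χ (f h)))
    (key : ∀ a : G → ℂ, IsNInv N a → IsZVal a →
      MemLocalIdeal M (omega χ a - ∑ z : G, a z)) :
    SameBlock M (fun _ : H => (1 : ℂ)) (fun h => χ (f h)) := by
  classical
  haveI : M.IsPrime := hMax.isPrime
  intro j
  let S : Finset H := Finset.univ.filter (IsConj j)
  let a : G → ℂ := fun z => if z ∈ S.image f then 1 else 0
  have hmemS : ∀ b : H, b ∈ S ↔ IsConj j b := by
    intro b
    simp [S]
  have hinv : IsNInv N a := by
    intro m hm z
    obtain ⟨m', rfl⟩ := hN hm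
    have : (f m' * z * (f m')⁻¹ ∈ S.image f) ↔ (z ∈ S.image f) := by
      constructor
      · intro h
        obtain ⟨b, hb, hbz⟩ := Finset.mem_image.mp h
        refine Finset.mem_image.mpr ⟨m'⁻¹ * b * m', ?_, ?_⟩
        · rw [hmemS] at hb ⊢
          refine hb.trans ?_
          exact isConj_iff.mpr ⟨m'⁻¹, by group⟩
        · rw [map_mul, map_mul, hbz, map_inv]
          group
      · intro h
        obtain ⟨b, hb, hbz⟩ := Finset.mem_image.mp h
        refine Finset.mem_image.mpr ⟨m' * b * m'⁻¹, ?_, ?_⟩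
        · rw [hmemS] at hb ⊢
          refine hb.trans ?_
          exact isConj_iff.mpr ⟨m', rfl⟩
        · rw [map_mul, map_mul, hbz, map_inv]
    show (if f m' * z * (f m')⁻¹ ∈ S.image f then (1 : ℂ) else 0) =
      if z ∈ S.image f then (1 : ℂ) else 0
    simp only [this]
  have hz : IsZVal a := by
    intro z
    show ∃ m : ℤ, (if z ∈ S.image f then (1 : ℂ) else 0) = m
    by_cases h : z ∈ S.image f
    · exact ⟨1, by rw [if_pos h, Int.cast_one]⟩
    · exact ⟨0, by rw [if_neg h, Int.cast_zero]⟩
  have hsum : ∀ F : G → ℂ, ∑ z : G, a z * F z = ∑ b ∈ S, F (f b) := by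
    intro F
    have h1 : ∑ z : G, a z * F z = ∑ z ∈ S.image f, F z := by
      rw [← Finset.sum_filter_add_sum_filter_not Finset.univ (· ∈ S.image f)]
      have e1 : ∑ z ∈ Finset.univ.filter (fun z => ¬ z ∈ S.image f), a z * F z = 0 := by
        apply Finset.sum_eq_zero
        intro z hz
        have : z ∉ S.image f := (Finset.mem_filter.mp hz).2
        show (if z ∈ S.image f then (1 : ℂ) else 0) * F z = 0
        rw [if_neg this, zero_mul]
      rw [e1, add_zero]
      have e2 : Finset.univ.filter (· ∈ S.image f) = S.image f := by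
        ext z; simp
      rw [e2]
      apply Finset.sum_congr rfl
      intro z hz
      show (if z ∈ S.image f then (1 : ℂ) else 0) * F z = F z
      rw [if_pos hz, one_mul]
    rw [h1, Finset.sum_image (fun x _ y _ h => hf h)]
  have hone : IsIrrCharacter H (fun _ : H => (1 : ℂ)) := isIrrCharacter_one
  have c1 := centralChar_mul_eq_sum hξ j 1
  have c2 := centralChar_mul_eq_sum hone j 1
  simp only [one_mul, mul_one, map_one] at c1 c2
  have hχ1 : χ 1 ≠ 0 := by
    have := irr_one_ne_zero hξ
    simpa using this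
  have e1 : omega χ a = centralChar (fun h => χ (f h)) j := by
    unfold omega
    rw [hsum χ, ← c1]
    field_simp
  have e2 : ∑ z : G, a z = centralChar (fun _ : H => (1 : ℂ)) j := by
    have := hsum (fun _ => 1)
    simp only [mul_one] at this
    rw [this, ← c2]
  have k := key a hinv hz
  rw [e1, e2] at k
  have := memLocalIdeal_neg k
  rw [neg_sub] at this
  exact this

end Final

section Statement

variable {G : Type u} [Group G] [Finite G]

/-- **Extension in the principal block** when `G = N C_G(P)`. -/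
theorem exists_principal_extension (p : ℕ) [Fact p.Prime] (M : Ideal AlgInt)
    (hM : IsPModular p M) (N : Subgroup G) [N.Normal] (P : Sylow p N)
    (hcov : N ⊔ Subgroup.centralizer (((P : Subgroup N).map N.subtype : Subgroup G) : Set G) = ⊤)
    (θ : IrrCharacter N) (hθ : θ ∈ principalBlock M N)
    (hext : ∃ ψ : IrrCharacter G, ∀ x : N, (ψ : G → ℂ) x = (θ : N → ℂ) x) :
    ∃ χ : IrrCharacter G, χ ∈ principalBlock M G ∧
      (∀ x : N, (χ : G → ℂ) x = (θ : N → ℂ) x) ∧
      ∀ J : Subgroup G, N ≤ J → ∃ ξ : IrrCharacter J, ξ ∈ principalBlock M J ∧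
        ∀ y : J, (ξ : J → ℂ) y = (χ : G → ℂ) y := by
  classical
  letI : Fintype G := Fintype.ofFinite G
  letI : Fintype N := Fintype.ofFinite N
  haveI : M.IsMaximal := hM.2.1
  obtain ⟨ψ, hψθ⟩ := hext
  have hres : (fun n : N => (ψ : G → ℂ) n) = (θ : N → ℂ) := funext hψθ
  have hθirr : IsIrrCharacter N (fun n : N => (ψ : G → ℂ) n) := by
    rw [hres]; exact θ.2
  have hB : SameBlock M (fun _ : N => (1 : ℂ)) (fun n : N => (ψ : G → ℂ) n) := by
    rw [hres]; exact hθ
  obtain ⟨lam, hlamN, key⟩ := exists_twist N hM P hcov ψ.2 hθirr hB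
  set χ : G → ℂ := fun g => ((lam g : ℂˣ) : ℂ) * (ψ : G → ℂ) g with hχdef
  have hχ : IsIrrCharacter G χ := isIrrCharacter_twist lam ψ.2
  have hχN : ∀ x : N, χ x = (θ : N → ℂ) x := by
    intro x
    show ((lam x : ℂˣ) : ℂ) * (ψ : G → ℂ) x = _
    rw [hlamN x x.2, Units.val_one, one_mul, hψθ]
  have hχNirr : IsIrrCharacter N (fun n : N => χ n) := by
    have : (fun n : N => χ n) = (θ : N → ℂ) := funext hχN
    rw [this]; exact θ.2
  refine ⟨⟨χ, hχ⟩, ?_, hχN, ?_⟩
  · have := sameBlock_of_key (M := M) N (MonoidHom.id G) (fun _ _ h => h)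
      (by intro x _; exact ⟨x, rfl⟩) (χ := χ) hχ key
    exact this
  · intro J hNJ
    letI : Fintype J := Fintype.ofFinite J
    have hξ : IsIrrCharacter J (fun j : J => χ j) :=
      isIrrCharacter_restrict_of_le N J hNJ hχ hχNirr
    refine ⟨⟨fun j : J => χ j, hξ⟩, ?_, fun y => rfl⟩
    have := sameBlock_of_key (M := M) N J.subtype Subtype.coe_injective
      (by intro x hx; exact ⟨⟨x, hNJ hx⟩, rfl⟩) (χ := χ) hξ key
    exact this

end Statement

end Cfsg.Agent.Helper18.ExtPrincipal
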