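import Mathlib
import Cfsg.Prelude.Def_Blocks
import Cfsg.Agent.Lib.Helper18.ExtPrincipal

/-!
# Invariance of the characters of the principal block under centralizing automorphisms
(helper18's library)
-/

set_option autoImplicit false
set_option linter.style.haveILetI false

namespace Cfsg.Agent.Helper18.AlperinDade

open Cfsg Cfsg.Agent.Helper24 Cfsg.Agent.Helper23.Blk Cfsg.Agent.Helper5
open Cfsg.Agent.Helper18.RelCentral Cfsg.Agent.Helper18.ExtPrincipal
open scoped ComplexConjugate

universe u

section Schur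

variable {G : Type u} [Group G] [Fintype G] (N : Subgroup G) [hNn : N.Normal] [Fintype N]

/-- sums of functions supported on the coset `N y` -/
theorem sum_eq_sum_coset (y : G) (F : G → ℂ) (hF : ∀ h, F h ≠ 0 → y⁻¹ * h ∈ N) :
    ∑ h : G, F h = ∑ m : N, F ((m : G) * y) := by
  classical
  rw [← Equiv.sum_comp (Equiv.mulRight y) F]
  apply ExtPrincipal.sum_eq_sum_subgroup N (fun h => F (h * y))
  intro h hh
  by_contra hne
  apply hh
  have h1 := hF _ hne
  have h2 := hNn.conj_mem _ h1 y
  have h3 : y * (y⁻¹ * (h * y)) * y⁻¹ = h := by group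
  rw [h3] at h2
  exact h2

/-- **Twisted Schur vanishing**: if the central character of `θ` does not vanish on a product
`a * a'` with `a` an `N`-invariant function supported on the coset `N y`, then `θ` is invariant
under conjugation by `y`. -/
theorem invariant_of_sum_ne_zero (y : G) {θ : N → ℂ} (hθ : IsIrrCharacter N θ)
    {a a' : G → ℂ} (ha : IsNInv N a) (hsa : SuppIn N y a)
    (hne : ∑ n : N, conv a a' (n : G) * θ n ≠ 0) :
    ∀ n : N, θ (MulAut.conjNormal y n) = θ n := by
  classical
  obtain ⟨k, ρ, hρ, hρθ⟩ := hθ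
  haveI := hρ
  set σ : N →* N := (MulAut.conjNormal y : MulAut N).toMonoidHom with hσ
  have hσsurj : Function.Surjective σ := (MulAut.conjNormal y : MulAut N).surjective
  have hσcoe : ∀ m : N, ((σ m : N) : G) = y * m * y⁻¹ := by
    intro m
    simp [hσ]
  set A : Module.End ℂ (Fin k → ℂ) := ∑ m : N, a ((m : G) * y) • ρ m with hA
  set A' : Module.End ℂ (Fin k → ℂ) := ∑ n : N, a' (y⁻¹ * (n : G)) • ρ n with hA'
  -- the trace identity
  have htr : LinearMap.trace ℂ _ (A * A') = ∑ n : N, conv a a' (n : G) * θ n := by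
    have h1 : LinearMap.trace ℂ _ (A * A') =
        ∑ m : N, ∑ n : N, a ((m : G) * y) * a' (y⁻¹ * (n : G)) * θ (m * n) := by
      rw [hA, hA', Finset.sum_mul, map_sum]
      apply Finset.sum_congr rfl
      intro m _
      rw [Finset.mul_sum, map_sum]
      apply Finset.sum_congr rfl
      intro n _
      rw [smul_mul_smul_comm, map_smul, smul_eq_mul, ← map_mul, ← hρθ]
      rfl
    have h2 : ∀ n' : N, conv a a' (n' : G) * θ n' =
        ∑ m : N, a ((m : G) * y) * a' (((m : G) * y)⁻¹ * (n' : G)) * θ n' := by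
      intro n'
      rw [conv_apply, sum_eq_sum_coset N y (fun h => a h * a' (h⁻¹ * (n' : G))), Finset.sum_mul]
      intro h hh
      exact hsa h (left_ne_zero_of_mul hh)
    have h3 : ∑ n : N, conv a a' (n : G) * θ n = ∑ m : N, ∑ n' : N,
        a ((m : G) * y) * a' (((m : G) * y)⁻¹ * (n' : G)) * θ n' := by
      rw [Finset.sum_congr rfl (fun n' _ => h2 n'), Finset.sum_comm]
    rw [h1, h3]
    apply Finset.sum_congr rfl
    intro m _
    rw [← Equiv.sum_comp (Equiv.mulLeft m)
      (fun n' : N => a ((m : G) * y) * a' (((m : G) * y)⁻¹ * (n' : G)) * θ n')]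
    apply Finset.sum_congr rfl
    intro n _
    simp only [Equiv.coe_mulLeft]
    congr 2
    congr 1
    push_cast
    group
  -- the intertwining relation
  have hint : ∀ m : N, ρ m * A = A * ρ (σ m) := by
    intro m
    rw [hA, Finset.mul_sum, Finset.sum_mul]
    rw [← Equiv.sum_comp (Equiv.mulLeft m⁻¹) (fun n : N => ρ m * a ((n : G) * y) • ρ n)]
    rw [← Equiv.sum_comp (Equiv.mulRight (σ m)⁻¹) (fun n : N => a ((n : G) * y) • ρ n * ρ (σ m))]
    apply Finset.sum_congr rfl
    intro n _
    simp only [Equiv.coe_mulLeft, Equiv.coe_mulRight]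
    rw [mul_smul_comm, smul_mul_assoc, ← map_mul, ← map_mul]
    have e1 : m * (m⁻¹ * n) = n := by group
    have e2 : n * (σ m)⁻¹ * σ m = n := by group
    rw [e1, e2]
    congr 1
    have e3 : (((n * (σ m)⁻¹ : N) : G)) * y = (n : G) * y * (m : G)⁻¹ := by
      push_cast
      rw [hσcoe]
      group
    have e4 : (((m⁻¹ * n : N) : G)) * y =
        (m : G)⁻¹ * ((n : G) * y * (m : G)⁻¹) * ((m : G)⁻¹)⁻¹ := by
      push_cast
      group
    rw [e3, e4]
    exact ha _ (N.inv_mem m.2) _
  -- Schur
  have hirr' : (compRep ρ σ).IsIrreducible := isIrreducible_comp_surjective σ hσsurj ρ hρ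
  haveI := hirr'
  let f : Representation.IntertwiningMap (compRep ρ σ) ρ :=
    ⟨A, by
      intro m
      show A * ρ (σ m) = ρ m * A
      exact (hint m).symm⟩
  rcases Representation.IsIrreducible.bijective_or_eq_zero f with hbij | hzero
  · have hchar := Representation.char_iso (f.ofBijective hbij)
    intro n
    have := congrFun hchar n
    rw [← hρθ]
    exact this
  · exfalso
    apply hne
    rw [← htr]
    have hA0 : A = 0 := by
      have := congrArg Representation.IntertwiningMap.toLinearMap hzero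
      exact this
    rw [hA0, zero_mul, map_zero]

end Schur

section Invariance

variable {G : Type u} [Group G] [Fintype G] (N : Subgroup G) [hNn : N.Normal] [Fintype N]
variable {M : Ideal AlgInt} {p : ℕ} [hp : Fact p.Prime]

/-- **Invariance**: an element centralizing a Sylow `p`-subgroup of the normal subgroup `N` fixes
every irreducible character in the principal block of `N`. -/
theorem invariant_of_centralizes (hM : IsPModular p M) (P : Sylow p N) (y : G)
    (hy : ∀ q ∈ (P : Subgroup N), (q : G) * y = y * (q : G)) {θ : N → ℂ}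
    (hθ : IsIrrCharacter N θ) (hB : SameBlock M (fun _ : N => (1 : ℂ)) θ) :
    ∀ n : N, θ (MulAut.conjNormal y n) = θ n := by
  classical
  haveI hMax : M.IsMaximal := hM.2.1
  haveI hMp : M.IsPrime := hMax.isPrime
  have hy' : ∀ q ∈ (P : Subgroup N), (q : G) * y⁻¹ = y⁻¹ * (q : G) := by
    intro q hq
    have h1 := hy q hq
    calc (q : G) * y⁻¹ = y⁻¹ * (y * (q : G)) * y⁻¹ := by group
      _ = y⁻¹ * ((q : G) * y) * y⁻¹ := by rw [h1]
      _ = y⁻¹ * (q : G) := by group
  set a := wit N (P : Subgroup N) y hy with ha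
  set a' := wit N (P : Subgroup N) y⁻¹ hy' with ha'
  set c := conv a a' with hc
  have hainv : IsNInv N a := wit_isNInv N _ y hy
  have hasupp : SuppIn N y a := wit_suppIn N _ y hy
  have hcs : ∀ z, z ∉ N → c z = 0 := by
    intro z hz
    by_contra hne
    have := suppIn_conv N hasupp (wit_suppIn N _ y⁻¹ hy') z hne
    rw [mul_inv_cancel, inv_one, one_mul] at this
    exact hz this
  have hcinv : IsNInv N c := isNInv_conv N hainv (wit_isNInv N _ y⁻¹ hy')
  have hcz : IsZVal c := isZVal_conv (wit_isZVal N _ y hy) (wit_isZVal N _ y⁻¹ hy')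
  have hsum : ∑ g : G, c g = ((P : Subgroup N).index : ℂ) * ((P : Subgroup N).index : ℂ) := by
    rw [hc, sum_conv, sum_wit, sum_wit]
  apply invariant_of_sum_ne_zero N y hθ hainv hasupp
  intro h0
  -- pass to `N`
  let θ' : IrrCharacter N := ⟨θ, hθ⟩
  let one : IrrCharacter N := ⟨fun _ => (1 : ℂ), isIrrCharacter_one⟩
  let cN : N → ℂ := fun n => c n
  have hcl : IsClassFunction N cN := by
    intro g h
    show c ((h * g * h⁻¹ : N) : G) = c g
    push_cast
    exact hcinv h h.2 g
  have hR : ∀ n : N, MemLocalRing M (cN n) := by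
    intro n
    obtain ⟨m, hm⟩ := hcz n
    show MemLocalRing M (c n)
    rw [hm]
    exact memLocalRing_intCast m
  have hsame : SameBlock M ((θ' : IrrCharacter N) : N → ℂ) ((one : IrrCharacter N) : N → ℂ) :=
    sameBlock_symm hB
  have key := memLocalIdeal_omega_sub hsame hcl hR
  have e1 : omega ((θ' : IrrCharacter N) : N → ℂ) cN = 0 := by
    unfold omega
    show (∑ n : N, c n * θ n) / θ 1 = 0
    rw [h0, zero_div]
  have e2 : omega ((one : IrrCharacter N) : N → ℂ) cN = ∑ g : G, c g := by
    unfold omega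
    rw [ExtPrincipal.sum_eq_sum_subgroup N c hcs]
    simp [one, cN]
  rw [e1, e2, hsum, zero_sub] at key
  have key2 := memLocalIdeal_neg key
  rw [neg_neg] at key2
  have h3 : ¬ p ∣ (P : Subgroup N).index := Sylow.not_dvd_index P
  have h4 : MemLocalIdeal M (((P : Subgroup N).index * (P : Subgroup N).index : ℕ) : ℂ) := by
    push_cast
    exact key2
  rw [memLocalIdeal_natCast_iff hM] at h4
  rcases (Nat.Prime.dvd_mul hM.1).1 h4 with h | h <;> exact h3 h

end Invariance

end Cfsg.Agent.Helper18.AlperinDade
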