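import Mathlib
import Cfsg.Prelude.Def_Blocks
import Cfsg.Agent.Lib.Helper18.AlperinDade1
import Cfsg.Agent.Lib.Helper5.RepExtend

/-!
# Extending characters of the principal block over a cyclic quotient (helper18's library)
-/

set_option autoImplicit false
set_option linter.style.haveILetI false

namespace Cfsg.Agent.Helper18.AlperinDade

open Cfsg Cfsg.Agent.Helper24 Cfsg.Agent.Helper23.Blk Cfsg.Agent.Helper5
open Cfsg.Agent.Helper18.RelCentral Cfsg.Agent.Helper18.ExtPrincipal
open scoped ComplexConjugate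

universe u

section Cov

variable {G : Type u} [Group G] [Finite G] {M : Ideal AlgInt} {p : ℕ} [hp : Fact p.Prime]
variable (N : Subgroup G) [hNn : N.Normal]

omit [Finite G] hp hNn in
theorem map_subtype_sylow (Q : Sylow p G) (hQN : (Q : Subgroup G) ≤ N) :
    ((Q.subtype hQN : Sylow p N) : Subgroup N).map N.subtype = (Q : Subgroup G) := by
  rw [Sylow.coe_subtype, Subgroup.subgroupOf_map_subtype, inf_of_le_left hQN]

/-- the principal-block extension, phrased with a Sylow subgroup of `G` inside `N` -/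
theorem exists_principal_extension' (hM : IsPModular p M) (Q : Sylow p G)
    (hQN : (Q : Subgroup G) ≤ N)
    (hcov : N ⊔ Subgroup.centralizer ((Q : Subgroup G) : Set G) = ⊤)
    (θ : IrrCharacter N) (hθ : θ ∈ principalBlock M N)
    (hext : ∃ ψ : IrrCharacter G, ∀ x : N, (ψ : G → ℂ) x = (θ : N → ℂ) x) :
    ∃ χ : IrrCharacter G, χ ∈ principalBlock M G ∧
      ∀ x : N, (χ : G → ℂ) x = (θ : N → ℂ) x := by
  have hcov' : N ⊔ Subgroup.centralizer
      ((((Q.subtype hQN : Sylow p N) : Subgroup N).map N.subtype : Subgroup G) : Set G) = ⊤ := by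
    rw [map_subtype_sylow N Q hQN]
    exact hcov
  obtain ⟨χ, h1, h2, -⟩ := exists_principal_extension p M hM N (Q.subtype hQN) hcov' θ hθ hext
  exact ⟨χ, h1, h2⟩

/-- **Invariance** of the characters of the principal block of `N` when `G = N C_G(Q)`. -/
theorem invariant_of_cov (hM : IsPModular p M) (Q : Sylow p G)
    (hQN : (Q : Subgroup G) ≤ N)
    (hcov : N ⊔ Subgroup.centralizer ((Q : Subgroup G) : Set G) = ⊤)
    {θ : N → ℂ} (hθ : IsIrrCharacter N θ) (hB : SameBlock M (fun _ : N => (1 : ℂ)) θ) :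
    ∀ (g : G) (n : N), θ (MulAut.conjNormal g n) = θ n := by
  classical
  letI : Fintype G := Fintype.ofFinite G
  letI : Fintype N := Fintype.ofFinite N
  intro g n
  have hg : g ∈ N ⊔ Subgroup.centralizer ((Q : Subgroup G) : Set G) := by
    rw [hcov]; trivial
  rw [← SetLike.mem_coe, Subgroup.normal_mul] at hg
  obtain ⟨m, hm, c, hc, rfl⟩ := Set.mem_mul.mp hg
  have hy : ∀ q ∈ ((Q.subtype hQN : Sylow p N) : Subgroup N), (q : G) * c = c * (q : G) := by
    intro q hq
    rw [Sylow.coe_subtype, Subgroup.mem_subgroupOf] at hq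
    exact Subgroup.mem_centralizer_iff.mp hc (q : G) hq
  have h1 := invariant_of_centralizes N hM (Q.subtype hQN) c hy hθ hB n
  have h2 : (MulAut.conjNormal (m * c) n : N) =
      (⟨m, hm⟩ : N) * (MulAut.conjNormal c n : N) * (⟨m, hm⟩ : N)⁻¹ := by
    apply Subtype.ext
    simp only [MulAut.conjNormal_apply, Subgroup.coe_mul, Subgroup.coe_inv]
    group
  rw [h2, isClassFunction_of_isIrrCharacter hθ _ _, h1]

/-- If a representation affording `θ` in the principal block of `N` extends to `G`, then `θ` has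
an extension in the principal block of `G`. -/
theorem exists_ext_of_rep (hM : IsPModular p M) (Q : Sylow p G)
    (hQN : (Q : Subgroup G) ≤ N)
    (hcov : N ⊔ Subgroup.centralizer ((Q : Subgroup G) : Set G) = ⊤)
    (θ : IrrCharacter N) (hθ : θ ∈ principalBlock M N) {k : ℕ}
    (ρ : Representation ℂ N (Fin k → ℂ)) (hρ : ρ.IsIrreducible)
    (hρθ : ρ.character = (θ : N → ℂ))
    (hext : ∃ ρ' : Representation ℂ G (Fin k → ℂ), ∀ n : N, ρ' (n : G) = ρ n) :
    ∃ χ : IrrCharacter G, χ ∈ principalBlock M G ∧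
      ∀ x : N, (χ : G → ℂ) x = (θ : N → ℂ) x := by
  classical
  letI : Fintype G := Fintype.ofFinite G
  obtain ⟨ρ', hρ'⟩ := hext
  have hirr : ρ'.IsIrreducible := isIrreducible_of_restrict N ρ hρ ρ' hρ'
  apply exists_principal_extension' N hM Q hQN hcov θ hθ
  refine ⟨⟨ρ'.character, k, ρ', hirr, rfl⟩, ?_⟩
  intro x
  show LinearMap.trace ℂ _ (ρ' (x : G)) = _
  rw [hρ' x, ← hρθ]
  rfl

/-- **Cyclic step**: extension in the principal block over a cyclic quotient. -/
theorem exists_ext_cyclic (hM : IsPModular p M) (Q : Sylow p G)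
    (hQN : (Q : Subgroup G) ≤ N)
    (hcov : N ⊔ Subgroup.centralizer ((Q : Subgroup G) : Set G) = ⊤)
    (hcyc : IsCyclic (G ⧸ N)) (θ : IrrCharacter N) (hθ : θ ∈ principalBlock M N) :
    ∃ χ : IrrCharacter G, χ ∈ principalBlock M G ∧
      ∀ x : N, (χ : G → ℂ) x = (θ : N → ℂ) x := by
  classical
  letI : Fintype G := Fintype.ofFinite G
  letI : Fintype N := Fintype.ofFinite N
  obtain ⟨k, ρ, hρ, hρθ⟩ := θ.2
  have hinv : ∀ (g : G) (n : N), ρ.character (MulAut.conjNormal g n) = ρ.character n := by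
    rw [hρθ]
    exact invariant_of_cov N hM Q hQN hcov θ.2 hθ
  exact exists_ext_of_rep N hM Q hQN hcov θ hθ ρ hρ hρθ
    (exists_extension_of_cyclic N hcyc ρ hρ hinv)

end Cov

end Cfsg.Agent.Helper18.AlperinDade
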