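import Mathlib
import Cfsg.Prelude.Def_BrauerPairs
import Cfsg.Agent.Lib.Helper23.BlockPairs
import Cfsg.Agent.Lib.Helper23.BlockMinMax
import Cfsg.Agent.Lib.Helper18.BlockCover
import Cfsg.Agent.S4646
import Cfsg.Agent.Lib.Helper10.Alperin
import Cfsg.Agent.Lib.Helper12.PGroup

/-!
# Brauer pairs of the principal block (helper18's library)

The relative form of Brauer's third main theorem: for `p`-subgroups `Q ≤ P ≤ N_G(Q)` the principal
blocks of `C_G(Q)` and `C_G(P)` form a normal inclusion of Brauer pairs; hence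
`(Q, B₀(C_G(Q))) ≤ (P, B₀(C_G(P)))` whenever `Q ≤ P` are `p`-subgroups.
-/

set_option autoImplicit false

namespace Cfsg.Agent.Helper18

open Cfsg Cfsg.Agent.Helper24 Cfsg.Agent.Helper23.Blk
open scoped ComplexConjugate

universe u

section Equiv

variable {K K' : Type u} [Group K] [Group K'] {M : Ideal AlgInt}

/-- the principal block is carried to the principal block by a group isomorphism -/
theorem comp_mem_principalBlock (σ : K ≃* K') {χ : IrrCharacter K'}
    (hχ : χ ∈ principalBlock M K') :
    (⟨(χ : K' → ℂ) ∘ σ, Cfsg.Agent.Helper5.isIrrCharacter_comp_equiv σ χ.2⟩ : IrrCharacter K) ∈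
      principalBlock M K := by
  show SameBlock M (fun _ : K => (1 : ℂ)) ((χ : K' → ℂ) ∘ σ)
  intro k
  have h := hχ (σ k)
  rw [centralChar_comp_equiv]
  have h1 : centralChar (fun _ : K => (1 : ℂ)) k =
      centralChar (fun _ : K' => (1 : ℂ)) (σ k) := by
    have := centralChar_comp_equiv σ (fun _ : K' => (1 : ℂ)) k
    rw [← this]
    rfl
  rw [h1]
  exact h

/-- the idempotent coefficients of the principal block are carried along a group isomorphism -/
theorem blockCoeff_principal_equiv [Finite K] (σ : K ≃* K') (k : K) :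
    blockCoeff (principalBlock M K') (σ k) = blockCoeff (principalBlock M K) k := by
  classical
  unfold blockCoeff
  have hcard : Nat.card K' = Nat.card K := (Nat.card_congr σ.toEquiv).symm
  rw [hcard]
  congr 1
  symm
  refine finsum_mem_eq_of_bijOn
    (fun χ : IrrCharacter K => (⟨(χ : K → ℂ) ∘ σ.symm,
      Cfsg.Agent.Helper5.isIrrCharacter_comp_equiv σ.symm χ.2⟩ : IrrCharacter K')) ?_ ?_
  · refine ⟨?_, ?_, ?_⟩
    · intro χ hχ
      exact comp_mem_principalBlock σ.symm hχ
    · intro χ₁ _ χ₂ _ h
      apply Subtype.ext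
      funext k
      have := congrFun (congrArg Subtype.val h) (σ k)
      simpa using this
    · intro χ' hχ'
      refine ⟨⟨(χ' : K' → ℂ) ∘ σ, Cfsg.Agent.Helper5.isIrrCharacter_comp_equiv σ χ'.2⟩,
        comp_mem_principalBlock σ hχ', ?_⟩
      apply Subtype.ext
      funext k'
      simp
  · intro χ _
    simp

end Equiv

section Invariance

variable {G : Type u} [Group G] {M : Ideal AlgInt} (H : Subgroup G)

theorem subgroupBlockCoeff_of_mem (e : Set (IrrCharacter H)) {g : G} (h : g ∈ H) :
    subgroupBlockCoeff H e g = blockCoeff e ⟨g, h⟩ := by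
  unfold subgroupBlockCoeff
  exact dif_pos h

theorem subgroupBlockCoeff_of_not_mem (e : Set (IrrCharacter H)) {g : G} (h : g ∉ H) :
    subgroupBlockCoeff H e g = 0 := by
  unfold subgroupBlockCoeff
  exact dif_neg h

theorem conj_mem_iff_of_mem_normalizer {t : G} (ht : t ∈ Subgroup.normalizer (H : Set G))
    (x : G) : t * x * t⁻¹ ∈ H ↔ x ∈ H :=
  (Subgroup.mem_normalizer_iff.mp ht x).symm

/-- the extended idempotent of the principal block of `H` is invariant under `N_G(H)` -/
theorem subgroupBlockCoeff_principal_conj [Finite G] {t : G}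
    (ht : t ∈ Subgroup.normalizer (H : Set G)) (x : G) :
    subgroupBlockCoeff H (principalBlock M H) (t * x * t⁻¹) =
      subgroupBlockCoeff H (principalBlock M H) x := by
  by_cases hx : x ∈ H
  · have hx' : t * x * t⁻¹ ∈ H := (conj_mem_iff_of_mem_normalizer H ht x).2 hx
    rw [subgroupBlockCoeff_of_mem H _ hx, subgroupBlockCoeff_of_mem H _ hx']
    have ht' : t⁻¹ ∈ Subgroup.normalizer (H : Set G) := Subgroup.inv_mem _ ht
    have h := blockCoeff_principal_equiv (M := M) (Cfsg.Agent.S4646.conjAut H t⁻¹ ht') ⟨x, hx⟩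
    rw [← h]
    congr 1
    apply Subtype.ext
    show t * x * t⁻¹ = (t⁻¹)⁻¹ * x * t⁻¹
    rw [inv_inv]
  · have hx' : t * x * t⁻¹ ∉ H := fun h => hx ((conj_mem_iff_of_mem_normalizer H ht x).1 h)
    rw [subgroupBlockCoeff_of_not_mem H _ hx, subgroupBlockCoeff_of_not_mem H _ hx']

open Classical in
/-- the indicator of the `p`-regular elements of `H`, as a function on `G` -/
noncomputable def pRegIndSub (p : ℕ) : G → ℂ :=
  fun g => if g ∈ H then pRegInd G p g else 0

theorem pRegIndSub_conj (p : ℕ) {t : G} (ht : t ∈ Subgroup.normalizer (H : Set G)) (x : G) :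
    pRegIndSub H p (t * x * t⁻¹) = pRegIndSub H p x := by
  classical
  unfold pRegIndSub
  have h1 : (t * x * t⁻¹ ∈ H) = (x ∈ H) := propext (conj_mem_iff_of_mem_normalizer H ht x)
  have h2 : pRegInd G p (t * x * t⁻¹) = pRegInd G p x := by
    unfold pRegInd
    have h3 : orderOf (t * x * t⁻¹) = orderOf x := (MulAut.conj t).orderOf_eq x
    rw [h3]
  simp only [h1, h2]

end Invariance

section Mult

variable {G : Type u} [Group G] [Fintype G] {M : Ideal AlgInt} {p : ℕ} (P : Subgroup G)
  [Fintype (Subgroup.centralizer (P : Set G))]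

theorem brauerOmega_eq_omega_restrict (β : G → ℂ) (ξ : Subgroup.centralizer (P : Set G) → ℂ) :
    brauerOmega P β ξ = omega ξ (fun c : Subgroup.centralizer (P : Set G) => β c) := by
  rw [brauerOmega_eq_omega]
  congr 1
  funext c
  unfold resC
  rw [if_pos c.2]

/-- pointwise: restriction to `C_G(P)` is multiplicative modulo the local ideal on the
`P`-invariant functions -/
theorem conv_restrict_cong (hM : IsPModular p M) (hP : IsPGroup p P) {a b : G → ℂ}
    (haP : ∀ q ∈ P, ∀ x, a (q * x * q⁻¹) = a x) (hbP : ∀ q ∈ P, ∀ x, b (q * x * q⁻¹) = b x)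
    (haR : ∀ g, MemLocalRing M (a g)) (hbR : ∀ g, MemLocalRing M (b g))
    (y : Subgroup.centralizer (P : Set G)) :
    MemLocalIdeal M (conv a b (y : G) -
      conv (fun c : Subgroup.centralizer (P : Set G) => a c)
        (fun c : Subgroup.centralizer (P : Set G) => b c) y) := by
  classical
  haveI hMp : M.IsPrime := hM.2.1.isPrime
  have h2 : conv (fun c : Subgroup.centralizer (P : Set G) => a c)
      (fun c : Subgroup.centralizer (P : Set G) => b c) y =
      ∑ x : G, if x ∈ Subgroup.centralizer (P : Set G) then a x * b (x⁻¹ * (y : G)) else 0 := by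
    rw [conv_apply, sum_eq_sum_subgroup (Subgroup.centralizer (P : Set G))
      (fun x => if x ∈ Subgroup.centralizer (P : Set G) then a x * b (x⁻¹ * (y : G)) else 0)]
    · apply Finset.sum_congr rfl
      intro x _
      rw [if_pos x.2]
      rfl
    · intro x hx
      rw [if_neg hx]
  rw [conv_apply, h2, ← Finset.sum_sub_distrib]
  have h3 : ∀ x : G, a x * b (x⁻¹ * (y : G)) -
      (if x ∈ Subgroup.centralizer (P : Set G) then a x * b (x⁻¹ * (y : G)) else 0) =
      if x ∈ Subgroup.centralizer (P : Set G) then 0 else a x * b (x⁻¹ * (y : G)) := by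
    intro x
    split_ifs
    · ring
    · ring
  rw [Finset.sum_congr rfl (fun x _ => h3 x)]
  by_contra hcon
  have hy : ∀ q ∈ P, q * (y : G) * q⁻¹ = (y : G) := by
    intro q hq
    have := (Subgroup.mem_centralizer_iff.mp y.2) q hq
    rw [this]
    group
  obtain ⟨x, hxfix, hx⟩ := exists_fixed_of_not_memLocalIdeal_sum hM P hP
    (fun x => if x ∈ Subgroup.centralizer (P : Set G) then 0 else a x * b (x⁻¹ * (y : G)))
    (by
      intro q hq x
      have hqN : q ∈ Subgroup.normalizer (P : Set G) := Subgroup.le_normalizer hq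
      have h1 : (q * x * q⁻¹ ∈ Subgroup.centralizer (P : Set G)) =
          (x ∈ Subgroup.centralizer (P : Set G)) :=
        propext (centralizer_conj_mem_iff_of_mem_normalizer hqN)
      have h4 : (q * x * q⁻¹)⁻¹ * (y : G) = q * (x⁻¹ * (y : G)) * q⁻¹ := by
        conv_lhs => rw [← hy q hq]
        group
      simp only [h1, h4, haP q hq, hbP q hq])
    (by
      intro x
      show MemLocalRing M (if x ∈ Subgroup.centralizer (P : Set G) then 0
        else a x * b (x⁻¹ * (y : G)))
      split_ifs
      · exact memLocalRing_zero ne_top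
      · exact memLocalRing_mul (haR _) (hbR _))
    hcon
  apply hx
  have hxC : x ∈ Subgroup.centralizer (P : Set G) := by
    rw [Subgroup.mem_centralizer_iff]
    intro q hq
    have := hxfix q hq
    calc q * x = (q * x * q⁻¹) * q := by group
      _ = x * q := by rw [this]
  simp only [if_pos hxC]
  exact memLocalIdeal_zero ne_top

end Mult

section Mult2

variable {G : Type u} [Group G] [Fintype G] {M : Ideal AlgInt} {p : ℕ} (P : Subgroup G)
  [Fintype (Subgroup.centralizer (P : Set G))]

theorem conv_conj_invariant (T : Subgroup G) {a b : G → ℂ}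
    (haT : ∀ t ∈ T, ∀ x, a (t * x * t⁻¹) = a x) (hbT : ∀ t ∈ T, ∀ x, b (t * x * t⁻¹) = b x)
    {t : G} (ht : t ∈ T) (x : G) : conv a b (t * x * t⁻¹) = conv a b x := by
  rw [conv_apply, conv_apply]
  refine (Fintype.sum_equiv (MulAut.conj t).toEquiv _ _ ?_).symm
  intro h
  show a h * b (h⁻¹ * x) = a (t * h * t⁻¹) * b ((t * h * t⁻¹)⁻¹ * (t * x * t⁻¹))
  rw [haT t ht]
  have : (t * h * t⁻¹)⁻¹ * (t * x * t⁻¹) = t * (h⁻¹ * x) * t⁻¹ := by group
  rw [this, hbT t ht]

/-- the relative Brauer functional `a ↦ ω_ξ(a restricted to C_G(P))` is multiplicative modulo the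
local ideal on functions invariant under a subgroup containing `P` and `C_G(P)` -/
theorem brauerOmega_conv_cong (hM : IsPModular p M) (hP : IsPGroup p P) (T : Subgroup G)
    (hPT : P ≤ T) (hCT : Subgroup.centralizer (P : Set G) ≤ T) {a b : G → ℂ}
    (haT : ∀ t ∈ T, ∀ x, a (t * x * t⁻¹) = a x) (hbT : ∀ t ∈ T, ∀ x, b (t * x * t⁻¹) = b x)
    (haR : ∀ g, MemLocalRing M (a g)) (hbR : ∀ g, MemLocalRing M (b g))
    (ξ : IrrCharacter (Subgroup.centralizer (P : Set G))) :
    MemLocalIdeal M (brauerOmega P (conv a b) (ξ : Subgroup.centralizer (P : Set G) → ℂ) -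
      brauerOmega P a (ξ : Subgroup.centralizer (P : Set G) → ℂ) *
        brauerOmega P b (ξ : Subgroup.centralizer (P : Set G) → ℂ)) := by
  classical
  haveI hMp : M.IsPrime := hM.2.1.isPrime
  letI : Fintype (IrrCharacter (Subgroup.centralizer (P : Set G))) := irrFintype
  rw [brauerOmega_eq_omega_restrict, brauerOmega_eq_omega_restrict,
    brauerOmega_eq_omega_restrict]
  have hcA : IsClassFunction (Subgroup.centralizer (P : Set G))
      (fun c : Subgroup.centralizer (P : Set G) => a c) := by
    intro g h
    exact haT (h : G) (hCT h.2) (g : G)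
  have hcB : IsClassFunction (Subgroup.centralizer (P : Set G))
      (fun c : Subgroup.centralizer (P : Set G) => b c) := by
    intro g h
    exact hbT (h : G) (hCT h.2) (g : G)
  have hcAB : IsClassFunction (Subgroup.centralizer (P : Set G))
      (fun c : Subgroup.centralizer (P : Set G) => conv a b c) := by
    intro g h
    exact conv_conj_invariant T haT hbT (hCT h.2) (g : G)
  rw [← omega_conv ξ hcA hcB, ← omega_sub]
  apply memLocalIdeal_omega ξ
  · intro g h
    rw [Pi.sub_apply, Pi.sub_apply, isClassFunction_conv hcA hcB g h]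
    have := hcAB g h
    simp only at this
    rw [this]
  · intro y
    rw [Pi.sub_apply]
    exact conv_restrict_cong P hM hP (fun q hq => haT q (hPT hq)) (fun q hq => hbT q (hPT hq))
      haR hbR y

end Mult2

section Idem

variable {M : Ideal AlgInt} {p : ℕ}

/-- the principal block idempotent fixes the sum of the `p`-regular elements -/
theorem conv_blockCoeff_principal_pRegInd {K : Type u} [Group K] [Fintype K]
    (hM : IsPModular p M) [Fact p.Prime] :
    conv (blockCoeff (principalBlock M K)) (pRegInd K p) = pRegInd K p := by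
  classical
  letI : Fintype (IrrCharacter K) := irrFintype
  have h1 : blockCoeff (principalBlock M K) =
      synth (fun χ => if χ ∈ principalBlock M K then (1 : ℂ) else 0) :=
    funext (blockCoeff_eq_synth _)
  have h2 : synth (fun χ : IrrCharacter K => omega (χ : K → ℂ) (pRegInd K p)) = pRegInd K p := by
    funext g
    rw [synth_omega isClassFunction_pRegInd]
  have h3 : conv (blockCoeff (principalBlock M K))
      (synth (fun χ : IrrCharacter K => omega (χ : K → ℂ) (pRegInd K p))) =
      synth (fun χ : IrrCharacter K => omega (χ : K → ℂ) (pRegInd K p)) := by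
    rw [h1, conv_synth]
    congr 1
    funext χ
    rw [Pi.mul_apply]
    by_cases hχ : χ ∈ principalBlock M K
    · rw [if_pos hχ, one_mul]
    · rw [if_neg hχ, zero_mul, omega_pRegInd_eq_zero hM χ hχ]
  rw [h2] at h3
  exact h3

variable {G : Type u} [Group G] [Fintype G] (H : Subgroup G) [Fintype H]

theorem conv_subgroupBlockCoeff_pRegIndSub (hM : IsPModular p M) [Fact p.Prime] :
    conv (subgroupBlockCoeff H (principalBlock M H)) (pRegIndSub H p) = pRegIndSub H p := by
  classical
  funext g
  rw [conv_apply]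
  by_cases hg : g ∈ H
  · rw [sum_eq_sum_subgroup H
      (fun x => subgroupBlockCoeff H (principalBlock M H) x * pRegIndSub H p (x⁻¹ * g))]
    · have h := congrFun (conv_blockCoeff_principal_pRegInd (M := M) (K := H) hM) ⟨g, hg⟩
      rw [conv_apply] at h
      have hr : pRegIndSub H p g = pRegInd H p ⟨g, hg⟩ := by
        unfold pRegIndSub
        rw [if_pos hg, ← pRegInd_comp_subtype H]
      rw [hr, ← h]
      apply Finset.sum_congr rfl
      intro x _
      rw [subgroupBlockCoeff_of_mem H _ x.2]
      congr 1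
      have hx : (x : G)⁻¹ * g ∈ H := H.mul_mem (H.inv_mem x.2) hg
      unfold pRegIndSub
      rw [if_pos hx, ← pRegInd_comp_subtype H]
      rfl
    · intro x hx
      show subgroupBlockCoeff H (principalBlock M H) x * pRegIndSub H p (x⁻¹ * g) = 0
      rw [subgroupBlockCoeff_of_not_mem H _ hx, zero_mul]
  · have hr : pRegIndSub H p g = 0 := by
      unfold pRegIndSub
      rw [if_neg hg]
    rw [hr]
    apply Finset.sum_eq_zero
    intro x _
    by_cases hx : x ∈ H
    · have hxg : x⁻¹ * g ∉ H := by
        intro h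
        apply hg
        have := H.mul_mem hx h
        simpa using this
      have : pRegIndSub H p (x⁻¹ * g) = 0 := by
        unfold pRegIndSub
        rw [if_neg hxg]
      rw [this, mul_zero]
    · rw [subgroupBlockCoeff_of_not_mem H _ hx, zero_mul]

end Idem

section Relative

variable {G : Type u} [Group G] [Finite G] {M : Ideal AlgInt} {p : ℕ}

theorem normalizer_le_normalizer_centralizer (Q : Subgroup G) :
    Subgroup.normalizer (Q : Set G) ≤
      Subgroup.normalizer ((Subgroup.centralizer (Q : Set G) : Subgroup G) : Set G) := by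
  classical
  haveI : Fintype G := Fintype.ofFinite G
  intro g hg
  rw [Subgroup.mem_normalizer_iff]
  intro h
  exact (centralizer_conj_mem_iff_of_mem_normalizer hg).symm

/-- **Brauer's third main theorem, relative form**: for `p`-subgroups `Q ≤ P ≤ N_G(Q)` the
Brauer map at `P` of the principal block idempotent of `C_G(Q)` contains the principal block of
`C_G(P)`. -/
theorem brauerOmega_principal_cong [Fact p.Prime] (hM : IsPModular p M) {Q P : Subgroup G}
    (hP : IsPGroup p P) (hQP : Q ≤ P) (hPN : P ≤ Subgroup.normalizer (Q : Set G))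
    (ξ : IrrCharacter (Subgroup.centralizer (P : Set G)))
    (hξ : ξ ∈ principalBlock M (Subgroup.centralizer (P : Set G))) :
    MemLocalIdeal M (brauerOmega P
      (subgroupBlockCoeff (Subgroup.centralizer (Q : Set G))
        (principalBlock M (Subgroup.centralizer (Q : Set G))))
      (ξ : Subgroup.centralizer (P : Set G) → ℂ) - 1) := by
  classical
  haveI : Fintype G := Fintype.ofFinite G
  haveI : Fintype (Subgroup.centralizer (Q : Set G)) := Fintype.ofFinite _
  haveI : Fintype (Subgroup.centralizer (P : Set G)) := Fintype.ofFinite _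
  letI : Fintype (IrrCharacter (Subgroup.centralizer (P : Set G))) := irrFintype
  haveI hMp : M.IsPrime := hM.2.1.isPrime
  have hCH : Subgroup.centralizer (P : Set G) ≤ Subgroup.centralizer (Q : Set G) :=
    Subgroup.centralizer_le hQP
  obtain ⟨T, hT⟩ : ∃ T : Subgroup G, T = Subgroup.normalizer
      ((Subgroup.centralizer (Q : Set G) : Subgroup G) : Set G) := ⟨_, rfl⟩
  have hPT : P ≤ T := by
    rw [hT]
    exact hPN.trans (normalizer_le_normalizer_centralizer Q)
  have hCT : Subgroup.centralizer (P : Set G) ≤ T := by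
    rw [hT]
    exact hCH.trans Subgroup.le_normalizer
  obtain ⟨β, hβ⟩ : ∃ β : G → ℂ, β = subgroupBlockCoeff (Subgroup.centralizer (Q : Set G))
      (principalBlock M (Subgroup.centralizer (Q : Set G))) := ⟨_, rfl⟩
  obtain ⟨ρ, hρ⟩ : ∃ ρ : G → ℂ, ρ = pRegIndSub (Subgroup.centralizer (Q : Set G)) p := ⟨_, rfl⟩
  have hβT : ∀ t ∈ T, ∀ x, β (t * x * t⁻¹) = β x := by
    intro t ht x
    rw [hβ]
    rw [hT] at ht
    exact subgroupBlockCoeff_principal_conj _ ht x
  have hρT : ∀ t ∈ T, ∀ x, ρ (t * x * t⁻¹) = ρ x := by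
    intro t ht x
    rw [hρ]
    rw [hT] at ht
    exact pRegIndSub_conj _ p ht x
  have hβR : ∀ g, MemLocalRing M (β g) := by
    intro g
    rw [hβ]
    by_cases hg : g ∈ Subgroup.centralizer (Q : Set G)
    · rw [subgroupBlockCoeff_of_mem _ _ hg]
      exact memLocalRing_blockCoeff hMp isPBlock_principalBlock _
    · rw [subgroupBlockCoeff_of_not_mem _ _ hg]
      exact memLocalRing_zero ne_top
  have hρR : ∀ g, MemLocalRing M (ρ g) := by
    intro g
    rw [hρ]
    unfold pRegIndSub
    split_ifs
    · exact memLocalRing_pRegInd g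
    · exact memLocalRing_zero ne_top
  have hmul := brauerOmega_conv_cong P hM hP T hPT hCT hβT hρT hβR hρR ξ
  have hidem : conv β ρ = ρ := by
    rw [hβ, hρ]
    exact conv_subgroupBlockCoeff_pRegIndSub _ hM
  rw [hidem] at hmul
  have hLρ : brauerOmega P ρ (ξ : Subgroup.centralizer (P : Set G) → ℂ) =
      omega (ξ : Subgroup.centralizer (P : Set G) → ℂ)
        (pRegInd (Subgroup.centralizer (P : Set G)) p) := by
    rw [brauerOmega_eq_omega_restrict]
    congr 1
    funext c
    rw [hρ]
    unfold pRegIndSub
    rw [if_pos (hCH c.2), ← pRegInd_comp_subtype (Subgroup.centralizer (P : Set G))]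
  have hLρ_not : ¬ MemLocalIdeal M (omega (ξ : Subgroup.centralizer (P : Set G) → ℂ)
      (pRegInd (Subgroup.centralizer (P : Set G)) p)) := by
    intro h
    have h1 := memLocalIdeal_omega_sub (M := M)
      (χ := principalChar (Subgroup.centralizer (P : Set G))) (ψ := ξ) hξ
      (isClassFunction_pRegInd (p := p)) (fun g => memLocalRing_pRegInd g)
    have h2 := memLocalIdeal_add h1 h
    rw [sub_add_cancel] at h2
    exact not_memLocalIdeal_omega_principal hM h2
  have hLβR : MemLocalRing M (brauerOmega P β (ξ : Subgroup.centralizer (P : Set G) → ℂ)) := by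
    rw [brauerOmega_eq_omega_restrict]
    apply memLocalRing_omega ξ
    · intro g h
      exact hβT (h : G) (hCT h.2) (g : G)
    · intro c
      exact hβR c
  have hLρR : MemLocalRing M (omega (ξ : Subgroup.centralizer (P : Set G) → ℂ)
      (pRegInd (Subgroup.centralizer (P : Set G)) p)) :=
    memLocalRing_omega ξ (isClassFunction_pRegInd (p := p)) (fun g => memLocalRing_pRegInd g)
  rw [hLρ] at hmul
  have h5 : MemLocalIdeal M
      ((brauerOmega P β (ξ : Subgroup.centralizer (P : Set G) → ℂ) - 1) *
        omega (ξ : Subgroup.centralizer (P : Set G) → ℂ)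
          (pRegInd (Subgroup.centralizer (P : Set G)) p)) := by
    have h6 := memLocalIdeal_neg hmul
    have e : -(omega (ξ : Subgroup.centralizer (P : Set G) → ℂ)
          (pRegInd (Subgroup.centralizer (P : Set G)) p) -
        brauerOmega P β (ξ : Subgroup.centralizer (P : Set G) → ℂ) *
          omega (ξ : Subgroup.centralizer (P : Set G) → ℂ)
            (pRegInd (Subgroup.centralizer (P : Set G)) p)) =
        (brauerOmega P β (ξ : Subgroup.centralizer (P : Set G) → ℂ) - 1) *
          omega (ξ : Subgroup.centralizer (P : Set G) → ℂ)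
            (pRegInd (Subgroup.centralizer (P : Set G)) p) := by ring
    rwa [e] at h6
  rw [← hβ]
  rcases memLocalIdeal_or_of_mul (memLocalRing_sub hLβR (memLocalRing_one ne_top)) hLρR h5 with
    h | h
  · exact h
  · exact absurd h hLρ_not

end Relative

section Chain

variable {G : Type u} [Group G] [Finite G] {M : Ideal AlgInt} {p : ℕ}

/-- the principal blocks of `C_G(Q)` and `C_G(P)` form a normal inclusion of Brauer pairs -/
theorem isNormalSubpair_principal [Fact p.Prime] (hM : IsPModular p M) {Q P : Subgroup G}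
    (hP : IsPGroup p P) (hQP : Q ≤ P) (hPN : P ≤ Subgroup.normalizer (Q : Set G)) :
    IsNormalSubpair p M Q (principalBlock M (Subgroup.centralizer (Q : Set G))) P
      (principalBlock M (Subgroup.centralizer (P : Set G))) := by
  refine ⟨⟨hP.to_le hQP, isPBlock_principalBlock⟩, ⟨hP, isPBlock_principalBlock⟩, hQP, hPN,
    ?_, ?_⟩
  · intro x hx
    exact Cfsg.Agent.S4646.stabilizesBlock_principal _ x
      (normalizer_le_normalizer_centralizer Q (hPN hx))
  · intro ξ hξ
    exact brauerOmega_principal_cong hM hP hQP hPN ξ hξ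

/-- for `p`-subgroups `Q ≤ P`, the principal pair at `Q` lies below the principal pair at `P` -/
theorem subpairLE_principal_aux [Fact p.Prime] (hM : IsPModular p M) {P : Subgroup G}
    (hP : IsPGroup p P) : ∀ (n : ℕ) (Q : Subgroup G), Q ≤ P → Nat.card P - Nat.card Q = n →
      SubpairLE p M Q (principalBlock M (Subgroup.centralizer (Q : Set G))) P
        (principalBlock M (Subgroup.centralizer (P : Set G))) := by
  intro n
  induction n using Nat.strong_induction_on with
  | _ n ih =>
    intro Q hQP hn
    by_cases hQ : Q = P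
    · subst hQ
      exact Relation.ReflTransGen.refl
    · have hlt : Q < P := lt_of_le_of_ne hQP hQ
      haveI : Group.IsNilpotent P := hP.isNilpotent
      have h1 := Cfsg.Agent.Helper10.lt_inf_normalizer_of_lt P Q hlt
      have hQ₁P : P ⊓ Subgroup.normalizer (Q : Set G) ≤ P := inf_le_left
      have hstep : IsNormalSubpair p M Q (principalBlock M (Subgroup.centralizer (Q : Set G)))
          (P ⊓ Subgroup.normalizer (Q : Set G))
          (principalBlock M (Subgroup.centralizer
            ((P ⊓ Subgroup.normalizer (Q : Set G) : Subgroup G) : Set G))) :=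
        isNormalSubpair_principal hM (hP.to_le hQ₁P) h1.le inf_le_right
      have hcard : Nat.card Q < Nat.card (P ⊓ Subgroup.normalizer (Q : Set G) : Subgroup G) :=
        Cfsg.Agent.Helper12.card_lt_card_of_lt h1
      have hcard2 : Nat.card (P ⊓ Subgroup.normalizer (Q : Set G) : Subgroup G) ≤ Nat.card P :=
        Subgroup.card_le_of_le hQ₁P
      have hrec := ih (Nat.card P - Nat.card (P ⊓ Subgroup.normalizer (Q : Set G) : Subgroup G))
        (by omega) (P ⊓ Subgroup.normalizer (Q : Set G)) hQ₁P rfl
      have hstep' : NormalSubpairRel p M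
          (⟨Q, principalBlock M (Subgroup.centralizer (Q : Set G))⟩ : BrauerPairIdx G)
          ⟨P ⊓ Subgroup.normalizer (Q : Set G), principalBlock M (Subgroup.centralizer
            ((P ⊓ Subgroup.normalizer (Q : Set G) : Subgroup G) : Set G))⟩ := hstep
      exact Relation.ReflTransGen.head hstep' hrec

theorem subpairLE_principal [Fact p.Prime] (hM : IsPModular p M) {Q P : Subgroup G}
    (hP : IsPGroup p P) (hQP : Q ≤ P) :
    SubpairLE p M Q (principalBlock M (Subgroup.centralizer (Q : Set G))) P
      (principalBlock M (Subgroup.centralizer (P : Set G))) :=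
  subpairLE_principal_aux hM hP _ Q hQP rfl

omit [Finite G] in
theorem le_of_subpairLE {Q P : Subgroup G}
    {f : Set (IrrCharacter (Subgroup.centralizer (Q : Set G)))}
    {e : Set (IrrCharacter (Subgroup.centralizer (P : Set G)))}
    (h : SubpairLE p M Q f P e) : Q ≤ P := by
  have key : ∀ a b : BrauerPairIdx G,
      Relation.ReflTransGen (NormalSubpairRel p M) a b → a.1 ≤ b.1 := by
    intro a b hab
    induction hab with
    | refl => exact le_rfl
    | tail _ hbc ih => exact ih.trans hbc.2.2.1
  exact key _ _ h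

end Chain

section ConjBlock

variable {G : Type u} [Group G] {M : Ideal AlgInt}

/-- conjugation by `x`, from `C_G(Q)` to `C_G(x Q x⁻¹)` -/
def centralizerConj (Q : Subgroup G) (x : G) :
    Subgroup.centralizer (Q : Set G) ≃*
      Subgroup.centralizer ((Q.map (MulAut.conj x).toMonoidHom : Subgroup G) : Set G) where
  toFun c := ⟨x * (c : G) * x⁻¹, by
    rw [Subgroup.mem_centralizer_iff]
    rintro w ⟨q, hq, rfl⟩
    have hc := (Subgroup.mem_centralizer_iff.mp c.2) q hq
    show x * q * x⁻¹ * (x * (c : G) * x⁻¹) = x * (c : G) * x⁻¹ * (x * q * x⁻¹)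
    calc x * q * x⁻¹ * (x * (c : G) * x⁻¹) = x * (q * (c : G)) * x⁻¹ := by group
      _ = x * ((c : G) * q) * x⁻¹ := by rw [hc]
      _ = x * (c : G) * x⁻¹ * (x * q * x⁻¹) := by group⟩
  invFun c := ⟨x⁻¹ * (c : G) * x, by
    rw [Subgroup.mem_centralizer_iff]
    intro q hq
    have hq' : x * q * x⁻¹ ∈ ((Q.map (MulAut.conj x).toMonoidHom : Subgroup G) : Set G) :=
      ⟨q, hq, rfl⟩
    have hc := (Subgroup.mem_centralizer_iff.mp c.2) _ hq'
    calc q * (x⁻¹ * (c : G) * x) = x⁻¹ * ((x * q * x⁻¹) * (c : G)) * x := by group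
      _ = x⁻¹ * ((c : G) * (x * q * x⁻¹)) * x := by rw [hc]
      _ = x⁻¹ * (c : G) * x * q := by group⟩
  left_inv c := by
    apply Subtype.ext
    show x⁻¹ * (x * (c : G) * x⁻¹) * x = c
    group
  right_inv c := by
    apply Subtype.ext
    show x * (x⁻¹ * (c : G) * x) * x⁻¹ = c
    group
  map_mul' a b := by
    apply Subtype.ext
    show x * ((a : G) * (b : G)) * x⁻¹ = (x * (a : G) * x⁻¹) * (x * (b : G) * x⁻¹)
    group

theorem centralizerConj_coe (Q : Subgroup G) (x : G) (c : Subgroup.centralizer (Q : Set G)) :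
    ((centralizerConj Q x c : Subgroup.centralizer
      ((Q.map (MulAut.conj x).toMonoidHom : Subgroup G) : Set G)) : G) = x * (c : G) * x⁻¹ := rfl

/-- the conjugate of the principal block of `C_G(Q)` is the principal block of
`C_G(x Q x⁻¹)` -/
theorem conjBlock_principal (Q : Subgroup G) (x : G) :
    conjBlock Q x (principalBlock M (Subgroup.centralizer (Q : Set G))) =
      principalBlock M (Subgroup.centralizer
        ((Q.map (MulAut.conj x).toMonoidHom : Subgroup G) : Set G)) := by
  ext ξ'
  constructor
  · rintro ⟨ξ, hξ, h⟩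
    have h1 := comp_mem_principalBlock (centralizerConj Q x).symm hξ
    have h2 : ξ' = ⟨(ξ : Subgroup.centralizer (Q : Set G) → ℂ) ∘ (centralizerConj Q x).symm,
        Cfsg.Agent.Helper5.isIrrCharacter_comp_equiv (centralizerConj Q x).symm ξ.2⟩ := by
      apply Subtype.ext
      funext c'
      show (ξ' : _ → ℂ) c' = (ξ : _ → ℂ) ((centralizerConj Q x).symm c')
      apply h
      have := centralizerConj_coe Q x ((centralizerConj Q x).symm c')
      rw [MulEquiv.apply_symm_apply] at this
      exact this
    rw [h2]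
    exact h1
  · intro hξ'
    refine ⟨⟨(ξ' : _ → ℂ) ∘ centralizerConj Q x,
      Cfsg.Agent.Helper5.isIrrCharacter_comp_equiv (centralizerConj Q x) ξ'.2⟩,
      comp_mem_principalBlock (centralizerConj Q x) hξ', ?_⟩
    intro c c' hcc
    show (ξ' : _ → ℂ) c' = (ξ' : _ → ℂ) (centralizerConj Q x c)
    have hc : c' = centralizerConj Q x c := by
      apply Subtype.ext
      rw [hcc, centralizerConj_coe]
    rw [hc]

end ConjBlock

end Cfsg.Agent.Helper18
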