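import Mathlib
import Cfsg.Prelude.Def_Blocks
import Cfsg.Agent.Lib.Helper18.AlperinDade2
import Cfsg.Agent.Lib.Helper18.PrincipalPairs

/-!
# Relative forms and the chain argument for `q`-group quotients (helper18's library)
-/

set_option autoImplicit false
set_option linter.style.haveILetI false

namespace Cfsg.Agent.Helper18.AlperinDade

open Cfsg Cfsg.Agent.Helper24 Cfsg.Agent.Helper23.Blk Cfsg.Agent.Helper5
open scoped ComplexConjugate

universe u

section Relative

variable {G : Type u} [Group G] [Finite G] {M : Ideal AlgInt} {p : ℕ} [hp : Fact p.Prime]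
variable (N : Subgroup G) [hNn : N.Normal]

omit [Finite G] hp in
/-- the covering hypothesis passes to intermediate subgroups -/
theorem cov_rel (Q : Sylow p G) (hQN : (Q : Subgroup G) ≤ N)
    (hcov : N ⊔ Subgroup.centralizer ((Q : Subgroup G) : Set G) = ⊤)
    (J : Subgroup G) (hNJ : N ≤ J) :
    N.subgroupOf J ⊔ Subgroup.centralizer
      (((Q.subtype (hQN.trans hNJ) : Sylow p J) : Subgroup J) : Set J) = ⊤ := by
  rw [eq_top_iff]
  intro x _
  have hx : (x : G) ∈ N ⊔ Subgroup.centralizer ((Q : Subgroup G) : Set G) := by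
    rw [hcov]; trivial
  rw [← SetLike.mem_coe, Subgroup.normal_mul] at hx
  obtain ⟨n, hn, c, hc, hnc⟩ := Set.mem_mul.mp hx
  have hcJ : c ∈ J := by
    have : c = n⁻¹ * (x : G) := by rw [← hnc]; group
    rw [this]
    exact J.mul_mem (J.inv_mem (hNJ hn)) x.2
  have hx2 : x = (⟨n, hNJ hn⟩ : J) * (⟨c, hcJ⟩ : J) := Subtype.ext hnc.symm
  rw [hx2]
  apply Subgroup.mul_mem_sup
  · rw [Subgroup.mem_subgroupOf]
    exact hn
  · rw [Subgroup.mem_centralizer_iff]
    intro h hh
    rw [SetLike.mem_coe, Sylow.coe_subtype, Subgroup.mem_subgroupOf] at hh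
    apply Subtype.ext
    exact Subgroup.mem_centralizer_iff.mp hc (h : G) hh

/-- **Relativization**: an extension statement for the pair `(J, N ∩ J)` read as a statement about
characters of `N` and `J`. -/
theorem relativize (J : Subgroup G) (hNJ : N ≤ J)
    (T : ∀ θ' : IrrCharacter (N.subgroupOf J), θ' ∈ principalBlock M (N.subgroupOf J) →
      ∃ ξ : IrrCharacter J, ξ ∈ principalBlock M J ∧
        ∀ x : N.subgroupOf J, (ξ : J → ℂ) x = (θ' : N.subgroupOf J → ℂ) x)
    (θ : IrrCharacter N) (hθ : θ ∈ principalBlock M N) :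
    ∃ ξ : IrrCharacter J, ξ ∈ principalBlock M J ∧
      ∀ n : N, (ξ : J → ℂ) ⟨n, hNJ n.2⟩ = (θ : N → ℂ) n := by
  set e : N.subgroupOf J ≃* N := Subgroup.subgroupOfEquivOfLe hNJ with he
  obtain ⟨ξ, hξ, hξθ⟩ := T ⟨(θ : N → ℂ) ∘ e, isIrrCharacter_comp_equiv e θ.2⟩
    (comp_mem_principalBlock e hθ)
  refine ⟨ξ, hξ, ?_⟩
  intro n
  have := hξθ ⟨⟨n, hNJ n.2⟩, by rw [Subgroup.mem_subgroupOf]; exact n.2⟩
  rw [this]
  show (θ : N → ℂ) (e _) = _
  congr 1

/-- the cyclic step in relative form -/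
theorem exists_ext_cyclic_rel (hM : IsPModular p M) (Q : Sylow p G)
    (hQN : (Q : Subgroup G) ≤ N)
    (hcov : N ⊔ Subgroup.centralizer ((Q : Subgroup G) : Set G) = ⊤)
    (J : Subgroup G) (hNJ : N ≤ J) (hcyc : IsCyclic (J ⧸ N.subgroupOf J))
    (θ : IrrCharacter N) (hθ : θ ∈ principalBlock M N) :
    ∃ ξ : IrrCharacter J, ξ ∈ principalBlock M J ∧
      ∀ n : N, (ξ : J → ℂ) ⟨n, hNJ n.2⟩ = (θ : N → ℂ) n := by
  apply relativize N J hNJ _ θ hθ
  intro θ' hθ'
  have hQ' : ((Q.subtype (hQN.trans hNJ) : Sylow p J) : Subgroup J) ≤ N.subgroupOf J := by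
    rw [Sylow.coe_subtype]
    exact Subgroup.subgroupOf_mono J hQN
  exact exists_ext_cyclic (N.subgroupOf J) hM (Q.subtype (hQN.trans hNJ)) hQ'
    (cov_rel N Q hQN hcov J hNJ) hcyc θ' hθ'

end Relative

section Chain

variable {G : Type u} [Group G] [Finite G] {M : Ideal AlgInt} {p : ℕ} [hp : Fact p.Prime]

/-- **Chain argument**: extension in the principal block when `G / N` is a `q`-group. -/
theorem exists_ext_qgroup (hM : IsPModular p M) (Q : Sylow p G) (q : ℕ) [hq : Fact q.Prime]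
    (k : ℕ) : ∀ (N : Subgroup G) [N.Normal], (Q : Subgroup G) ≤ N →
      N ⊔ Subgroup.centralizer ((Q : Subgroup G) : Set G) = ⊤ → N.index = q ^ k →
      ∀ θ : IrrCharacter N, θ ∈ principalBlock M N →
        ∃ χ : IrrCharacter G, χ ∈ principalBlock M G ∧
          ∀ x : N, (χ : G → ℂ) x = (θ : N → ℂ) x := by
  induction k with
  | zero =>
    intro N hNn hQN hcov hidx θ hθ
    rw [pow_zero] at hidx
    have hcard : Nat.card (G ⧸ N) = 1 := by rw [← Subgroup.index_eq_card]; exact hidx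
    haveI : Subsingleton (G ⧸ N) := (Nat.card_eq_one_iff_unique.1 hcard).1
    exact exists_ext_cyclic N hM Q hQN hcov isCyclic_of_subsingleton θ hθ
  | succ k ih =>
    intro N hNn hQN hcov hidx θ hθ
    have hcard : Nat.card (G ⧸ N) = q ^ (k + 1) := by rw [← Subgroup.index_eq_card]; exact hidx
    have hpg : IsPGroup q (G ⧸ N) := IsPGroup.of_card hcard
    haveI : Nontrivial (G ⧸ N) := by
      rw [← Finite.one_lt_card_iff_nontrivial, hcard]
      exact Nat.one_lt_pow (Nat.succ_ne_zero k) hq.out.one_lt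
    haveI hcn : Nontrivial (Subgroup.center (G ⧸ N)) := hpg.center_nontrivial
    have hqc : q ∣ Nat.card (Subgroup.center (G ⧸ N)) := by
      obtain ⟨j, hj⟩ := (hpg.to_subgroup (Subgroup.center (G ⧸ N))).exists_card_eq
      rw [hj]
      have hj0 : j ≠ 0 := by
        intro h0
        rw [h0, pow_zero] at hj
        have := Finite.one_lt_card_iff_nontrivial.2 hcn
        omega
      exact dvd_pow_self q hj0
    obtain ⟨z, hz⟩ := exists_prime_orderOf_dvd_card' q hqc
    set zc : G ⧸ N := (z : G ⧸ N) with hzc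
    have hzcord : orderOf zc = q := by rw [hzc, Subgroup.orderOf_coe]; exact hz
    set Z : Subgroup (G ⧸ N) := Subgroup.zpowers zc with hZ
    have hZc : Z ≤ Subgroup.center (G ⧸ N) := Subgroup.zpowers_le.2 z.2
    haveI hZn : Z.Normal := by
      constructor
      intro a ha g
      have h1 := hZc ha
      rw [Subgroup.mem_center_iff] at h1
      rw [h1 g, mul_inv_cancel_right]
      exact ha
    set N₁ : Subgroup G := Z.comap (QuotientGroup.mk' N) with hN₁
    haveI hN₁n : N₁.Normal := hZn.comap _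
    have hNN₁ : N ≤ N₁ := by
      intro n hn
      rw [hN₁, Subgroup.mem_comap]
      have : QuotientGroup.mk' N n = 1 := by
        rw [QuotientGroup.mk'_apply, QuotientGroup.eq_one_iff]
        exact hn
      rw [this]
      exact Z.one_mem
    have hcardZ : Nat.card Z = q := by rw [hZ, Nat.card_zpowers, hzcord]
    have hidx₁ : N₁.index = q ^ k := by
      rw [hN₁, Subgroup.index_comap_of_surjective _ (QuotientGroup.mk'_surjective N)]
      have h1 := Subgroup.card_mul_index Z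
      rw [hcardZ, hcard, pow_succ, mul_comm] at h1
      exact Nat.eq_of_mul_eq_mul_right hq.out.pos h1
    -- the quotient `N₁ / N` is cyclic
    obtain ⟨g₀, hg₀⟩ := QuotientGroup.mk_surjective zc
    have hg₀N₁ : g₀ ∈ N₁ := by
      rw [hN₁, Subgroup.mem_comap, QuotientGroup.mk'_apply, hg₀]
      exact Subgroup.mem_zpowers zc
    have hcyc : IsCyclic (N₁ ⧸ N.subgroupOf N₁) := by
      refine ⟨⟨QuotientGroup.mk (⟨g₀, hg₀N₁⟩ : N₁), ?_⟩⟩
      intro x'
      obtain ⟨x, rfl⟩ := QuotientGroup.mk_surjective x'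
      have hx : QuotientGroup.mk' N (x : G) ∈ Z := x.2
      rw [hZ, Subgroup.mem_zpowers_iff] at hx
      obtain ⟨i, hi⟩ := hx
      refine ⟨i, ?_⟩
      show (QuotientGroup.mk (⟨g₀, hg₀N₁⟩ : N₁) : N₁ ⧸ N.subgroupOf N₁) ^ i = QuotientGroup.mk x
      rw [← QuotientGroup.mk_zpow, QuotientGroup.eq, Subgroup.mem_subgroupOf]
      have h2 : (((⟨g₀, hg₀N₁⟩ : N₁) ^ i)⁻¹ * x : N₁) = (g₀ ^ i)⁻¹ * (x : G) := by
        push_cast
        rfl
      rw [h2, ← QuotientGroup.eq, QuotientGroup.mk_zpow, hg₀, hi]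
      rfl
    obtain ⟨ξ, hξ, hξθ⟩ := exists_ext_cyclic_rel N hM Q hQN hcov N₁ hNN₁ hcyc θ hθ
    have hcov₁ : N₁ ⊔ Subgroup.centralizer ((Q : Subgroup G) : Set G) = ⊤ := by
      rw [eq_top_iff, ← hcov]
      exact sup_le_sup_right hNN₁ _
    obtain ⟨χ, hχ, hχξ⟩ := ih N₁ (hQN.trans hNN₁) hcov₁ hidx₁ ξ hξ
    refine ⟨χ, hχ, ?_⟩
    intro x
    rw [← hξθ x]
    exact hχξ ⟨x, hNN₁ x.2⟩

/-- relative form of the chain argument -/
theorem exists_ext_qgroup_rel (hM : IsPModular p M) (N : Subgroup G) [hNn : N.Normal]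
    (Q : Sylow p G) (hQN : (Q : Subgroup G) ≤ N)
    (hcov : N ⊔ Subgroup.centralizer ((Q : Subgroup G) : Set G) = ⊤)
    (J : Subgroup G) (hNJ : N ≤ J) (q : ℕ) [hq : Fact q.Prime] (k : ℕ)
    (hidx : (N.subgroupOf J).index = q ^ k)
    (θ : IrrCharacter N) (hθ : θ ∈ principalBlock M N) :
    ∃ ξ : IrrCharacter J, ξ ∈ principalBlock M J ∧
      ∀ n : N, (ξ : J → ℂ) ⟨n, hNJ n.2⟩ = (θ : N → ℂ) n := by
  apply relativize N J hNJ _ θ hθ
  intro θ' hθ'
  have hQ' : ((Q.subtype (hQN.trans hNJ) : Sylow p J) : Subgroup J) ≤ N.subgroupOf J := by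
    rw [Sylow.coe_subtype]
    exact Subgroup.subgroupOf_mono J hQN
  exact exists_ext_qgroup hM (Q.subtype (hQN.trans hNJ)) q k (N.subgroupOf J) hQ'
    (cov_rel N Q hQN hcov J hNJ) hidx θ' hθ'

end Chain

end Cfsg.Agent.Helper18.AlperinDade
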