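import Mathlib
import Cfsg.Prelude.Def_Blocks
import Cfsg.Agent.Lib.Helper18.AlperinDade3
import Cfsg.Agent.Lib.Helper5.ExtendSylow
import Cfsg.Agent.Lib.Helper5.ExtUnique

/-!
# Extension in the principal block, general case (helper18's library)
-/

set_option autoImplicit false
set_option linter.style.haveILetI false

namespace Cfsg.Agent.Helper18.AlperinDade

open Cfsg Cfsg.Agent.Helper24 Cfsg.Agent.Helper23.Blk Cfsg.Agent.Helper5
open scoped ComplexConjugate

universe u

section General

variable {G : Type u} [Group G] [Finite G] {M : Ideal AlgInt} {p : ℕ} [hp : Fact p.Prime]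

/-- a representation of `J` with prescribed restriction to `N`, from a character extension -/
theorem exists_rep_of_char_ext (N J : Subgroup G) (hNJ : N ≤ J) {k : ℕ}
    (ρ : Representation ℂ N (Fin k → ℂ)) (hρ : ρ.IsIrreducible) {ξ : J → ℂ}
    (hξ : IsIrrCharacter J ξ) (hres : ∀ n : N, ξ ⟨n, hNJ n.2⟩ = ρ.character n) :
    ∃ R : Representation ℂ J (Fin k → ℂ), ∀ n : N, R ⟨n, hNJ n.2⟩ = ρ n := by
  classical
  letI : Fintype N := Fintype.ofFinite N
  obtain ⟨d', R', hR', hR'ξ⟩ := hξ
  let ρ' : Representation ℂ N (Fin d' → ℂ) := R'.comp (Subgroup.inclusion hNJ)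
  have hρ'char : ρ'.character = ρ.character := by
    funext n
    rw [← hres n, ← hR'ξ]
    rfl
  have hρ' : ρ'.IsIrreducible :=
    isIrreducible_of_isIrrCharacter ρ' (by rw [hρ'char]; exact isIrrCharacter_of_rep ρ hρ)
  obtain ⟨φ⟩ := nonempty_equiv_of_char_eq ρ ρ' hρ hρ' hρ'char.symm
  refine ⟨transportRep R' φ.toLinearEquiv.symm, ?_⟩
  intro n
  apply LinearMap.ext
  intro v
  rw [transportRep_apply, LinearEquiv.symm_symm]
  have h := φ.toIntertwiningMap.isIntertwining' n
  have h2 := congrArg (fun f => f v) h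
  simp only [LinearMap.comp_apply] at h2
  rw [LinearEquiv.symm_apply_eq]
  exact h2.symm

/-- **Extension**: every irreducible character in the principal block of `N` extends to an
irreducible character in the principal block of `G` when `G = N C_G(Q)` for a Sylow `p`-subgroup
`Q` of `G` inside `N`. -/
theorem exists_ext (hM : IsPModular p M) (N : Subgroup G) [hNn : N.Normal]
    (Q : Sylow p G) (hQN : (Q : Subgroup G) ≤ N)
    (hcov : N ⊔ Subgroup.centralizer ((Q : Subgroup G) : Set G) = ⊤)
    (θ : IrrCharacter N) (hθ : θ ∈ principalBlock M N) :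
    ∃ χ : IrrCharacter G, χ ∈ principalBlock M G ∧
      ∀ x : N, (χ : G → ℂ) x = (θ : N → ℂ) x := by
  classical
  obtain ⟨k, ρ, hρ, hρθ⟩ := θ.2
  have hinv : ∀ (g : G) (n : N), ρ.character (MulAut.conjNormal g n) = ρ.character n := by
    rw [hρθ]
    exact invariant_of_cov N hM Q hQN hcov θ.2 hθ
  apply exists_ext_of_rep N hM Q hQN hcov θ hθ ρ hρ hρθ
  apply exists_extension_of_sylow N ρ hρ hinv
  intro q hq
  haveI : Fact q.Prime := ⟨hq⟩
  obtain ⟨S⟩ : Nonempty (Sylow q (G ⧸ N)) := inferInstance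
  set J : Subgroup G := (S : Subgroup (G ⧸ N)).comap (QuotientGroup.mk' N) with hJ
  have hNJ : N ≤ J := by
    intro n hn
    rw [hJ, Subgroup.mem_comap]
    have : QuotientGroup.mk' N n = 1 := by
      rw [QuotientGroup.mk'_apply, QuotientGroup.eq_one_iff]
      exact hn
    rw [this]
    exact Subgroup.one_mem _
  have hJidx : J.index = (S : Subgroup (G ⧸ N)).index := by
    rw [hJ, Subgroup.index_comap_of_surjective _ (QuotientGroup.mk'_surjective N)]
  have hcop : Nat.Coprime J.index q := by
    rw [hJidx]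
    exact ((Nat.Prime.coprime_iff_not_dvd hq).2 (Sylow.not_dvd_index S)).symm
  have hrel : (N.subgroupOf J).index = q ^ (Nat.card (G ⧸ N)).factorization q := by
    have h1 : N.relIndex J * J.index = N.index := Subgroup.relIndex_mul_index hNJ
    have h2 := Subgroup.card_mul_index (S : Subgroup (G ⧸ N))
    rw [← Subgroup.index_eq_card, ← hJidx] at h2
    have h3 : N.relIndex J * J.index = Nat.card (S : Subgroup (G ⧸ N)) * J.index := by
      rw [h1, h2]
    have hJ0 : J.index ≠ 0 := Subgroup.index_ne_zero_of_finite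
    have h4 := Nat.eq_of_mul_eq_mul_right (Nat.pos_of_ne_zero hJ0) h3
    rw [← Sylow.card_eq_multiplicity S]
    exact h4
  obtain ⟨ξ, hξ, hξθ⟩ := exists_ext_qgroup_rel hM N Q hQN hcov J hNJ q _ hrel θ hθ
  obtain ⟨R, hR⟩ := exists_rep_of_char_ext N J hNJ ρ hρ ξ.2 (by intro n; rw [hξθ, hρθ])
  exact ⟨J, hNJ, R, hcop, hR⟩

end General

end Cfsg.Agent.Helper18.AlperinDade
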