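import Mathlib
import Cfsg.Prelude.Def_Blocks
import Cfsg.Agent.Lib.Helper18.AlperinDade4
import Cfsg.Agent.Lib.Helper18.LiftLinear
import Cfsg.Agent.Lib.Helper23.BlockDefect

/-!
# Uniqueness of the extension in the principal block (helper18's library)
-/

set_option autoImplicit false
set_option linter.style.haveILetI false

namespace Cfsg.Agent.Helper18.AlperinDade

open Cfsg Cfsg.Agent.Helper24 Cfsg.Agent.Helper23.Blk Cfsg.Agent.Helper5
open Cfsg.Agent.Helper18.ExtPrincipal Cfsg.Agent.Helper18.LiftLinear
open scoped ComplexConjugate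

universe u

section Unique

variable {G : Type u} [Group G] [Finite G] {M : Ideal AlgInt} {p : ℕ} [hp : Fact p.Prime]

omit hp in
/-- class sizes of elements centralizing a Sylow subgroup are prime to `p` -/
theorem not_dvd_index_centralizer [Fact p.Prime] (Q : Sylow p G) {y : G}
    (hy : y ∈ Subgroup.centralizer ((Q : Subgroup G) : Set G)) :
    ¬ p ∣ (Subgroup.centralizer ({y} : Set G)).index := by
  have hle : (Q : Subgroup G) ≤ Subgroup.centralizer ({y} : Set G) := by
    intro q hq
    rw [Subgroup.mem_centralizer_iff]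
    intro h hh
    rw [Set.mem_singleton_iff] at hh
    rw [hh]
    exact (Subgroup.mem_centralizer_iff.mp hy q hq).symm
  intro hdvd
  exact Sylow.not_dvd_index Q (dvd_trans hdvd (Subgroup.index_dvd_of_le hle))

/-- the cancellation step: `idx - t * c ≡ 0`, `idx - c ≡ 0`, `idx` a unit, give `1 - t ≡ 0` -/
theorem cong_one_of_cong [hMp : M.IsPrime] {idx t c : ℂ} (hidxR : MemLocalRing M idx)
    (hidx : ¬ MemLocalIdeal M idx) (htR : MemLocalRing M t) (hcR : MemLocalRing M c)
    (h1 : MemLocalIdeal M (idx - c)) (h2 : MemLocalIdeal M (idx - t * c)) :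
    MemLocalIdeal M (1 - t) := by
  have h3 : MemLocalIdeal M (t * (idx - c)) := memLocalIdeal_mul_left htR h1
  have h4 : MemLocalIdeal M ((idx - t * c) - t * (idx - c)) := memLocalIdeal_sub h2 h3
  have h5 : (idx - t * c) - t * (idx - c) = idx * (1 - t) := by ring
  rw [h5] at h4
  rcases memLocalIdeal_or_of_mul hidxR (memLocalRing_sub (memLocalRing_one ne_top) htR) h4
    with h | h
  · exact absurd h hidx
  · exact h

/-- **Uniqueness**: two characters of the principal block of `G` with the same irreducible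
restriction to `N` are equal. -/
theorem ext_unique (hM : IsPModular p M) (N : Subgroup G) [hNn : N.Normal]
    (Q : Sylow p G) (hcov : N ⊔ Subgroup.centralizer ((Q : Subgroup G) : Set G) = ⊤)
    (hidx : ¬ p ∣ N.index) {χ₁ χ₂ : IrrCharacter G} (h₁ : χ₁ ∈ principalBlock M G)
    (h₂ : χ₂ ∈ principalBlock M G)
    (hirr : IsIrrCharacter N (fun n : N => (χ₁ : G → ℂ) n))
    (hres : ∀ n : N, (χ₂ : G → ℂ) n = (χ₁ : G → ℂ) n) : χ₁ = χ₂ := by
  classical
  letI : Fintype G := Fintype.ofFinite G
  letI := irrFintype (G := G)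
  haveI hMax : M.IsMaximal := hM.2.1
  haveI hMp : M.IsPrime := hMax.isPrime
  obtain ⟨β, hβN, hβ⟩ := exists_hom_of_extensions_char N χ₁.2 χ₂.2 hirr hres
  have hNpos : 0 < N.index := Nat.pos_of_ne_zero Subgroup.index_ne_zero_of_finite
  have hβpow : ∀ g : G, ((β g : ℂˣ) : ℂ) ^ N.index = 1 := by
    intro g
    have h1 : g ^ N.index ∈ N := Subgroup.pow_index_mem N g
    have h2 := hβN ⟨g ^ N.index, h1⟩
    rw [map_pow] at h2
    have := congrArg (fun u : ℂˣ => (u : ℂ)) h2
    simpa using this
  have hβC : ∀ y ∈ Subgroup.centralizer ((Q : Subgroup G) : Set G), β y = 1 := by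
    intro y hy
    have hndvd := not_dvd_index_centralizer Q hy
    set idx : ℂ := ((Subgroup.centralizer ({y} : Set G)).index : ℂ) with hidxdef
    have hidxR : MemLocalRing M idx := memLocalRing_natCast _
    have hidxI : ¬ MemLocalIdeal M idx := by
      rw [hidxdef, memLocalIdeal_natCast_iff hM]
      exact hndvd
    have htR : MemLocalRing M ((β y : ℂˣ) : ℂ) := memLocalRing_of_pow_eq_one hNpos (hβpow y)
    have hcR : MemLocalRing M (centralChar (χ₁ : G → ℂ) y) := memLocalRing_centralChar χ₁ y
    have e1 : centralChar (fun _ : G => (1 : ℂ)) y = idx := by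
      unfold centralChar
      simp [hidxdef]
    have c1 : MemLocalIdeal M (idx - centralChar (χ₁ : G → ℂ) y) := by
      have := h₁ y
      rw [e1] at this
      exact this
    have e2 : centralChar (χ₂ : G → ℂ) y = ((β y : ℂˣ) : ℂ) * centralChar (χ₁ : G → ℂ) y := by
      unfold centralChar
      rw [hβ]
      simp only
      rw [map_one, Units.val_one, one_mul]
      ring
    have c2 : MemLocalIdeal M (idx - ((β y : ℂˣ) : ℂ) * centralChar (χ₁ : G → ℂ) y) := by
      have := h₂ y
      rw [e1, e2] at this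
      exact this
    have h5 := cong_one_of_cong hidxR hidxI htR hcR c1 c2
    have h6 : red M ((β y : ℂˣ) : ℂ) = 1 := by
      have := red_eq_of_cong (memLocalRing_one ne_top) htR h5
      rw [red_one] at this
      exact this.symm
    have h7 := eq_one_of_red_eq_one hM hNpos hidx (hβpow y) h6
    exact Units.ext h7
  have hβall : ∀ g : G, β g = 1 := by
    intro g
    have hg : g ∈ N ⊔ Subgroup.centralizer ((Q : Subgroup G) : Set G) := by
      rw [hcov]; trivial
    rw [← SetLike.mem_coe, Subgroup.normal_mul] at hg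
    obtain ⟨n, hn, c, hc, rfl⟩ := Set.mem_mul.mp hg
    rw [map_mul, hβN ⟨n, hn⟩, hβC c hc, one_mul]
  apply Subtype.ext
  rw [hβ]
  funext g
  rw [hβall g, Units.val_one, one_mul]

end Unique

end Cfsg.Agent.Helper18.AlperinDade
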