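import Mathlib
import Cfsg.Prelude.Def_Blocks
import Cfsg.Agent.Lib.Helper18.AlperinDade5
import Cfsg.Agent.Lib.Helper18.BlockCover
import Cfsg.Agent.S0856

/-!
# Restriction from the principal block of `G` to that of `N` (helper18's library)
-/

set_option autoImplicit false
set_option linter.style.haveILetI false

namespace Cfsg.Agent.Helper18.AlperinDade

open Cfsg Cfsg.Agent.Helper24 Cfsg.Agent.Helper23.Blk Cfsg.Agent.Helper5
open Cfsg.Agent.Helper18.ExtPrincipal Cfsg.Agent.Helper18.LiftLinear
open scoped ComplexConjugate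

universe u

section Restrict

variable {G : Type u} [Group G] [Finite G] {M : Ideal AlgInt} {p : ℕ} [hp : Fact p.Prime]

/-- constituents of the restrictions of the characters of the principal block of `G` lie in the
principal block of the normal subgroup `N` -/
theorem constituent_mem_principalBlock (hM : IsPModular p M) (N : Subgroup G) [hNn : N.Normal]
    [Fintype N]
    {χ : IrrCharacter G} (hχ : χ ∈ principalBlock M G) {θ : N → ℂ} (hθ : IsIrrCharacter N θ)
    (hcon : classInner (fun n : N => (χ : G → ℂ) n) θ ≠ 0) :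
    SameBlock M (fun _ : N => (1 : ℂ)) θ := by
  classical
  letI : Fintype G := Fintype.ofFinite G
  haveI hMp : M.IsPrime := hM.2.1.isPrime
  have hone : classInner (fun n : N => ((principalChar G : IrrCharacter G) : G → ℂ) n)
      ((principalChar N : IrrCharacter N) : N → ℂ) ≠ 0 := by
    show classInner (fun _ : N => (1 : ℂ)) (fun _ : N => (1 : ℂ)) ≠ 0
    rw [irr_orthogonality (isIrrCharacter_one (G := N)) isIrrCharacter_one, if_pos rfl]
    exact one_ne_zero
  have hmem := cover_orbit N hMp (isPBlock_principalBlock (M := M) (G := N))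
    (χ := principalChar G) (χ' := χ) hχ (θ := principalChar N)
    principalChar_mem_principalBlock hone (ψ := ⟨θ, hθ⟩) hcon
  obtain ⟨g, θ'', hθ'', heq⟩ := hmem
  have h1 := sameBlock_conjFun (M := M) N g hθ''
  have h2 : (θ : N → ℂ) = Cfsg.Agent.Helper5.conjFun N g (θ'' : N → ℂ) := by
    have := congrArg (fun ψ : IrrCharacter N => (ψ : N → ℂ)) heq
    exact this
  rw [h2]
  exact h1

/-- **Restriction**: every character of the principal block of `G` restricts to an irreducible
character of the principal block of `N`. -/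
theorem restrict_principal (hM : IsPModular p M) (N : Subgroup G) [hNn : N.Normal]
    (Q : Sylow p G) (hQN : (Q : Subgroup G) ≤ N)
    (hcov : N ⊔ Subgroup.centralizer ((Q : Subgroup G) : Set G) = ⊤)
    (hidx : ¬ p ∣ N.index) {χ : IrrCharacter G} (hχ : χ ∈ principalBlock M G) :
    ∃ θ : IrrCharacter N, θ ∈ principalBlock M N ∧
      ∀ n : N, (χ : G → ℂ) n = (θ : N → ℂ) n := by
  classical
  letI : Fintype G := Fintype.ofFinite G
  letI : Fintype N := Fintype.ofFinite N
  letI := irrFintype (G := G)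
  haveI hMax : M.IsMaximal := hM.2.1
  haveI hMp : M.IsPrime := hMax.isPrime
  -- a constituent
  have hχN : IsCharacter N (fun n : N => (χ : G → ℂ) n) :=
    isCharacter_restrict N (isCharacter_of_isIrrCharacter χ.2)
  have h0 : (fun n : N => (χ : G → ℂ) n) ≠ 0 := by
    intro h
    have := congrFun h 1
    exact irr_one_ne_zero χ.2 this
  obtain ⟨θ₁, hθ₁, hcon⟩ := exists_constituent hχN h0
  have hθ₁B : SameBlock M (fun _ : N => (1 : ℂ)) θ₁ :=
    constituent_mem_principalBlock hM N hχ hθ₁ hcon
  -- the extension in the principal block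
  obtain ⟨χ₀, hχ₀, hχ₀θ⟩ := exists_ext hM N Q hQN hcov ⟨θ₁, hθ₁⟩ hθ₁B
  -- Gallagher
  have hinv := invariant_of_cov N hM Q hQN hcov hθ₁ hθ₁B
  have hprodeq : ((fun _ : N => (1 : ℂ)) * θ₁) = θ₁ := by
    funext n
    show (1 : ℂ) * θ₁ n = θ₁ n
    rw [one_mul]
  have hbij := Cfsg.Agent.S0856.result N (fun _ : N => (1 : ℂ)) θ₁ isIrrCharacter_one hθ₁
    (fun g n => rfl) (fun g n => hinv g n) (by rw [hprodeq]; exact hθ₁) (χ₀ : G → ℂ) χ₀.2 hχ₀θ
  have hχmem : (χ : G → ℂ) ∈ {ψ : G → ℂ | IsIrrCharacter G ψ ∧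
      classInner (indFun N ((fun _ : N => (1 : ℂ)) * θ₁)) ψ ≠ 0} := by
    refine ⟨χ.2, ?_⟩
    rw [hprodeq, frobenius_reciprocity N θ₁ (isClassFunction_of_isIrrCharacter χ.2),
      ← classInner_conj_symm]
    intro h
    apply hcon
    have := congrArg conj h
    simpa using this
  obtain ⟨β, ⟨hβirr, hβind⟩, hβχ⟩ := hbij.surjOn hχmem
  have hβχ' : ∀ g : G, (χ : G → ℂ) g = β g * (χ₀ : G → ℂ) g := by
    intro g
    have := congrFun hβχ g
    exact this.symm
  -- `β` is trivial
  have hβN : ∀ n ∈ N, β n = β 1 := ntrivial_of_constituent_ind_one N hβirr hβind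
  obtain ⟨β', hβ'irr, hββ'⟩ := exists_deflate N hβirr hβN
  set d := charDegree β' with hd
  have hβ'1 : β' 1 = (d : ℂ) := irr_one_eq_charDegree hβ'irr
  have hβ1 : β 1 = (d : ℂ) := by
    rw [hββ', Function.comp_apply, QuotientGroup.mk_one, hβ'1]
  have hdpos : 0 < d := charDegree_pos hβ'irr
  have hddvd : d ∣ N.index := by
    rw [Subgroup.index_eq_card]
    exact charDegree_dvd_card hβ'irr
  have hdp : ¬ p ∣ d := fun h => hidx (dvd_trans h hddvd)
  have hdR : MemLocalRing M (d : ℂ) := memLocalRing_natCast _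
  have hdI : ¬ MemLocalIdeal M (d : ℂ) := by
    rw [memLocalIdeal_natCast_iff hM]
    exact hdp
  have hcong : ∀ q : G ⧸ N, MemLocalIdeal M (β' 1 - β' q) := by
    intro q
    obtain ⟨g, rfl⟩ := QuotientGroup.mk_surjective q
    have hg : g ∈ N ⊔ Subgroup.centralizer ((Q : Subgroup G) : Set G) := by
      rw [hcov]; trivial
    rw [← SetLike.mem_coe, Subgroup.normal_mul] at hg
    obtain ⟨n, hn, y, hy, rfl⟩ := Set.mem_mul.mp hg
    have hmk : (QuotientGroup.mk (n * y) : G ⧸ N) = QuotientGroup.mk y := by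
      rw [QuotientGroup.mk_mul, (QuotientGroup.eq_one_iff n).2 hn, one_mul]
    rw [hmk]
    have hβy : β' (QuotientGroup.mk y) = β y := by
      rw [hββ']; rfl
    rw [hβy, hβ'1]
    have hndvd := not_dvd_index_centralizer Q hy
    set idx : ℂ := ((Subgroup.centralizer ({y} : Set G)).index : ℂ) with hidxdef
    have hidxR : MemLocalRing M idx := memLocalRing_natCast _
    have hidxI : ¬ MemLocalIdeal M idx := by
      rw [hidxdef, memLocalIdeal_natCast_iff hM]
      exact hndvd
    set t : ℂ := β y / (d : ℂ) with ht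
    have htR : MemLocalRing M t := by
      rw [ht, div_eq_mul_inv]
      apply memLocalRing_mul
      · exact memLocalRing_of_isIntegral
          (isIntegral_of_isCharacter (isCharacter_of_isIrrCharacter hβirr) y) ne_top
      · exact memLocalRing_inv hdR hdI
    have hcR : MemLocalRing M (centralChar (χ₀ : G → ℂ) y) := memLocalRing_centralChar χ₀ y
    have e1 : centralChar (fun _ : G => (1 : ℂ)) y = idx := by
      unfold centralChar
      simp [hidxdef]
    have c1 : MemLocalIdeal M (idx - centralChar (χ₀ : G → ℂ) y) := by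
      have := hχ₀ y
      rw [e1] at this
      exact this
    have hd0 : (d : ℂ) ≠ 0 := by exact_mod_cast hdpos.ne'
    have e2 : centralChar (χ : G → ℂ) y = t * centralChar (χ₀ : G → ℂ) y := by
      unfold centralChar
      rw [hβχ' y, hβχ' 1, hβ1, ht]
      have h1 : (χ₀ : G → ℂ) 1 ≠ 0 := irr_one_ne_zero χ₀.2
      field_simp
    have c2 : MemLocalIdeal M (idx - t * centralChar (χ₀ : G → ℂ) y) := by
      have := hχ y
      rw [e1, e2] at this
      exact this
    have h5 := cong_one_of_cong hidxR hidxI htR hcR c1 c2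
    have h6 := memLocalIdeal_mul_left hdR h5
    have h7 : (d : ℂ) * (1 - t) = (d : ℂ) - β y := by
      rw [ht]
      field_simp
    rw [h7] at h6
    exact h6
  have hβ'one : β' = fun _ => (1 : ℂ) := by
    by_contra hne
    letI : Fintype (G ⧸ N) := Fintype.ofFinite _
    have horth := irr_orthogonality hβ'irr (isIrrCharacter_one (G := G ⧸ N))
    rw [if_neg hne] at horth
    unfold classInner at horth
    have hcard0 : (Nat.card (G ⧸ N) : ℂ) ≠ 0 := by
      exact_mod_cast (Nat.card_pos (α := G ⧸ N)).ne'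
    have hsum0 : ∑ q : G ⧸ N, β' q = 0 := by
      have := (mul_eq_zero.1 horth).resolve_left (inv_ne_zero hcard0)
      simpa using this
    have hsum : MemLocalIdeal M (∑ q : G ⧸ N, (β' 1 - β' q)) :=
      memLocalIdeal_sum _ _ fun q _ => hcong q
    rw [Finset.sum_sub_distrib, hsum0, sub_zero, Finset.sum_const, Finset.card_univ,
      nsmul_eq_mul, hβ'1, ← Nat.card_eq_fintype_card, ← Subgroup.index_eq_card] at hsum
    have h8 : MemLocalIdeal M ((N.index * d : ℕ) : ℂ) := by
      push_cast
      exact hsum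
    rw [memLocalIdeal_natCast_iff hM] at h8
    rcases (Nat.Prime.dvd_mul hM.1).1 h8 with h | h
    · exact hidx h
    · exact hdp h
  have hβone : ∀ g : G, β g = 1 := by
    intro g
    rw [hββ', hβ'one]
    rfl
  refine ⟨⟨θ₁, hθ₁⟩, hθ₁B, ?_⟩
  intro n
  rw [hβχ' n, hβone, one_mul]
  exact hχ₀θ n

end Restrict

end Cfsg.Agent.Helper18.AlperinDade
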