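import Mathlib
import Cfsg.Prelude.Def_Blocks
import Cfsg.Agent.Lib.Helper18.AlperinDade6

/-!
# The Alperin--Dade restriction bijection for principal blocks (helper18's library)
-/

set_option autoImplicit false
set_option linter.style.haveILetI false

namespace Cfsg.Agent.Helper18.AlperinDade

open Cfsg Cfsg.Agent.Helper24 Cfsg.Agent.Helper23.Blk Cfsg.Agent.Helper5

universe u

variable {G : Type u} [Group G] [Finite G] {M : Ideal AlgInt} {p : ℕ} [hp : Fact p.Prime]

/-- a normal subgroup of index prime to `p` contains every `p`-subgroup -/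
theorem le_of_not_dvd_index (N : Subgroup G) [hNn : N.Normal] (hidx : ¬ p ∣ N.index)
    {P : Subgroup G} (hP : IsPGroup p P) : P ≤ N := by
  intro x hx
  obtain ⟨k, hk⟩ := hP ⟨x, hx⟩
  have hk' : x ^ p ^ k = 1 := by
    have := congrArg Subtype.val hk
    simpa using this
  have h1 : orderOf (QuotientGroup.mk x : G ⧸ N) ∣ p ^ k := by
    apply orderOf_dvd_of_pow_eq_one
    rw [← QuotientGroup.mk_pow, hk', QuotientGroup.mk_one]
  have h2 : orderOf (QuotientGroup.mk x : G ⧸ N) ∣ N.index := by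
    rw [Subgroup.index_eq_card]
    exact orderOf_dvd_natCard _
  have hcop : Nat.Coprime (p ^ k) N.index :=
    Nat.Coprime.pow_left k ((Nat.Prime.coprime_iff_not_dvd hp.out).2 hidx)
  have h3 : orderOf (QuotientGroup.mk x : G ⧸ N) = 1 :=
    Nat.eq_one_of_dvd_coprimes hcop h1 h2
  rw [orderOf_eq_one_iff, QuotientGroup.eq_one_iff] at h3
  exact h3

/-- **Alperin--Dade**: restriction is a bijection from the principal block of `G` onto the
principal block of `N` when `G / N` is a `p'`-group and `G = N C_G(P)`. -/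
theorem main (hM : IsPModular p M) (N : Subgroup G) [hNn : N.Normal] (hidx : ¬ p ∣ N.index)
    (P : Sylow p G)
    (hsup : N ⊔ Subgroup.centralizer ((P : Subgroup G) : Set G) = ⊤) :
    (∀ χ ∈ principalBlock M G, ∃ θ ∈ principalBlock M ↥N,
      ∀ n : N, (χ : G → ℂ) n = (θ : N → ℂ) n) ∧
    ∀ θ ∈ principalBlock M ↥N, ∃! χ : IrrCharacter G, χ ∈ principalBlock M G ∧
      ∀ n : N, (χ : G → ℂ) n = (θ : N → ℂ) n := by
  have hPN : (P : Subgroup G) ≤ N := le_of_not_dvd_index N hidx P.2
  constructor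
  · intro χ hχ
    obtain ⟨θ, hθ, hres⟩ := restrict_principal hM N P hPN hsup hidx hχ
    exact ⟨θ, hθ, hres⟩
  · intro θ hθ
    obtain ⟨χ, hχ, hres⟩ := exists_ext hM N P hPN hsup θ hθ
    refine ⟨χ, ⟨hχ, hres⟩, ?_⟩
    rintro χ' ⟨hχ', hres'⟩
    have hirr : IsIrrCharacter N (fun n : N => (χ : G → ℂ) n) := by
      have : (fun n : N => (χ : G → ℂ) n) = (θ : N → ℂ) := funext hres
      rw [this]
      exact θ.2
    exact (ext_unique hM N P hsup hidx hχ hχ' hirr (fun n => by rw [hres', hres])).symm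

end Cfsg.Agent.Helper18.AlperinDade
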