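import Mathlib
import Cfsg.Prelude.Def_Blocks
import Cfsg.Agent.Lib.Helper24.CharLinear
import Cfsg.Agent.Lib.Helper24.CharComplete
import Cfsg.Agent.Lib.Helper18.GaloisConj
import Cfsg.Agent.Lib.Helper16.ITODefs
import Cfsg.Agent.Lib.Helper23.B2Defs

/-!
# S4705, piece NC: `ζ` is not constant on `P ∖ 1`
-/

set_option autoImplicit false
set_option linter.unusedSectionVars false
set_option linter.unusedVariables false

namespace Cfsg.Agent.Helper23.B2

open scoped ComplexConjugate
open Cfsg Cfsg.Agent.Helper24 Cfsg.Agent.Helper16.ITO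

universe u

variable {G : Type u} [Group G] [Fintype G]
variable {p : ℕ} [Fact p.Prime] {P : Sylow p G} {ζ : IrrCharacter G}

namespace NC

/-- `ζ` itself is not constant on `P ∖ 1` -/
theorem not_const_one (h : Core p P ζ) (D : BData p P ζ) :
    ¬ ∃ c : ℂ, ∀ a ∈ (P : Subgroup G), a ≠ 1 → (ζ : G → ℂ) a = c := by
  classical
  rintro ⟨c, hc⟩
  have h1 := D.indep (fun η => if η = ζ then (1 : ℂ) else 0) c (by
    intro a ha ha1
    have : ∑ η ∈ D.Y, (if η = ζ then (1 : ℂ) else 0) * (η : G → ℂ) a = (ζ : G → ℂ) a := by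
      have e : ∀ η ∈ D.Y, (if η = ζ then (1 : ℂ) else 0) * (η : G → ℂ) a =
          if η = ζ then (ζ : G → ℂ) a else 0 := by
        intro η _
        by_cases hη : η = ζ
        · rw [if_pos hη, if_pos hη, hη, one_mul]
        · rw [if_neg hη, if_neg hη, zero_mul]
      rw [Finset.sum_congr rfl e, Finset.sum_ite_eq' D.Y ζ, if_pos D.mem]
    rw [this]
    exact hc a ha ha1)
  have hc1 : c = 1 := by
    have := h1 ζ D.mem
    simpa using this.symm
  -- another member of `Y`
  have hcard : 3 ≤ D.Y.card := by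
    have := D.cardY
    have := h.hp
    omega
  obtain ⟨η, hη, hne⟩ : ∃ η ∈ D.Y, η ≠ ζ := by
    by_contra hcon
    push Not at hcon
    have : D.Y ⊆ {ζ} := fun η hη => Finset.mem_singleton.2 (hcon η hη)
    have := Finset.card_le_card this
    rw [Finset.card_singleton] at this
    omega
  have := h1 η hη
  rw [if_neg hne, hc1] at this
  exact zero_ne_one this

end NC

theorem not_const (h : Core p P ζ) (D : BData p P ζ) {k : ℕ} (hk : Nat.Coprime p k) :
    ¬ ∃ c : ℂ, ∀ a ∈ (P : Subgroup G), a ≠ 1 → (ζ : G → ℂ) (a ^ k) = c := by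
  rintro ⟨c, hc⟩
  apply NC.not_const_one h D
  refine ⟨c, ?_⟩
  intro b hb hb1
  have hord : orderOf b ∣ p := by
    have := orderOf_dvd_natCard (⟨b, hb⟩ : (P : Subgroup G))
    rw [h.cardP] at this
    rwa [Subgroup.orderOf_mk] at this
  have hcop : Nat.Coprime k (orderOf b) := (Nat.Coprime.coprime_dvd_left hord hk).symm
  obtain ⟨m, hm⟩ := exists_pow_eq_self_of_coprime hcop
  -- `b = (b ^ k) ^ m`; take `a = b ^ m`
  have e : (b ^ m) ^ k = b := by
    rw [← pow_mul, mul_comm, pow_mul]
    exact hm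
  have ha1 : b ^ m ≠ 1 := by
    intro h1
    rw [h1, one_pow] at e
    exact hb1 e.symm
  have := hc (b ^ m) ((P : Subgroup G).pow_mem hb m) ha1
  rwa [e] at this

end Cfsg.Agent.Helper23.B2
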