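import Mathlib
import Cfsg.Agent.Lib.Helper18.B2NC

/-!
# S4705, piece GAL: a Galois conjugate of `ζ` over the central character of `ζ` lies in `Y`
-/

set_option autoImplicit false
set_option linter.unusedSectionVars false
set_option linter.unusedVariables false

namespace Cfsg.Agent.Helper23.B2

open scoped ComplexConjugate
open Cfsg Cfsg.Agent.Helper24 Cfsg.Agent.Helper16.ITO

universe u

variable {G : Type u} [Group G] [Fintype G]
variable {p : ℕ} [Fact p.Prime] {P : Sylow p G} {ζ : IrrCharacter G}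

theorem gal_mem (h : Core p P ζ) (D : BData p P ζ) {k : ℕ} (hk : Nat.Coprime (Nat.card G) k)
    (hov : ∀ z ∈ Subgroup.center G, (ζ : G → ℂ) (z ^ k) = (ζ : G → ℂ) z) : gal ζ hk ∈ D.Y := by
  by_contra hnot
  have hover : Over (ζ : G → ℂ) (gal ζ hk : G → ℂ) := by
    intro z hz
    show (ζ : G → ℂ) (z ^ k) * (ζ : G → ℂ) 1 = (ζ : G → ℂ) z * (ζ : G → ℂ) (1 ^ k)
    rw [hov z hz, one_pow]
  obtain ⟨c, hc⟩ := D.valD (gal ζ hk) hover hnot
  have hpk : Nat.Coprime p k := by
    have hdvd : p ∣ Nat.card G := by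
      rw [← h.cardP]
      exact Subgroup.card_subgroup_dvd_card _
    exact Nat.Coprime.coprime_dvd_left hdvd hk
  exact not_const h D hpk ⟨c, fun a ha ha1 => hc a ha ha1⟩

end Cfsg.Agent.Helper23.B2
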