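import Mathlib
import Cfsg.Prelude.Def_Blocks
import Cfsg.Agent.Lib.Helper24.CharLinear
import Cfsg.Agent.Lib.Helper24.CharComplete
import Cfsg.Agent.Lib.Helper18.GaloisConj
import Cfsg.Agent.Lib.Helper16.ITODefs
import Cfsg.Agent.Lib.Helper23.B2Defs

/-!
# S4705, piece PARS: Parseval with the orthonormal basis of the Galois conjugates
-/

set_option autoImplicit false
set_option linter.unusedSectionVars false
set_option linter.unusedVariables false

namespace Cfsg.Agent.Helper23.B2

open scoped ComplexConjugate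
open Cfsg Cfsg.Agent.Helper24 Cfsg.Agent.Helper16.ITO

universe u

variable {G : Type u} [Group G] [Fintype G]

namespace PARS

/-- Parseval for the irreducible characters -/
theorem parseval [Fintype (IrrCharacter G)] {Θ₁ Θ₂ : G → ℂ} (h₁ : IsClassFunction G Θ₁) :
    classInner Θ₁ Θ₂ = ∑ χ : IrrCharacter G,
      classInner Θ₁ (χ : G → ℂ) * conj (classInner Θ₂ (χ : G → ℂ)) := by
  have e := classFunction_expansion h₁
  have e' : Θ₁ = ∑ χ : IrrCharacter G, classInner Θ₁ (χ : G → ℂ) • (χ : G → ℂ) := by
    convert e using 2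
  conv_lhs => rw [e']
  rw [classInner_sum_left]
  refine Finset.sum_congr rfl fun χ _ => ?_
  rw [classInner_smul_left, classInner_conj_symm]

theorem gal_injective {r : ℕ} (hr : Nat.Coprime (Nat.card G) r) :
    Function.Injective (fun χ : IrrCharacter G => gal χ hr) := by
  intro χ χ' h
  apply Subtype.ext
  funext g
  obtain ⟨x, rfl⟩ := (powCoprime hr).surjective g
  have := congrArg (fun η : IrrCharacter G => (η : G → ℂ) x) h
  exact this

end PARS

theorem parseval_gal [Fintype (IrrCharacter G)] {r : ℕ} (hr : Nat.Coprime (Nat.card G) r)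
    {Θ₁ Θ₂ : G → ℂ} (h₁ : IsClassFunction G Θ₁) (h₂ : IsClassFunction G Θ₂) :
    classInner Θ₁ Θ₂ = ∑ χ : IrrCharacter G,
      classInner Θ₁ (gal χ hr : G → ℂ) * conj (classInner Θ₂ (gal χ hr : G → ℂ)) := by
  rw [PARS.parseval h₁ (Θ₂ := Θ₂)]
  have hb : Function.Bijective (fun χ : IrrCharacter G => gal χ hr) :=
    Finite.injective_iff_bijective.1 (PARS.gal_injective hr)
  exact (Function.Bijective.sum_comp hb
    (fun η : IrrCharacter G => classInner Θ₁ (η : G → ℂ) * conj (classInner Θ₂ (η : G → ℂ)))).symm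

end Cfsg.Agent.Helper23.B2
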