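import Mathlib
import Cfsg.Prelude.Def_Blocks
import Cfsg.Agent.Lib.Helper24.CharLinear
import Cfsg.Agent.Lib.Helper24.CharComplete
import Cfsg.Agent.Lib.Helper24.ITOLAM2NAT
import Cfsg.Agent.Lib.Helper2.ITOLAM2Core
import Cfsg.Agent.Lib.Helper18.GaloisConj
import Cfsg.Agent.Lib.Helper16.ITODefs
import Cfsg.Agent.Lib.Helper23.B2Defs
import Cfsg.Agent.Lib.Helper23.B2SCH
import Cfsg.Agent.Lib.Helper1.B2CRT
import Cfsg.Agent.Lib.Helper18.B2PARS
import Cfsg.Agent.Lib.Helper18.B2GAL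

/-!
# S4705, piece LAM, core: `Λ²ζ = ∑_{η ∈ Y, η ≠ ζ'} η^(r)` and the functional equation, with OVER as a hypothesis
-/

set_option autoImplicit false
set_option linter.unusedSectionVars false
set_option linter.unusedVariables false
set_option linter.style.haveILetI false

namespace Cfsg.Agent.Helper23.B2

open scoped ComplexConjugate Pointwise
open Cfsg Cfsg.Agent.Helper24 Cfsg.Agent.Helper16.ITO

universe u

variable {G : Type u} [Group G] [Fintype G]
variable {p : ℕ} [Fact p.Prime] {P : Sylow p G} {ζ : IrrCharacter G}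

namespace LAM

/-- central elements are `p`-regular (`P` is not normal) -/
theorem center_reg (h : Core p P ζ) {z : G} (hz : z ∈ Subgroup.center G) : ¬ p ∣ orderOf z := by
  intro hdvd
  have hpp : p.Prime := Fact.out
  apply h.nn
  -- an element of order `p` in the centre
  set y := z ^ (orderOf z / p) with hy
  have hyc : y ∈ Subgroup.center G := (Subgroup.center G).pow_mem hz _
  have hyo : orderOf y = p := by
    rw [hy, orderOf_pow_orderOf_div (orderOf_pos z).ne' hdvd]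
  -- `y ∈ P`
  have hpg : IsPGroup p (Subgroup.zpowers y) := by
    apply IsPGroup.of_card (n := 1)
    rw [Nat.card_zpowers, hyo, pow_one]
  obtain ⟨Q, hQ⟩ := hpg.exists_le_sylow
  obtain ⟨g, hg⟩ := MulAction.exists_smul_eq G Q P
  have hyQ : y ∈ (Q : Subgroup G) := hQ (Subgroup.mem_zpowers y)
  have hyP : y ∈ (P : Subgroup G) := by
    have h1 : MulAut.conj g • y ∈ MulAut.conj g • (Q : Subgroup G) :=
      Subgroup.smul_mem_pointwise_smul _ _ _ hyQ
    have h2 : MulAut.conj g • y = y := by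
      rw [MulAut.smul_def, MulAut.conj_apply]
      have := (Subgroup.mem_center_iff.1 hyc) g
      rw [this]
      group
    rw [h2, ← Sylow.coe_subgroup_smul, hg] at h1
    exact h1
  have hPe : (P : Subgroup G) = Subgroup.zpowers y := by
    symm
    apply Subgroup.eq_of_le_of_card_ge
    · rw [Subgroup.zpowers_le]
      exact hyP
    · rw [h.cardP, Nat.card_zpowers, hyo]
  rw [hPe]
  constructor
  intro n hn g
  obtain ⟨k, rfl⟩ := Subgroup.mem_zpowers_iff.1 hn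
  have hc : y ^ k ∈ Subgroup.center G := (Subgroup.center G).zpow_mem hyc k
  have : g * y ^ k * g⁻¹ = y ^ k := by
    have := (Subgroup.mem_center_iff.1 hc) g
    rw [this]
    group
  rw [this]
  exact Subgroup.zpow_mem_zpowers y k

/-- `Λ²ζ (g z) = w(z)² Λ²ζ (g)` -/
theorem lam2_central (ζ : IrrCharacter G) {z : G} (hz : z ∈ Subgroup.center G) (g : G) :
    lam2 (ζ : G → ℂ) (g * z) * (ζ : G → ℂ) 1 ^ 2 = (ζ : G → ℂ) z ^ 2 * lam2 (ζ : G → ℂ) g := by
  have h1 := (central_mul ζ hz g).1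
  have hzz : z * z ∈ Subgroup.center G := mul_mem hz hz
  have h2 := (central_mul ζ hzz (g * g)).1
  have h3 := (central_mul ζ hz z).1
  have e : g * z * (g * z) = g * g * (z * z) := by
    have := (Subgroup.mem_center_iff.1 hz) g
    calc g * z * (g * z) = g * (z * g) * z := by group
      _ = g * (g * z) * z := by rw [← this]
      _ = g * g * (z * z) := by group
  simp only [lam2]
  rw [e]
  linear_combination ((ζ : G → ℂ) (g * z) * (ζ : G → ℂ) 1 + (ζ : G → ℂ) z * (ζ : G → ℂ) g) / 2 * h1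
    - (ζ : G → ℂ) 1 / 2 * h2 - (ζ : G → ℂ) (g * g) / 2 * h3

end LAM

namespace LAM

theorem lam_support_core (h : Core p P ζ) (D : BData p P ζ) {r : ℕ} (hr : IsR p P r)
    (hOV : ∀ χ : IrrCharacter G, classInner (lam2 (ζ : G → ℂ)) (gal χ hr.cop : G → ℂ) ≠ 0 →
      Over (ζ : G → ℂ) (χ : G → ℂ)) :
    (∀ χ : IrrCharacter G, classInner (lam2 (ζ : G → ℂ)) (gal χ hr.cop : G → ℂ) ≠ 0 → χ ∈ D.Y) ∧
    ∀ g : G, ¬ p ∣ orderOf g →
      (ζ : G → ℂ) (g * g) = (ζ : G → ℂ) g ^ 2 - ((p : ℂ) - 3) * (ζ : G → ℂ) (g ^ r) := by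
  classical
  letI : Fintype (IrrCharacter G) := irrFintype
  have hpp : p.Prime := Fact.out
  have hp5 := h.hp
  have hζc : IsCharacter G (ζ : G → ℂ) := isCharacter_of_isIrrCharacter ζ.2
  have hnat : ∀ χ : IrrCharacter G, ∃ s : ℕ,
      classInner (lam2 (ζ : G → ℂ)) (gal χ hr.cop : G → ℂ) = (s : ℂ) :=
    fun χ => lam2_inner_nat hζc (gal χ hr.cop).2
  choose s hs using hnat
  have hcf : IsClassFunction G (lam2 (ζ : G → ℂ)) :=
    LAM2.lam2_isClassFunction (isClassFunction_of_isIrrCharacter ζ.2)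
  -- expansion in the basis `χ^(r)`
  have hexp : ∀ x : G, lam2 (ζ : G → ℂ) x =
      ∑ χ : IrrCharacter G, (s χ : ℂ) * (χ : G → ℂ) (x ^ r) := by
    intro x
    have e1 := congrFun (classFunction_expansion hcf) x
    have e1' : lam2 (ζ : G → ℂ) x = ∑ η : IrrCharacter G,
        classInner (lam2 (ζ : G → ℂ)) (η : G → ℂ) * (η : G → ℂ) x := by
      rw [e1]
      simp only [Finset.sum_apply, Pi.smul_apply, smul_eq_mul]
    rw [e1']
    have hb : Function.Bijective (fun χ : IrrCharacter G => gal χ hr.cop) :=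
      Finite.injective_iff_bijective.1 (PARS.gal_injective hr.cop)
    rw [← Function.Bijective.sum_comp hb
      (fun η : IrrCharacter G => classInner (lam2 (ζ : G → ℂ)) (η : G → ℂ) * (η : G → ℂ) x)]
    refine Finset.sum_congr rfl fun χ _ => ?_
    rw [hs χ]
    rfl
  -- split the sum into `Y` and the rest
  have hsplit : ∀ x : G, ∑ χ : IrrCharacter G, (s χ : ℂ) * (χ : G → ℂ) (x ^ r) =
      ∑ χ ∈ D.Y, (s χ : ℂ) * (χ : G → ℂ) (x ^ r) +
        ∑ χ ∈ D.Yᶜ, (s χ : ℂ) * (χ : G → ℂ) (x ^ r) := by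
    intro x
    rw [← Finset.sum_add_sum_compl D.Y]
  -- constituents lie over the central character of `ζ`
  have hover : ∀ χ : IrrCharacter G, s χ ≠ 0 → Over (ζ : G → ℂ) (χ : G → ℂ) := by
    intro χ hχ
    apply hOV χ
    rw [hs χ]
    exact_mod_cast hχ
  -- the constants of the characters outside `Y`
  have hconst : ∀ χ : IrrCharacter G, ∃ c : ℂ, χ ∉ D.Y → s χ ≠ 0 →
      ∀ a ∈ (P : Subgroup G), a ≠ 1 → (χ : G → ℂ) a = c := by
    intro χ
    by_cases hχ : χ ∉ D.Y ∧ s χ ≠ 0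
    · obtain ⟨c, hc⟩ := D.valD χ (hover χ hχ.2) hχ.1
      exact ⟨c, fun _ _ => hc⟩
    · exact ⟨0, fun h1 h2 => absurd ⟨h1, h2⟩ hχ⟩
  choose cc hcc using hconst
  set K : ℂ := ∑ χ ∈ D.Yᶜ, (s χ : ℂ) * cc χ with hK
  have hrest : ∀ a ∈ (P : Subgroup G), a ≠ 1 →
      ∑ χ ∈ D.Yᶜ, (s χ : ℂ) * (χ : G → ℂ) (a ^ r) = K := by
    intro a ha ha1
    rw [hK]
    refine Finset.sum_congr rfl fun χ hχ => ?_
    rw [Finset.mem_compl] at hχ
    by_cases h0 : s χ = 0
    · rw [h0]; simp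
    · rw [hr.onP a ha, hcc χ hχ h0 a ha ha1]
  -- the member `ζ'` of `Y`
  obtain ⟨k, hkc, hkP, hkreg⟩ := exists_k_p (P := P) (by omega : p ≠ 2) h.cardP
  have hζ' : gal ζ hkc ∈ D.Y := by
    apply gal_mem h D hkc
    intro z hz
    rw [hkreg z (LAM.center_reg h hz)]
  set ζ' : IrrCharacter G := gal ζ hkc with hζ'def
  have hsq : ∀ a ∈ (P : Subgroup G), (ζ' : G → ℂ) a = (ζ : G → ℂ) (a * a) := by
    intro a ha
    show (ζ : G → ℂ) (a ^ k) = _
    rw [hkP a ha]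
  have hval : ∀ a ∈ (P : Subgroup G), a ≠ 1 → lam2 (ζ : G → ℂ) a = 1 - (ζ' : G → ℂ) a := by
    intro a ha ha1
    simp only [lam2]
    rw [D.sq_rel ζ D.mem a ha ha1, hsq a ha]
    ring
  -- apply `indep`
  have hind : ∀ η ∈ D.Y, ((s η : ℂ) + if η = ζ' then 1 else 0) = 1 - K := by
    apply D.indep (fun η => (s η : ℂ) + if η = ζ' then 1 else 0) (1 - K)
    intro a ha ha1
    have h1 := hexp a
    rw [hsplit a, hrest a ha ha1, hval a ha ha1] at h1
    have h2 : ∑ η ∈ D.Y, ((s η : ℂ) + if η = ζ' then 1 else 0) * (η : G → ℂ) a =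
        ∑ η ∈ D.Y, (s η : ℂ) * (η : G → ℂ) a + (ζ' : G → ℂ) a := by
      simp only [add_mul, Finset.sum_add_distrib]
      congr 1
      rw [Finset.sum_eq_single_of_mem ζ' hζ']
      · simp
      · intro b _ hb; simp [hb]
    rw [h2]
    have h3 : ∑ η ∈ D.Y, (s η : ℂ) * (η : G → ℂ) (a ^ r) = ∑ η ∈ D.Y, (s η : ℂ) * (η : G → ℂ) a := by
      rw [hr.onP a ha]
    rw [h3] at h1
    linear_combination -h1
  have hc : (1 : ℂ) - K = ((s ζ' + 1 : ℕ) : ℂ) := by
    rw [← hind ζ' hζ', if_pos rfl]; push_cast; ring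
  have hsη : ∀ η ∈ D.Y, s η + (if η = ζ' then 1 else 0) = s ζ' + 1 := by
    intro η hη
    have := hind η hη
    rw [hc] at this
    have h3 : (((s η + (if η = ζ' then 1 else 0) : ℕ)) : ℂ) = ((s ζ' + 1 : ℕ) : ℂ) := by
      rw [← this]; push_cast; split_ifs <;> simp
    exact_mod_cast h3
  -- degrees
  have hdeg : ∀ χ : IrrCharacter G, (χ : G → ℂ) 1 = (charDegree (χ : G → ℂ) : ℂ) :=
    fun χ => irr_one_eq_charDegree χ.2
  have hreg1 : ¬ p ∣ orderOf (1 : G) := by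
    rw [orderOf_one]
    intro h1
    have := Nat.le_of_dvd one_pos h1
    omega
  have hdegYc : ∀ η ∈ D.Y, (η : G → ℂ) 1 = (p : ℂ) - 2 := by
    intro η hη
    rw [D.regY η hη 1 hreg1, h.deg]
  have hdegY : ∀ η ∈ D.Y, charDegree (η : G → ℂ) = p - 2 := by
    intro η hη
    have h1 := hdegYc η hη
    rw [hdeg η] at h1
    have h2 : ((charDegree (η : G → ℂ) : ℕ) : ℂ) = ((p - 2 : ℕ) : ℂ) := by
      rw [h1, Nat.cast_sub (by omega)]; norm_num
    exact_mod_cast h2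
  have hone : lam2 (ζ : G → ℂ) 1 = ((p : ℂ) - 2) * ((p : ℂ) - 3) / 2 := by
    simp only [lam2, mul_one]
    rw [h.deg]; ring
  have hT : 2 * ∑ χ : IrrCharacter G, s χ * charDegree (χ : G → ℂ) = (p - 2) * (p - 3) := by
    have h1 := hexp 1
    rw [hone, one_pow] at h1
    have h2 : ((2 * ∑ χ : IrrCharacter G, s χ * charDegree (χ : G → ℂ) : ℕ) : ℂ) =
        (((p - 2) * (p - 3) : ℕ) : ℂ) := by
      push_cast
      rw [Nat.cast_sub (by omega), Nat.cast_sub (by omega)]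
      have h3 : ∑ χ : IrrCharacter G, (s χ : ℂ) * (charDegree (χ : G → ℂ) : ℂ) =
          ∑ χ : IrrCharacter G, (s χ : ℂ) * (χ : G → ℂ) 1 :=
        Finset.sum_congr rfl fun χ _ => by rw [hdeg χ]
      rw [h3, ← h1]; push_cast; ring
    exact_mod_cast h2
  have hTsplit : ∑ χ : IrrCharacter G, s χ * charDegree (χ : G → ℂ) =
      (∑ χ ∈ D.Y, s χ) * (p - 2) + ∑ χ ∈ D.Yᶜ, s χ * charDegree (χ : G → ℂ) := by
    rw [← Finset.sum_add_sum_compl D.Y, Finset.sum_mul]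
    congr 1
    exact Finset.sum_congr rfl fun χ hχ => by rw [hdegY χ hχ]
  have hsumY : ∑ η ∈ D.Y, s η + 1 = (s ζ' + 1) * D.Y.card := by
    have h1 : ∑ η ∈ D.Y, (s η + (if η = ζ' then 1 else 0)) = ∑ η ∈ D.Y, (s ζ' + 1) :=
      Finset.sum_congr rfl hsη
    rw [Finset.sum_add_distrib, Finset.sum_const, smul_eq_mul] at h1
    have h2 : ∑ η ∈ D.Y, (if η = ζ' then 1 else 0) = 1 := by
      rw [Finset.sum_eq_single_of_mem ζ' hζ']
      · simp
      · intro b _ hb; simp [hb]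
    rw [h2] at h1
    rw [h1]; ring
  have hcard := D.cardY
  have hc1 : s ζ' = 0 := by
    by_contra hne
    have h2 : 2 ≤ s ζ' + 1 := by omega
    have h3 : 2 * D.Y.card ≤ ∑ η ∈ D.Y, s η + 1 := by
      rw [hsumY]; exact Nat.mul_le_mul_right _ h2
    have h4 : (p - 2) * (p - 3) ≥ 2 * ((∑ χ ∈ D.Y, s χ) * (p - 2)) := by
      rw [← hT, hTsplit]; omega
    have h5 : p - 2 ≤ ∑ η ∈ D.Y, s η := by omega
    have h6 : (p - 2) * (p - 2) ≤ (∑ χ ∈ D.Y, s χ) * (p - 2) := Nat.mul_le_mul_right _ h5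
    have h7 : (p - 2) * (p - 3) < 2 * ((p - 2) * (p - 2)) := by
      have : p - 3 < 2 * (p - 2) := by omega
      calc (p - 2) * (p - 3) < (p - 2) * (2 * (p - 2)) :=
            Nat.mul_lt_mul_of_pos_left this (by omega)
        _ = 2 * ((p - 2) * (p - 2)) := by ring
    omega
  have hsumY' : ∑ η ∈ D.Y, s η + 1 = D.Y.card := by rw [hsumY, hc1]; ring
  have hrest0 : ∑ χ ∈ D.Yᶜ, s χ * charDegree (χ : G → ℂ) = 0 := by
    have h1 : 2 * ((∑ χ ∈ D.Y, s χ) * (p - 2)) = (p - 2) * (p - 3) := by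
      have : 2 * ∑ χ ∈ D.Y, s χ = p - 3 := by omega
      calc 2 * ((∑ χ ∈ D.Y, s χ) * (p - 2)) = (2 * ∑ χ ∈ D.Y, s χ) * (p - 2) := by ring
        _ = (p - 3) * (p - 2) := by rw [this]
        _ = _ := by ring
    have h2 := hT
    rw [hTsplit] at h2
    omega
  have hs0 : ∀ χ ∈ D.Yᶜ, s χ = 0 := by
    intro χ hχ
    have := (Finset.sum_eq_zero_iff.1 hrest0) χ hχ
    rcases Nat.mul_eq_zero.1 this with h | h
    · exact h
    · exact absurd h (charDegree_pos χ.2).ne'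
  refine ⟨?_, ?_⟩
  · intro χ hχ
    by_contra hnot
    apply hχ
    rw [hs χ, hs0 χ (Finset.mem_compl.2 hnot)]
    simp
  · intro g hg
    have hgr : ¬ p ∣ orderOf (g ^ r) := fun hd => hg (dvd_trans hd (orderOf_pow_dvd r))
    have h1 := hexp g
    rw [hsplit g] at h1
    have h2 : ∑ χ ∈ D.Yᶜ, (s χ : ℂ) * (χ : G → ℂ) (g ^ r) = 0 :=
      Finset.sum_eq_zero fun χ hχ => by rw [hs0 χ hχ]; simp
    have h3 : ∑ χ ∈ D.Y, (s χ : ℂ) * (χ : G → ℂ) (g ^ r) =
        ((∑ χ ∈ D.Y, s χ : ℕ) : ℂ) * (ζ : G → ℂ) (g ^ r) := by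
      push_cast
      rw [Finset.sum_mul]
      exact Finset.sum_congr rfl fun χ hχ => by rw [D.regY χ hχ (g ^ r) hgr]
    rw [h2, h3, add_zero] at h1
    have h4 : ((2 * ∑ χ ∈ D.Y, s χ : ℕ) : ℂ) = (p : ℂ) - 3 := by
      have : 2 * ∑ χ ∈ D.Y, s χ = p - 3 := by omega
      rw [this, Nat.cast_sub (by omega)]; norm_num
    simp only [lam2] at h1
    push_cast at h1 h4
    linear_combination (-2 : ℂ) * h1 - (ζ : G → ℂ) (g ^ r) * h4

end LAM

end Cfsg.Agent.Helper23.B2
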