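import Mathlib
import Cfsg.Agent.Lib.Helper18.B2LAMCore
import Cfsg.Agent.Lib.Helper24.B2OVER

/-!
# S4705, piece LAM: `Λ²ζ = ∑_{η ∈ Y, η ≠ ζ'} η^(r)` and the functional equation
-/

set_option autoImplicit false
set_option linter.unusedSectionVars false
set_option linter.unusedVariables false

namespace Cfsg.Agent.Helper23.B2

open scoped ComplexConjugate
open Cfsg Cfsg.Agent.Helper24 Cfsg.Agent.Helper16.ITO

universe u

variable {G : Type u} [Group G] [Fintype G]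
variable {p : ℕ} [Fact p.Prime] {P : Sylow p G} {ζ : IrrCharacter G}

theorem lam_support (h : Core p P ζ) (D : BData p P ζ) {r : ℕ} (hr : IsR p P r) :
    (∀ χ : IrrCharacter G, classInner (lam2 (ζ : G → ℂ)) (gal χ hr.cop : G → ℂ) ≠ 0 → χ ∈ D.Y) ∧
    ∀ g : G, ¬ p ∣ orderOf g →
      (ζ : G → ℂ) (g * g) = (ζ : G → ℂ) g ^ 2 - ((p : ℂ) - 3) * (ζ : G → ℂ) (g ^ r) :=
  LAM.lam_support_core h D hr (fun χ hχ =>
    over_of_constituent h hr (Θ := lam2 (ζ : G → ℂ)) (fun z hz g => LAM.lam2_central ζ hz g) χ hχ)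

end Cfsg.Agent.Helper23.B2
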