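import Mathlib
import Cfsg.Agent.Lib.Helper18.BG13Q2
import Cfsg.Agent.Lib.Helper7.BG13R
import Cfsg.Agent.Lib.Helper1.CoprimeAbelian
import Cfsg.Agent.S0027

/-!
# Bender-Glauberman 13.7 (helper18), part 3: the context of a bad triple

`Ctx M E P R p r H`: a bad triple together with a maximal subgroup `H ≥ N_G(P)`; basic
consequences (from helper7's `setting`) and the first facts on `QData`.
-/

set_option autoImplicit false
set_option linter.style.haveILetI false
set_option linter.unusedSectionVars false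
set_option linter.unusedVariables false

namespace Cfsg.Agent.Helper18.BG13Q

open Cfsg Subgroup
open scoped commutatorElement
open Cfsg.Agent.Helper14.BGTrans Cfsg.Agent.Helper14.BGUniq
open Cfsg.Agent.Helper10 (IsPiNum)
open Cfsg.Agent.Helper15 (IsSylowIn isSylowIn_of_sylow_le isSylowIn_map_subtype isSylowIn_top
  map_conj_eq_of_mem_normalizer map_conj_map_conj card_map_conj map_conj_one
  map_conj_map_conj_inv map_conj_inv_map_conj isPGroup_map_conj map_conj_mono
  map_conj_eq_self_of_mem exists_isSylowIn_ge exists_isSylowIn isSylowIn_of_not_dvd_relIndex)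
open Cfsg.Agent.Helper22.BG13
open Cfsg.Agent.Helper20.MinInv (comm_le_of_le_normalizer le_centralizer_of_comm_comm_eq_bot)
open Cfsg.Agent.Helper18.BG13P

universe u

variable {G : Type u} [Group G] [Finite G]

/-- a bad triple together with a maximal subgroup `H ≥ N_G(P)` -/
structure Ctx (M E P R : Subgroup G) (p r : ℕ) (H : Subgroup G) : Prop where
  h : Hyps G
  b : Bad M E P R p r
  hH : IsCoatom H
  hNH : normalizer (P : Set G) ≤ H

namespace Bad

variable {M E P R : Subgroup G} {p r : ℕ}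

omit [Finite G] in
theorem pp (b : Bad M E P R p r) : p.Prime := b.hp.1

omit [Finite G] in
theorem hpM (b : Bad M E P R p r) : p ∉ sigma M := b.hp.2.1

omit [Finite G] in
theorem hPM (b : Bad M E P R p r) : P ≤ M := b.hPE.trans b.hE.1

omit [Finite G] in
theorem hRM (b : Bad M E P R p r) : R ≤ M := b.hRE.trans b.hE.1

omit [Finite G] in
theorem hPp (b : Bad M E P R p r) : IsPGroup p ↥P :=
  haveI : Fact p.Prime := ⟨b.pp⟩
  IsPGroup.of_card (n := 1) (by rw [b.hP, pow_one])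

omit [Finite G] in
theorem hRp (b : Bad M E P R p r) : IsPGroup r ↥R :=
  haveI : Fact r.Prime := ⟨b.hr⟩
  IsPGroup.of_card (n := 1) (by rw [b.hR, pow_one])

theorem hP1 (b : Bad M E P R p r) : P ≠ ⊥ :=
  haveI : Fact p.Prime := ⟨b.pp⟩
  card_prime_ne_bot b.hP

theorem hR1 (b : Bad M E P R p r) : R ≠ ⊥ :=
  haveI : Fact r.Prime := ⟨b.hr⟩
  card_prime_ne_bot b.hR

omit [Finite G] in
theorem hPR (b : Bad M E P R p r) : P ≤ centralizer (R : Set G) := by
  intro x hx
  rw [Subgroup.mem_centralizer_iff]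
  intro y hy
  exact ((Subgroup.mem_centralizer_iff.mp (b.hRP hy)) x hx).symm

end Bad

namespace Ctx

variable {M E P R : Subgroup G} {p r : ℕ} {H : Subgroup G}

theorem set (c : Ctx M E P R p r H) :
    (∀ g : G, H ≠ M.map (MulAut.conj g).toMonoidHom) ∧ p ∈ sigma H ∧
      sigmaCore M ⊓ H = sigmaCore M ⊓ centralizer (P : Set G) ∧
      r ∈ tau1 H ∧ r ≠ p ∧ r ∉ sigma M := by
  have := Cfsg.Agent.Helper7.BG13R.setting c.h.hG c.h.h1403 c.h.h1404 c.h.h1413 c.h.h1416
    c.h.h1350 c.h.h1414 c.h.h1417 c.h.h1418 c.h.h1415 c.h.h1409 c.h.h1408 c.b.hM c.b.hE c.b.hp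
    c.b.hPE c.b.hP (le_inf c.b.hRE c.b.hRP) (by rw [c.b.hR]; exact c.b.hr) c.b.hbad c.hH c.hNH
  rw [c.b.hR] at this
  exact this

theorem hconj (c : Ctx M E P R p r H) : ∀ g : G, H ≠ M.map (MulAut.conj g).toMonoidHom :=
  c.set.1

theorem hne (c : Ctx M E P R p r H) : H ≠ M := fun h => c.hconj 1 (by rw [map_conj_one]; exact h)

theorem hpH (c : Ctx M E P R p r H) : p ∈ sigma H := c.set.2.1

theorem hY (c : Ctx M E P R p r H) :
    sigmaCore M ⊓ H = sigmaCore M ⊓ centralizer (P : Set G) := c.set.2.2.1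

theorem hrH (c : Ctx M E P R p r H) : r ∈ tau1 H := c.set.2.2.2.1

theorem hrp (c : Ctx M E P R p r H) : r ≠ p := c.set.2.2.2.2.1

theorem hrM (c : Ctx M E P R p r H) : r ∉ sigma M := c.set.2.2.2.2.2

theorem hPH (c : Ctx M E P R p r H) : P ≤ H := Subgroup.le_normalizer.trans c.hNH

theorem hCPH (c : Ctx M E P R p r H) : centralizer (P : Set G) ≤ H :=
  (Subgroup.centralizer_le_normalizer _).trans c.hNH

theorem hRH (c : Ctx M E P R p r H) : R ≤ H := c.b.hRP.trans c.hCPH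

theorem hPσ (c : Ctx M E P R p r H) : P ≤ sigmaCore H :=
  haveI : Fact p.Prime := ⟨c.b.pp⟩
  le_sigmaCore_of_isPiNum c.h.h1350 c.hH c.hPH (isPiNum_of_isPGroup c.hpH c.b.hPp)

theorem hsolvH (c : Ctx M E P R p r H) : Group.IsSolvable ↥H :=
  isSolvable_of_ne_top c.h.hG c.hH.1

theorem hsolvM (c : Ctx M E P R p r H) : Group.IsSolvable ↥M :=
  isSolvable_of_ne_top c.h.hG c.b.hM.1

/-- existence of `QData` -/
theorem exists_qdata (c : Ctx M E P R p r H) : ∃ (q : ℕ) (Q₀ : Subgroup G), QData M P R q Q₀ := by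
  haveI : Fact r.Prime := ⟨c.b.hr⟩
  obtain ⟨q, Q, hq, hqσ, hQ, hRQ, hQR, -, -⟩ := Cfsg.Agent.Helper7.BG13R.exists_Q
    c.b.hRM c.b.hRP c.hRH c.b.hR c.hrM c.hY c.b.hbad
  have hQσ : Q ≤ sigmaCore M := hQ.le.trans inf_le_left
  have hcardQ : IsPiNum (sigma M) (Nat.card ↥Q) :=
    IsPiNum.of_dvd (Subgroup.card_dvd_of_le hQσ) (isPiNum_card_sigmaCore M)
  have hcop : (Nat.card ↥R).Coprime (Nat.card ↥Q) := by
    rw [c.b.hR]
    exact (Nat.Prime.coprime_iff_not_dvd c.b.hr).mpr (fun h => c.hrM (hcardQ r c.b.hr h))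
  refine ⟨q, ⁅Q, R⁆, hq, ?_, hQ.isPGroup.to_le (comm_le_of_le_normalizer hRQ), hQR,
    le_normalizer_commutator_of_le hRQ Subgroup.le_normalizer, ?_⟩
  · refine (comm_le_of_le_normalizer hRQ).trans (hQ.le.trans ?_)
    rw [c.hY]
  · exact Cfsg.Agent.S0027.result R Q hRQ hcop
      (Or.inl (by haveI := c.b.hRp.isNilpotent; infer_instance))

end Ctx

end Cfsg.Agent.Helper18.BG13Q
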