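import Mathlib
import Cfsg.Agent.Lib.Helper18.BG13Q3
import Cfsg.Agent.Lib.Helper7.BG121a

/-!
# Bender-Glauberman 13.7 (helper18), part 4: facts on `QData`
-/

set_option autoImplicit false
set_option linter.style.haveILetI false
set_option linter.unusedSectionVars false
set_option linter.unusedVariables false

namespace Cfsg.Agent.Helper18.BG13Q

open Cfsg Subgroup
open scoped commutatorElement
open Cfsg.Agent.Helper14.BGTrans Cfsg.Agent.Helper14.BGUniq
open Cfsg.Agent.Helper10 (IsPiNum)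
open Cfsg.Agent.Helper15 (IsSylowIn isSylowIn_of_sylow_le isSylowIn_map_subtype isSylowIn_top
  map_conj_eq_of_mem_normalizer map_conj_map_conj card_map_conj map_conj_one
  map_conj_map_conj_inv map_conj_inv_map_conj isPGroup_map_conj map_conj_mono
  map_conj_eq_self_of_mem exists_isSylowIn_ge exists_isSylowIn isSylowIn_of_not_dvd_relIndex)
open Cfsg.Agent.Helper22.BG13
open Cfsg.Agent.Helper20.MinInv (comm_le_of_le_normalizer le_centralizer_of_comm_comm_eq_bot)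
open Cfsg.Agent.Helper18.BG13P

universe u

variable {G : Type u} [Group G] [Finite G]

/-- a `q`-subgroup of a subgroup `H` of `q`-rank at most one of a group of odd order is cyclic -/
theorem isCyclic_of_pRankLE_one_of_le (hG : IsMinSimpleOddOrder G) {H Q : Subgroup G} {q : ℕ}
    [Fact q.Prime] (hQH : Q ≤ H) (hQ : IsPGroup q ↥Q) (hQ1 : Q ≠ ⊥) (hr : PRankLE q 1 ↥H) :
    IsCyclic ↥Q := by
  have hq : q.Prime := Fact.out
  have hqG : q ∣ Nat.card G :=
    (dvd_card_of_isPGroup_ne_bot hQ hQ1).trans (Subgroup.card_subgroup_dvd_card Q)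
  have hq2 : q ≠ 2 := prime_ne_two_of_dvd hG hqG
  have hodd : Odd q := hq.odd_of_ne_two hq2
  have hrQ : PRankLE q 1 ↥Q :=
    pRankLE_of_injective' (Subgroup.inclusion hQH) (Subgroup.inclusion_injective hQH) hr
  exact Cfsg.Agent.Helper7.BG12.isCyclic_of_pRankLE_one hodd hQ hrQ

omit [Finite G] in
/-- elements of a cyclic subgroup commute -/
theorem comm_of_isCyclic {Q : Subgroup G} (hQ : IsCyclic ↥Q) :
    ∀ a ∈ Q, ∀ b ∈ Q, a * b = b * a := by
  intro a ha b hb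
  haveI := hQ
  have := IsCyclic.commGroup.mul_comm (⟨a, ha⟩ : ↥Q) ⟨b, hb⟩
  exact congrArg Subtype.val this

namespace QData

variable {M P R Q₀ : Subgroup G} {q : ℕ}

omit [Finite G] in
theorem leσ (d : QData M P R q Q₀) : Q₀ ≤ sigmaCore M := d.le.trans inf_le_left

omit [Finite G] in
theorem leP (d : QData M P R q Q₀) : Q₀ ≤ centralizer (P : Set G) := d.le.trans inf_le_right

omit [Finite G] in
theorem leM (d : QData M P R q Q₀) : Q₀ ≤ M := d.leσ.trans (sigmaCore_le M)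

theorem hqM (d : QData M P R q Q₀) : q ∈ sigma M := by
  haveI : Fact q.Prime := ⟨d.hq⟩
  have h1 : q ∣ Nat.card ↥Q₀ := dvd_card_of_isPGroup_ne_bot d.pgroup d.ne_bot
  exact isPiNum_card_sigmaCore M q d.hq (h1.trans (Subgroup.card_dvd_of_le d.leσ))

omit [Finite G] in
theorem hPQ₀ (d : QData M P R q Q₀) : P ≤ centralizer (Q₀ : Set G) := by
  intro x hx
  rw [Subgroup.mem_centralizer_iff]
  intro y hy
  exact ((Subgroup.mem_centralizer_iff.mp (d.leP hy)) x hx).symm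

end QData

namespace Ctx

variable {M E P R : Subgroup G} {p r : ℕ} {H : Subgroup G} {Q₀ : Subgroup G} {q : ℕ}

theorem hQ₀H (c : Ctx M E P R p r H) (d : QData M P R q Q₀) : Q₀ ≤ H := d.leP.trans c.hCPH

theorem hQ₀H' (c : Ctx M E P R p r H) (d : QData M P R q Q₀) : Q₀ ≤ ⁅H, H⁆ := by
  rw [← d.comm]
  exact Subgroup.commutator_mono (c.hQ₀H d) c.hRH

theorem hqp (c : Ctx M E P R p r H) (d : QData M P R q Q₀) : q ≠ p :=
  fun h => c.b.hpM (h ▸ d.hqM)

theorem hqr (c : Ctx M E P R p r H) (d : QData M P R q Q₀) : q ≠ r :=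
  fun h => c.hrM (h ▸ d.hqM)

theorem hqH (c : Ctx M E P R p r H) (d : QData M P R q Q₀) : q ∣ Nat.card ↥H := by
  haveI : Fact q.Prime := ⟨d.hq⟩
  exact (dvd_card_of_isPGroup_ne_bot d.pgroup d.ne_bot).trans (Subgroup.card_dvd_of_le (c.hQ₀H d))

theorem hqH' (c : Ctx M E P R p r H) (d : QData M P R q Q₀) : q ∣ Nat.card ↥⁅H, H⁆ := by
  haveI : Fact q.Prime := ⟨d.hq⟩
  exact (dvd_card_of_isPGroup_ne_bot d.pgroup d.ne_bot).trans (Subgroup.card_dvd_of_le (c.hQ₀H' d))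

/-- `q ∈ σ(H)` or `q ∈ τ₃(H)` -/
theorem hq_cases (c : Ctx M E P R p r H) (d : QData M P R q Q₀) (hτ : q ∉ tau2 H) :
    q ∈ sigma H ∨ q ∈ tau3 H := by
  by_cases hσ : q ∈ sigma H
  · exact Or.inl hσ
  · right
    have hr2 : PRankLE q 2 ↥H := by
      by_contra h'
      exact hσ (Cfsg.Agent.Helper23.BG10.alpha_subset_sigma c.h.hG c.h.h1403 c.hH ⟨d.hq, h'⟩)
    have hr1 : PRankLE q 1 ↥H := by
      by_contra h'
      exact hτ ⟨d.hq, hσ, hr2, h'⟩
    exact ⟨d.hq, hσ, c.hqH' d, hr1⟩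

/-- `Q₀` is abelian -/
theorem hQ₀comm (c : Ctx M E P R p r H) (d : QData M P R q Q₀) (hτ : q ∉ tau2 H) :
    ∀ a ∈ Q₀, ∀ b ∈ Q₀, a * b = b * a := by
  haveI : Fact q.Prime := ⟨d.hq⟩
  rcases c.hq_cases d hτ with hσ | hτ3
  · -- Sylow `q`-subgroups of `G` are abelian
    obtain ⟨T, hQ₀T, hT⟩ := exists_isSylowIn_ge d.pgroup d.leM
    have hTtop := isSylowIn_top_of_mem_sigma d.hqM hT
    by_contra hna
    have hTna : ¬ IsMulCommutative ↥T := by
      intro hc
      apply hna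
      intro a ha b hb
      have := hc.is_comm.comm (⟨a, hQ₀T ha⟩ : ↥T) ⟨b, hQ₀T hb⟩
      exact congrArg Subtype.val this
    have hTU : InUniqueMaximal T := c.h.h1422 q T hT.isPGroup hTna
    obtain ⟨T', hT'⟩ := exists_isSylowIn (p := q) H
    have hT'top := isSylowIn_top_of_mem_sigma hσ hT'
    obtain ⟨g, -, hg⟩ := hTtop.exists_conj hT'top
    have h1 : T.map (MulAut.conj g).toMonoidHom ≤ H := hg ▸ hT'.le
    have h2 : T.map (MulAut.conj g).toMonoidHom ≤ M.map (MulAut.conj g).toMonoidHom :=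
      map_conj_mono hT.le g
    have h3 := eq_of_inUniqueMaximal_le (inUniqueMaximal_map_conj hTU g) c.hH h1
      (isCoatom_map_conj c.b.hM g) h2
    exact c.hconj g h3
  · exact comm_of_isCyclic
      (isCyclic_of_pRankLE_one_of_le c.h.hG (c.hQ₀H d) d.pgroup d.ne_bot hτ3.2.2.2)

theorem hcopRQ₀ (c : Ctx M E P R p r H) (d : QData M P R q Q₀) :
    (Nat.card ↥R).Coprime (Nat.card ↥Q₀) := by
  haveI : Fact q.Prime := ⟨d.hq⟩
  obtain ⟨k, hk⟩ := d.pgroup.exists_card_eq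
  rw [c.b.hR, hk]
  exact Nat.Coprime.pow_right k ((Nat.coprime_primes c.b.hr d.hq).mpr (c.hqr d).symm)

/-- `C_{Q₀}(R) = 1` -/
theorem hQ₀R (c : Ctx M E P R p r H) (d : QData M P R q Q₀) (hτ : q ∉ tau2 H) :
    Q₀ ⊓ centralizer (R : Set G) = ⊥ := by
  haveI : IsMulCommutative ↥Q₀ := by
    rw [isMulCommutative_iff_of_setLike]
    exact c.hQ₀comm d hτ
  have := Cfsg.Agent.Helper1.commutator_inf_centralizer_eq_bot R Q₀ d.norm (c.hcopRQ₀ d)
  rwa [d.comm] at this

/-- `R` acts without fixed points on `Q₀` -/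
theorem hfpf (c : Ctx M E P R p r H) (d : QData M P R q Q₀) (hτ : q ∉ tau2 H) :
    ∀ e ∈ R, e ≠ 1 → ∀ u ∈ Q₀, e * u = u * e → u = 1 := by
  intro e he he1 u hu heu
  haveI : Fact r.Prime := ⟨c.b.hr⟩
  have hz : Subgroup.zpowers e = R := by
    apply Subgroup.eq_of_le_of_card_ge
    · rw [Subgroup.zpowers_le]; exact he
    · rw [Nat.card_zpowers, c.b.hR]
      have h1 : orderOf e ∣ r := by
        have := orderOf_dvd_card_of_mem he
        rwa [c.b.hR] at this
      rcases (Nat.dvd_prime c.b.hr).mp h1 with h | h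
      · exact absurd (orderOf_eq_one_iff.mp h) he1
      · exact h.ge
  have h2 : u ∈ Q₀ ⊓ centralizer (R : Set G) := by
    refine Subgroup.mem_inf.mpr ⟨hu, ?_⟩
    rw [Subgroup.mem_centralizer_iff]
    intro x hx
    rw [← hz, SetLike.mem_coe, Subgroup.mem_zpowers_iff] at hx
    obtain ⟨n, rfl⟩ := hx
    have hc : Commute e u := heu
    exact (hc.zpow_left n).eq
  rw [c.hQ₀R d hτ, Subgroup.mem_bot] at h2
  exact h2

/-- `q ∉ α(H)` -/
theorem hqα (c : Ctx M E P R p r H) (d : QData M P R q Q₀) : q ∉ alpha H := by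
  haveI : Fact q.Prime := ⟨d.hq⟩
  rintro ⟨-, hα⟩
  -- a Sylow `q`-subgroup of `H` is a uniqueness subgroup, and conjugate into `M`
  have hσ : q ∈ sigma H :=
    Cfsg.Agent.Helper23.BG10.alpha_subset_sigma c.h.hG c.h.h1403 c.hH ⟨d.hq, hα⟩
  obtain ⟨T', hT'⟩ := exists_isSylowIn (p := q) H
  have hT'U := inUniqueMaximal_of_sylow_of_rank c.h.hG c.h.h1403 c.hH hα hT'
  obtain ⟨g, hg⟩ := exists_conj_isSylowIn d.hqM hσ hT'
  have h3 := eq_of_inUniqueMaximal_le (inUniqueMaximal_map_conj hT'U g)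
    (isCoatom_map_conj c.hH g) (map_conj_mono hT'.le g) c.b.hM hg.le
  apply c.hconj g⁻¹
  rw [← h3, map_conj_inv_map_conj]

end Ctx

end Cfsg.Agent.Helper18.BG13Q
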