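import Mathlib
import Cfsg.Agent.Lib.Helper18.BG13Q4
import Cfsg.Agent.Lib.Helper23.BG10H
import Cfsg.Agent.S0025

/-!
# Bender-Glauberman 13.7 (helper18), part 5: the case `p ∈ α(H)` (step (B))

If `p ∈ α(H)` then `q ∈ σ(H)` and `N_G(X) ≤ H` for every nontrivial subgroup `X` of `Q₀`.
-/

set_option autoImplicit false
set_option linter.style.haveILetI false
set_option linter.unusedSectionVars false
set_option linter.unusedVariables false

namespace Cfsg.Agent.Helper18.BG13Q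

open Cfsg Subgroup
open scoped commutatorElement
open Cfsg.Agent.Helper14.BGTrans Cfsg.Agent.Helper14.BGUniq
open Cfsg.Agent.Helper10 (IsPiNum)
open Cfsg.Agent.Helper15 (IsSylowIn isSylowIn_of_sylow_le isSylowIn_map_subtype isSylowIn_top
  map_conj_eq_of_mem_normalizer map_conj_map_conj card_map_conj map_conj_one
  map_conj_map_conj_inv map_conj_inv_map_conj isPGroup_map_conj map_conj_mono
  map_conj_eq_self_of_mem exists_isSylowIn_ge exists_isSylowIn isSylowIn_of_not_dvd_relIndex)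
open Cfsg.Agent.Helper22.BG13
open Cfsg.Agent.Helper20.MinInv (comm_le_of_le_normalizer le_centralizer_of_comm_comm_eq_bot)
open Cfsg.Agent.Helper18.BG13P

universe u

variable {G : Type u} [Group G] [Finite G]

/-- in a cyclic subgroup `C` containing a subgroup `P` of prime order `p`, every element with
`c ^ p = 1` lies in `P` -/
theorem mem_of_pow_eq_one_of_isCyclic {C P : Subgroup G} {p : ℕ} [Fact p.Prime]
    (hC : IsCyclic ↥C) (hPC : P ≤ C) (hP : Nat.card ↥P = p) {c : G} (hc : c ∈ C)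
    (hcp : c ^ p = 1) : c ∈ P := by
  have hpp : p.Prime := Fact.out
  have hcomm := comm_of_isCyclic hC
  set B := P ⊔ Subgroup.zpowers c with hB
  have hBC : B ≤ C := sup_le hPC (by rw [Subgroup.zpowers_le]; exact hc)
  have hBcyc : IsCyclic ↥B := isCyclic_of_le_aux hBC hC
  have hexp : ∀ b ∈ B, b ^ p = 1 := by
    intro b hb
    have hn : Subgroup.zpowers c ≤ normalizer (P : Set G) := by
      intro x hx
      apply Subgroup.centralizer_le_normalizer (P : Set G)
      rw [Subgroup.mem_centralizer_iff]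
      intro y hy
      exact hcomm y (hPC hy) x (hBC (le_sup_right (a := P) hx))
    obtain ⟨a, ha, x, hx, rfl⟩ := exists_mul_of_mem_sup hn hb
    have hax : Commute a x := hcomm a (hPC ha) x (hBC (le_sup_right (a := P) hx))
    rw [hax.mul_pow]
    have h1 : a ^ p = 1 := by
      have := pow_card_eq_one' (G := ↥P) (x := ⟨a, ha⟩)
      rw [hP] at this
      exact congrArg Subtype.val this
    have h2 : x ^ p = 1 := by
      rw [Subgroup.mem_zpowers_iff] at hx
      obtain ⟨n, rfl⟩ := hx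
      rw [← zpow_natCast, ← zpow_mul, mul_comm, zpow_mul, zpow_natCast, hcp, one_zpow]
    rw [h1, h2, mul_one]
  have hle := card_le_of_isCyclic_of_pow_eq_one hBcyc hpp.pos hexp
  have hPB : P = B := Subgroup.eq_of_le_of_card_ge le_sup_left (by rw [hP]; exact hle)
  rw [hPB]
  exact le_sup_right (a := P) (Subgroup.mem_zpowers c)

/-- if a Sylow `p`-subgroup of `H` is cyclic, `H` has `p`-rank at most one -/
theorem pRankLE_one_of_isSylowIn_cyclic {H S : Subgroup G} {p : ℕ} [Fact p.Prime]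
    (hS : IsSylowIn p S H) (hc : IsCyclic ↥S) : PRankLE p 1 ↥H := by
  have hpp : p.Prime := Fact.out
  by_contra h
  obtain ⟨B, hBH, hBe, hBc⟩ := exists_elemAb_of_not_pRankLE h
  obtain ⟨T, hBT, hT⟩ := exists_isSylowIn_ge (isPGroup_of_isElementaryAbelian hBe) hBH
  obtain ⟨k, -, hk⟩ := hS.exists_conj hT
  have hTc : IsCyclic ↥T := hk ▸ isCyclic_map_conj hc k
  have hBcyc : IsCyclic ↥B := isCyclic_of_le_aux hBT hTc
  have := card_le_of_isCyclic_of_pow_eq_one hBcyc hpp.pos hBe.2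
  rw [pow_one] at hBc
  omega

/-- if `H ∩ C_G(X)` lies in a unique maximal subgroup, that subgroup is `H` and contains
`N_G(X)` -/
theorem normalizer_le_of_inUniqueMaximal {H X : Subgroup G} (hH : IsCoatom H)
    (hU : InUniqueMaximal (H ⊓ centralizer (X : Set G))) (hN : normalizer (X : Set G) ≠ ⊤)
    (hXH : X ≤ H) :
    normalizer (X : Set G) ≤ H := by
  obtain ⟨L, hL, hNL⟩ := exists_isCoatom_ge hN
  have h1 : H ⊓ centralizer (X : Set G) ≤ L :=
    inf_le_right.trans ((Subgroup.centralizer_le_normalizer _).trans hNL)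
  have := eq_of_inUniqueMaximal_le hU hL h1 hH inf_le_left
  rw [← this]
  exact hNL

namespace Ctx

variable {M E P R : Subgroup G} {p r : ℕ} {H : Subgroup G} {Q₀ : Subgroup G} {q : ℕ}

theorem hrσH (c : Ctx M E P R p r H) : r ∉ sigma H := c.hrH.2.1

theorem hrα (c : Ctx M E P R p r H) : r ∉ alpha H := fun h =>
  c.hrσH (Cfsg.Agent.Helper23.BG10.alpha_subset_sigma c.h.hG c.h.h1403 c.hH h)

/-- `C_{H_α}(R)` has rank at most one -/
theorem rank_alphaCore_R (c : Ctx M E P R p r H) :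
    RankLE 1 ↥(alphaCore H ⊓ centralizer (R : Set G)) := by
  haveI : Fact r.Prime := ⟨c.b.hr⟩
  by_contra hr
  have hU := c.h.h1406 H c.hH R c.hRH (by
    intro s hs hsd
    rw [c.b.hR] at hsd
    rw [(Nat.prime_dvd_prime_iff_eq hs c.b.hr).mp hsd]
    exact c.hrα) hr
  have hN := normalizer_le_of_inUniqueMaximal c.hH hU
    (normalizer_ne_top_of_isPGroup c.h.hG c.b.hRp c.b.hR1) c.hRH
  exact (c.h.h1409 H c.hH r c.hrσH R c.b.hR hN).1.2 c.hrH.2.2.2.2

/-- step (B) -/
theorem beta_core (c : Ctx M E P R p r H) (d : QData M P R q Q₀) (hτ : q ∉ tau2 H)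
    (hα : p ∈ alpha H) :
    q ∈ sigma H ∧ ∀ X : Subgroup G, X ≤ Q₀ → X ≠ ⊥ → normalizer (X : Set G) ≤ H := by
  haveI : Fact p.Prime := ⟨c.b.pp⟩
  haveI : Fact q.Prime := ⟨d.hq⟩
  haveI : Fact r.Prime := ⟨c.b.hr⟩
  have hpp : p.Prime := c.b.pp
  have hαhall := (c.h.h1405 H c.hH).1
  have hαN : H ≤ normalizer ((alphaCore H : Subgroup G) : Set G) :=
    le_normalizer_piCoreOf (alpha H) H
  have hαH : alphaCore H ≤ H := piCoreOf_le _ _
  have hPα : P ≤ alphaCore H :=
    Cfsg.Agent.Helper4.BGSig.le_of_isPiHallOf_normal hαhall hαN c.hPH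
      (isPiNum_of_isPGroup hα c.b.hPp)
  -- the group `A₀ = Q₀ R`
  set A₀ := Q₀ ⊔ R with hA₀
  have hA₀H : A₀ ≤ H := sup_le (c.hQ₀H d) c.hRH
  have hA₀card : Nat.card ↥A₀ ∣ Nat.card ↥Q₀ * Nat.card ↥R :=
    Cfsg.Agent.Helper7.card_sup_dvd_mul_of_le_normalizer d.norm
  obtain ⟨k, hk⟩ := d.pgroup.exists_card_eq
  have hA₀cop : ∀ s : ℕ, s.Prime → s ≠ q → s ≠ r → (Nat.card ↥A₀).Coprime s := by
    intro s hs hsq hsr
    apply Nat.Coprime.coprime_dvd_left hA₀card
    rw [hk, c.b.hR]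
    exact Nat.Coprime.mul_left (Nat.Coprime.pow_left k ((Nat.coprime_primes d.hq hs).mpr hsq.symm))
      ((Nat.coprime_primes c.b.hr hs).mpr hsr.symm)
  have hcopα : (Nat.card ↥A₀).Coprime (Nat.card ↥(alphaCore H)) := by
    apply Nat.Coprime.symm
    apply Nat.coprime_of_dvd
    intro s hs hs1 hs2
    have hsα : s ∈ alpha H := hαhall.2.1 s hs hs1
    have := hA₀cop s hs (fun h => c.hqα d (h ▸ hsα)) (fun h => c.hrα (h ▸ hsα))
    exact hs.one_lt.ne' ((Nat.Coprime.symm this).eq_one_of_dvd hs2)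
  have hA₀α : A₀ ≤ normalizer ((alphaCore H : Subgroup G) : Set G) := hA₀H.trans hαN
  have hA₀P : A₀ ≤ normalizer (P : Set G) :=
    (sup_le d.leP c.b.hRP).trans (Subgroup.centralizer_le_normalizer _)
  have hsolvα : Group.IsSolvable ↥(alphaCore H) :=
    isSolvable_of_ne_top c.h.hG (ne_top_of_le_ne_top c.hH.1 hαH)
  obtain ⟨S₀, hPS, hA₀S⟩ := Cfsg.Agent.S0025.result A₀ (alphaCore H) hA₀α hcopα (Or.inr hsolvα) p P
    hPα c.b.hPp hA₀P
  set S := (S₀ : Subgroup ↥(alphaCore H)).map (alphaCore H).subtype with hSdef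
  have hSα : IsSylowIn p S (alphaCore H) := isSylowIn_map_subtype S₀
  have hSH : IsSylowIn p S H :=
    Cfsg.Agent.Helper23.BG10.isSylowIn_of_alphaCore c.h.hG c.h.h1403 c.h.h1404 c.hH hα hSα
  have hSp : IsPGroup p ↥S := hSα.isPGroup
  have hQ₀S : Q₀ ≤ normalizer (S : Set G) := le_sup_left.trans hA₀S
  have hRS : R ≤ normalizer (S : Set G) := le_sup_right.trans hA₀S
  have hcopS : (Nat.card ↥S).Coprime (Nat.card ↥(Q₀ ⊔ R : Subgroup G)) := by
    obtain ⟨j, hj⟩ := hSp.exists_card_eq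
    rw [hj]
    exact (Nat.Coprime.pow_right j (hA₀cop p hpp (c.hqp d).symm c.hrp.symm)).symm
  -- `C_S(R)` is cyclic
  have hPSR : P ≤ S ⊓ centralizer (R : Set G) := le_inf hPS c.b.hPR
  have hSR1 : S ⊓ centralizer (R : Set G) ≠ ⊥ := fun h => c.b.hP1 (le_bot_iff.mp (h ▸ hPSR))
  have hcR : IsCyclic ↥(S ⊓ centralizer (R : Set G)) :=
    isCyclic_of_pRankLE_one_of_le c.h.hG
      (inf_le_inf_right _ hSα.le : S ⊓ centralizer (R : Set G) ≤ alphaCore H ⊓ centralizer (R : Set G))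
      (hSp.to_le inf_le_left) hSR1 (c.rank_alphaCore_R p hpp)
  have hΩ : ∀ x ∈ S ⊓ centralizer (R : Set G), x ^ p = 1 → x ∈ centralizer (Q₀ : Set G) :=
    fun x hx hxp => d.hPQ₀ (mem_of_pow_eq_one_of_isCyclic hcR hPSR c.b.hP hx hxp)
  -- `C_S(Q₀)` is not cyclic
  have hPSQ : P ≤ S ⊓ centralizer (Q₀ : Set G) := le_inf hPS d.hPQ₀
  have hSQ1 : S ⊓ centralizer (Q₀ : Set G) ≠ ⊥ := fun h => c.b.hP1 (le_bot_iff.mp (h ▸ hPSQ))
  have hncyc : ¬ IsCyclic ↥(S ⊓ centralizer (Q₀ : Set G)) := by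
    intro hcK
    have hX := lemmaX (p := p) Q₀ R d.pgroup.isNilpotent d.norm (c.hfpf d hτ) (Nat.card ↥S) S rfl
      hSp hQ₀S hRS hcopS hcK hcR hΩ
    have hSeq : S ⊓ centralizer (Q₀ : Set G) = S := inf_eq_left.mpr hX
    rw [hSeq] at hcK
    have h1 := pRankLE_one_of_isSylowIn_cyclic hSH hcK
    apply hα.2
    intro B hBc hBe
    exact (h1 B hBc hBe).trans (Nat.pow_le_pow_right hpp.pos (by norm_num))
  -- uniqueness subgroups
  have key : ∀ X : Subgroup G, X ≤ Q₀ → X ≠ ⊥ → normalizer (X : Set G) ≤ H := by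
    intro X hXQ hX1
    have hXH : X ≤ H := hXQ.trans (c.hQ₀H d)
    have hXq : IsPGroup q ↥X := d.pgroup.to_le hXQ
    have hrk : ¬ RankLE 1 ↥(alphaCore H ⊓ centralizer (X : Set G)) := by
      intro hrk
      apply hncyc
      exact isCyclic_of_pRankLE_one_of_le c.h.hG
        (inf_le_inf hSα.le (Subgroup.centralizer_le (SetLike.coe_subset_coe.mpr hXQ)) :
          S ⊓ centralizer (Q₀ : Set G) ≤ alphaCore H ⊓ centralizer (X : Set G))
        (hSp.to_le inf_le_left) hSQ1 (hrk p hpp)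
    have hU := c.h.h1406 H c.hH X hXH (by
      intro s hs hsd
      obtain ⟨j, hj⟩ := hXq.exists_card_eq
      rw [hj] at hsd
      rw [(Nat.prime_dvd_prime_iff_eq hs d.hq).mp (hs.dvd_of_dvd_pow hsd)]
      exact c.hqα d) hrk
    exact normalizer_le_of_inUniqueMaximal c.hH hU
      (normalizer_ne_top_of_isPGroup c.h.hG hXq hX1) hXH
  refine ⟨?_, key⟩
  rcases c.hq_cases d hτ with hσ | hτ3
  · exact hσ
  · exfalso
    -- a subgroup of order `q` of `Q₀`
    have hqd : q ∣ Nat.card ↥Q₀ := dvd_card_of_isPGroup_ne_bot d.pgroup d.ne_bot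
    obtain ⟨x, hx⟩ := exists_prime_orderOf_dvd_card' (G := ↥Q₀) q hqd
    have hox : orderOf (x : G) = q := by rw [Subgroup.orderOf_coe]; exact hx
    have hXc : Nat.card ↥(Subgroup.zpowers (x : G)) = q := by rw [Nat.card_zpowers, hox]
    have hXQ : Subgroup.zpowers (x : G) ≤ Q₀ := by rw [Subgroup.zpowers_le]; exact x.2
    have hN := key _ hXQ (card_prime_ne_bot hXc)
    exact (c.h.h1409 H c.hH q hτ3.2.1 _ hXc hN).1.2 hτ3.2.2.2

end Ctx

end Cfsg.Agent.Helper18.BG13Q
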