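import Mathlib
import Cfsg.Agent.Lib.Helper18.BG13Q5
import Cfsg.Agent.S0026

/-!
# Bender-Glauberman 13.7 (helper18), part 6: the descent, last step (A3)

From an element `v ∈ C_H(R)` of prime power order `r'^k` (`r' ∉ σ(H)`) not centralizing `P` we build
a bad triple `(H, E', R, R')` with `|R'| = r'`.
-/

set_option autoImplicit false
set_option linter.style.haveILetI false
set_option linter.unusedSectionVars false
set_option linter.unusedVariables false

namespace Cfsg.Agent.Helper18.BG13Q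

open Cfsg Subgroup
open scoped commutatorElement
open Cfsg.Agent.Helper14.BGTrans Cfsg.Agent.Helper14.BGUniq
open Cfsg.Agent.Helper10 (IsPiNum)
open Cfsg.Agent.Helper15 (IsSylowIn isSylowIn_of_sylow_le isSylowIn_map_subtype isSylowIn_top
  map_conj_eq_of_mem_normalizer map_conj_map_conj card_map_conj map_conj_one
  map_conj_map_conj_inv map_conj_inv_map_conj isPGroup_map_conj map_conj_mono
  map_conj_eq_self_of_mem exists_isSylowIn_ge exists_isSylowIn isSylowIn_of_not_dvd_relIndex)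
open Cfsg.Agent.Helper22.BG13
open Cfsg.Agent.Helper20.MinInv (comm_le_of_le_normalizer le_centralizer_of_comm_comm_eq_bot)
open Cfsg.Agent.Helper18.BG13P

universe u

variable {G : Type u} [Group G] [Finite G]

/-- prime action (BG 13.?, the statement of S1427) for a cyclic Sylow subgroup `T` of `E` -/
theorem prime_action' (h : Hyps G) {M E T : Subgroup G} (hM : IsCoatom M)
    (hE : IsComplIn E (sigmaCore M) M) {s : ℕ} [Fact s.Prime] (hT : IsSylowIn s T E)
    (hT1 : T ≠ ⊥) (hTc : IsCyclic ↥T) :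
    ∀ x ∈ T, x ≠ 1 → sigmaCore M ⊓ centralizer ({x} : Set G) =
      sigmaCore M ⊓ centralizer (T : Set G) := by
  have hS1 : (hT.toSylow : Subgroup ↥E) ≠ ⊥ := by
    intro h0
    apply hT1
    rw [← hT.map_toSylow, h0, Subgroup.map_bot]
  have hSc : IsCyclic ↥(hT.toSylow : Subgroup ↥E) := by
    haveI := hTc
    rw [hT.coe_toSylow]
    exact isCyclic_of_surjective (Subgroup.subgroupOfEquivOfLe hT.le).symm
      (Subgroup.subgroupOfEquivOfLe hT.le).symm.surjective
  have := prime_action h.hG h.h1403 h.h1404 h.h1413 h.h1416 h.h1350 h.h1414 h.h1417 h.h1418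
    h.h1415 h.h1409 M hM E hE s hT.toSylow hS1 hSc
  rw [hT.map_toSylow] at this
  exact this

/-- an elementary abelian subgroup of order `s²` inside a complement `E` of `M_σ`,
for `s ∈ τ₂(M)` -/
theorem exists_elemAb_le_compl (h : Hyps G) {M E : Subgroup G} (hM : IsCoatom M)
    (hE : IsComplIn E (sigmaCore M) M) {s : ℕ} [Fact s.Prime] (hs : s ∈ tau2 M) :
    ∃ A : Subgroup G, A ≤ E ∧ IsElementaryAbelian s A ∧ Nat.card ↥A = s ^ 2 := by
  have hsp : s.Prime := Fact.out
  obtain ⟨A₀, hA₀M, hA₀e, hA₀c⟩ := Cfsg.Agent.Helper23.BG10.exists_elemAb_sq hs.2.2.1 hs.2.2.2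
  have hsolv : Group.IsSolvable ↥M := isSolvable_of_ne_top h.hG hM.1
  obtain ⟨hhall, -, -⟩ := h.h1350 M hM
  have hA₀σ : (Nat.card ↥A₀).Coprime (Nat.card ↥(sigmaCore M)) := by
    rw [hA₀c]
    exact Nat.Coprime.pow_left 2
      ((Nat.Prime.coprime_iff_not_dvd hsp).mpr (not_dvd_card_sigmaCore hsp hs.2.1))
  obtain ⟨m, -, hAE⟩ := exists_conj_le_of_hall hsolv (sigmaCore_le M)
    (le_normalizer_sigmaCore M) hE.1 hA₀M (coprime_of_isPiHallOf hhall) (fac_of_isComplIn hE) hA₀σ
  exact ⟨_, hAE, isElementaryAbelian_map_conj hA₀e m, by rw [card_map_conj, hA₀c]⟩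

omit [Finite G] in
/-- `x ∈ C_G(P)` if `P ≤ C_G({x})` -/
theorem mem_centralizer_of_le_centralizer_singleton {P : Subgroup G} {x : G}
    (hP : P ≤ centralizer ({x} : Set G)) : x ∈ centralizer (P : Set G) := by
  rw [Subgroup.mem_centralizer_iff]
  intro y hy
  exact Subgroup.mem_centralizer_singleton_iff.mp (hP hy)

namespace Ctx

variable {M E P R : Subgroup G} {p r : ℕ} {H : Subgroup G}

/-- step (A3) -/
theorem bad_of_noncentralizing (c : Ctx M E P R p r H) (hpβ : p ∉ beta H)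
    {v : G} {r' k : ℕ} (hr' : r'.Prime) (hov : orderOf v = r' ^ k) (hvH : v ∈ H)
    (hvR : v ∈ centralizer (R : Set G)) (hvP : v ∉ centralizer (P : Set G))
    (hr'σ : r' ∉ sigma H) :
    ∃ E' R' : Subgroup G, Bad H E' R R' r r' := by
  haveI : Fact p.Prime := ⟨c.b.pp⟩
  haveI : Fact r.Prime := ⟨c.b.hr⟩
  haveI : Fact r'.Prime := ⟨hr'⟩
  have hpp : p.Prime := c.b.pp
  have hv1 : v ≠ 1 := fun h => hvP (h ▸ Subgroup.one_mem _)
  obtain ⟨hHhall, -, -⟩ := c.h.h1350 H c.hH
  have hcopH := coprime_of_isPiHallOf hHhall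
  -- the subgroup `W = ⟨v⟩ R`
  set V := Subgroup.zpowers v with hV
  have hVH : V ≤ H := by rw [hV, Subgroup.zpowers_le]; exact hvH
  have hVR : V ≤ centralizer (R : Set G) := by rw [hV, Subgroup.zpowers_le]; exact hvR
  have hVcard : Nat.card ↥V = r' ^ k := by rw [hV, Nat.card_zpowers, hov]
  have hVp : IsPGroup r' ↥V := IsPGroup.of_card hVcard
  have hV1 : V ≠ ⊥ := by
    intro h0
    apply hv1
    have : v ∈ V := Subgroup.mem_zpowers v
    rwa [h0, Subgroup.mem_bot] at this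
  have hRV : R ≤ normalizer (V : Set G) := by
    intro x hx
    apply Subgroup.centralizer_le_normalizer (V : Set G)
    rw [Subgroup.mem_centralizer_iff]
    intro y hy
    exact ((Subgroup.mem_centralizer_iff.mp (hVR hy)) x hx).symm
  have hWcard : (Nat.card ↥(V ⊔ R : Subgroup G)).Coprime (Nat.card ↥(sigmaCore H)) := by
    apply Nat.Coprime.coprime_dvd_left
      (Cfsg.Agent.Helper7.card_sup_dvd_mul_of_le_normalizer hRV)
    rw [hVcard, c.b.hR]
    exact Nat.Coprime.mul_left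
      (Nat.Coprime.pow_left k
        ((Nat.Prime.coprime_iff_not_dvd hr').mpr (not_dvd_card_sigmaCore hr' hr'σ)))
      ((Nat.Prime.coprime_iff_not_dvd c.b.hr).mpr (not_dvd_card_sigmaCore c.b.hr c.hrσH))
  obtain ⟨E', hE', hWE'⟩ := exists_isComplIn_ge c.hsolvH (sigmaCore_le H) hcopH
    (sup_le hVH c.hRH) hWcard
  have hVE' : V ≤ E' := le_sup_left.trans hWE'
  have hRE' : R ≤ E' := le_sup_right.trans hWE'
  have hPσR : P ≤ sigmaCore H ⊓ centralizer (R : Set G) := le_inf c.hPσ c.b.hPR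
  -- `r' ≠ r`
  have hr'r : r' ≠ r := by
    intro heq
    subst heq
    have hWp : IsPGroup r' ↥(V ⊔ R : Subgroup G) := by
      have h1 := Cfsg.Agent.Helper7.card_sup_dvd_mul_of_le_normalizer hRV
      rw [hVcard, c.b.hR, ← pow_succ] at h1
      obtain ⟨j, -, hj⟩ := (Nat.dvd_prime_pow hr').mp h1
      exact IsPGroup.of_card hj
    obtain ⟨T, hWT, hT⟩ := exists_isSylowIn_ge hWp hWE'
    have hT1 : T ≠ ⊥ := fun h0 => hV1 (le_bot_iff.mp (h0 ▸ (le_sup_left.trans hWT)))
    have hTc : IsCyclic ↥T :=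
      isCyclic_of_pRankLE_one_of_le c.h.hG (hT.le.trans hE'.1) hT.isPGroup hT1 c.hrH.2.2.2.2
    have hpa := prime_action' c.h c.hH hE' hT hT1 hTc
    obtain ⟨y, hy, hy1⟩ := exists_mem_ne_one c.b.hR1
    have h1 := hpa v ((le_sup_left.trans hWT) (Subgroup.mem_zpowers v)) hv1
    have h2 := hpa y ((le_sup_right.trans hWT) hy) hy1
    have h3 : P ≤ sigmaCore H ⊓ centralizer ({y} : Set G) :=
      le_inf c.hPσ (c.b.hPR.trans (Subgroup.centralizer_le (by simpa using hy)))
    rw [h2, ← h1] at h3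
    exact hvP (mem_centralizer_of_le_centralizer_singleton (h3.trans inf_le_right))
  have hr'H : r' ∣ Nat.card ↥H :=
    (dvd_card_of_isPGroup_ne_bot hVp hV1).trans (Subgroup.card_dvd_of_le hVH)
  have hr2 : PRankLE r' 2 ↥H := by
    by_contra h'
    exact hr'σ (Cfsg.Agent.Helper23.BG10.alpha_subset_sigma c.h.hG c.h.h1403 c.hH ⟨hr', h'⟩)
  by_cases hr1 : PRankLE r' 1 ↥H
  · -- rank one
    obtain ⟨T, hVT, hT⟩ := exists_isSylowIn_ge hVp hVE'
    have hT1 : T ≠ ⊥ := fun h0 => hV1 (le_bot_iff.mp (h0 ▸ hVT))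
    have hTc : IsCyclic ↥T :=
      isCyclic_of_pRankLE_one_of_le c.h.hG (hT.le.trans hE'.1) hT.isPGroup hT1 hr1
    have hpa := prime_action' c.h c.hH hE' hT hT1 hTc
    have hk0 : k ≠ 0 := by
      rintro rfl
      rw [pow_zero, orderOf_eq_one_iff] at hov
      exact hv1 hov
    obtain ⟨j, rfl⟩ := Nat.exists_eq_succ_of_ne_zero hk0
    set y := v ^ r' ^ j with hy
    have hoy : orderOf y = r' := by
      rw [hy, orderOf_pow' v (pow_ne_zero j hr'.ne_zero), hov, pow_succ,
        Nat.gcd_eq_right (Dvd.intro _ rfl), Nat.mul_div_cancel_left _ (pow_pos hr'.pos j)]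
    have hyV : y ∈ V := V.pow_mem (Subgroup.mem_zpowers v) _
    have hy1 : y ≠ 1 := by
      intro h0
      rw [h0, orderOf_one] at hoy
      exact hr'.one_lt.ne hoy
    set R' := Subgroup.zpowers y with hR'
    have hR'V : R' ≤ V := by rw [hR', Subgroup.zpowers_le]; exact hyV
    have h1 := hpa v (hVT (Subgroup.mem_zpowers v)) hv1
    have h2 := hpa y (hVT hyV) hy1
    refine ⟨E', R', c.hH, hE', c.hrH, hRE', c.b.hR, hR'V.trans hVE', hR'V.trans hVR,
      by rw [hR', Nat.card_zpowers, hoy], hr', ?_⟩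
    intro hle
    have h3 : P ≤ sigmaCore H ⊓ centralizer ({y} : Set G) := by
      refine le_inf c.hPσ ((hPσR.trans hle).trans (Subgroup.centralizer_le ?_))
      intro z hz
      rw [Set.mem_singleton_iff] at hz
      rw [hz]
      exact Subgroup.mem_zpowers y
    rw [h2, ← h1] at h3
    exact hvP (mem_centralizer_of_le_centralizer_singleton (h3.trans inf_le_right))
  · -- `r' ∈ τ₂(H)`
    have hτ : r' ∈ tau2 H := ⟨hr', hr'σ, hr2, hr1⟩
    obtain ⟨A, hAE', hAe, hAc⟩ := exists_elemAb_le_compl c.h c.hH hE' hτ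
    have hAH : A ≤ H := hAE'.trans hE'.1
    have h17 := c.h.h1417 H c.hH r' hτ A ⟨hAH, hAe, hAc⟩
    have hnil : Group.IsNilpotent ↥(sigmaCore H) := h17.1
    have hCA : sigmaCore H ⊓ centralizer (A : Set G) = ⊥ := h17.2.2.2.1
    have hE'A : E' ≤ normalizer (A : Set G) := (c.h.h1418 H c.hH E' hE' r' hτ A ⟨hAE', hAe, hAc⟩).1.1
    -- the Sylow `p`-subgroup of `H_σ`
    obtain ⟨S₀, hPS₀, hS₀⟩ := exists_isSylowIn_ge c.b.hPp c.hPσ
    have hHS₀ : H ≤ normalizer (S₀ : Set G) :=
      le_normalizer_sylow_of_nilpotent_normal (le_normalizer_sigmaCore H) hnil hS₀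
    -- `E''` centralizes `S₀`
    have hpH : p ∣ Nat.card ↥H := c.hpH.2.1
    obtain ⟨N, hN, hNp, hNmem⟩ :=
      exists_normal_of_hasNormalPComplement ((c.h.h1414 H c.hH).2.2.2.2 p hpp hpH hpβ).1
    have hE'p : (Nat.card ↥E').Coprime p := by
      have h1 : Nat.card ↥E' = (sigmaCore H).relIndex H :=
        (Cfsg.Agent.Helper4.BG144.complIn_relIndex_eq' hE').symm
      rw [h1, Nat.coprime_comm]
      exact (Nat.Prime.coprime_iff_not_dvd hpp).mpr (hHhall.2.2 p hpp c.hpH)
    have hcent : ⁅E', E'⁆ ≤ centralizer (S₀ : Set G) := by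
      intro x hx
      have hxE' : x ∈ E' := commutator_self_le E' hx
      have hxH : x ∈ H := hE'.1 hxE'
      have hxH' : x ∈ ⁅H, H⁆ := Subgroup.commutator_mono hE'.1 hE'.1 hx
      have hox : (orderOf x).Coprime p :=
        Nat.Coprime.coprime_dvd_left (orderOf_dvd_card_of_mem hxE') hE'p
      rw [Subgroup.mem_centralizer_iff]
      intro s hs
      have hsH : s ∈ H := (hS₀.le.trans (sigmaCore_le H)) hs
      -- the commutator `s x s⁻¹ x⁻¹` lies in `S₀ ∩ N = 1`
      have hn : ∀ z : G, (hz : z ∈ ⁅H, H⁆) → (orderOf z).Coprime p →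
          (⟨z, hz⟩ : ↥⁅H, H⁆) ∈ N := by
        intro z hz hoz
        apply hNmem
        rw [Subgroup.orderOf_mk]
        exact hoz
      have hsxs : s * x * s⁻¹ ∈ ⁅H, H⁆ := by
        have hnorm : H ≤ normalizer ((⁅H, H⁆ : Subgroup G) : Set G) :=
          le_normalizer_commutator_of_le Subgroup.le_normalizer Subgroup.le_normalizer
        exact (Subgroup.mem_normalizer_iff.mp (hnorm hsH) x).mp hxH'
      have h1 : (⟨s * x * s⁻¹, hsxs⟩ : ↥⁅H, H⁆) ∈ N :=
        hn _ hsxs (by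
          rw [← SemiconjBy.orderOf_eq s (show SemiconjBy s x (s * x * s⁻¹) from by
            unfold SemiconjBy; group)]
          exact hox)
      have h2 : (⟨x, hxH'⟩ : ↥⁅H, H⁆) ∈ N := hn _ hxH' hox
      have h3 : (⟨s * x * s⁻¹, hsxs⟩ : ↥⁅H, H⁆) * (⟨x, hxH'⟩ : ↥⁅H, H⁆)⁻¹ ∈ N :=
        N.mul_mem h1 (N.inv_mem h2)
      set w := s * x * s⁻¹ * x⁻¹ with hw
      have hwN : orderOf w ∣ Nat.card ↥N := by
        have h4 := orderOf_dvd_natCard (⟨_, h3⟩ : ↥N)
        rw [Subgroup.orderOf_mk] at h4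
        have h5 : orderOf ((⟨s * x * s⁻¹, hsxs⟩ : ↥⁅H, H⁆) * (⟨x, hxH'⟩ : ↥⁅H, H⁆)⁻¹) =
            orderOf w := by
          rw [← Subgroup.orderOf_coe]
          rfl
        rwa [h5] at h4
      have hwS : w ∈ S₀ := by
        have h4 : x * s⁻¹ * x⁻¹ ∈ S₀ :=
          (Subgroup.mem_normalizer_iff.mp (hHS₀ hxH) s⁻¹).mp (S₀.inv_mem hs)
        have : w = s * (x * s⁻¹ * x⁻¹) := by rw [hw]; group
        rw [this]
        exact S₀.mul_mem hs h4
      obtain ⟨i, hi⟩ := orderOf_eq_pow_of_isPGroup hS₀.isPGroup hwS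
      have hw1 : orderOf w = 1 := by
        have h4 : (orderOf w).Coprime (orderOf w) := by
          conv_rhs => rw [hi]
          exact Nat.Coprime.pow_right i (Nat.Coprime.coprime_dvd_left hwN hNp)
        exact (Nat.coprime_self _).mp h4
      rw [orderOf_eq_one_iff] at hw1
      calc s * x = (s * x * s⁻¹ * x⁻¹) * x * s := by group
        _ = x * s := by rw [← hw, hw1, one_mul]
    -- coprime action of `R` on `A`
    have hRA : R ≤ normalizer (A : Set G) := hRE'.trans hE'A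
    have hcopRA : (Nat.card ↥R).Coprime (Nat.card ↥A) := by
      rw [c.b.hR, hAc]
      exact Nat.Coprime.pow_right 2 ((Nat.coprime_primes c.b.hr hr').mpr hr'r.symm)
    have hdec := Cfsg.Agent.S0026.result R A hRA hcopRA
      (Or.inl (by haveI := c.b.hRp.isNilpotent; infer_instance))
    have hARcent : ⁅A, R⁆ ≤ centralizer (S₀ : Set G) :=
      (Subgroup.commutator_mono hAE' hRE').trans hcent
    -- some `a ∈ C_A(R)` does not centralize `C_{S₀}(R)`
    have hex : ∃ a ∈ A ⊓ centralizer (R : Set G),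
        a ∉ centralizer ((S₀ ⊓ centralizer (R : Set G) : Subgroup G) : Set G) := by
      by_contra hcon
      push Not at hcon
      have h1 : A ≤ centralizer ((S₀ ⊓ centralizer (R : Set G) : Subgroup G) : Set G) := by
        rw [← hdec]
        refine sup_le (hARcent.trans (Subgroup.centralizer_le ?_)) hcon
        exact SetLike.coe_subset_coe.mpr inf_le_left
      have h2 : P ≤ sigmaCore H ⊓ centralizer (A : Set G) := by
        refine le_inf c.hPσ ?_
        intro x hx
        rw [Subgroup.mem_centralizer_iff]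
        intro a ha
        exact ((Subgroup.mem_centralizer_iff.mp (h1 ha)) x ⟨hPS₀ hx, c.b.hPR hx⟩).symm
      rw [hCA] at h2
      exact c.b.hP1 (le_bot_iff.mp h2)
    obtain ⟨a, ha, hna⟩ := hex
    have ha1 : a ≠ 1 := fun h0 => hna (h0 ▸ Subgroup.one_mem _)
    have hoa : orderOf a = r' := by
      have h1 : orderOf a ∣ r' := orderOf_dvd_of_pow_eq_one (hAe.2 a ha.1)
      rcases (Nat.dvd_prime hr').mp h1 with h0 | h0
      · exact absurd (orderOf_eq_one_iff.mp h0) ha1
      · exact h0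
    set R' := Subgroup.zpowers a with hR'
    refine ⟨E', R', c.hH, hE', c.hrH, hRE', c.b.hR,
      (by rw [hR', Subgroup.zpowers_le]; exact hAE' ha.1),
      (by rw [hR', Subgroup.zpowers_le]; exact ha.2),
      by rw [hR', Nat.card_zpowers, hoa], hr', ?_⟩
    intro hle
    apply hna
    rw [Subgroup.mem_centralizer_iff]
    intro x hx
    have h1 : x ∈ centralizer (R' : Set G) :=
      hle ⟨(hS₀.le hx.1), hx.2⟩
    exact ((Subgroup.mem_centralizer_iff.mp h1) a (Subgroup.mem_zpowers a)).symm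

end Ctx

end Cfsg.Agent.Helper18.BG13Q
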