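import Mathlib
import Cfsg.Agent.Lib.Helper18.BG13Q6

/-!
# Bender-Glauberman 13.7 (helper18), part 7: the induction

`no_bad`: there is no bad triple, given the three remaining pieces (`NotTau2`, `Descent`, `Swap`)
as hypotheses.
-/

set_option autoImplicit false
set_option linter.style.haveILetI false
set_option linter.unusedSectionVars false
set_option linter.unusedVariables false

namespace Cfsg.Agent.Helper18.BG13Q

open Cfsg Subgroup
open scoped commutatorElement
open Cfsg.Agent.Helper14.BGTrans Cfsg.Agent.Helper14.BGUniq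
open Cfsg.Agent.Helper10 (IsPiNum)
open Cfsg.Agent.Helper15 (IsSylowIn isSylowIn_of_sylow_le isSylowIn_map_subtype isSylowIn_top
  map_conj_eq_of_mem_normalizer map_conj_map_conj card_map_conj map_conj_one
  map_conj_map_conj_inv map_conj_inv_map_conj isPGroup_map_conj map_conj_mono
  map_conj_eq_self_of_mem exists_isSylowIn_ge exists_isSylowIn isSylowIn_of_not_dvd_relIndex)
open Cfsg.Agent.Helper22.BG13
open Cfsg.Agent.Helper20.MinInv (comm_le_of_le_normalizer le_centralizer_of_comm_comm_eq_bot)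
open Cfsg.Agent.Helper18.BG13P

universe u

variable {G : Type u} [Group G] [Finite G]

/-- the piece `q ∉ τ₂(H)` -/
def NotTau2 (G : Type u) [Group G] : Prop :=
  ∀ (M E P R : Subgroup G) (p r : ℕ) (H : Subgroup G) (q : ℕ) (Q₀ : Subgroup G),
    Ctx M E P R p r H → QData M P R q Q₀ → q ∉ tau2 H

/-- the piece (A1)+(A2): a `p'`-element of prime power order of `C_H(R)` not centralizing `P` -/
def Descent (G : Type u) [Group G] : Prop :=
  ∀ (M E P R : Subgroup G) (p r : ℕ) (H : Subgroup G) (q : ℕ) (Q₀ : Subgroup G),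
    Ctx M E P R p r H → QData M P R q Q₀ → q ∉ tau2 H → p ∉ beta H →
    ∃ (v : G) (r' k : ℕ), r'.Prime ∧ orderOf v = r' ^ k ∧ v ∈ H ∧ v ∈ centralizer (R : Set G) ∧
      v ∉ centralizer (P : Set G) ∧ r' < p ∧ r' ∉ sigma H

/-- the piece (C) -/
def Swap (G : Type u) [Group G] : Prop :=
  ∀ (M E P R : Subgroup G) (p r : ℕ) (H : Subgroup G) (q : ℕ) (Q₀ : Subgroup G),
    Ctx M E P R p r H → QData M P R q Q₀ → q ∉ tau2 H → q ∈ sigma H →
    (∀ X : Subgroup G, X ≤ Q₀ → X ≠ ⊥ → normalizer (X : Set G) ≤ H) →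
    r ∈ tau1 M ∧ ∃ (t : ℕ) (T₁ : Subgroup G), t ∈ beta M ∧ IsPGroup t ↥T₁ ∧
      T₁ ≤ sigmaCore M ⊓ centralizer (R : Set G) ∧ P ≤ normalizer (T₁ : Set G) ∧ ⁅T₁, P⁆ ≠ ⊥

/-- the descent step: a bad triple with `p ∉ β(H)` gives a smaller one -/
theorem exists_smaller (hτ : NotTau2 G) (hD : Descent G) {M E P R : Subgroup G} {p r : ℕ}
    {H : Subgroup G} (c : Ctx M E P R p r H) (hpβ : p ∉ beta H) :
    ∃ (E' R' : Subgroup G) (r' : ℕ), r' < p ∧ Bad H E' R R' r r' := by
  obtain ⟨q, Q₀, d⟩ := c.exists_qdata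
  have hτ' := hτ M E P R p r H q Q₀ c d
  obtain ⟨v, r', k, hr', hov, hvH, hvR, hvP, hlt, hr'σ⟩ := hD M E P R p r H q Q₀ c d hτ' hpβ
  obtain ⟨E', R', hb⟩ := c.bad_of_noncentralizing hpβ hr' hov hvH hvR hvP hr'σ
  exact ⟨E', R', r', hlt, hb⟩

/-- there is no bad triple -/
theorem no_bad (h : Hyps G) (hτ : NotTau2 G) (hD : Descent G) (hS : Swap G) :
    ∀ (n : ℕ) (M E P R : Subgroup G) (p r : ℕ), p + r = n → ¬ Bad M E P R p r := by
  intro n
  induction n using Nat.strong_induction_on with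
  | _ n ih =>
  intro M E P R p r hn b
  haveI : Fact p.Prime := ⟨b.pp⟩
  haveI : Fact r.Prime := ⟨b.hr⟩
  obtain ⟨H, hH, hNH⟩ := exists_isCoatom_ge (normalizer_ne_top_of_isPGroup h.hG b.hPp b.hP1)
  have c : Ctx M E P R p r H := ⟨h, b, hH, hNH⟩
  by_cases hpβ : p ∈ beta H
  · -- the swap
    obtain ⟨q, Q₀, d⟩ := c.exists_qdata
    have hτ' := hτ M E P R p r H q Q₀ c d
    obtain ⟨hqσ, hkey⟩ := c.beta_core d hτ' hpβ.1
    obtain ⟨hrM, t, T₁, htβ, hT₁t, hT₁le, hPT₁, hT₁P⟩ := hS M E P R p r H q Q₀ c d hτ' hqσ hkey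
    have htp : t.Prime := htβ.1.1
    haveI : Fact t.Prime := ⟨htp⟩
    have htσ : t ∈ sigma M :=
      Cfsg.Agent.Helper23.BG10.alpha_subset_sigma h.hG h.h1403 b.hM htβ.1
    have b' : Bad M E R P r p := by
      refine ⟨b.hM, b.hE, hrM, b.hRE, b.hR, b.hPE, b.hPR, b.hP, b.pp, ?_⟩
      intro hle
      apply hT₁P
      rw [Subgroup.commutator_eq_bot_iff_le_centralizer]
      exact hT₁le.trans hle
    have hcop : (Nat.card ↥P).Coprime (Nat.card ↥T₁) := by
      obtain ⟨j, hj⟩ := hT₁t.exists_card_eq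
      rw [b.hP, hj]
      exact Nat.Coprime.pow_right j
        ((Nat.coprime_primes b.pp htp).mpr (fun heq => b.hpM (heq ▸ htσ)))
    have d' : QData M R P t ⁅T₁, P⁆ := by
      refine ⟨htp, (comm_le_of_le_normalizer hPT₁).trans hT₁le,
        hT₁t.to_le (comm_le_of_le_normalizer hPT₁), hT₁P,
        le_normalizer_commutator_of_le hPT₁ Subgroup.le_normalizer, ?_⟩
      exact Cfsg.Agent.S0027.result P T₁ hPT₁ hcop
        (Or.inl (by haveI := b.hPp.isNilpotent; infer_instance))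
    obtain ⟨L, hL, hNL⟩ := exists_isCoatom_ge (normalizer_ne_top_of_isPGroup h.hG b.hRp b.hR1)
    have c' : Ctx M E R P r p L := ⟨h, b', hL, hNL⟩
    have hτ'' := hτ M E R P r p L t _ c' d'
    by_cases hrβ : r ∈ beta L
    · -- contradiction: `t ∈ β(M) ∩ σ(L)`
      obtain ⟨htL, -⟩ := c'.beta_core d' hτ'' hrβ.1
      have hconj' : ∀ g : G, M ≠ L.map (MulAut.conj g).toMonoidHom := by
        intro g hg
        apply c'.hconj g⁻¹
        rw [hg, map_conj_inv_map_conj]
      have h1 := not_dvd_card_betaCore h.hG h.h1403 hL b.hM hconj' t htL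
      apply h1
      have hhall := (h.h1414 M b.hM).1
      have htM : t ∣ Nat.card ↥M := htσ.2.1
      have h2 := Cfsg.Agent.Helper7.relIndex_mul_card_of_le hhall.1
      rw [← h2] at htM
      rcases (Nat.Prime.dvd_mul htp).mp htM with h3 | h3
      · exact absurd h3 (hhall.2.2 t htp htβ)
      · exact h3
    · obtain ⟨E', P', p', hlt, hb⟩ := exists_smaller hτ hD c' hrβ
      exact ih (p + p') (by omega) L E' P P' p p' rfl hb
  · obtain ⟨E', R', r', hlt, hb⟩ := exists_smaller hτ hD c hpβ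
    exact ih (r + r') (by omega) H E' R R' r r' rfl hb

/-- **BG 13.7** (the statement of S1428), given the pieces -/
theorem theorem_13_7 (h : Hyps G) (hτ : NotTau2 G) (hD : Descent G) (hS : Swap G)
    (M : Subgroup G) (hM : IsCoatom M) (E : Subgroup G) (hE : IsComplIn E (sigmaCore M) M)
    (p : ℕ) (hp : p ∈ tau1 M) (P : Subgroup G) (hPE : P ≤ E) (hP : Nat.card ↥P = p)
    (R : Subgroup G) (hRE : R ≤ E ⊓ centralizer (P : Set G)) (hR : (Nat.card ↥R).Prime) :
    sigmaCore M ⊓ centralizer (P : Set G) ≤ sigmaCore M ⊓ centralizer (R : Set G) := by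
  by_contra hbad
  have hbad' : ¬ sigmaCore M ⊓ centralizer (P : Set G) ≤ centralizer (R : Set G) :=
    fun hle => hbad (le_inf inf_le_left hle)
  exact no_bad h hτ hD hS _ M E P R p (Nat.card ↥R) rfl
    ⟨hM, hE, hp, hPE, hP, hRE.trans inf_le_left, hRE.trans inf_le_right, rfl, hR, hbad'⟩

end Cfsg.Agent.Helper18.BG13Q
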