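import Mathlib
import Cfsg.Agent.Lib.Helper18.BG13Q7
import Cfsg.Agent.Lib.Helper3.BG13T2
import Cfsg.Agent.Lib.Helper10.BG13S7
import Cfsg.Agent.Lib.Helper7.BG13A1

/-!
# Bender-Glauberman 13.7 (helper18), part 8: assembling the pieces

`notTau2` (helper3), `swap` (helper10), and the reduction of `Descent` to steps (A1) (helper7) and
(A2).
-/

set_option autoImplicit false
set_option linter.style.haveILetI false
set_option linter.unusedSectionVars false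
set_option linter.unusedVariables false

namespace Cfsg.Agent.Helper18.BG13Q

open Cfsg Subgroup
open scoped commutatorElement
open Cfsg.Agent.Helper14.BGTrans Cfsg.Agent.Helper14.BGUniq
open Cfsg.Agent.Helper10 (IsPiNum)
open Cfsg.Agent.Helper15 (IsSylowIn isSylowIn_of_sylow_le isSylowIn_map_subtype isSylowIn_top
  map_conj_eq_of_mem_normalizer map_conj_map_conj card_map_conj map_conj_one
  map_conj_map_conj_inv map_conj_inv_map_conj isPGroup_map_conj map_conj_mono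
  map_conj_eq_self_of_mem exists_isSylowIn_ge exists_isSylowIn isSylowIn_of_not_dvd_relIndex)
open Cfsg.Agent.Helper22.BG13
open Cfsg.Agent.Helper18.BG13P

universe u

variable {G : Type u} [Group G] [Finite G]

/-- `q ∉ τ₂(H)` (helper3) -/
theorem notTau2 : NotTau2 G := by
  intro M E P R p r H q Q₀ c d
  haveI : Fact q.Prime := ⟨d.hq⟩
  obtain ⟨Q, hQ₀Q, hQ⟩ := exists_isSylowIn_ge d.pgroup (le_inf d.leσ (c.hQ₀H d))
  have hQ1 : Q ≠ ⊥ := fun h0 => d.ne_bot (le_bot_iff.mp (h0 ▸ hQ₀Q))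
  have hQP : Q ≤ centralizer (P : Set G) := by
    have := hQ.le
    rw [c.hY] at this
    exact this.trans inf_le_right
  exact Cfsg.Agent.Helper3.BG13T2.not_mem_tau2 c.h.hG c.h.h1350 c.h.h1417 c.h.h1418 c.b.hM c.hH
    d.hqM c.hPσ c.b.hP1 hQ hQ1 hQP

/-- step (C) (helper10) -/
theorem swap : Swap G := by
  intro M E P R p r H q Q₀ c d hτ hqσ hkey
  haveI : Fact q.Prime := ⟨d.hq⟩
  exact Cfsg.Agent.Helper10.BG13S.swap c.h c.b.hM c.hH c.b.hE c.b.hp c.b.hPE c.b.hP c.b.hRE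
    c.b.hR c.b.hr c.b.hRP c.hNH c.hpH (by rw [c.hY]; exact inf_le_right) d.hqM hqσ d.pgroup
    d.ne_bot d.leσ d.norm d.comm (c.hQ₀R d hτ) (hkey Q₀ le_rfl d.ne_bot)

/-- the shape of step (A2) -/
def StepA2 (G : Type u) [Group G] : Prop :=
  ∀ (M H P R Q₀ S : Subgroup G) (p r q : ℕ) [Fact p.Prime] [Fact q.Prime],
    IsCoatom M → IsCoatom H → (∀ g : G, H ≠ M.map (MulAut.conj g).toMonoidHom) →
    p ∈ tau1 M → P ≤ M → p ∈ sigma H → p ∉ beta H → Nat.card ↥P = p → Nat.card ↥R = r →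
    r ∈ tau1 H → R ≤ H → R ≤ centralizer (P : Set G) → q ∈ sigma M → q ∉ tau2 H →
    IsPGroup q ↥Q₀ → Q₀ ≠ ⊥ → Q₀ ≤ sigmaCore M → Q₀ ≤ ⁅H, H⁆ → R ≤ normalizer (Q₀ : Set G) →
    IsSylowIn p S ⊤ → P ≤ S → S ≤ sigmaCore H → S ≤ centralizer (Q₀ : Set G) →
    R ≤ normalizer (S : Set G) →
    ∃ (v : G) (r' k : ℕ), r'.Prime ∧ orderOf v = r' ^ k ∧ v ∈ H ∧ v ∈ centralizer (R : Set G) ∧
      v ∉ centralizer (P : Set G) ∧ r' < p ∧ r' ∉ sigma H

/-- steps (A1) (helper7) and (A2) give `Descent` -/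
theorem descent_of_stepA2 (hA2 : StepA2 G) : Descent G := by
  intro M E P R p r H q Q₀ c d hτ hpβ
  haveI : Fact p.Prime := ⟨c.b.pp⟩
  haveI : Fact q.Prime := ⟨d.hq⟩
  obtain ⟨S, hS, hPS, hSσ, hSQ₀, hRS⟩ := Cfsg.Agent.Helper7.BG13A1.exists_sylow_centralizing c.h
    c.b.hM c.hH c.hconj c.hpH hpβ c.b.hP c.hPH c.b.hR c.b.hr c.hrσH c.hRH c.b.hRP d.hqM
    (c.hqp d) d.pgroup d.leσ (c.hQ₀H' d) d.norm d.leP
  exact hA2 M H P R Q₀ S p r q c.b.hM c.hH c.hconj c.b.hp c.b.hPM c.hpH hpβ c.b.hP c.b.hR c.hrH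
    c.hRH c.b.hRP d.hqM hτ d.pgroup d.ne_bot d.leσ (c.hQ₀H' d) d.norm hS hPS hSσ hSQ₀ hRS

end Cfsg.Agent.Helper18.BG13Q
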