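import Mathlib
import Cfsg.Agent.Lib.Helper24.CharComplete
import Cfsg.Agent.Lib.Helper3.BSWCharDefs

/-!
# S3282, piece BINV (helper18): `b(μ⁻¹, ψ) = b(μ, ψ)`
-/

set_option autoImplicit false
set_option linter.unusedSectionVars false

namespace Cfsg.Agent.Helper3.BSW

open Cfsg Cfsg.Agent.Helper24
open scoped ComplexConjugate

universe u

variable {G : Type u} [Group G] [Fintype G] [Fintype (IrrCharacter G)] [DecidableEq (IrrCharacter G)]
  {t s : G} {K : Subgroup G} [Fintype K] [Fintype (JK K)] [DecidableEq (JK K)]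
  {a1 : IrrCharacter G → ℤ} {b : JK K → IrrCharacter G → ℤ} {sgn : JK K → ℤ}

/-- PIECE BINV (C1). -/
theorem b_inv_K (h : Hyp t s K) (cd : CharData K t h.htK a1 b sgn) (μ : JK K) (ψ : IrrCharacter G) :
    b (invJ K μ) ψ = b μ ψ := by
  have hcf : IsClassFunction G (ψ : G → ℂ) := isClassFunction_of_isIrrCharacter ψ.2
  have hcast : ((b (invJ K μ) ψ : ℤ) : ℂ) = ((b μ ψ : ℤ) : ℂ) := by
    rw [cd.hb, cd.hb]
    unfold bC
    congr 1
    rw [← Equiv.sum_comp (Equiv.inv ↥K)]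
    apply Finset.sum_congr rfl
    intro x _
    have h1 : (ψ : G → ℂ) ((Equiv.inv ↥K x : ↥K) : G) = (ψ : G → ℂ) (x : G) := by
      have e : ((Equiv.inv ↥K x : ↥K) : G) = s * (x : G) * s⁻¹ := by
        rw [h.hinv (x : G) x.2]
        rfl
      rw [e, hcf]
    have h2 : ((invJ K μ).1 (Equiv.inv ↥K x) : ℂˣ) = μ.1 x := by
      show (μ.1⁻¹) (x⁻¹) = μ.1 x
      rw [MonoidHom.inv_apply, map_inv, inv_inv]
    rw [h1, h2]
  exact_mod_cast hcast

end Cfsg.Agent.Helper3.BSW
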