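import Mathlib
import Cfsg.Agent.Lib.Helper3.BSWArithDefs

/-!
# S3282 ARITH, piece CONGZ (helper18): the congruences `H.cong` at `P`, `Z1`, `Z2` of a shape
-/

set_option autoImplicit false
set_option linter.unusedSectionVars false

namespace Cfsg.Agent.Helper3.BSW

variable {ι J : Type*} [Fintype ι] [Fintype J] [DecidableEq ι] [DecidableEq J]

namespace CONGZ

theorem ind_self (X : ι) : ind X X = 1 := by simp [ind]

theorem ind_ne {X i : ι} (h : i ≠ X) : ind X i = 0 := by simp [ind, h]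

end CONGZ

variable {k g : ℕ} {o : ι} {inv : J → J} {j0 : J} {sgn : J → ℤ} {b : J → ι → ℤ} {deg a1 : ι → ℤ}

/-- PIECE CONGZ. `H.cong` at `P`, `Z1`, `Z2`: `∑_j b j P = (k-1) ε`, `∑_j b j Z1 = -ε`, `∑_j b j Z2 = -ζ` (`|J| = k - 1`). -/
theorem cong_shape (H : ArithHyp k g o inv j0 sgn b deg a1) {P : ι} {S : J → ι} {Z1 Z2 : ι} {ε ζ : ℤ}
    (hS : Shape o inv j0 b deg P S Z1 Z2 ε ζ) :
    deg P = (k : ℤ) * a1 P - ((k : ℤ) - 1) * ε ∧ deg Z1 = (k : ℤ) * a1 Z1 + ε ∧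
      deg Z2 = (k : ℤ) * a1 Z2 + ζ := by
  have hcard : (Fintype.card J : ℤ) = (k : ℤ) - 1 := by
    have := H.card_J
    have h2 : ((Fintype.card J + 1 : ℕ) : ℤ) = (k : ℤ) := by rw [this]
    push_cast at h2
    linarith
  -- the values of `b j` at `P`, `Z1`, `Z2`
  have hP : ∀ j, b j P = ε := by
    intro j
    by_cases hj : j = j0
    · subst hj
      rw [hS.bj0, CONGZ.ind_ne hS.Po, CONGZ.ind_self, CONGZ.ind_ne hS.Z1P.symm, CONGZ.ind_ne hS.Z2P.symm]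
      ring
    · rw [hS.bj j hj, CONGZ.ind_ne hS.Po, CONGZ.ind_self, CONGZ.ind_ne (hS.SP j hj).symm]
      ring
  have hZ1 : ∀ j, b j Z1 = if j = j0 then -ε else 0 := by
    intro j
    by_cases hj : j = j0
    · subst hj
      rw [if_pos rfl, hS.bj0, CONGZ.ind_ne hS.Z1o, CONGZ.ind_ne hS.Z1P, CONGZ.ind_self,
        CONGZ.ind_ne hS.Z12]
      ring
    · rw [if_neg hj, hS.bj j hj, CONGZ.ind_ne hS.Z1o, CONGZ.ind_ne hS.Z1P,
        CONGZ.ind_ne (hS.SZ1 j hj).symm]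
      ring
  have hZ2 : ∀ j, b j Z2 = if j = j0 then -ζ else 0 := by
    intro j
    by_cases hj : j = j0
    · subst hj
      rw [if_pos rfl, hS.bj0, CONGZ.ind_ne hS.Z2o, CONGZ.ind_ne hS.Z2P, CONGZ.ind_self,
        CONGZ.ind_ne hS.Z12.symm]
      ring
    · rw [if_neg hj, hS.bj j hj, CONGZ.ind_ne hS.Z2o, CONGZ.ind_ne hS.Z2P,
        CONGZ.ind_ne (hS.SZ2 j hj).symm]
      ring
  refine ⟨?_, ?_, ?_⟩
  · rw [H.cong P, Finset.sum_congr rfl (fun j _ => hP j), Finset.sum_const, Finset.card_univ,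
      nsmul_eq_mul, hcard]
  · rw [H.cong Z1, Finset.sum_congr rfl (fun j _ => hZ1 j), Finset.sum_ite_eq' Finset.univ j0]
    simp
  · rw [H.cong Z2, Finset.sum_congr rfl (fun j _ => hZ2 j), Finset.sum_ite_eq' Finset.univ j0]
    simp

end Cfsg.Agent.Helper3.BSW
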