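import Mathlib
import Cfsg.Agent.Lib.Helper3.BSWArithDefs

/-!
# S3282 ARITH, piece E2A (helper18): type A, `b j0 X0 = 0`, two different `Y`: the exotic shape 2
-/

set_option autoImplicit false
set_option linter.unusedSectionVars false

namespace Cfsg.Agent.Helper3.BSW

variable {ι J : Type*} [Fintype ι] [Fintype J] [DecidableEq ι] [DecidableEq J]

namespace E2A

theorem ind_self (X : ι) : ind X X = 1 := by simp [ind]

theorem ind_ne {X i : ι} (h : i ≠ X) : ind X i = 0 := by simp [ind, h]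

theorem sum_mul_ind (f : ι → ℤ) (X : ι) : ∑ i, f i * ind X i = f X := by
  simp [ind]

theorem sum_ind_mul (f : ι → ℤ) (X : ι) : ∑ i, ind X i * f i = f X := by
  simp [ind]

/-- a vector of norm one is `± e_A` -/
theorem supp_one' (v : ι → ℤ) (h : ∑ i, v i ^ 2 = 1) :
    ∃ A : ι, (v A = 1 ∨ v A = -1) ∧ ∀ i, i ≠ A → v i = 0 := by
  have hex : ∃ A, v A ≠ 0 := by
    by_contra hcon
    push Not at hcon
    have : ∑ i, v i ^ 2 = 0 := Finset.sum_eq_zero (fun i _ => by rw [hcon i]; ring)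
    omega
  obtain ⟨A, hA⟩ := hex
  have hsplit : v A ^ 2 + ∑ i ∈ Finset.univ.erase A, v i ^ 2 = 1 :=
    (Finset.add_sum_erase Finset.univ (fun i => v i ^ 2) (Finset.mem_univ A)).trans h
  have hnn : 0 ≤ ∑ i ∈ Finset.univ.erase A, v i ^ 2 :=
    Finset.sum_nonneg (fun i _ => sq_nonneg (v i))
  have hA1 : 1 ≤ v A ^ 2 := by
    have : 0 < v A ^ 2 := by positivity
    omega
  have hA2 : v A ^ 2 = 1 := by omega
  have hrest : ∑ i ∈ Finset.univ.erase A, v i ^ 2 = 0 := by omega
  refine ⟨A, ?_, ?_⟩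
  · have : (v A - 1) * (v A + 1) = 0 := by ring_nf; ring_nf at hA2; omega
    rcases mul_eq_zero.mp this with h1 | h1
    · left; omega
    · right; omega
  · intro i hi
    have h0 := (Finset.sum_eq_zero_iff_of_nonneg (fun i _ => sq_nonneg (v i))).mp hrest i
      (Finset.mem_erase.mpr ⟨hi, Finset.mem_univ i⟩)
    exact pow_eq_zero_iff (two_ne_zero) |>.mp h0

end E2A

variable {k g : ℕ} {o : ι} {inv : J → J} {j0 : J} {sgn : J → ℤ} {b : J → ι → ℤ} {deg a1 : ι → ℤ}

/-- PIECE E2A (A3, type A, `a = 0`, two different `Y`). -/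
theorem j0_exotic_A (H : ArithHyp k g o inv j0 sgn b deg a1) {X Y : J → ι}
    (D : PairData o inv j0 b deg X Y) (X0 : ι) (hX : ∀ j, j ≠ j0 → X j = X0) (ha : b j0 X0 = 0)
    {j1 j2 : J} (h1 : j1 ≠ j0) (h2 : j2 ≠ j0) (h12 : Y j1 ≠ Y j2) :
    ∃ Z : ι, ShapeE2 o inv j0 b deg X0 Y Z j1 j2 1 := by
  -- basic facts
  have hX0o : X0 ≠ o := by rw [← hX j1 h1]; exact D.Xo j1 h1
  have hYX0 : ∀ j, j ≠ j0 → Y j ≠ X0 := by
    intro j hj; rw [← hX j hj]; exact (D.XY j hj).symm
  have hinv_ne : ∀ j, j ≠ j0 → inv j ≠ j0 := by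
    intro j hj hij
    apply hj
    have h3 : inv j0 = j0 := (H.inv_fix j0).mpr rfl
    calc j = inv (inv j) := (H.inv_inv j).symm
      _ = inv j0 := by rw [hij]
      _ = j0 := h3
  -- `b j0 (Y j) = -1`
  have hbY : ∀ j, j ≠ j0 → b j0 (Y j) = -1 := by
    intro j hj
    have hg := H.gram j0 j
    have hne1 : j0 ≠ j := fun h => hj h.symm
    have hne2 : j0 ≠ inv j := fun h => hinv_ne j hj h.symm
    rw [if_neg hne1, if_neg hne2] at hg
    have hsum : ∑ i, b j0 i * b j i = b j0 o + b j0 X0 - b j0 (Y j) := by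
      have : ∀ i, b j0 i * b j i = b j0 i * ind o i + b j0 i * ind X0 i - b j0 i * ind (Y j) i := by
        intro i
        rw [D.bj j hj i, hX j hj]; ring
      rw [Finset.sum_congr rfl (fun i _ => this i), Finset.sum_sub_distrib, Finset.sum_add_distrib,
        E2A.sum_mul_ind, E2A.sum_mul_ind, E2A.sum_mul_ind]
    rw [hsum, H.b_o, ha] at hg
    linarith
  -- the vector `v`
  set v : ι → ℤ := fun i => b j0 i - ind o i + ind (Y j1) i + ind (Y j2) i with hv
  have hYo1 := D.Yo j1 h1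
  have hYo2 := D.Yo j2 h2
  have hnorm : ∑ i, v i ^ 2 = 1 := by
    have hg := H.gram j0 j0
    rw [if_pos rfl] at hg
    have hij0 : j0 = inv j0 := ((H.inv_fix j0).mpr rfl).symm
    rw [if_pos hij0] at hg
    have hexp : ∀ i, v i ^ 2 = b j0 i * b j0 i + ind o i * ind o i + ind (Y j1) i * ind (Y j1) i
        + ind (Y j2) i * ind (Y j2) i - 2 * (b j0 i * ind o i) + 2 * (b j0 i * ind (Y j1) i)
        + 2 * (b j0 i * ind (Y j2) i) - 2 * (ind o i * ind (Y j1) i) - 2 * (ind o i * ind (Y j2) i)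
        + 2 * (ind (Y j1) i * ind (Y j2) i) := by
      intro i; simp only [hv]; ring
    rw [Finset.sum_congr rfl (fun i _ => hexp i)]
    simp only [Finset.sum_add_distrib, Finset.sum_sub_distrib, ← Finset.mul_sum, E2A.sum_mul_ind]
    rw [hg, E2A.ind_self, E2A.ind_self, E2A.ind_self, H.b_o, hbY j1 h1, hbY j2 h2,
      E2A.ind_ne hYo1, E2A.ind_ne hYo2, E2A.ind_ne h12.symm]
    norm_num
  obtain ⟨Z, hZ, hZ0⟩ := E2A.supp_one' v hnorm
  have hvZ : v Z ≠ 0 := by rcases hZ with h | h <;> rw [h] <;> norm_num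
  -- values of `v`
  have hvo : v o = 0 := by
    simp only [hv]
    rw [H.b_o, E2A.ind_self, E2A.ind_ne hYo1.symm, E2A.ind_ne hYo2.symm]; ring
  have hv1 : v (Y j1) = 0 := by
    simp only [hv]
    rw [hbY j1 h1, E2A.ind_ne hYo1, E2A.ind_self, E2A.ind_ne h12]; ring
  have hv2 : v (Y j2) = 0 := by
    simp only [hv]
    rw [hbY j2 h2, E2A.ind_ne hYo2, E2A.ind_ne h12.symm, E2A.ind_self]; ring
  have hvX : v X0 = 0 := by
    simp only [hv]
    rw [ha, E2A.ind_ne hX0o, E2A.ind_ne (hYX0 j1 h1).symm, E2A.ind_ne (hYX0 j2 h2).symm]; ring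
  have hZo : Z ≠ o := fun h => hvZ (by rw [h]; exact hvo)
  have hZ1 : Z ≠ Y j1 := fun h => hvZ (by rw [h]; exact hv1)
  have hZ2 : Z ≠ Y j2 := fun h => hvZ (by rw [h]; exact hv2)
  have hZX : Z ≠ X0 := fun h => hvZ (by rw [h]; exact hvX)
  -- `b j0` in terms of `v Z`
  have hbj0 : ∀ i, b j0 i = ind o i - ind (Y j1) i - ind (Y j2) i + v Z * ind Z i := by
    intro i
    by_cases hi : i = Z
    · subst hi
      rw [E2A.ind_self]
      simp only [hv]; ring
    · have h0 := hZ0 i hi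
      rw [E2A.ind_ne hi]
      simp only [hv] at h0
      linarith
  -- the degree equation
  have hdeg : 1 - deg (Y j1) - deg (Y j2) + v Z * deg Z = 0 := by
    have hs := H.deg_sum j0
    have : ∀ i, b j0 i * deg i = ind o i * deg i - ind (Y j1) i * deg i - ind (Y j2) i * deg i
        + v Z * (ind Z i * deg i) := by
      intro i; rw [hbj0 i]; ring
    rw [Finset.sum_congr rfl (fun i _ => this i)] at hs
    simp only [Finset.sum_add_distrib, Finset.sum_sub_distrib, ← Finset.mul_sum,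
      E2A.sum_ind_mul] at hs
    rw [H.deg_o] at hs
    exact hs
  have hd1 : deg (Y j1) = deg X0 + 1 := by rw [D.degXY j1 h1, hX j1 h1]
  have hd2 : deg (Y j2) = deg X0 + 1 := by rw [D.degXY j2 h2, hX j2 h2]
  have hX0pos := H.deg_pos X0
  have hZpos := H.deg_pos Z
  -- every `Y j` is `Y j1` or `Y j2`
  have hall : ∀ j, j ≠ j0 → Y j = Y j1 ∨ Y j = Y j2 := by
    intro j hj
    by_contra hcon
    push Not at hcon
    obtain ⟨hc1, hc2⟩ := hcon
    have hvj : v (Y j) = -1 := by
      simp only [hv]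
      rw [hbY j hj, E2A.ind_ne (D.Yo j hj), E2A.ind_ne hc1, E2A.ind_ne hc2]; ring
    have hYZ : Y j = Z := by
      by_contra hne
      have := hZ0 (Y j) hne
      omega
    rw [hYZ] at hvj
    have hdZ : deg Z = deg X0 + 1 := by rw [← hYZ, D.degXY j hj, hX j hj]
    rw [hvj, hd1, hd2, hdZ] at hdeg
    omega
  -- the sign
  have hsign : v Z = 1 := by
    rcases hZ with h | h
    · exact h
    · rw [h, hd1, hd2] at hdeg
      nlinarith
  refine ⟨Z, ?_⟩
  refine
    { j1ne := h1
      j2ne := h2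
      j12 := ?_
      j12' := ?_
      all := ?_
      Po := hX0o
      So := D.Yo
      SP := hYX0
      S12 := h12
      Zo := hZo
      ZP := hZX
      ZS := ?_
      Sinv := D.Yinv
      bj := ?_
      bj0 := ?_
      degS := ?_ }
  · intro h; apply h12; rw [h]
  · intro h; apply h12; rw [h, D.Yinv j1 h1]
  · intro j hj
    rcases hall j hj with h | h
    · have := D.inj j1 j h1 hj (by rw [hX j1 h1, hX j hj]) h.symm
      rcases this with h3 | h3
      · left; exact h3
      · right; left; exact h3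
    · have := D.inj j2 j h2 hj (by rw [hX j2 h2, hX j hj]) h.symm
      rcases this with h3 | h3
      · right; right; left; exact h3
      · right; right; right; exact h3
  · intro j hj
    rcases hall j hj with h | h
    · rw [h]; exact hZ1.symm
    · rw [h]; exact hZ2.symm
  · intro j hj i
    rw [D.bj j hj i, hX j hj]; ring
  · intro i
    rw [hbj0 i, hsign]; ring
  · intro j hj
    rw [D.degXY j hj, hX j hj]

end Cfsg.Agent.Helper3.BSW
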