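import Mathlib
import Cfsg.Agent.Lib.Helper18.BTDefs
import Cfsg.Agent.Lib.Helper6.ChevLPar
import Cfsg.Agent.Lib.BT.BTMIN
import Cfsg.Agent.Lib.BT.BTUNIQ
import Cfsg.Agent.Lib.BT.BTSTAB
import Cfsg.Agent.Lib.BT.BTRAD
import Cfsg.Agent.Lib.BT.BTNE

/-!
# S2154 (Borel-Tits): assembly of the pieces `Cfsg.Agent.Lib.BT.*`
-/

set_option autoImplicit false
set_option linter.unusedSectionVars false
set_option linter.unusedVariables false

namespace Cfsg.Agent.Helper18.BT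

open Cfsg Cfsg.Lie Cfsg.Agent.Lead.Chev Cfsg.Agent.Helper6.ChevL

theorem s2154 {F : Type*} [Field F] [Fintype F] (p : ℕ) [Fact p.Prime] [CharP F p] (D : ChevalleyDatum)
    (hD : D ∈ [chevG2, chevB2, chevD4, chevF4, chevE6, chevE7, chevE8])
    (U : Subgroup (GL D.Idx F)) (hUG : U ≤ D.group F) (hU : IsPGroup p ↥U) (hne : U ≠ ⊥) :
    ∃ g ∈ D.group F, ∃ J : Set ℕ, (∃ i, i < D.rank ∧ i ∉ J) ∧
      Subgroup.normalizer (U : Set (GL D.Idx F)) ⊓ D.group F ≤
        (D.parabolicSubgroup F J).map (MulAut.conj g).toMonoidHom ∧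
      U ≤ (D.unipotentRadical F J).map (MulAut.conj g).toMonoidHom := by
  have hF : ChevFacts D F := chevFacts_of_mem D hD
  have hL := lvlFacts_of_mem D hD
  have hP := parFacts_of_mem D hD
  have hC := commJ_of_mem D hD
  have hS := corSize_of_mem D hD
  obtain ⟨g, lam, hmin⟩ := exists_isMin hF hL p hD U hUG hU
  obtain ⟨hg, hlam, hfeas, hminimal⟩ := hmin
  refine ⟨g, hg, Jof D lam, exists_not_mem_Jof U hne g lam hfeas, ?_, ?_⟩
  · rintro x ⟨hxN, hxG⟩
    have hxN' : ∀ y, y ∈ U ↔ x * y * x⁻¹ ∈ U := fun y => (Subgroup.mem_normalizer_iff.1 hxN) y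
    have hfeas' : Feas D U (x * g) (Lof D lam) := by
      intro y hy
      have h1 : x⁻¹ * y * x ∈ U := by
        rw [hxN' (x⁻¹ * y * x)]
        have e : x * (x⁻¹ * y * x) * x⁻¹ = y := by group
        rw [e]; exact hy
      have e : (x * g)⁻¹ * y * (x * g) = g⁻¹ * (x⁻¹ * y * x) * g := by group
      rw [e]
      exact hfeas _ h1
    have hmin' : IsMin D U (x * g) lam := ⟨mul_mem hxG hg, hlam, hfeas', hminimal⟩
    have hsh := sh_of_isMin hF hL hD U g (x * g) lam lam ⟨hg, hlam, hfeas, hminimal⟩ hmin'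
    have hy : g⁻¹ * (x * g) ∈ D.group F := mul_mem (inv_mem hg) (mul_mem hxG hg)
    have hyP := mem_parabolic_of_sh hF hL hS lam hlam _ hy hsh
    refine Subgroup.mem_map.2 ⟨g⁻¹ * (x * g), hyP, ?_⟩
    rw [MulEquiv.coe_toMonoidHom, MulAut.conj_apply]
    group
  · intro x hx
    have hy : g⁻¹ * x * g ∈ D.group F := mul_mem (mul_mem (inv_mem hg) (hUG hx)) hg
    have h1 := mem_radical_of_sh hF hL hP hC hS lam hlam _ hy (hfeas x hx)
    refine Subgroup.mem_map.2 ⟨g⁻¹ * x * g, h1, ?_⟩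
    rw [MulEquiv.coe_toMonoidHom, MulAut.conj_apply]
    group

end Cfsg.Agent.Helper18.BT
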