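import Mathlib
import Cfsg.Prelude.Def_Blocks
import Cfsg.Prelude.Def_BlockRank
import Cfsg.Agent.Lib.Helper18.BlockQuotP
import Cfsg.Agent.Lib.Helper18.BlockCover2
import Cfsg.Agent.Lib.Helper23.BlockRank
import Cfsg.Agent.Lib.Helper23.PRegularClass

/-!
# The `p`-regular rank of a block and of the block it dominates (helper18's library)

Let `P` be a normal `p`-subgroup of `G` whose centralizer has `p`-power index.  Every `p`-regular
coset of `P` contains exactly one `p`-regular element, so functions supported on the `p`-regular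
elements of `G` and of `G ⧸ P` correspond.  For a block `B` of `G` and the set `B'` of the
irreducible characters of `G ⧸ P` inflating into `B` this gives `l(B) = l(B')`.
-/

set_option autoImplicit false

namespace Cfsg.Agent.Helper18

open Cfsg Cfsg.Agent.Helper24 Cfsg.Agent.Helper23.Blk
open scoped ComplexConjugate

universe u

section RankQuot

variable {G : Type u} [Group G] [Fintype G] (P : Subgroup G) [P.Normal] [Fintype (G ⧸ P)] (p : ℕ)

/-- the `p`-regular part as a linear map -/
noncomputable def regPart (H : Type u) [Group H] (p : ℕ) : (H → ℂ) →ₗ[ℂ] (H → ℂ) where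
  toFun f := pRegularPart p f
  map_add' f g := pRegularPart_add p f g
  map_smul' c f := pRegularPart_smul p c f

theorem regPart_apply (H : Type u) [Group H] (f : H → ℂ) : regPart H p f = pRegularPart p f := rfl

/-- inflation of the `p`-regular part -/
noncomputable def regInfl : ((G ⧸ P) → ℂ) →ₗ[ℂ] (G → ℂ) where
  toFun f := pRegularPart p (f ∘ (QuotientGroup.mk : G → G ⧸ P))
  map_add' f g := by
    rw [← pRegularPart_add]
    rfl
  map_smul' c f := by
    rw [RingHom.id_apply, ← pRegularPart_smul]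
    rfl

theorem regInfl_apply (f : (G ⧸ P) → ℂ) :
    regInfl P p f = pRegularPart p (f ∘ (QuotientGroup.mk : G → G ⧸ P)) := rfl

open Classical in
/-- deflation of the `p`-regular part: the sum over the coset -/
noncomputable def regDefl : (G → ℂ) →ₗ[ℂ] ((G ⧸ P) → ℂ) where
  toFun f := fun y => ∑ x : G, if (x : G ⧸ P) = y then pRegularPart p f x else 0
  map_add' f g := by
    funext y
    rw [Pi.add_apply, ← Finset.sum_add_distrib]
    apply Finset.sum_congr rfl
    intro x _
    rw [pRegularPart_add]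
    split_ifs
    · rfl
    · rw [add_zero]
  map_smul' c f := by
    funext y
    rw [RingHom.id_apply, Pi.smul_apply, smul_eq_mul, Finset.mul_sum]
    apply Finset.sum_congr rfl
    intro x _
    rw [pRegularPart_smul]
    split_ifs
    · rfl
    · rw [mul_zero]

open Classical in
theorem regDefl_apply (f : G → ℂ) (y : G ⧸ P) :
    regDefl P p f y = ∑ x : G, if (x : G ⧸ P) = y then pRegularPart p f x else 0 := rfl

variable {p}

/-- a `p`-regular coset contains only one `p`-regular element -/
theorem eq_of_pRegular_of_mk_eq (hp : p.Prime) (hP : IsPGroup p P)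
    (hC : ∃ k : ℕ, (Subgroup.centralizer (P : Set G)).index = p ^ k) {x y : G}
    (hx : ¬ p ∣ orderOf x) (hy : ¬ p ∣ orderOf y) (h : (x : G ⧸ P) = (y : G ⧸ P)) : x = y := by
  haveI : Fact p.Prime := ⟨hp⟩
  haveI : Fintype (Subgroup.centralizer (P : Set G)) := Fintype.ofFinite _
  have hyC : y ∈ Subgroup.centralizer (P : Set G) := by
    by_contra hnot
    exact hy (dvd_orderOf_of_not_mem (Subgroup.centralizer (P : Set G)) hp hC hnot)
  have hu : y⁻¹ * x ∈ P := by
    rw [← QuotientGroup.eq]
    exact h.symm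
  obtain ⟨k, hk⟩ := (IsPGroup.iff_orderOf.mp hP) ⟨y⁻¹ * x, hu⟩
  have hk' : orderOf (y⁻¹ * x) = p ^ k := by
    rw [← hk]
    exact (Subgroup.orderOf_mk _ hu).symm
  have hcomm : Commute y (y⁻¹ * x) := by
    rw [Subgroup.mem_centralizer_iff] at hyC
    exact (hyC _ hu).symm
  have hyx : ¬ p ∣ orderOf (y * (y⁻¹ * x)) := by
    rw [mul_inv_cancel_left]
    exact hx
  have := Cfsg.Agent.Helper23.eq_one_of_pRegular_mul hp hcomm hy hk' hyx
  rw [inv_mul_eq_one] at this
  exact this.symm

theorem regInfl_regDefl (hp : p.Prime) (hP : IsPGroup p P)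
    (hC : ∃ k : ℕ, (Subgroup.centralizer (P : Set G)).index = p ^ k) (f : G → ℂ) :
    regInfl P p (regDefl P p f) = pRegularPart p f := by
  classical
  funext y
  rw [regInfl_apply]
  by_cases hy : p ∣ orderOf y
  · rw [pRegularPart_of_dvd p _ hy, pRegularPart_of_dvd p _ hy]
  · rw [pRegularPart_of_not_dvd p _ hy, Function.comp_apply, regDefl_apply]
    rw [Finset.sum_eq_single y]
    · rw [if_pos rfl]
    · intro x _ hxy
      by_cases hx : (x : G ⧸ P) = (y : G ⧸ P)
      · rw [if_pos hx]
        by_cases hxr : p ∣ orderOf x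
        · exact pRegularPart_of_dvd p _ hxr
        · exact absurd (eq_of_pRegular_of_mk_eq P hp hP hC hxr hy hx) hxy
      · rw [if_neg hx]
    · intro h
      exact absurd (Finset.mem_univ y) h

theorem regDefl_regInfl (hp : p.Prime) (hP : IsPGroup p P)
    (hC : ∃ k : ℕ, (Subgroup.centralizer (P : Set G)).index = p ^ k) (f : (G ⧸ P) → ℂ) :
    regDefl P p (regInfl P p f) = pRegularPart p f := by
  classical
  funext y
  rw [regDefl_apply]
  by_cases hy : p ∣ orderOf y
  · rw [pRegularPart_of_dvd p _ hy]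
    apply Finset.sum_eq_zero
    intro x _
    by_cases hx : (x : G ⧸ P) = y
    · rw [if_pos hx]
      apply pRegularPart_of_dvd
      apply hy.trans
      rw [← hx]
      exact orderOf_map_dvd (QuotientGroup.mk' P) x
    · rw [if_neg hx]
  · rw [pRegularPart_of_not_dvd p _ hy]
    obtain ⟨y₀, hy₀, rfl⟩ := exists_pRegular_lift P hp y hy
    rw [Finset.sum_eq_single y₀]
    · rw [if_pos rfl, pRegularPart_of_not_dvd p _ hy₀, regInfl_apply,
        pRegularPart_of_not_dvd p _ hy₀]
      rfl
    · intro x _ hxy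
      by_cases hx : (x : G ⧸ P) = (y₀ : G ⧸ P)
      · rw [if_pos hx]
        by_cases hxr : p ∣ orderOf x
        · exact pRegularPart_of_dvd p _ hxr
        · exact absurd (eq_of_pRegular_of_mk_eq P hp hP hC hxr hy₀ hx) hxy
      · rw [if_neg hx]
    · intro h
      exact absurd (Finset.mem_univ y₀) h

/-- inflation of the `p`-regular part of a function is the `p`-regular part of the inflation -/
theorem regInfl_pRegularPart (f : (G ⧸ P) → ℂ) :
    regInfl P p (pRegularPart p f) = pRegularPart p (f ∘ (QuotientGroup.mk : G → G ⧸ P)) := by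
  classical
  funext y
  rw [regInfl_apply]
  by_cases hy : p ∣ orderOf y
  · rw [pRegularPart_of_dvd p _ hy, pRegularPart_of_dvd p _ hy]
  · rw [pRegularPart_of_not_dvd p _ hy, pRegularPart_of_not_dvd p _ hy, Function.comp_apply,
      Function.comp_apply]
    apply pRegularPart_of_not_dvd
    intro h
    exact hy (h.trans (orderOf_map_dvd (QuotientGroup.mk' P) y))

theorem regDefl_of_dvd (f : G → ℂ) {y : G ⧸ P} (hy : p ∣ orderOf y) : regDefl P p f y = 0 := by
  classical
  rw [regDefl_apply]
  apply Finset.sum_eq_zero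
  intro x _
  by_cases hx : (x : G ⧸ P) = y
  · rw [if_pos hx]
    apply pRegularPart_of_dvd
    apply hy.trans
    rw [← hx]
    exact orderOf_map_dvd (QuotientGroup.mk' P) x
  · rw [if_neg hx]

theorem isClassFunction_regDefl {f : G → ℂ} (hf : IsClassFunction G f) :
    IsClassFunction (G ⧸ P) (regDefl P p f) := by
  classical
  intro y h
  obtain ⟨g, rfl⟩ := QuotientGroup.mk_surjective h
  rw [regDefl_apply, regDefl_apply]
  have hcf := isClassFunction_pRegularPart p hf
  rw [← Fintype.sum_equiv (MulAut.conj g).toEquiv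
    (fun x => if (((MulAut.conj g) x : G) : G ⧸ P) = (g : G ⧸ P) * y * (g : G ⧸ P)⁻¹ then
      pRegularPart p f ((MulAut.conj g) x) else 0)
    (fun x => if ((x : G) : G ⧸ P) = (g : G ⧸ P) * y * (g : G ⧸ P)⁻¹ then
      pRegularPart p f x else 0) (fun x => rfl)]
  apply Finset.sum_congr rfl
  intro x _
  rw [MulAut.conj_apply, hcf x g]
  have hiff : (((g * x * g⁻¹ : G)) : G ⧸ P) = (g : G ⧸ P) * y * (g : G ⧸ P)⁻¹ ↔
      (x : G ⧸ P) = y := by
    rw [QuotientGroup.mk_mul, QuotientGroup.mk_mul, QuotientGroup.mk_inv]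
    constructor
    · intro h1
      exact mul_left_cancel (mul_right_cancel h1)
    · intro h1
      rw [h1]
  by_cases hx : (x : G ⧸ P) = y
  · rw [if_pos hx, if_pos (hiff.2 hx)]
  · rw [if_neg hx, if_neg (fun h1 => hx (hiff.1 h1))]

theorem sum_regDefl_mul (f : G → ℂ) (η : (G ⧸ P) → ℂ) :
    ∑ y : G ⧸ P, regDefl P p f y * conj (η y) =
      ∑ x : G, pRegularPart p f x * conj (η (x : G ⧸ P)) := by
  classical
  simp only [regDefl_apply, Finset.sum_mul]
  rw [Finset.sum_comm]
  apply Finset.sum_congr rfl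
  intro x _
  rw [Finset.sum_eq_single (x : G ⧸ P)]
  · rw [if_pos rfl]
  · intro y _ hy
    rw [if_neg (Ne.symm hy), zero_mul]
  · intro h
    exact absurd (Finset.mem_univ _) h

end RankQuot

section Main

variable {G : Type u} [Group G] [Fintype G] (P : Subgroup G) [P.Normal] [Fintype (G ⧸ P)] {p : ℕ}
  {M : Ideal AlgInt}

/-- the deflation of a member of the block lies in the span of the `p`-regular parts of the
characters of the quotient inflating into the block -/
theorem regDefl_mem_span (hM : IsPModular p M) {B : Set (IrrCharacter G)} (hB : IsPBlock M B)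
    (B' : Set (IrrCharacter (G ⧸ P)))
    (hB' : ∀ η : IrrCharacter (G ⧸ P), η ∈ B' ↔
      ∃ ψ ∈ B, (ψ : G → ℂ) = (η : G ⧸ P → ℂ) ∘ (QuotientGroup.mk : G → G ⧸ P))
    {ψ : IrrCharacter G} (hψ : ψ ∈ B) :
    regDefl P p (ψ : G → ℂ) ∈ Submodule.span ℂ
      ((fun χ : IrrCharacter (G ⧸ P) => pRegularPart p (χ : G ⧸ P → ℂ)) '' B') := by
  classical
  letI : Fintype (IrrCharacter G) := irrFintype
  letI : Fintype (IrrCharacter (G ⧸ P)) := irrFintype
  have hcf : IsClassFunction (G ⧸ P) (regDefl P p (ψ : G → ℂ)) :=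
    isClassFunction_regDefl P (isClassFunction_of_isIrrCharacter ψ.2)
  have hexp := classFunction_expansion hcf
  have hreg : pRegularPart p (regDefl P p (ψ : G → ℂ)) = regDefl P p (ψ : G → ℂ) := by
    funext y
    by_cases hy : p ∣ orderOf y
    · rw [pRegularPart_of_dvd p _ hy, regDefl_of_dvd P _ hy]
    · rw [pRegularPart_of_not_dvd p _ hy]
  rw [← hreg, hexp, pRegularPart_sum]
  apply Submodule.sum_mem
  intro η _
  rw [pRegularPart_smul]
  by_cases hη : η ∈ B'
  · exact Submodule.smul_mem _ _ (Submodule.subset_span ⟨η, hη, rfl⟩)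
  · have hzero : classInner (regDefl P p (ψ : G → ℂ)) (η : G ⧸ P → ℂ) = 0 := by
      unfold classInner
      rw [sum_regDefl_mul]
      have hηG : IsIrrCharacter G ((η : G ⧸ P → ℂ) ∘ (QuotientGroup.mk : G → G ⧸ P)) :=
        isIrrCharacter_inflate P η.2
      have hnot : (⟨_, hηG⟩ : IrrCharacter G) ∉ B := by
        intro h
        exact hη ((hB' η).2 ⟨_, h, rfl⟩)
      have h0 := classInner_pRegularPart_eq_zero p hM
        (fun g => memLocalRing_blockCoeff hM.2.1.isPrime hB g) hψ hnot
      unfold classInner at h0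
      have hG0 : (Nat.card G : ℂ)⁻¹ ≠ 0 := by
        apply inv_ne_zero
        exact_mod_cast (Nat.card_pos (α := G)).ne'
      have h1 := (mul_eq_zero.mp h0).resolve_left hG0
      have h2 : ∑ x : G, pRegularPart p (ψ : G → ℂ) x * conj ((η : G ⧸ P → ℂ) (x : G ⧸ P)) = 0 :=
        h1
      rw [h2, mul_zero]
    rw [hzero, zero_smul]
    exact Submodule.zero_mem _

/-- **The rank of a block and of the dominated block**: if the centralizer of the normal
`p`-subgroup `P` has `p`-power index, a block `B` of `G` and the set `B'` of the characters of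
`G ⧸ P` inflating into `B` have the same `p`-regular rank. -/
theorem blockRank_quotient_eq [Fact p.Prime] (hM : IsPModular p M) (hP : IsPGroup p P)
    (hC : ∃ k : ℕ, (Subgroup.centralizer (P : Set G)).index = p ^ k)
    {B : Set (IrrCharacter G)} (hB : IsPBlock M B) (B' : Set (IrrCharacter (G ⧸ P)))
    (hB' : ∀ η : IrrCharacter (G ⧸ P), η ∈ B' ↔
      ∃ ψ ∈ B, (ψ : G → ℂ) = (η : G ⧸ P → ℂ) ∘ (QuotientGroup.mk : G → G ⧸ P)) :
    blockRank p B = blockRank p B' := by
  classical
  have hp : p.Prime := hM.1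
  unfold blockRank
  obtain ⟨S, hS⟩ : ∃ S : Submodule ℂ (G → ℂ), S = Submodule.span ℂ
      ((fun χ : IrrCharacter G => pRegularPart p (χ : G → ℂ)) '' B) := ⟨_, rfl⟩
  obtain ⟨S', hS'⟩ : ∃ S' : Submodule ℂ ((G ⧸ P) → ℂ), S' = Submodule.span ℂ
      ((fun χ : IrrCharacter (G ⧸ P) => pRegularPart p (χ : G ⧸ P → ℂ)) '' B') := ⟨_, rfl⟩
  rw [← hS, ← hS']
  -- elements of the spans are supported on the `p`-regular elements
  have hfix : ∀ f ∈ S, pRegularPart p f = f := by
    intro f hf
    rw [hS] at hf
    have := LinearMap.eqOn_span (f := regPart G p) (g := LinearMap.id)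
      (s := (fun χ : IrrCharacter G => pRegularPart p (χ : G → ℂ)) '' B) (by
        rintro _ ⟨χ, -, rfl⟩
        exact pRegularPart_idem p _) hf
    exact this
  have hfix' : ∀ f ∈ S', pRegularPart p f = f := by
    intro f hf
    rw [hS'] at hf
    have := LinearMap.eqOn_span (f := regPart (G ⧸ P) p) (g := LinearMap.id)
      (s := (fun χ : IrrCharacter (G ⧸ P) => pRegularPart p (χ : G ⧸ P → ℂ)) '' B') (by
        rintro _ ⟨χ, -, rfl⟩
        exact pRegularPart_idem p _) hf
    exact this
  -- the two maps respect the spans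
  have hmap1 : S.map (regDefl P p) ≤ S' := by
    rw [hS, Submodule.map_span_le]
    rintro _ ⟨ψ, hψ, rfl⟩
    rw [hS']
    have h1 : regDefl P p (pRegularPart p (ψ : G → ℂ)) = regDefl P p (ψ : G → ℂ) := by
      funext y
      rw [regDefl_apply, regDefl_apply, pRegularPart_idem]
    rw [h1]
    exact regDefl_mem_span P hM hB B' hB' hψ
  have hmap2 : S'.map (regInfl P p) ≤ S := by
    rw [hS', Submodule.map_span_le]
    rintro _ ⟨η, hη, rfl⟩
    rw [hS, regInfl_pRegularPart]
    obtain ⟨ψ, hψ, hψη⟩ := (hB' η).1 hη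
    rw [← hψη]
    exact Submodule.subset_span ⟨ψ, hψ, rfl⟩
  have hback1 : (S.map (regDefl P p)).map (regInfl P p) = S := by
    ext f
    constructor
    · rintro ⟨_, ⟨f₀, hf₀, rfl⟩, rfl⟩
      rw [regInfl_regDefl P hp hP hC, hfix f₀ hf₀]
      exact hf₀
    · intro hf
      refine ⟨_, ⟨f, hf, rfl⟩, ?_⟩
      rw [regInfl_regDefl P hp hP hC, hfix f hf]
  have hback2 : (S'.map (regInfl P p)).map (regDefl P p) = S' := by
    ext f
    constructor
    · rintro ⟨_, ⟨f₀, hf₀, rfl⟩, rfl⟩
      rw [regDefl_regInfl P hp hP hC, hfix' f₀ hf₀]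
      exact hf₀
    · intro hf
      refine ⟨_, ⟨f, hf, rfl⟩, ?_⟩
      rw [regDefl_regInfl P hp hP hC, hfix' f hf]
  apply le_antisymm
  · calc Module.finrank ℂ S = Module.finrank ℂ ((S.map (regDefl P p)).map (regInfl P p)) := by
          rw [hback1]
      _ ≤ Module.finrank ℂ (S.map (regDefl P p)) := Submodule.finrank_map_le _ _
      _ ≤ Module.finrank ℂ S' := Submodule.finrank_mono hmap1
  · calc Module.finrank ℂ S' = Module.finrank ℂ ((S'.map (regInfl P p)).map (regDefl P p)) := by
          rw [hback2]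
      _ ≤ Module.finrank ℂ (S'.map (regInfl P p)) := Submodule.finrank_map_le _ _
      _ ≤ Module.finrank ℂ S := Submodule.finrank_mono hmap2

end Main

end Cfsg.Agent.Helper18
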