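import Mathlib
import Cfsg.Agent.Lib.Helper26.CG3Defs

/-!
# S3412 piece E1 (helper18): `decM` is a bijection from `{n < 19683}` onto the `3 × 3` matrices over `ZMod 3`
-/

set_option autoImplicit false

namespace Cfsg.Agent.Helper26.CG3

/-- the code built from nine digits -/
def e1_code (d : Fin 9 → ℕ) : ℕ :=
  d 0 + d 1 * 3 + d 2 * 9 + d 3 * 27 + d 4 * 81 + d 5 * 243 + d 6 * 729 + d 7 * 2187 + d 8 * 6561

theorem e1_dig_lt (n k : ℕ) : dig n k < 3 := Nat.mod_lt _ (by norm_num)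

theorem e1_expand (n : ℕ) (hn : n < 19683) :
    n = dig n 0 + dig n 1 * 3 + dig n 2 * 9 + dig n 3 * 27 + dig n 4 * 81 + dig n 5 * 243
      + dig n 6 * 729 + dig n 7 * 2187 + dig n 8 * 6561 := by
  unfold dig
  norm_num
  omega

theorem e1_dig_nine (a0 a1 a2 a3 a4 a5 a6 a7 a8 : ℕ) (h0 : a0 < 3) (h1 : a1 < 3) (h2 : a2 < 3)
    (h3 : a3 < 3) (h4 : a4 < 3) (h5 : a5 < 3) (h6 : a6 < 3) (h7 : a7 < 3) (h8 : a8 < 3) (n : ℕ)
    (hn : n = a0 + a1 * 3 + a2 * 9 + a3 * 27 + a4 * 81 + a5 * 243 + a6 * 729 + a7 * 2187 + a8 * 6561) :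
    dig n 0 = a0 ∧ dig n 1 = a1 ∧ dig n 2 = a2 ∧ dig n 3 = a3 ∧ dig n 4 = a4 ∧ dig n 5 = a5 ∧
      dig n 6 = a6 ∧ dig n 7 = a7 ∧ dig n 8 = a8 := by
  unfold dig
  norm_num
  omega

theorem e1_dig_code (d : Fin 9 → ℕ) (hd : ∀ k, d k < 3) (k : Fin 9) : dig (e1_code d) k.val = d k := by
  obtain ⟨g0, g1, g2, g3, g4, g5, g6, g7, g8⟩ :=
    e1_dig_nine (d 0) (d 1) (d 2) (d 3) (d 4) (d 5) (d 6) (d 7) (d 8) (hd 0) (hd 1) (hd 2) (hd 3)
      (hd 4) (hd 5) (hd 6) (hd 7) (hd 8) (e1_code d) rfl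
  fin_cases k
  · exact g0
  · exact g1
  · exact g2
  · exact g3
  · exact g4
  · exact g5
  · exact g6
  · exact g7
  · exact g8

theorem e1_code_lt (d : Fin 9 → ℕ) (hd : ∀ k, d k < 3) : e1_code d < 19683 := by
  have h0 := hd 0; have h1 := hd 1; have h2 := hd 2; have h3 := hd 3; have h4 := hd 4
  have h5 := hd 5; have h6 := hd 6; have h7 := hd 7; have h8 := hd 8
  unfold e1_code
  omega

theorem e1_cast_inj (a b : ℕ) (ha : a < 3) (hb : b < 3) (h : (a : ZMod 3) = (b : ZMod 3)) : a = b := by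
  have := congrArg ZMod.val h
  rwa [ZMod.val_natCast_of_lt ha, ZMod.val_natCast_of_lt hb] at this

theorem e1_dig_eq (m n : ℕ) (h : decM m = decM n) (i j : Fin 3) :
    dig m (3 * i.val + j.val) = dig n (3 * i.val + j.val) := by
  have := congrFun (congrFun h i) j
  simp only [decM, Matrix.of_apply] at this
  exact e1_cast_inj _ _ (e1_dig_lt _ _) (e1_dig_lt _ _) this

/-- E1 -/
theorem decM_injOn (m n : ℕ) (hm : m < 19683) (hn : n < 19683) (h : decM m = decM n) : m = n := by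
  have h00 := e1_dig_eq m n h 0 0
  have h01 := e1_dig_eq m n h 0 1
  have h02 := e1_dig_eq m n h 0 2
  have h10 := e1_dig_eq m n h 1 0
  have h11 := e1_dig_eq m n h 1 1
  have h12 := e1_dig_eq m n h 1 2
  have h20 := e1_dig_eq m n h 2 0
  have h21 := e1_dig_eq m n h 2 1
  have h22 := e1_dig_eq m n h 2 2
  norm_num at h00 h01 h02 h10 h11 h12 h20 h21 h22
  rw [e1_expand m hm, e1_expand n hn, h00, h01, h02, h10, h11, h12, h20, h21, h22]

/-- E1' -/
theorem decM_surj (A : Matrix (Fin 3) (Fin 3) (ZMod 3)) : ∃ n : ℕ, n < 19683 ∧ decM n = A := by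
  let d : Fin 9 → ℕ := fun k => (A ⟨k.val / 3, by omega⟩ ⟨k.val % 3, by omega⟩).val
  have hd : ∀ k, d k < 3 := fun k => ZMod.val_lt _
  refine ⟨e1_code d, e1_code_lt d hd, ?_⟩
  ext i j
  simp only [decM, Matrix.of_apply]
  have hk : 3 * i.val + j.val < 9 := by omega
  have := e1_dig_code d hd ⟨3 * i.val + j.val, hk⟩
  simp only at this
  rw [this]
  show ((A ⟨(3 * i.val + j.val) / 3, _⟩ ⟨(3 * i.val + j.val) % 3, _⟩).val : ZMod 3) = A i j
  have e1 : (⟨(3 * i.val + j.val) / 3, by omega⟩ : Fin 3) = i := by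
    apply Fin.ext
    show (3 * i.val + j.val) / 3 = i.val
    omega
  have e2 : (⟨(3 * i.val + j.val) % 3, by omega⟩ : Fin 3) = j := by
    apply Fin.ext
    show (3 * i.val + j.val) % 3 = j.val
    omega
  rw [e1, e2]
  exact ZMod.natCast_zmod_val _

end Cfsg.Agent.Helper26.CG3
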