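import Mathlib
import Cfsg.Agent.Lib.Helper20.CSFACTS2
import Cfsg.Agent.Lib.Helper1.CSLOC

/-!
# S4016 piece BCENT (helper18): `C_G(y) = M` for `1 ≠ y ∈ L₀`, and `L₀` is a TI-set off `M`.
-/

set_option autoImplicit false

universe u

namespace Cfsg.Agent.Helper20.CS

open Subgroup

variable {p : ℕ} [Fact p.Prime] {G : Type u} [Group G] [Finite G]

namespace Cfg

variable (c : Cfg p G)

include c in
theorem bcent_center_bot : center G = ⊥ := by
  haveI := c.simple
  rcases (Subgroup.Normal.eq_bot_or_eq_top (inferInstance : (center G).Normal)) with h | h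
  · exact h
  · exfalso
    obtain ⟨a, -, b, -, hab⟩ := c.act
    have ha : a ∈ center G := by rw [h]; trivial
    exact hab ((Subgroup.mem_center_iff.mp ha b).symm)

theorem centralizer_eq {y : G} (hy : y ∈ c.L0) (hy1 : y ≠ 1) :
    centralizer ({y} : Set G) = c.M := by
  obtain ⟨hyL, hyP⟩ := (c.mem_L0_iff y).mp hy
  have hM : c.M ≤ centralizer ({y} : Set G) := by
    intro g hg
    obtain ⟨u, hu, l, hl, rfl⟩ := (c.mem_M_iff g).mp hg
    rw [mem_centralizer_singleton_iff]
    have h1 := hyP u hu
    have h2 := c.L_comm y hyL l hl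
    calc u * l * y = u * (l * y) := by group
      _ = u * (y * l) := by rw [h2]
      _ = (u * y) * l := by group
      _ = (y * u) * l := by rw [h1]
      _ = y * (u * l) := by group
  have hne : centralizer ({y} : Set G) ≠ ⊤ := by
    intro htop
    have hyc : y ∈ center G := by
      rw [mem_center_iff]
      intro g
      have : g ∈ centralizer ({y} : Set G) := by rw [htop]; trivial
      rw [mem_centralizer_singleton_iff] at this
      exact this
    rw [c.bcent_center_bot, mem_bot] at hyc
    exact hy1 hyc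
  exact c.max _ hM hne

theorem L0_ti {g : G} (hg : g ∉ c.M) {y : G} (hy : y ∈ c.L0) (hy' : g * y * g⁻¹ ∈ c.L0) :
    y = 1 := by
  by_contra hy1
  have hy1' : g * y * g⁻¹ ≠ 1 := by
    intro h
    apply hy1
    have : y = g⁻¹ * (g * y * g⁻¹) * g := by group
    rw [this, h]
    group
  have h1 := c.centralizer_eq hy hy1
  have h2 := c.centralizer_eq hy' hy1'
  apply hg
  rw [← c.conj_mem_M_iff]
  intro x hx
  rw [← h1, mem_centralizer_singleton_iff] at hx
  rw [← h2, mem_centralizer_singleton_iff]
  calc g * x * g⁻¹ * (g * y * g⁻¹) = g * (x * y) * g⁻¹ := by group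
    _ = g * (y * x) * g⁻¹ := by rw [hx]
    _ = g * y * g⁻¹ * (g * x * g⁻¹) := by group

end Cfg

end Cfsg.Agent.Helper20.CS
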