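import Mathlib
import Cfsg.Agent.Lib.Helper20.CSFACTS2
import Cfsg.Agent.Lib.Helper1.CSLOC

/-!
# S4016 piece BHOM (helper18): `L / L₀` embeds in `(ZMod p)ˣ`.
-/

set_option autoImplicit false

universe u

namespace Cfsg.Agent.Helper20.CS

open Subgroup

variable {p : ℕ} [Fact p.Prime] {G : Type u} [Group G] [Finite G]

namespace Cfg

variable (c : Cfg p G)

theorem exists_hom_units : ∃ φ : ↥c.L →* (ZMod p)ˣ, ∀ x : ↥c.L, φ x = 1 ↔ (x : G) ∈ c.L0 := by
  have hp : p.Prime := Fact.out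
  -- an element of order `p`
  have hPcard : p ∣ Nat.card ↥(c.P : Subgroup G) := by
    obtain ⟨n, hn⟩ := IsPGroup.iff_card.mp c.P.isPGroup'
    rw [hn]
    have hn0 : n ≠ 0 := by
      rintro rfl
      rw [pow_zero] at hn
      exact c.P_ne (Subgroup.card_eq_one.mp hn)
    exact dvd_pow_self p hn0
  obtain ⟨u₀, hu₀⟩ := exists_prime_orderOf_dvd_card' p hPcard
  set u₁ : G := (u₀ : G) with hu₁
  have hu₁P : u₁ ∈ (c.P : Subgroup G) := u₀.2
  have hord : orderOf u₁ = p := by rw [hu₁, Subgroup.orderOf_coe]; exact hu₀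
  have hu₁1 : u₁ ≠ 1 := by
    intro h
    rw [h, orderOf_one] at hord
    exact hp.one_lt.ne hord
  set P₁ : Subgroup G := zpowers u₁ with hP₁
  have hP₁P : P₁ ≤ (c.P : Subgroup G) := zpowers_le.mpr hu₁P
  have hcardP₁ : Nat.card ↥P₁ = p := by rw [hP₁, Nat.card_zpowers, hord]
  have hLN : c.L ≤ normalizer (P₁ : Set G) := by
    refine c.L_le_M.trans ?_
    exact normalizer_le_of_le_cyclic (c.P : Subgroup G) (c.hyp.1 c.P) P₁ hP₁P
  haveI : IsCyclic ↥P₁ := by rw [hP₁]; infer_instance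
  let e : (ZMod (Nat.card ↥P₁))ˣ ≃* (ZMod p)ˣ := Units.mapEquiv (ZMod.ringEquivCongr hcardP₁).toMulEquiv
  let φ : ↥c.L →* (ZMod p)ˣ :=
    (e.toMonoidHom.comp (IsCyclic.mulAutMulEquiv ↥P₁).toMonoidHom).comp
      (P₁.normalizerMonoidHom.comp (Subgroup.inclusion hLN))
  refine ⟨φ, ?_⟩
  intro x
  have h1 : φ x = 1 ↔ P₁.normalizerMonoidHom (Subgroup.inclusion hLN x) = 1 := by
    show e ((IsCyclic.mulAutMulEquiv ↥P₁) (P₁.normalizerMonoidHom (Subgroup.inclusion hLN x))) = 1 ↔ _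
    rw [MulEquiv.map_eq_one_iff, MulEquiv.map_eq_one_iff]
  rw [h1, ← MonoidHom.mem_ker, normalizerMonoidHom_ker, mem_subgroupOf]
  show (x : G) ∈ centralizer (P₁ : Set G) ↔ _
  rw [c.mem_L0_iff]
  constructor
  · intro hx
    refine ⟨x.2, ?_⟩
    have hxu : (x : G) * u₁ = u₁ * x := by
      rw [mem_centralizer_iff] at hx
      exact (hx u₁ (mem_zpowers u₁)).symm
    exact c.fpf (c.L_le_M x.2) hu₁P hu₁1 hxu
  · rintro ⟨-, hx⟩
    rw [mem_centralizer_iff]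
    intro v hv
    exact (hx v (hP₁P hv)).symm

end Cfg

end Cfsg.Agent.Helper20.CS
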