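import Mathlib
import Cfsg.Agent.Lib.Helper18.CSBCENT

/-!
# S4016 piece BSYL (helper18): for a prime `r ∣ |L₀|` a Sylow `r`-subgroup of `G` lies in `L`.
-/

set_option autoImplicit false

universe u

namespace Cfsg.Agent.Helper20.CS

open Subgroup

variable {p : ℕ} [Fact p.Prime] {G : Type u} [Group G] [Finite G]

namespace Cfg

variable (c : Cfg p G)

/-- an `r`-element of `L` lies in every `r`-subgroup of `L` that is Sylow in `G` -/
theorem bsyl_mem_of_le_L {r : ℕ} [Fact r.Prime] (R : Sylow r G) (hRL : (R : Subgroup G) ≤ c.L)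
    {y : G} (hyL : y ∈ c.L) (hy : ∃ k : ℕ, orderOf y = r ^ k) : y ∈ (R : Subgroup G) := by
  obtain ⟨k, hk⟩ := hy
  have hH : IsPGroup r (zpowers y) := by
    rw [IsPGroup.iff_card]
    exact ⟨k, by rw [Nat.card_zpowers, hk]⟩
  have hle : zpowers y ≤ normalizer ((R : Subgroup G) : Set G) := by
    rw [zpowers_le, mem_normalizer_iff]
    intro h
    constructor
    · intro hh
      have : y * h * y⁻¹ = h := by
        rw [c.L_comm y hyL h (hRL hh), mul_inv_cancel_right]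
      rw [this]; exact hh
    · intro hh
      have h1 : h = y⁻¹ * (y * h * y⁻¹) * y := by group
      have h2 : y⁻¹ * (y * h * y⁻¹) * y = y * h * y⁻¹ := by
        have := c.L_comm y⁻¹ (c.L.inv_mem hyL) (y * h * y⁻¹) (hRL hh)
        rw [this, inv_mul_cancel_right]
      rw [h1, h2]; exact hh
  have hsup : IsPGroup r (zpowers y ⊔ (R : Subgroup G) : Subgroup G) :=
    IsPGroup.to_sup_of_normal_right' hH R.isPGroup' hle
  have heq := R.is_maximal' hsup le_sup_right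
  have : y ∈ zpowers y ⊔ (R : Subgroup G) := mem_sup_left (mem_zpowers y)
  rw [heq] at this
  exact this

/-- an element of order `r` in `L₀` -/
theorem bsyl_exists_y {r : ℕ} [Fact r.Prime] (hr : r ∣ Nat.card ↥c.L0) :
    ∃ y : G, y ∈ c.L0 ∧ orderOf y = r := by
  obtain ⟨y₀, hy₀⟩ := exists_prime_orderOf_dvd_card' r hr
  exact ⟨(y₀ : G), y₀.2, by rw [Subgroup.orderOf_coe]; exact hy₀⟩

theorem bsyl_r_ne_p {r : ℕ} [Fact r.Prime] (hr : r ∣ Nat.card ↥c.L0) : r ≠ p := by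
  rintro rfl
  apply c.L_card
  have hle : c.L0 ≤ c.L := inf_le_left
  exact hr.trans (Subgroup.card_dvd_of_le hle)

theorem exists_sylow_le_L {r : ℕ} [Fact r.Prime] (hr : r ∣ Nat.card ↥c.L0) :
    ∃ R : Sylow r G, (R : Subgroup G) ≤ c.L := by
  have hrp : r.Prime := Fact.out
  have hpp : p.Prime := Fact.out
  have hrnp := c.bsyl_r_ne_p hr
  obtain ⟨y, hyL0, hyo⟩ := c.bsyl_exists_y hr
  have hyL : y ∈ c.L := ((c.mem_L0_iff y).mp hyL0).1
  have hy1 : y ≠ 1 := by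
    intro h
    rw [h, orderOf_one] at hyo
    exact hrp.one_lt.ne hyo
  -- a Sylow `r`-subgroup of `L` containing `y`
  have hZ : IsPGroup r (zpowers (⟨y, hyL⟩ : ↥c.L)) := by
    rw [IsPGroup.iff_card]
    refine ⟨1, ?_⟩
    rw [Nat.card_zpowers, pow_one, ← hyo]
    exact (Subgroup.orderOf_mk y hyL)
  obtain ⟨R₁, hR₁⟩ := hZ.exists_le_sylow
  set R₁' : Subgroup G := (R₁ : Subgroup ↥c.L).map c.L.subtype with hR₁'
  have hR₁'L : R₁' ≤ c.L := Subgroup.map_subtype_le _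
  have hR₁'p : IsPGroup r ↥R₁' := R₁.isPGroup'.map c.L.subtype
  have hyR₁' : y ∈ R₁' := by
    rw [hR₁', mem_map]
    exact ⟨⟨y, hyL⟩, hR₁ (mem_zpowers _), rfl⟩
  obtain ⟨R, hR⟩ := hR₁'p.exists_le_sylow
  have hyR : y ∈ (R : Subgroup G) := hR hyR₁'
  -- `R` is abelian
  have hRcard : ¬ p ∣ Nat.card ↥(R : Subgroup G) := by
    obtain ⟨n, hn⟩ := IsPGroup.iff_card.mp R.isPGroup'
    rw [hn]
    intro hdvd
    have := (Nat.prime_dvd_prime_iff_eq hpp hrp).mp (hpp.dvd_of_dvd_pow hdvd)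
    exact hrnp this.symm
  have hRab := c.hyp.2 (R : Subgroup G) hRcard
  -- `R ≤ C(y) = M`
  have hRM : (R : Subgroup G) ≤ c.M := by
    rw [← c.centralizer_eq hyL0 hy1]
    intro x hx
    rw [mem_centralizer_singleton_iff]
    exact hRab x hx y hyR
  -- `|R|` divides `|L|`
  have hdvd : Nat.card ↥(R : Subgroup G) ∣ Nat.card ↥c.L := by
    have h1 : Nat.card ↥(R : Subgroup G) ∣ Nat.card ↥(c.P : Subgroup G) * Nat.card ↥c.L := by
      rw [← c.card_M]
      exact Subgroup.card_dvd_of_le hRM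
    refine Nat.Coprime.dvd_of_dvd_mul_left ?_ h1
    obtain ⟨n, hn⟩ := IsPGroup.iff_card.mp R.isPGroup'
    obtain ⟨m, hm⟩ := IsPGroup.iff_card.mp c.P.isPGroup'
    rw [hn, hm]
    exact Nat.Coprime.pow _ _ ((Nat.coprime_primes hrp hpp).mpr hrnp)
  -- `|R| ≤ |R₁|`
  have hcardR₁ : Nat.card ↥R₁' = Nat.card ↥(R₁ : Subgroup ↥c.L) :=
    Subgroup.card_map_of_injective (Subgroup.subtype_injective c.L)
  have hle : Nat.card ↥(R : Subgroup G) ≤ Nat.card ↥R₁' := by
    rw [hcardR₁, Sylow.card_eq_multiplicity R₁]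
    obtain ⟨n, hn⟩ := IsPGroup.iff_card.mp R.isPGroup'
    rw [hn] at hdvd ⊢
    apply Nat.pow_le_pow_right hrp.pos
    exact (hrp.pow_dvd_iff_le_factorization Nat.card_pos.ne').mp hdvd
  have heq : R₁' = (R : Subgroup G) := Subgroup.eq_of_le_of_card_ge hR hle
  exact ⟨R, by rw [← heq]; exact hR₁'L⟩

theorem dvd_card_inf {r : ℕ} [Fact r.Prime] (hr : r ∣ Nat.card ↥c.L0) (R : Sylow r G)
    (hRL : (R : Subgroup G) ≤ c.L) : r ∣ Nat.card ↥((R : Subgroup G) ⊓ c.L0) := by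
  obtain ⟨y, hyL0, hyo⟩ := c.bsyl_exists_y hr
  have hyL : y ∈ c.L := ((c.mem_L0_iff y).mp hyL0).1
  have hyR : y ∈ (R : Subgroup G) := c.bsyl_mem_of_le_L R hRL hyL ⟨1, by rw [pow_one, hyo]⟩
  have := Subgroup.orderOf_dvd_natCard ((R : Subgroup G) ⊓ c.L0) (⟨hyR, hyL0⟩ : y ∈ (R : Subgroup G) ⊓ c.L0)
  rwa [hyo] at this

theorem normalizer_inf_M_le {r : ℕ} [Fact r.Prime] (R : Sylow r G) (hRL : (R : Subgroup G) ≤ c.L) :
    normalizer ((R : Subgroup G) : Set G) ⊓ c.M ≤ centralizer ((R : Subgroup G) : Set G) := by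
  intro g hg
  have hgN : g ∈ normalizer ((R : Subgroup G) : Set G) := hg.1
  have hgM : g ∈ c.M := hg.2
  obtain ⟨u, hu, l, hl, rfl⟩ := (c.mem_M_iff g).mp hgM
  rw [mem_centralizer_iff]
  intro x hx
  have hxL : x ∈ c.L := hRL hx
  have hlx : l * x = x * l := c.L_comm l hl x hxL
  -- `u` normalizes `R` on `x`
  have hux : u * x * u⁻¹ ∈ (R : Subgroup G) := by
    have h1 := (mem_normalizer_iff.mp hgN x).mp hx
    have h2 : u * l * x * (u * l)⁻¹ = u * x * u⁻¹ := by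
      calc u * l * x * (u * l)⁻¹ = u * (l * x) * l⁻¹ * u⁻¹ := by group
        _ = u * (x * l) * l⁻¹ * u⁻¹ := by rw [hlx]
        _ = u * x * u⁻¹ := by group
    rwa [h2] at h1
  -- the commutator lies in `P ⊓ L = ⊥`
  have hcomm : u * x * u⁻¹ * x⁻¹ ∈ (c.P : Subgroup G) ⊓ c.L := by
    constructor
    · have hxM : x ∈ c.M := c.L_le_M hxL
      have h1 : x * u⁻¹ * x⁻¹ ∈ (c.P : Subgroup G) :=
        (mem_normalizer_iff.mp hxM u⁻¹).mp ((c.P : Subgroup G).inv_mem hu)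
      have h2 : u * x * u⁻¹ * x⁻¹ = u * (x * u⁻¹ * x⁻¹) := by group
      rw [h2]
      exact (c.P : Subgroup G).mul_mem hu h1
    · exact c.L.mul_mem (hRL hux) (c.L.inv_mem hxL)
  rw [c.P_inf_L, mem_bot] at hcomm
  have hux' : u * x = x * u := by
    have : u * x = (u * x * u⁻¹ * x⁻¹) * (x * u) := by group
    rw [this, hcomm, one_mul]
  calc x * (u * l) = (x * u) * l := by group
    _ = (u * x) * l := by rw [hux']
    _ = u * (x * l) := by group
    _ = u * (l * x) := by rw [hlx]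
    _ = u * l * x := by group

end Cfg

end Cfsg.Agent.Helper20.CS
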