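import Mathlib
import Cfsg.Prelude.Def_Blocks
import Cfsg.Agent.S0867
import Cfsg.Agent.S0886
import Cfsg.Agent.Lib.Helper5.Clifford
import Cfsg.Agent.Lib.Helper5.DetChar
import Cfsg.Agent.Lib.Helper24.CoprimeDegree

/-!
# Invariant extensions of invariant characters of normal `p'`-subgroups (helper18's library)
-/

set_option autoImplicit false
set_option linter.style.haveILetI false
set_option linter.unusedSectionVars false

namespace Cfsg.Agent.Helper18.CanonExt

open Cfsg Cfsg.Agent.Helper24 Cfsg.Agent.Helper5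
open scoped ComplexConjugate

universe u

variable {G : Type u} [Group G] [Finite G]

/-- the determinantal order does not grow under composition with an endomorphism -/
theorem detOrder_comp_dvd {A : Type u} [Group A] [Finite A] (f : A →* A) {χ : A → ℂ}
    (hχ : IsIrrCharacter A χ) (hcomp : IsIrrCharacter A (χ ∘ f)) :
    detOrder (χ ∘ f) ∣ detOrder χ := by
  unfold detOrder
  apply orderOf_dvd_of_pow_eq_one
  funext a
  rw [Pi.pow_apply, Pi.one_apply, detChar_comp f hχ hcomp a]
  have h1 : detChar χ ^ orderOf (detChar χ) = 1 := pow_orderOf_eq_one (detChar χ)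
  have h2 := congrFun h1 (f a)
  rwa [Pi.pow_apply, Pi.one_apply] at h2

/-- **the canonical extension is invariant**: a `G`-invariant irreducible character of the
normal `p'`-subgroup `N` has a `G`-invariant extension to a normal subgroup `K ≥ N` with `K / N`
a `p`-group -/
theorem exists_invariant_extension {p : ℕ} [hp : Fact p.Prime] (N K : Subgroup G)
    [hN : N.Normal] [hK : K.Normal] (hNK : N ≤ K) (hNp : (Nat.card N).Coprime p) (a : ℕ)
    (hidx : N.relIndex K = p ^ a) (θ : N → ℂ) (hθ : IsIrrCharacter N θ)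
    (hθinv : ∀ x : G, Cfsg.Agent.Helper5.conjFun N x θ = θ) :
    ∃ θh : K → ℂ, IsIrrCharacter K θh ∧ (∀ n : N, θh ⟨n, hNK n.2⟩ = θ n) ∧
      ∀ x : G, Cfsg.Agent.Helper5.conjFun K x θh = θh := by
  classical
  haveI : Fintype G := Fintype.ofFinite G
  haveI : Fintype N := Fintype.ofFinite N
  let e : N.subgroupOf K ≃* N := Subgroup.subgroupOfEquivOfLe hNK
  set ϑ : N.subgroupOf K → ℂ := θ ∘ e with hϑdef
  have hϑ : IsIrrCharacter (N.subgroupOf K) ϑ := isIrrCharacter_comp_equiv e hθ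
  have hϑinv : ∀ (k : K) (n : N.subgroupOf K),
      ϑ ⟨k * n * k⁻¹, (inferInstance : (N.subgroupOf K).Normal).conj_mem (n : K) n.2 k⟩ =
        ϑ n := by
    intro k n
    have h1 := congrFun (hθinv (k : G)) (e n)
    rw [Cfsg.Agent.Helper5.conjFun_apply] at h1
    rw [hϑdef, Function.comp_apply, Function.comp_apply, ← h1]
    congr 1
  obtain ⟨d, hdpos, hd⟩ := irr_one_eq hθ
  have hϑ1 : ϑ 1 = d := by
    rw [hϑdef, Function.comp_apply, map_one, hd]
  have hcardN : Nat.card (N.subgroupOf K) = Nat.card N := Nat.card_congr e.toEquiv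
  have hcop : Nat.Coprime (N.subgroupOf K).index (detOrder ϑ * d) := by
    have h1 : (N.subgroupOf K).index = p ^ a := hidx
    rw [h1]
    apply Nat.Coprime.pow_left
    apply Nat.Coprime.mul_right
    · have h2 := Cfsg.Agent.Helper24.CopDeg.detOrder_dvd_card' (isCharacter_of_isIrrCharacter hϑ)
      rw [hcardN] at h2
      exact (Nat.Coprime.coprime_dvd_left h2 hNp).symm
    · have h2 := charDegree_dvd_card hθ
      rw [charDegree_natCast d hd] at h2
      exact (Nat.Coprime.coprime_dvd_left h2 hNp).symm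
  obtain ⟨χ, ⟨hχ, hχN, hχo⟩, huniq⟩ :=
    Cfsg.Agent.S0867.result (N.subgroupOf K) ϑ hϑ hϑinv d hϑ1 hcop
  have hcopo : Nat.Coprime (N.subgroupOf K).index (detOrder χ) := by
    rw [hχo]
    exact Nat.Coprime.coprime_mul_right_right hcop
  refine ⟨χ, hχ, ?_, ?_⟩
  · intro n
    have h1 := hχN (e.symm n)
    rw [hϑdef, Function.comp_apply, MulEquiv.apply_symm_apply] at h1
    rw [← h1]
    congr 1
  · intro x
    have hcomp : IsIrrCharacter K (χ ∘ (MulAut.conjNormal x : MulAut K).toMonoidHom) :=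
      isIrrCharacter_comp_equiv (MulAut.conjNormal x : MulAut K) hχ
    have heq : Cfsg.Agent.Helper5.conjFun K x χ = χ ∘ (MulAut.conjNormal x : MulAut K).toMonoidHom :=
      Cfsg.Agent.Helper5.conjFun_eq_comp K x χ
    rw [heq]
    apply huniq _ hcomp
    · intro n
      have hmem : x * ((n : K) : G) * x⁻¹ ∈ N := hN.conj_mem _ (Subgroup.mem_subgroupOf.1 n.2) x
      have h1 := hχN ⟨⟨x * ((n : K) : G) * x⁻¹, hNK hmem⟩, Subgroup.mem_subgroupOf.2 hmem⟩
      have h2 := congrFun (hθinv x) (e n)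
      rw [Cfsg.Agent.Helper5.conjFun_apply] at h2
      rw [Function.comp_apply]
      have h3 : ((MulAut.conjNormal x : MulAut K).toMonoidHom (n : K)) =
          ⟨x * ((n : K) : G) * x⁻¹, hNK hmem⟩ := by
        apply Subtype.ext
        show ((MulAut.conjNormal x (n : K) : K) : G) = _
        rw [MulAut.conjNormal_apply]
      rw [h3]
      refine Eq.trans h1 ?_
      rw [hϑdef, Function.comp_apply, Function.comp_apply, ← h2]
      congr 1
    · exact Nat.Coprime.coprime_dvd_right (detOrder_comp_dvd _ hχ hcomp) hcopo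

/-- an invariant irreducible character of the normal subgroup `K` extends to `K ⟨g⟩` -/
theorem exists_extension_sup_zpowers (K : Subgroup G) [hK : K.Normal] (g : G) (θh : K → ℂ)
    (hθh : IsIrrCharacter K θh) (hinv : ∀ x : G, Cfsg.Agent.Helper5.conjFun K x θh = θh) :
    ∃ η : (K ⊔ Subgroup.zpowers g : Subgroup G) → ℂ,
      IsIrrCharacter (K ⊔ Subgroup.zpowers g : Subgroup G) η ∧
      ∀ k : K, η ⟨k, (le_sup_left : K ≤ K ⊔ Subgroup.zpowers g) k.2⟩ = θh k := by
  classical
  set H : Subgroup G := K ⊔ Subgroup.zpowers g with hH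
  have hKH : K ≤ H := le_sup_left
  have hgH : g ∈ H := (le_sup_right : Subgroup.zpowers g ≤ H) (Subgroup.mem_zpowers g)
  let e : K.subgroupOf H ≃* K := Subgroup.subgroupOfEquivOfLe hKH
  set ϑ : K.subgroupOf H → ℂ := θh ∘ e with hϑdef
  have hϑ : IsIrrCharacter (K.subgroupOf H) ϑ := isIrrCharacter_comp_equiv e hθh
  have hϑinv : ∀ (h : H) (n : K.subgroupOf H),
      ϑ ⟨h * n * h⁻¹, (inferInstance : (K.subgroupOf H).Normal).conj_mem (n : H) n.2 h⟩ =
        ϑ n := by
    intro h n
    have h1 := congrFun (hinv (h : G)) (e n)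
    rw [Cfsg.Agent.Helper5.conjFun_apply] at h1
    rw [hϑdef, Function.comp_apply, Function.comp_apply, ← h1]
    congr 1
  have hcyc : IsCyclic (H ⧸ K.subgroupOf H) := by
    refine ⟨⟨QuotientGroup.mk (⟨g, hgH⟩ : H), ?_⟩⟩
    intro x
    obtain ⟨h, rfl⟩ := QuotientGroup.mk_surjective x
    have hh : (h : G) ∈ ((K ⊔ Subgroup.zpowers g : Subgroup G) : Set G) := h.2
    rw [Subgroup.normal_mul] at hh
    obtain ⟨k, hk, z, hz, hkz⟩ := hh
    obtain ⟨i, rfl⟩ := Subgroup.mem_zpowers_iff.1 hz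
    refine Subgroup.mem_zpowers_iff.2 ⟨i, ?_⟩
    rw [← QuotientGroup.mk_zpow]
    symm
    rw [QuotientGroup.eq]
    rw [Subgroup.mem_subgroupOf]
    have h2 : ((h⁻¹ * (⟨g, hgH⟩ : H) ^ i : H) : G) = (g ^ i)⁻¹ * k⁻¹ * g ^ i := by
      rw [Subgroup.coe_mul, Subgroup.coe_inv, Subgroup.coe_zpow, ← hkz]
      show (k * g ^ i)⁻¹ * g ^ i = _
      group
    rw [h2]
    have := hK.conj_mem k⁻¹ (K.inv_mem hk) (g ^ i)⁻¹
    simpa using this
  obtain ⟨η, hη, hηK⟩ := Cfsg.Agent.S0886.result (K.subgroupOf H) hcyc ϑ hϑ hϑinv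
  refine ⟨η, hη, ?_⟩
  intro k
  have h1 := hηK (e.symm k)
  rw [hϑdef, Function.comp_apply, MulEquiv.apply_symm_apply] at h1
  rw [← h1]
  congr 1

end Cfsg.Agent.Helper18.CanonExt
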