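import Mathlib
import Cfsg.Prelude.Def_Blocks
import Cfsg.Agent.Lib.Helper18.BlockQuotP
import Cfsg.Agent.Lib.Helper5.Clifford
import Cfsg.Agent.Lib.Helper23.BlockBrauer2

/-!
# Principal blocks of central products (helper18's shared library)

`G = U₁ U₂` with `[U₁, U₂] = 1` and `U₁ ∩ U₂` a `p`-group: an irreducible character of `G` lies in
the principal block iff its constituents on `U₁` and `U₂` lie in the principal blocks.
-/

set_option autoImplicit false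
set_option linter.unusedSectionVars false
set_option linter.style.haveILetI false

namespace Cfsg.Agent.Helper18.CentralProd

open Cfsg Cfsg.Agent.Helper24 Cfsg.Agent.Helper23.Blk Cfsg.Agent.Helper5
open scoped ComplexConjugate

universe u

section Basic

variable {G : Type u} [Group G] (U₁ U₂ : Subgroup G)

theorem conj_eq_of_comm (hcomm : ∀ u ∈ U₁, ∀ v ∈ U₂, u * v = v * u) {u v : G} (hu : u ∈ U₁)
    (hv : v ∈ U₂) : v * u * v⁻¹ = u := by
  rw [← hcomm u hu v hv]; group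

theorem normal_left (hcomm : ∀ u ∈ U₁, ∀ v ∈ U₂, u * v = v * u) (hgen : U₁ ⊔ U₂ = ⊤) :
    U₁.Normal := by
  rw [← Subgroup.normalizer_eq_top_iff]
  apply top_le_iff.mp
  rw [← hgen]
  apply sup_le Subgroup.le_normalizer
  intro v hv
  rw [Subgroup.mem_normalizer_iff]
  intro u
  constructor
  · intro hu
    rw [conj_eq_of_comm U₁ U₂ hcomm hu hv]; exact hu
  · intro hu
    have h1 : v⁻¹ * (v * u * v⁻¹) * v⁻¹⁻¹ = v * u * v⁻¹ :=
      conj_eq_of_comm U₁ U₂ hcomm hu (U₂.inv_mem hv)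
    have e : u = v⁻¹ * (v * u * v⁻¹) * v⁻¹⁻¹ := by group
    rw [e, h1]; exact hu

theorem exists_mul (hcomm : ∀ u ∈ U₁, ∀ v ∈ U₂, u * v = v * u) (hgen : U₁ ⊔ U₂ = ⊤) (g : G) :
    ∃ u ∈ U₁, ∃ v ∈ U₂, u * v = g := by
  haveI := normal_left U₁ U₂ hcomm hgen
  have hg : g ∈ U₁ ⊔ U₂ := by rw [hgen]; trivial
  rw [← SetLike.mem_coe, Subgroup.normal_mul] at hg
  obtain ⟨u, hu, v, hv, huv⟩ := Set.mem_mul.mp hg
  exact ⟨u, hu, v, hv, huv⟩

/-- conjugation on `U₁` is induced by elements of `U₁` -/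
theorem exists_conj_left (hcomm : ∀ u ∈ U₁, ∀ v ∈ U₂, u * v = v * u) (hgen : U₁ ⊔ U₂ = ⊤)
    (g : G) : ∃ a ∈ U₁, ∀ x ∈ U₁, g * x * g⁻¹ = a * x * a⁻¹ := by
  obtain ⟨u, hu, v, hv, rfl⟩ := exists_mul U₁ U₂ hcomm hgen g
  refine ⟨u, hu, ?_⟩
  intro x hx
  have := conj_eq_of_comm U₁ U₂ hcomm hx hv
  calc u * v * x * (u * v)⁻¹ = u * (v * x * v⁻¹) * u⁻¹ := by group
    _ = u * x * u⁻¹ := by rw [this]

theorem isConj_coe_iff (hcomm : ∀ u ∈ U₁, ∀ v ∈ U₂, u * v = v * u) (hgen : U₁ ⊔ U₂ = ⊤)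
    (x y : U₁) : IsConj (x : G) (y : G) ↔ IsConj x y := by
  constructor
  · intro h
    obtain ⟨g, hg⟩ := isConj_iff.mp h
    obtain ⟨a, ha, hax⟩ := exists_conj_left U₁ U₂ hcomm hgen g
    rw [hax x x.2] at hg
    exact isConj_iff.mpr ⟨⟨a, ha⟩, Subtype.ext (by push_cast; exact hg)⟩
  · intro h
    obtain ⟨a, ha⟩ := isConj_iff.mp h
    refine isConj_iff.mpr ⟨(a : G), ?_⟩
    have := congrArg (Subtype.val) ha
    push_cast at this
    exact this

end Basic

section Sums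

variable {G : Type u} [Group G] [Fintype G] (U₁ U₂ : Subgroup G) [Fintype U₁]

/-- a sum over the `G`-class of an element of `U₁` is a sum over its `U₁`-class -/
theorem sum_conj_left (hcomm : ∀ u ∈ U₁, ∀ v ∈ U₂, u * v = v * u) (hgen : U₁ ⊔ U₂ = ⊤)
    [DecidableEq G] (x : U₁) [DecidablePred (IsConj (x : G))] [DecidablePred (IsConj x)]
    (F : G → ℂ) :
    ∑ b ∈ Finset.univ.filter (IsConj (x : G)), F b =
      ∑ b ∈ Finset.univ.filter (IsConj x), F (b : G) := by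
  classical
  haveI hn := normal_left U₁ U₂ hcomm hgen
  have himg : Finset.univ.filter (IsConj (x : G)) =
      (Finset.univ.filter (IsConj x)).image (fun b : U₁ => (b : G)) := by
    ext b
    simp only [Finset.mem_filter, Finset.mem_univ, true_and, Finset.mem_image]
    constructor
    · intro h
      have hb : b ∈ U₁ := by
        obtain ⟨g, hg⟩ := isConj_iff.mp h
        rw [← hg]
        exact hn.conj_mem _ x.2 g
      exact ⟨⟨b, hb⟩, (isConj_coe_iff U₁ U₂ hcomm hgen x ⟨b, hb⟩).mp h, rfl⟩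
    · rintro ⟨b', hb', rfl⟩
      exact (isConj_coe_iff U₁ U₂ hcomm hgen x b').mpr hb'
  rw [himg, Finset.sum_image (fun a _ b _ h => Subtype.ext h)]

/-- the central character of `χ` at an element of `U₁` is the central character of the
homogeneous constituent -/
theorem centralChar_left (hcomm : ∀ u ∈ U₁, ∀ v ∈ U₂, u * v = v * u) (hgen : U₁ ⊔ U₂ = ⊤)
    {χ : G → ℂ} (hχ : IsIrrCharacter G χ) {ψ : U₁ → ℂ} (hψ : IsIrrCharacter U₁ ψ) {e : ℂ}
    (he : e ≠ 0) (hres : ∀ u : U₁, χ u = e * ψ u) (x : U₁) :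
    centralChar χ (x : G) = centralChar ψ x := by
  classical
  have c1 := centralChar_mul_eq_sum hχ (x : G) 1
  have c2 := centralChar_mul_eq_sum hψ x 1
  simp only [one_mul] at c1 c2
  rw [sum_conj_left U₁ U₂ hcomm hgen x χ] at c1
  have h1 : ∑ b ∈ Finset.univ.filter (IsConj x), χ (b : G) =
      e * ∑ b ∈ Finset.univ.filter (IsConj x), ψ b := by
    rw [Finset.mul_sum]
    exact Finset.sum_congr rfl (fun b _ => hres b)
  rw [h1, ← c2] at c1
  have hχ1 : χ 1 = e * ψ 1 := by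
    have := hres 1
    simpa using this
  rw [hχ1] at c1
  have hψ1 : ψ 1 ≠ 0 := irr_one_ne_zero hψ
  have hne : e * ψ 1 ≠ 0 := mul_ne_zero he hψ1
  apply mul_right_cancel₀ hne
  rw [c1]; ring

end Sums

section PRegular

variable {G : Type u} [Group G] [Finite G] (U₁ U₂ : Subgroup G)

/-- `p`-regular elements are products of `p`-regular elements of the factors -/
theorem exists_pRegular_mul (hcomm : ∀ u ∈ U₁, ∀ v ∈ U₂, u * v = v * u) (hgen : U₁ ⊔ U₂ = ⊤)
    {p : ℕ} (hp : p.Prime) {g : G} (hg : ¬ p ∣ orderOf g) :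
    ∃ x ∈ U₁, ∃ y ∈ U₂, ¬ p ∣ orderOf x ∧ ¬ p ∣ orderOf y ∧ x * y = g := by
  obtain ⟨u, hu, v, hv, rfl⟩ := exists_mul U₁ U₂ hcomm hgen g
  have hN0 : Nat.card G ≠ 0 := Nat.card_pos.ne'
  obtain ⟨a, m, hm, hNm⟩ := Nat.exists_eq_pow_mul_and_not_dvd hN0 p hp.ne_one
  have hcop : Nat.Coprime (p ^ a) m :=
    Nat.Coprime.pow_left _ ((Nat.Prime.coprime_iff_not_dvd hp).mpr hm)
  obtain ⟨k, hk1, hk2⟩ := Nat.chineseRemainder hcop 0 1
  have hpk : p ^ a ∣ k := (Nat.modEq_zero_iff_dvd).mp hk1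
  have hreg : ∀ w : G, ¬ p ∣ orderOf (w ^ k) := by
    intro w
    have h1 : (w ^ k) ^ m = 1 := by
      rw [← pow_mul]
      apply orderOf_dvd_iff_pow_eq_one.mp
      apply dvd_trans (orderOf_dvd_natCard w)
      rw [hNm]
      exact Nat.mul_dvd_mul hpk (dvd_refl m)
    have h2 : orderOf (w ^ k) ∣ m := orderOf_dvd_of_pow_eq_one h1
    intro h3
    exact hm (dvd_trans h3 h2)
  have hcomm' : Commute u v := hcomm u hu v hv
  refine ⟨u ^ k, U₁.pow_mem hu k, v ^ k, U₂.pow_mem hv k, hreg u, hreg v, ?_⟩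
  rw [← hcomm'.mul_pow]
  have hdvd : orderOf (u * v) ∣ m := by
    have h1 : orderOf (u * v) ∣ p ^ a * m := by
      rw [← hNm]; exact orderOf_dvd_natCard _
    have hc : Nat.Coprime (orderOf (u * v)) (p ^ a) :=
      Nat.Coprime.pow_right _ ((Nat.Prime.coprime_iff_not_dvd hp).mpr hg).symm
    exact hc.dvd_of_dvd_mul_left h1
  have h1 : k ≡ 1 [MOD orderOf (u * v)] := hk2.of_dvd hdvd
  rw [pow_eq_pow_iff_modEq.mpr h1, pow_one]

end PRegular

section Conv

variable {G : Type u} [Group G] [Fintype G] (U₁ U₂ : Subgroup G)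

/-- the class sums of a `p`-regular `x ∈ U₁` and of `y ∈ U₂` multiply to the class sum of `xy` -/
theorem conv_classInd (hcomm : ∀ u ∈ U₁, ∀ v ∈ U₂, u * v = v * u) (hgen : U₁ ⊔ U₂ = ⊤)
    {p : ℕ} (hp : p.Prime) (hZ : IsPGroup p ↥(U₁ ⊓ U₂)) {x y : G} (hx : x ∈ U₁) (hy : y ∈ U₂)
    (hxp : ¬ p ∣ orderOf x) :
    conv (classInd x) (classInd y) = classInd (x * y) := by
  classical
  haveI hn1 := normal_left U₁ U₂ hcomm hgen
  have hcomm' : ∀ v ∈ U₂, ∀ u ∈ U₁, v * u = u * v := fun v hv u hu => (hcomm u hu v hv).symm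
  have hgen' : U₂ ⊔ U₁ = ⊤ := by rw [sup_comm]; exact hgen
  haveI hn2 := normal_left U₂ U₁ hcomm' hgen'
  -- conjugates stay in the factors
  have mem1 : ∀ h : G, IsConj x h → h ∈ U₁ := by
    intro h hc
    obtain ⟨g, hg⟩ := isConj_iff.mp hc
    rw [← hg]; exact hn1.conj_mem _ hx g
  have mem2 : ∀ h : G, IsConj y h → h ∈ U₂ := by
    intro h hc
    obtain ⟨g, hg⟩ := isConj_iff.mp hc
    rw [← hg]; exact hn2.conj_mem _ hy g
  -- uniqueness
  have uniq : ∀ z h h' : G, IsConj x h → IsConj x h' → IsConj y (h⁻¹ * z) →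
      IsConj y (h'⁻¹ * z) → h = h' := by
    intro z h h' c1 c2 c3 c4
    have hh : h ∈ U₁ := mem1 h c1
    have hh' : h' ∈ U₁ := mem1 h' c2
    have hw1 : h'⁻¹ * h ∈ U₁ := U₁.mul_mem (U₁.inv_mem hh') hh
    have hw2 : h'⁻¹ * h ∈ U₂ := by
      have e : h'⁻¹ * h = (h'⁻¹ * z) * (h⁻¹ * z)⁻¹ := by group
      rw [e]
      exact U₂.mul_mem (mem2 _ c4) (U₂.inv_mem (mem2 _ c3))
    set w := h'⁻¹ * h with hw
    have hcw : Commute h' w := hcomm h' hh' w hw2
    have hhw : h = h' * w := by rw [hw]; group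
    have ho : orderOf h = orderOf x := by
      obtain ⟨g, hg⟩ := isConj_iff.mp c1
      rw [← hg, ← MulAut.conj_apply]; exact (MulAut.conj g).orderOf_eq x
    have ho' : orderOf h' = orderOf x := by
      obtain ⟨g, hg⟩ := isConj_iff.mp c2
      rw [← hg, ← MulAut.conj_apply]; exact (MulAut.conj g).orderOf_eq x
    have hwn : w ^ orderOf x = 1 := by
      have h1 : h ^ orderOf x = 1 := by rw [← ho]; exact pow_orderOf_eq_one h
      have h2 : h' ^ orderOf x = 1 := by rw [← ho']; exact pow_orderOf_eq_one h'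
      rw [hhw, hcw.mul_pow, h2, one_mul] at h1
      exact h1
    obtain ⟨j, hj⟩ := hZ ⟨w, hw1, hw2⟩
    have hj' : w ^ p ^ j = 1 := by
      have := congrArg Subtype.val hj
      simpa using this
    have hd1 : orderOf w ∣ orderOf x := orderOf_dvd_of_pow_eq_one hwn
    have hd2 : orderOf w ∣ p ^ j := orderOf_dvd_of_pow_eq_one hj'
    have hcop : Nat.Coprime (orderOf x) (p ^ j) :=
      Nat.Coprime.pow_right _ ((Nat.Prime.coprime_iff_not_dvd hp).mpr hxp).symm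
    have hw1' : orderOf w = 1 := Nat.eq_one_of_dvd_coprimes hcop hd1 hd2
    have : w = 1 := orderOf_eq_one_iff.mp hw1'
    rw [hhw, this, mul_one]
  -- products of conjugates are conjugates of the product
  have prod_conj : ∀ z h : G, IsConj x h → IsConj y (h⁻¹ * z) → IsConj (x * y) z := by
    intro z h c1 c3
    obtain ⟨g1, hg1⟩ := isConj_iff.mp c1
    obtain ⟨g2, hg2⟩ := isConj_iff.mp c3
    obtain ⟨a, ha, hax⟩ := exists_conj_left U₁ U₂ hcomm hgen g1
    obtain ⟨b, hb, hby⟩ := exists_conj_left U₂ U₁ hcomm' hgen' g2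
    rw [hax x hx] at hg1
    rw [hby y hy] at hg2
    refine isConj_iff.mpr ⟨a * b, ?_⟩
    have e1 : b * x * b⁻¹ = x := conj_eq_of_comm U₁ U₂ hcomm hx hb
    have e2 : a * (b * y * b⁻¹) * a⁻¹ = b * y * b⁻¹ := by
      have := conj_eq_of_comm U₂ U₁ hcomm' (hn2.conj_mem _ hy b) ha
      exact this
    calc a * b * (x * y) * (a * b)⁻¹ = a * (b * x * b⁻¹) * a⁻¹ * (a * (b * y * b⁻¹) * a⁻¹) := by
          group
      _ = (a * x * a⁻¹) * (b * y * b⁻¹) := by rw [e1, e2]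
      _ = h * (h⁻¹ * z) := by rw [hg1, hg2]
      _ = z := by group
  funext z
  rw [conv_apply]
  unfold classInd
  by_cases hz : IsConj (x * y) z
  · rw [if_pos hz]
    obtain ⟨c, hc⟩ := isConj_iff.mp hz
    have c1 : IsConj x (c * x * c⁻¹) := isConj_iff.mpr ⟨c, rfl⟩
    have c3 : IsConj y ((c * x * c⁻¹)⁻¹ * z) := by
      refine isConj_iff.mpr ⟨c, ?_⟩
      rw [← hc]; group
    rw [Finset.sum_eq_single (c * x * c⁻¹)]
    · rw [if_pos c1, if_pos c3, one_mul]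
    · intro h _ hne
      by_cases h1 : IsConj x h
      · by_cases h3 : IsConj y (h⁻¹ * z)
        · exact absurd (uniq z h _ h1 c1 h3 c3) hne
        · rw [if_neg h3, mul_zero]
      · rw [if_neg h1, zero_mul]
    · intro h; exact absurd (Finset.mem_univ _) h
  · rw [if_neg hz]
    apply Finset.sum_eq_zero
    intro h _
    by_cases h1 : IsConj x h
    · by_cases h3 : IsConj y (h⁻¹ * z)
      · exact absurd (prod_conj z h h1 h3) hz
      · rw [if_neg h3, mul_zero]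
    · rw [if_neg h1, zero_mul]

end Conv

section Main

variable {G : Type u} [Group G] [Fintype G] (U₁ U₂ : Subgroup G) [Fintype U₁]
variable {M : Ideal AlgInt} {p : ℕ}

/-- the restriction to a central factor is homogeneous -/
theorem exists_homogeneous (hcomm : ∀ u ∈ U₁, ∀ v ∈ U₂, u * v = v * u) (hgen : U₁ ⊔ U₂ = ⊤)
    {χ : G → ℂ} (hχ : IsIrrCharacter G χ) {ψ : U₁ → ℂ} (hψ : IsIrrCharacter U₁ ψ)
    (h : classInner (fun u : U₁ => χ u) ψ ≠ 0) :
    ∃ e : ℂ, e ≠ 0 ∧ ∀ u : U₁, χ u = e * ψ u := by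
  classical
  haveI hn := normal_left U₁ U₂ hcomm hgen
  have hcl : IsClassFunction U₁ ψ := isClassFunction_of_isIrrCharacter hψ
  have hinv : ∀ g : G, Cfsg.Agent.Helper5.conjFun U₁ g ψ = ψ := by
    intro g
    funext n
    rw [Cfsg.Agent.Helper5.conjFun_apply]
    obtain ⟨a, ha, hax⟩ := exists_conj_left U₁ U₂ hcomm hgen g
    have e : (⟨g * n * g⁻¹, hn.conj_mem (n : G) n.2 g⟩ : U₁) = ⟨a, ha⟩ * n * ⟨a, ha⟩⁻¹ := by
      apply Subtype.ext
      push_cast
      exact hax n n.2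
    rw [e]
    exact hcl n ⟨a, ha⟩
  obtain ⟨e, he0, -, hres⟩ := restrict_eq_smul_of_invariant U₁ hχ hψ hinv h
  refine ⟨(e : ℂ), by exact_mod_cast he0, ?_⟩
  intro u
  have := congrFun hres u
  simpa using this

/-- principal block membership descends to a central factor -/
theorem sameBlock_left (hcomm : ∀ u ∈ U₁, ∀ v ∈ U₂, u * v = v * u) (hgen : U₁ ⊔ U₂ = ⊤)
    {χ : G → ℂ} (hχ : IsIrrCharacter G χ) {ψ : U₁ → ℂ} (hψ : IsIrrCharacter U₁ ψ)
    (h : classInner (fun u : U₁ => χ u) ψ ≠ 0)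
    (hB : SameBlock M (fun _ : G => (1 : ℂ)) χ) : SameBlock M (fun _ : U₁ => (1 : ℂ)) ψ := by
  obtain ⟨e, he, hres⟩ := exists_homogeneous U₁ U₂ hcomm hgen hχ hψ h
  intro x
  have h1 := centralChar_left U₁ U₂ hcomm hgen hχ hψ he hres x
  have h2 := centralChar_left U₁ U₂ hcomm hgen (χ := fun _ : G => (1 : ℂ))
    isIrrCharacter_one (ψ := fun _ : U₁ => (1 : ℂ)) isIrrCharacter_one one_ne_zero
    (fun _ => by rw [one_mul]) x
  rw [← h1, ← h2]
  exact hB (x : G)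

/-- the congruence at elements of a central factor -/
theorem cong_left (hcomm : ∀ u ∈ U₁, ∀ v ∈ U₂, u * v = v * u) (hgen : U₁ ⊔ U₂ = ⊤)
    {χ : G → ℂ} (hχ : IsIrrCharacter G χ) {ψ : U₁ → ℂ} (hψ : IsIrrCharacter U₁ ψ)
    (h : classInner (fun u : U₁ => χ u) ψ ≠ 0)
    (hB : SameBlock M (fun _ : U₁ => (1 : ℂ)) ψ) {x : G} (hx : x ∈ U₁) :
    MemLocalIdeal M (centralChar (fun _ : G => (1 : ℂ)) x - centralChar χ x) := by
  obtain ⟨e, he, hres⟩ := exists_homogeneous U₁ U₂ hcomm hgen hχ hψ h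
  have h1 := centralChar_left U₁ U₂ hcomm hgen hχ hψ he hres ⟨x, hx⟩
  have h2 := centralChar_left U₁ U₂ hcomm hgen (χ := fun _ : G => (1 : ℂ))
    isIrrCharacter_one (ψ := fun _ : U₁ => (1 : ℂ)) isIrrCharacter_one one_ne_zero
    (fun _ => by rw [one_mul]) ⟨x, hx⟩
  have := hB ⟨x, hx⟩
  rw [← h1, ← h2] at this
  exact this

/-- **Principal blocks of central products.** -/
theorem principal_iff [Fintype U₂] [Fact p.Prime] (hM : IsPModular p M)
    (hcomm : ∀ u ∈ U₁, ∀ v ∈ U₂, u * v = v * u) (hgen : U₁ ⊔ U₂ = ⊤)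
    (hZ : IsPGroup p ↥(U₁ ⊓ U₂)) (χ : IrrCharacter G) (ψ₁ : IrrCharacter U₁)
    (ψ₂ : IrrCharacter U₂)
    (h₁ : classInner (fun u : U₁ => (χ : G → ℂ) u) (ψ₁ : U₁ → ℂ) ≠ 0)
    (h₂ : classInner (fun u : U₂ => (χ : G → ℂ) u) (ψ₂ : U₂ → ℂ) ≠ 0) :
    χ ∈ principalBlock M G ↔ (ψ₁ ∈ principalBlock M U₁ ∧ ψ₂ ∈ principalBlock M U₂) := by
  classical
  letI := irrFintype (G := G)
  haveI hMp : M.IsPrime := hM.2.1.isPrime
  have hp : p.Prime := hM.1
  have hcomm' : ∀ v ∈ U₂, ∀ u ∈ U₁, v * u = u * v := fun v hv u hu => (hcomm u hu v hv).symm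
  have hgen' : U₂ ⊔ U₁ = ⊤ := by rw [sup_comm]; exact hgen
  constructor
  · intro hB
    exact ⟨sameBlock_left U₁ U₂ hcomm hgen χ.2 ψ₁.2 h₁ hB,
      sameBlock_left U₂ U₁ hcomm' hgen' χ.2 ψ₂.2 h₂ hB⟩
  · rintro ⟨hB1, hB2⟩
    let χ₀ : IrrCharacter G := ⟨fun _ => (1 : ℂ), isIrrCharacter_one⟩
    show SameBlock M ((χ₀ : IrrCharacter G) : G → ℂ) (χ : G → ℂ)
    apply sameBlock_of_congr_on_pRegular hM
    intro g hg
    obtain ⟨x, hx, y, hy, hxp, -, rfl⟩ := exists_pRegular_mul U₁ U₂ hcomm hgen hp hg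
    have hconv := conv_classInd U₁ U₂ hcomm hgen hp hZ hx hy hxp
    have m1 : ∀ φ : IrrCharacter G, centralChar (φ : G → ℂ) (x * y) =
        centralChar (φ : G → ℂ) x * centralChar (φ : G → ℂ) y := by
      intro φ
      rw [← omega_classInd φ (x * y), ← hconv,
        omega_conv φ (isClassFunction_classInd x) (isClassFunction_classInd y),
        omega_classInd, omega_classInd]
    rw [m1 χ₀, m1 χ]
    have c1 := cong_left (M := M) U₁ U₂ hcomm hgen χ.2 ψ₁.2 h₁ hB1 hx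
    have c2 := cong_left (M := M) U₂ U₁ hcomm' hgen' χ.2 ψ₂.2 h₂ hB2 hy
    apply cong_mul c1 c2
    · exact memLocalRing_of_isIntegral (isIntegral_centralChar χ.2 x) hMp.ne_top
    · exact memLocalRing_of_isIntegral (isIntegral_centralChar χ₀.2 y) hMp.ne_top

end Main

end Cfsg.Agent.Helper18.CentralProd
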