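import Mathlib
import Cfsg.Prelude.Def_Blocks
import Cfsg.Agent.Lib.Helper18.CliffordCorr

/-!
# The Clifford correspondence over a subgroup containing the inertia group (helper18's library)

Let `N` be normal in `G`, `θ` an irreducible character of `N` and `T` a subgroup of `G` containing
the inertia group of `θ`.  Induction is a bijection from the irreducible characters of `T` over `θ`
onto the irreducible characters of `G` over `θ`.
-/

set_option autoImplicit false
set_option linter.style.haveILetI false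
set_option linter.unusedSectionVars false

namespace Cfsg.Agent.Helper18

open Cfsg Cfsg.Agent.Helper24 Cfsg.Agent.Helper5

universe u

open scoped ComplexConjugate

section General

variable {G : Type u} [Group G] [Fintype G]

/-- `θ` read on `N.subgroupOf T` -/
noncomputable def thetaSub (N T : Subgroup G) (hNT : N ≤ T) (θ : N → ℂ) : N.subgroupOf T → ℂ :=
  θ ∘ (Subgroup.subgroupOfEquivOfLe hNT)

theorem thetaSub_apply (N T : Subgroup G) (hNT : N ≤ T) (θ : N → ℂ) (x : N.subgroupOf T) :
    thetaSub N T hNT θ x = θ ⟨((x : T) : G), Subgroup.mem_subgroupOf.mp x.2⟩ := rfl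

theorem inertia_thetaSub (N T : Subgroup G) [hN : N.Normal] (hNT : N ≤ T) (θ : N → ℂ) :
    inertia (N.subgroupOf T) (thetaSub N T hNT θ) = (inertia N θ).subgroupOf T := by
  ext t
  rw [mem_inertia, Subgroup.mem_subgroupOf, mem_inertia]
  constructor
  · intro h
    funext n
    have h1 := congrFun h ⟨⟨(n : G), hNT n.2⟩, Subgroup.mem_subgroupOf.mpr n.2⟩
    rw [conjFun_apply, thetaSub_apply, thetaSub_apply] at h1
    rw [conjFun_apply]
    exact h1
  · intro h
    funext x
    have h1 := congrFun h ⟨((x : T) : G), Subgroup.mem_subgroupOf.mp x.2⟩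
    rw [conjFun_apply] at h1
    rw [conjFun_apply, thetaSub_apply, thetaSub_apply]
    exact h1

theorem classInner_thetaSub (N T : Subgroup G) (hNT : N ≤ T) [Fintype N] [Fintype T]
    [Fintype (N.subgroupOf T)] (ψ : T → ℂ) (θ : N → ℂ) :
    classInner (fun x : N.subgroupOf T => ψ x) (thetaSub N T hNT θ) =
      classInner (resFun hNT ψ) θ := by
  have h1 : (fun x : N.subgroupOf T => ψ x) =
      (resFun hNT ψ) ∘ (Subgroup.subgroupOfEquivOfLe hNT) := by
    funext x
    rfl
  rw [h1]
  exact classInner_comp_equiv (Subgroup.subgroupOfEquivOfLe hNT) (resFun hNT ψ) θ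

/-- the degree of an irreducible character of `T` over `θ` -/
theorem degree_eq_of_constituent_rel (N T : Subgroup G) [hN : N.Normal] [Fintype N] [Fintype T]
    (hNT : N ≤ T) {θ : N → ℂ} (hθ : IsIrrCharacter N θ) {ψ : T → ℂ} (hψ : IsIrrCharacter T ψ)
    (hf : classInner (resFun hNT ψ) θ ≠ 0) :
    ψ 1 = classInner (resFun hNT ψ) θ * (((inertia N θ).relIndex T : ℕ) : ℂ) * θ 1 := by
  classical
  haveI : Fintype (N.subgroupOf T) := Fintype.ofFinite _
  have hθT : IsIrrCharacter (N.subgroupOf T) (thetaSub N T hNT θ) :=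
    isIrrCharacter_comp_equiv _ hθ
  have hf' : classInner (fun x : N.subgroupOf T => ψ x) (thetaSub N T hNT θ) ≠ 0 := by
    rw [classInner_thetaSub]
    exact hf
  have h1 := degree_eq_of_constituent (N.subgroupOf T) hψ hθT hf'
  rw [classInner_thetaSub, inertia_thetaSub] at h1
  rw [h1]
  congr 1

/-- **Clifford correspondence**, irreducibility: a character of `T ≥ I_G(θ)` over `θ` induces
irreducibly, with the same multiplicity of `θ`. -/
theorem clifford_induce_irr (N T : Subgroup G) [hN : N.Normal] [Fintype N] [Fintype T]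
    (hNT : N ≤ T) {θ : N → ℂ} (hθ : IsIrrCharacter N θ) (hT : inertia N θ ≤ T)
    {ψ : T → ℂ} (hψ : IsIrrCharacter T ψ) (hf : classInner (resFun hNT ψ) θ ≠ 0) :
    IsIrrCharacter G (indFun T ψ) ∧
      classInner (fun n : N => indFun T ψ n) θ = classInner (resFun hNT ψ) θ := by
  classical
  letI : Fintype (IrrCharacter N) := irrFintype
  letI : Fintype (IrrCharacter T) := irrFintype
  have hθc := isCharacter_of_isIrrCharacter hθ
  have hψc := isCharacter_of_isIrrCharacter hψ
  have hψN : IsCharacter N (resFun hNT ψ) := isCharacter_resFun hNT hψc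
  obtain ⟨f, hfeq⟩ := classInner_char_nat hψN hθc
  have hf0 : f ≠ 0 := by
    rintro rfl
    exact hf (by simpa using hfeq)
  have hψ1 := degree_eq_of_constituent_rel N T hNT hθ hψ hf
  rw [hfeq] at hψ1
  obtain ⟨d, hdpos, hd⟩ := irr_one_eq hθ
  rw [hd] at hψ1
  have hind : IsCharacter G (indFun T ψ) := isCharacter_indFun T hψc
  have hTidx : 0 < T.index := Nat.pos_of_ne_zero Subgroup.index_ne_zero_of_finite
  have hrel : 0 < (inertia N θ).relIndex T := by
    apply Nat.pos_of_ne_zero
    intro h0
    have := Subgroup.relIndex_mul_index hT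
    rw [h0, zero_mul] at this
    exact Subgroup.index_ne_zero_of_finite this.symm
  have hind1 : indFun T ψ 1 = ((T.index * (f * (inertia N θ).relIndex T * d) : ℕ) : ℂ) := by
    rw [indFun_one, hψ1]
    push_cast
    ring
  have hind0 : indFun T ψ ≠ 0 := by
    intro h0
    have h1 := congrFun h0 1
    rw [hind1, Pi.zero_apply, Nat.cast_eq_zero] at h1
    have : 0 < T.index * (f * (inertia N θ).relIndex T * d) := by
      have hfpos : 0 < f := Nat.pos_of_ne_zero hf0
      positivity
    omega
  obtain ⟨χ, hχ, hχne⟩ := exists_constituent hind hind0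
  have hχc := isCharacter_of_isIrrCharacter hχ
  have hχcf := isClassFunction_of_isIrrCharacter hχ
  have hχT : IsCharacter T (fun t : T => χ t) := isCharacter_restrict T hχc
  have hχN : IsCharacter N (fun n : N => χ n) := isCharacter_restrict N hχc
  have hχψ : classInner (fun t : T => χ t) ψ ≠ 0 := by
    rw [frobenius_reciprocity T ψ hχcf, classInner_char_comm hψc hχT] at hχne
    exact hχne
  obtain ⟨rest, hrest, hχrest⟩ := exists_add_of_constituent hχT hψ hχψ
  obtain ⟨E, hE⟩ := classInner_char_nat hχN hθc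
  have hfE : f ≤ E := by
    have h1 : (fun n : N => χ n) = resFun hNT ψ + resFun hNT rest := by
      rw [← resFun_restrict hNT χ, hχrest, resFun_add]
    obtain ⟨r, hr⟩ := classInner_char_nat (isCharacter_resFun hNT hrest) hθc
    have h2 : (E : ℂ) = f + r := by
      rw [← hE, h1, classInner_add_left, hfeq, hr]
    have : E = f + r := by exact_mod_cast h2
    omega
  have hE0 : classInner (fun n : N => χ n) θ ≠ 0 := by
    rw [hE, Nat.cast_ne_zero]
    omega
  have hdegχ := degree_eq_of_constituent N hχ hθ hE0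
  rw [hE, hd] at hdegχ
  obtain ⟨rest', hrest', hindrest⟩ := exists_add_of_constituent hind hχ hχne
  obtain ⟨d', hd'⟩ := char_one_eq hrest'
  have hidx : (inertia N θ).relIndex T * T.index = (inertia N θ).index :=
    Subgroup.relIndex_mul_index hT
  have h1 := congrFun hindrest 1
  rw [Pi.add_apply, hind1, hdegχ, hd', ← hidx] at h1
  have h2 : T.index * (f * (inertia N θ).relIndex T * d) =
      E * ((inertia N θ).relIndex T * T.index) * d + d' := by exact_mod_cast h1
  have h3 : T.index * (f * (inertia N θ).relIndex T * d) ≤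
      E * ((inertia N θ).relIndex T * T.index) * d := by
    calc T.index * (f * (inertia N θ).relIndex T * d)
        = f * ((inertia N θ).relIndex T * T.index * d) := by ring
      _ ≤ E * ((inertia N θ).relIndex T * T.index * d) := Nat.mul_le_mul_right _ hfE
      _ = E * ((inertia N θ).relIndex T * T.index) * d := by ring
  have hd0 : d' = 0 := by omega
  have hEf : E = f := by
    rw [hd0, add_zero] at h2
    have h4 : f * ((inertia N θ).relIndex T * T.index * d) =
        E * ((inertia N θ).relIndex T * T.index * d) := by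
      calc f * ((inertia N θ).relIndex T * T.index * d)
          = T.index * (f * (inertia N θ).relIndex T * d) := by ring
        _ = E * ((inertia N θ).relIndex T * T.index) * d := h2
        _ = E * ((inertia N θ).relIndex T * T.index * d) := by ring
    have hpos : 0 < (inertia N θ).relIndex T * T.index * d := by positivity
    exact (Nat.eq_of_mul_eq_mul_right hpos h4).symm
  rw [hd0, Nat.cast_zero] at hd'
  have hrest0 := char_eq_zero_of_one_eq_zero hrest' hd'
  have heq : indFun T ψ = χ := by rw [hindrest, hrest0, add_zero]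
  refine ⟨heq ▸ hχ, ?_⟩
  rw [heq, hE, hfeq, hEf]

/-- **Clifford correspondence**, injectivity. -/
theorem clifford_induce_inj (N T : Subgroup G) [hN : N.Normal] [Fintype N] [Fintype T]
    (hNT : N ≤ T) {θ : N → ℂ} (hθ : IsIrrCharacter N θ) (hT : inertia N θ ≤ T)
    {ψ₁ ψ₂ : T → ℂ} (hψ₁ : IsIrrCharacter T ψ₁) (hψ₂ : IsIrrCharacter T ψ₂)
    (hf₁ : classInner (resFun hNT ψ₁) θ ≠ 0) (hf₂ : classInner (resFun hNT ψ₂) θ ≠ 0)
    (h : indFun T ψ₁ = indFun T ψ₂) : ψ₁ = ψ₂ := by
  classical
  letI : Fintype (IrrCharacter N) := irrFintype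
  letI : Fintype (IrrCharacter T) := irrFintype
  by_contra hne
  obtain ⟨hirr, hmult⟩ := clifford_induce_irr N T hNT hθ hT hψ₁ hf₁
  obtain ⟨χ, hχdef⟩ : ∃ χ : G → ℂ, χ = indFun T ψ₁ := ⟨_, rfl⟩
  rw [← hχdef] at hirr hmult
  have hθc := isCharacter_of_isIrrCharacter hθ
  have hψ₁c := isCharacter_of_isIrrCharacter hψ₁
  have hψ₂c := isCharacter_of_isIrrCharacter hψ₂
  have hχc := isCharacter_of_isIrrCharacter hirr
  have hχcf := isClassFunction_of_isIrrCharacter hirr
  have hχT : IsCharacter T (fun t : T => χ t) := isCharacter_restrict T hχc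
  have hnorm : classInner χ χ = 1 := by rw [irr_orthogonality hirr hirr, if_pos rfl]
  have hχψ₁ : classInner (fun t : T => χ t) ψ₁ ≠ 0 := by
    have h1 : classInner (indFun T ψ₁) χ ≠ 0 := by
      rw [← hχdef, hnorm]
      exact one_ne_zero
    rw [frobenius_reciprocity T ψ₁ hχcf, classInner_char_comm hψ₁c hχT] at h1
    exact h1
  have hχψ₂ : classInner (fun t : T => χ t) ψ₂ ≠ 0 := by
    have h1 : classInner (indFun T ψ₂) χ ≠ 0 := by
      rw [← h, ← hχdef, hnorm]
      exact one_ne_zero
    rw [frobenius_reciprocity T ψ₂ hχcf, classInner_char_comm hψ₂c hχT] at h1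
    exact h1
  obtain ⟨rest, hrest, hχrest⟩ := exists_add_of_constituent hχT hψ₁ hχψ₁
  have hrestψ₂ : classInner rest ψ₂ ≠ 0 := by
    have h1 : classInner (fun t : T => χ t) ψ₂ = classInner ψ₁ ψ₂ + classInner rest ψ₂ := by
      rw [hχrest, classInner_add_left]
    rw [irr_orthogonality hψ₁ hψ₂, if_neg hne, zero_add] at h1
    rw [← h1]
    exact hχψ₂
  obtain ⟨rest₂, hrest₂, hrestdec⟩ := exists_add_of_constituent hrest hψ₂ hrestψ₂
  obtain ⟨f₁, hf₁eq⟩ := classInner_char_nat (isCharacter_resFun hNT hψ₁c) hθc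
  obtain ⟨f₂, hf₂eq⟩ := classInner_char_nat (isCharacter_resFun hNT hψ₂c) hθc
  obtain ⟨r, hr⟩ := classInner_char_nat (isCharacter_resFun hNT hrest₂) hθc
  have h2 : (fun n : N => χ n) = resFun hNT ψ₁ + (resFun hNT ψ₂ + resFun hNT rest₂) := by
    rw [← resFun_restrict hNT χ, hχrest, hrestdec, resFun_add, resFun_add]
  rw [h2, classInner_add_left, classInner_add_left, hf₁eq, hf₂eq, hr] at hmult
  have h3 : f₁ + (f₂ + r) = f₁ := by exact_mod_cast hmult
  have hf₂0 : f₂ = 0 := by omega
  apply hf₂
  rw [hf₂eq, hf₂0, Nat.cast_zero]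

/-- **Clifford correspondence**, existence. -/
theorem clifford_induce_exists (N T : Subgroup G) [hN : N.Normal] [Fintype N] [Fintype T]
    (hNT : N ≤ T) {θ : N → ℂ} (hθ : IsIrrCharacter N θ) (hT : inertia N θ ≤ T)
    {χ : G → ℂ} (hχ : IsIrrCharacter G χ) (hcon : classInner (fun n : N => χ n) θ ≠ 0) :
    ∃ ψ : T → ℂ, IsIrrCharacter T ψ ∧ classInner (resFun hNT ψ) θ ≠ 0 ∧ indFun T ψ = χ := by
  classical
  letI : Fintype (IrrCharacter N) := irrFintype
  letI : Fintype (IrrCharacter T) := irrFintype
  have hχc := isCharacter_of_isIrrCharacter hχ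
  have hχcf := isClassFunction_of_isIrrCharacter hχ
  have hχT : IsCharacter T (fun t : T => χ t) := isCharacter_restrict T hχc
  obtain ⟨hm, hdecT⟩ := isCharacter_decomp hχT
  have hresT : resFun hNT (fun t : T => χ t) = fun n : N => χ n := resFun_restrict hNT χ
  have hsumN : (fun n : N => χ n) = ∑ ψ : IrrCharacter T,
      classInner (fun t : T => χ t) (ψ : T → ℂ) • resFun hNT (ψ : T → ℂ) := by
    rw [← hresT]
    conv_lhs => rw [hdecT]
    rw [resFun_sum]
    refine Finset.sum_congr rfl fun ψ _ => ?_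
    rw [resFun_smul]
  have hinnerN : classInner (fun n : N => χ n) θ = ∑ ψ : IrrCharacter T,
      classInner (fun t : T => χ t) (ψ : T → ℂ) * classInner (resFun hNT (ψ : T → ℂ)) θ := by
    conv_lhs => rw [hsumN]
    rw [classInner_sum_left]
    refine Finset.sum_congr rfl fun ψ _ => ?_
    rw [classInner_smul_left]
  rw [hinnerN] at hcon
  obtain ⟨ψ, -, hψne⟩ := Finset.exists_ne_zero_of_sum_ne_zero hcon
  have hmψ : classInner (fun t : T => χ t) (ψ : T → ℂ) ≠ 0 := left_ne_zero_of_mul hψne
  have hfψ : classInner (resFun hNT (ψ : T → ℂ)) θ ≠ 0 := right_ne_zero_of_mul hψne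
  have hψc := isCharacter_of_isIrrCharacter ψ.2
  obtain ⟨hirr, -⟩ := clifford_induce_irr N T hNT hθ hT ψ.2 hfψ
  refine ⟨ψ, ψ.2, hfψ, ?_⟩
  have hfrob : classInner (indFun T (ψ : T → ℂ)) χ ≠ 0 := by
    rw [frobenius_reciprocity T (ψ : T → ℂ) hχcf, classInner_char_comm hψc hχT]
    exact hmψ
  by_contra hne
  rw [irr_orthogonality hirr hχ, if_neg hne] at hfrob
  exact hfrob rfl

end General

end Cfsg.Agent.Helper18
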