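import Mathlib

/-!
# Subgroups acting on a cyclic `p`-group with `p'`-quotient (helper18)
-/

set_option autoImplicit false

namespace Cfsg.Agent.Helper18

theorem pow_gcd_mem {G : Type*} [Group G] (H : Subgroup G) (x : G) (m n : ℕ)
    (hm : x ^ m ∈ H) (hn : x ^ n ∈ H) : x ^ Nat.gcd m n ∈ H := by
  have h1 : x ^ ((Nat.gcd m n : ℕ) : ℤ) ∈ H := by
    rw [Nat.gcd_eq_gcd_ab, zpow_add, zpow_mul, zpow_mul, zpow_natCast, zpow_natCast]
    exact H.mul_mem (H.zpow_mem hm _) (H.zpow_mem hn _)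
  rwa [zpow_natCast] at h1

/-- an automorphism of a cyclic group of order `p ^ n` fixing a nontrivial element has order
dividing `p ^ (n - 1)` -/
theorem mulAut_pow_eq_one_of_fixed (p : ℕ) [Fact p.Prime] {P : Type*} [Group P] [Finite P]
    [IsCyclic P] {n : ℕ} (hn : Nat.card P = p ^ n) (σ : MulAut P) {x : P} (hx : x ≠ 1)
    (hfix : σ x = x) : σ ^ (p ^ (n - 1)) = 1 := by
  have hp : p.Prime := Fact.out
  obtain ⟨u, hu⟩ := IsCyclic.exists_generator (α := P)
  obtain ⟨k, hk⟩ := Subgroup.mem_zpowers_iff.1 (hu (σ u))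
  have hσ : ∀ y, σ y = y ^ k := by
    intro y
    obtain ⟨j, rfl⟩ := Subgroup.mem_zpowers_iff.1 (hu y)
    rw [map_zpow, ← hk, ← zpow_mul, ← zpow_mul, mul_comm]
  have hpow : ∀ N : ℕ, ∀ y, (σ ^ N) y = y ^ (k ^ N) := by
    intro N
    induction N with
    | zero => intro y; simp
    | succ N ih =>
      intro y
      rw [pow_succ', MulAut.mul_apply, ih, hσ, ← zpow_mul, pow_succ]
  have h1 : x ^ (k - 1) = 1 := by
    rw [zpow_sub_one, ← hσ, hfix, mul_inv_cancel]
  have h2 : (orderOf x : ℤ) ∣ k - 1 := orderOf_dvd_iff_zpow_eq_one.2 h1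
  have hox : orderOf x ∣ p ^ n := hn ▸ orderOf_dvd_natCard x
  obtain ⟨i, -, hi⟩ := (Nat.dvd_prime_pow hp).1 hox
  have hi0 : i ≠ 0 := by
    rintro rfl
    rw [pow_zero, orderOf_eq_one_iff] at hi
    exact hx hi
  have h3 : p ∣ orderOf x := by
    rw [hi]
    exact dvd_pow_self p hi0
  have h4 : (p : ℤ) ∣ k - 1 := dvd_trans (Int.natCast_dvd_natCast.2 h3) h2
  have hn0 : n ≠ 0 := by
    rintro rfl
    rw [pow_zero] at hox
    have : orderOf x = 1 := Nat.dvd_one.1 hox
    rw [orderOf_eq_one_iff] at this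
    exact hx this
  have h5 := dvd_sub_pow_of_dvd_sub h4 (n - 1)
  rw [one_pow, Nat.sub_add_cancel (Nat.pos_of_ne_zero hn0)] at h5
  obtain ⟨s, hs⟩ := h5
  apply MulEquiv.ext
  intro y
  rw [hpow, MulAut.one_apply]
  have h6 : k ^ p ^ (n - 1) = 1 + (p : ℤ) ^ n * s := by linarith
  rw [h6, zpow_add, zpow_one, zpow_mul]
  have h7 : y ^ ((p : ℤ) ^ n) = 1 := by
    have := pow_card_eq_one' (G := P) (x := y)
    rw [hn] at this
    rw [← Nat.cast_pow, zpow_natCast]
    exact this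
  rw [h7, one_zpow, mul_one]

/-- **a subgroup of `N_G(P)` with `p'`-index over `C_G(P)`, `P` a nontrivial cyclic `p`-group**:
the quotient is cyclic of order dividing `p - 1` and acts freely on `P ∖ {1}` -/
theorem cyclic_stab {G : Type*} [Group G] [Finite G] (p : ℕ) [Fact p.Prime] (P : Subgroup G)
    (hPp : IsPGroup p P) (hP1 : P ≠ ⊥) (hcyc : IsCyclic P) (T : Subgroup G)
    (hTN : T ≤ Subgroup.normalizer (P : Set G))
    [hn : ((Subgroup.centralizer (P : Set G)).subgroupOf T).Normal]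
    (hidx : ¬ p ∣ ((Subgroup.centralizer (P : Set G)).subgroupOf T).index) :
    IsCyclic (T ⧸ (Subgroup.centralizer (P : Set G)).subgroupOf T) ∧
      (Subgroup.centralizer (P : Set G)).relIndex T ∣ p - 1 ∧
      ∀ g ∈ T, ∀ x ∈ P, x ≠ 1 → g * x * g⁻¹ = x → g ∈ Subgroup.centralizer (P : Set G) := by
  classical
  have hp : p.Prime := Fact.out
  obtain ⟨n, hn'⟩ := IsPGroup.iff_card.1 hPp
  have hn0 : n ≠ 0 := by
    rintro rfl
    rw [pow_zero] at hn'
    exact hP1 ((Subgroup.card_eq_one).1 hn')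
  set C' : Subgroup T := (Subgroup.centralizer (P : Set G)).subgroupOf T with hC'
  set α : T →* MulAut P := P.normalizerMonoidHom.comp (Subgroup.inclusion hTN) with hα
  have hαker : ∀ t : T, α t = 1 ↔ t ∈ C' := by
    intro t
    have h1 : α t = 1 ↔ Subgroup.inclusion hTN t ∈ P.normalizerMonoidHom.ker := by
      rw [MonoidHom.mem_ker]
      rfl
    rw [h1, Subgroup.normalizerMonoidHom_ker, Subgroup.mem_subgroupOf, hC',
      Subgroup.mem_subgroupOf]
    rfl
  set m := C'.index with hm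
  have hpowm : ∀ t : T, t ^ m ∈ C' := fun t => Subgroup.pow_index_mem C' t
  have hcop : Nat.Coprime m (p ^ (n - 1)) :=
    Nat.Coprime.pow_right _ ((Nat.Prime.coprime_iff_not_dvd hp).2 hidx).symm
  have hkey : ∀ t : T, (α t) ^ (p ^ (n - 1)) = 1 → t ∈ C' := by
    intro t ht
    have h1 : t ^ (p ^ (n - 1)) ∈ C' := by
      rw [← hαker, map_pow]
      exact ht
    have h2 := pow_gcd_mem C' t m (p ^ (n - 1)) (hpowm t) h1
    rwa [hcop, pow_one] at h2
  have hpq : p ∣ Nat.card P := by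
    rw [hn']
    exact dvd_pow_self p hn0
  haveI : NeZero (Nat.card P) := ⟨Nat.card_pos.ne'⟩
  set ρ : MulAut P →* (ZMod p)ˣ :=
    (ZMod.unitsMap hpq).comp (IsCyclic.mulAutMulEquiv P).toMonoidHom with hρ
  have hρsurj : Function.Surjective ρ := by
    intro z
    obtain ⟨w, hw⟩ := ZMod.unitsMap_surjective hpq z
    refine ⟨(IsCyclic.mulAutMulEquiv P).symm w, ?_⟩
    rw [hρ, MonoidHom.comp_apply]
    simp only [MulEquiv.coe_toMonoidHom, MulEquiv.apply_symm_apply]
    exact hw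
  have hcardker : Nat.card ρ.ker = p ^ (n - 1) := by
    have h1 := Subgroup.card_eq_card_quotient_mul_card_subgroup ρ.ker
    rw [Nat.card_congr (QuotientGroup.quotientKerEquivOfSurjective ρ hρsurj).toEquiv,
      IsCyclic.card_mulAut, hn', Nat.totient_prime_pow hp (Nat.pos_of_ne_zero hn0),
      Nat.card_eq_fintype_card, ZMod.card_units, mul_comm] at h1
    have hp1 : 0 < p - 1 := Nat.sub_pos_of_lt hp.one_lt
    exact (Nat.eq_of_mul_eq_mul_left hp1 h1).symm
  set ψ : T →* (ZMod p)ˣ := ρ.comp α with hψ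
  have hψker : ψ.ker = C' := by
    ext t
    rw [MonoidHom.mem_ker]
    constructor
    · intro ht
      apply hkey
      have h1 : (⟨α t, ht⟩ : ρ.ker) ^ Nat.card ρ.ker = 1 := pow_card_eq_one'
      rw [hcardker] at h1
      have h2 := congrArg Subtype.val h1
      push_cast at h2
      exact h2
    · intro ht
      rw [hψ, MonoidHom.comp_apply, (hαker t).2 ht, map_one]
  haveI : ψ.ker.Normal := MonoidHom.normal_ker ψ
  have e1 : T ⧸ C' ≃* ψ.range :=
    (QuotientGroup.quotientMulEquivOfEq hψker.symm).trans (QuotientGroup.quotientKerEquivRange ψ)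
  refine ⟨?_, ?_, ?_⟩
  · exact isCyclic_of_surjective e1.symm.toMonoidHom e1.symm.surjective
  · show C'.index ∣ p - 1
    rw [Subgroup.index_eq_card, Nat.card_congr e1.toEquiv, ← ZMod.card_units p,
      ← Nat.card_eq_fintype_card]
    exact Subgroup.card_subgroup_dvd_card _
  · intro g hg x hx hx1 hfix
    have h1 : (α ⟨g, hg⟩) ^ (p ^ (n - 1)) = 1 := by
      apply mulAut_pow_eq_one_of_fixed p hn' (α ⟨g, hg⟩) (x := ⟨x, hx⟩)
      · intro h
        exact hx1 (congrArg Subtype.val h)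
      · apply Subtype.ext
        exact hfix
    have h2 := hkey ⟨g, hg⟩ h1
    rw [hC', Subgroup.mem_subgroupOf] at h2
    exact h2

end Cfsg.Agent.Helper18
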