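import Mathlib

set_option autoImplicit false

namespace Cfsg.Agent.Helper3.DP

section comb
variable {q : ℕ} [NeZero q]

/-- number of `T`-sequences of length `j` with sum `w` -/
def cycCount (T : Finset (ZMod q)) (j : ℕ) (w : ZMod q) : ℕ :=
  (Finset.univ.filter (fun s : Fin j → ZMod q => (∀ i, s i ∈ T) ∧ ∑ i, s i = w)).card

theorem cycCount_zero (T : Finset (ZMod q)) (w : ZMod q) :
    cycCount T 0 w = if w = 0 then 1 else 0 := by
  unfold cycCount
  rw [Finset.card_filter]
  simp [eq_comm]

theorem cycCount_succ (T : Finset (ZMod q)) (j : ℕ) (w : ZMod q) :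
    cycCount T (j + 1) w = ∑ t : ZMod q, if t ∈ T then cycCount T j (w - t) else 0 := by
  unfold cycCount
  rw [Finset.card_filter]
  rw [← (Fin.consEquiv (fun _ : Fin (j + 1) => ZMod q)).sum_comp]
  rw [Fintype.sum_prod_type]
  refine Finset.sum_congr rfl (fun t _ => ?_)
  by_cases ht : t ∈ T
  · rw [if_pos ht, Finset.card_filter]
    refine Finset.sum_congr rfl (fun s _ => ?_)
    simp [Fin.consEquiv, Fin.forall_fin_succ, Fin.sum_univ_succ, ht, eq_sub_iff_add_eq']
  · rw [if_neg ht]
    apply Finset.sum_eq_zero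
    intro s _
    simp [Fin.consEquiv, Fin.forall_fin_succ, ht]

theorem cycCount_succ' (T : Finset (ZMod q)) (j : ℕ) (U V : ZMod q) :
    cycCount T (j + 1) (V - U) =
      ∑ m : ZMod q, if V - m ∈ T then cycCount T j (m - U) else 0 := by
  rw [cycCount_succ]
  rw [← (Equiv.subLeft V).sum_comp]
  refine Finset.sum_congr rfl (fun m _ => ?_)
  simp only [Equiv.subLeft_apply]
  congr 2
  ring

theorem cycCount_inv (T : Finset (ZMod q)) (σ : ℕ → Equiv.Perm (ZMod q))
    (hσ : ∀ j u v, (σ (j + 1) v - σ j u ∈ T ↔ v - u ∈ T)) (u : ZMod q) :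
    ∀ j v, cycCount T j (σ j v - σ 0 u) = cycCount T j (v - u) := by
  intro j
  induction j with
  | zero =>
    intro v
    rw [cycCount_zero, cycCount_zero]
    simp [sub_eq_zero]
  | succ j ih =>
    intro v
    rw [cycCount_succ', cycCount_succ', ← Equiv.sum_comp (σ j)]
    refine Finset.sum_congr rfl (fun m _ => ?_)
    rw [ih m]
    simp only [hσ j m v]

end comb

end Cfsg.Agent.Helper3.DP
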