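import Mathlib
import Cfsg.Agent.Lib.Helper18.DPCYCa

set_option autoImplicit false
open scoped Pointwise
open MulAction

namespace Cfsg.Agent.Helper3.DP

section grp
variable {G Ω : Type*} [Group G] [Finite G] [Fintype Ω] [MulAction G Ω] {p : ℕ}

/-- coordinates: the powers of `z` indexed by `ZMod p`. -/
theorem cyc_zp [Fact p.Prime] (z : G) (hzp : z ^ p = 1) :
    ∃ zp : ZMod p → G, (∀ u, zp u = z ^ u.val) ∧ zp 0 = 1 ∧ zp 1 = z ∧
      (∀ u v, zp (u + v) = zp u * zp v) ∧ (∀ u, zp (-u) = (zp u)⁻¹) ∧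
      (∀ (n : ℕ) u, zp ((n : ZMod p) * u) = zp u ^ n) := by
  refine ⟨fun u => z ^ u.val, fun u => rfl, by simp, ?_, ?_, ?_, ?_⟩
  · show z ^ (1 : ZMod p).val = z
    rw [ZMod.val_one, pow_one]
  · intro u v
    show z ^ (u + v).val = z ^ u.val * z ^ v.val
    rw [ZMod.val_add, ← pow_add, ← pow_eq_pow_mod _ hzp]
  · intro u
    show z ^ (-u).val = (z ^ u.val)⁻¹
    rw [eq_inv_iff_mul_eq_one, ← pow_add, pow_eq_pow_mod _ hzp, ← ZMod.val_add, neg_add_cancel]
    simp
  · intro n u
    show z ^ ((n : ZMod p) * u).val = (z ^ u.val) ^ n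
    rw [← pow_mul, pow_eq_pow_mod (u.val * n) hzp, ZMod.val_mul, ZMod.val_natCast,
      pow_eq_pow_mod (n % p * u.val % p) hzp, Nat.mod_mod, Nat.mod_mul_mod, mul_comm] 

/-- the main group-theoretic part, with the cyclotomic lemma as a hypothesis. -/
theorem cyc_group_core [Fact p.Prime]
    (hF : ∀ (T : Finset (ZMod p)) (N₁ : ℕ),
      (∀ w : ZMod p, w ≠ 0 → cycCount T p w = N₁) →
      T.card = 0 ∨ T.card = 1 ∨ T.card + 1 = p ∨ T.card = p)
    (K : Subgroup G) (z g : G) (hz : z ∈ K) (B : Set Ω)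
    (hB : B.ncard = p)
    (hKB : ∀ k ∈ K, ∀ i : ℕ, k • (g ^ i • B) = g ^ i • B)
    (hzB : ∀ y ∈ B, z • y ≠ y) (hzp : z ^ p = 1)
    (hgz : g * z = z * g) (hgK : ∀ k ∈ K, g * k * g⁻¹ ∈ K) (hgp : g ^ p = 1)
    (h2t : ∀ y₁ ∈ B, ∀ y₂ ∈ B, ∀ y₁' ∈ B, ∀ y₂' ∈ B, y₁ ≠ y₂ → y₁' ≠ y₂' →
      ∃ k ∈ K, k • y₁ = y₁' ∧ k • y₂ = y₂')
    (hnt : ¬ p ^ 2 ∣ Nat.card K) (x : Ω) (hx : x ∈ B) :
    ∃ y ∈ g • B, ∀ k ∈ K, k • x = x → k • y = y := by
  classical
  have hp : p.Prime := Fact.out
  obtain ⟨zp, zp_def, zp_zero, zp_one, zp_add, zp_neg, zp_mul⟩ := cyc_zp z hzp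
  have zp_mem : ∀ u, zp u ∈ K := fun u => by rw [zp_def]; exact K.pow_mem hz _
  have zp_g : ∀ u (i : ℕ), zp u * g ^ i = g ^ i * zp u := by
    intro u i
    rw [zp_def]
    have hc : Commute g z := hgz
    exact ((hc.pow_pow i u.val).eq).symm
  have zp_g1 : ∀ u, zp u * g = g * zp u := by
    intro u
    have := zp_g u 1
    rwa [pow_one] at this
  have zp_sub : ∀ u v, zp (v - u) = (zp u)⁻¹ * zp v := by
    intro u v
    rw [sub_eq_neg_add, zp_add, zp_neg]
  -- `z` moves everything in every translate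
  have hzB0 : z • B = B := by simpa using hKB z hz 0
  have hzfix : ∀ (w : ZMod p) (y : Ω), w ≠ 0 → zp w • y = y → z • y = y := by
    intro w y hw hy
    have h1 : ∀ n : ℕ, (zp w) ^ n • y = y := by
      intro n
      induction n with
      | zero => simp
      | succ n ih => rw [pow_succ, mul_smul, hy, ih]
    have h2 := h1 (w⁻¹).val
    rw [← zp_mul, ZMod.natCast_zmod_val, inv_mul_cancel₀ hw, zp_one] at h2
    exact h2
  have hzpB : ∀ u, zp u • B = B := by
    intro u
    rw [zp_def]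
    generalize u.val = n
    induction n with
    | zero => simp
    | succ n ih => rw [pow_succ, mul_smul, hzB0, ih]
  have hinj0 : Function.Injective (fun u : ZMod p => zp u • x) := by
    intro u v huv
    simp only at huv
    by_contra hne
    have h1 : zp (v - u) • x = x := by
      rw [zp_sub, mul_smul, ← huv, inv_smul_smul]
    exact hzB x hx (hzfix (v - u) x (sub_ne_zero.mpr (Ne.symm hne)) h1)
  have hBeq : Set.range (fun u : ZMod p => zp u • x) = B := by
    apply Set.eq_of_subset_of_ncard_le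
    · rintro _ ⟨u, rfl⟩
      have := Set.smul_mem_smul_set (a := zp u) hx
      rwa [hzpB u] at this
    · rw [← Set.image_univ, Set.ncard_image_of_injective _ hinj0, Set.ncard_univ, Nat.card_zmod, hB]
    · exact Set.toFinite B
  -- points
  set pt : ℕ → ZMod p → Ω := fun i u => zp u • g ^ i • x with hpt
  have pt_mem : ∀ i u, pt i u ∈ g ^ i • B := by
    intro i u
    have h1 : zp u • x ∈ B := by rw [← hBeq]; exact ⟨u, rfl⟩
    have h2 := Set.smul_mem_smul_set (a := g ^ i) h1
    rwa [smul_smul, ← zp_g, ← smul_smul] at h2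
  have pt_surj : ∀ i, ∀ c ∈ g ^ i • B, ∃ u, pt i u = c := by
    intro i c hc
    obtain ⟨b, hb, rfl⟩ := hc
    rw [← hBeq] at hb
    obtain ⟨u, rfl⟩ := hb
    refine ⟨u, ?_⟩
    simp only [hpt, smul_smul, zp_g]
  have pt_inj : ∀ i u v, pt i u = pt i v → u = v := by
    intro i u v h
    simp only [hpt, smul_smul, zp_g] at h
    rw [← smul_smul, ← smul_smul] at h
    exact hinj0 (smul_left_cancel _ h)
  have pt_zero : pt 0 0 = x := by simp [hpt, zp_zero]
  have pt_p : ∀ u, pt p u = pt 0 u := by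
    intro u
    simp [hpt, hgp]
  have pt_succ : ∀ i u, pt (i + 1) u = g ^ i • zp u • g • x := by
    intro i u
    simp only [hpt, smul_smul]
    rw [zp_g, pow_succ, mul_assoc, zp_g1]
  have pt_eq : ∀ i u, pt i u = g ^ i • zp u • x := by
    intro i u
    simp only [hpt, smul_smul, zp_g]
  -- the action of `K` in coordinates
  have hex : ∀ (k : K) (i : ℕ) (u : ZMod p), ∃ u', (k : G) • pt i u = pt i u' := by
    intro k i u
    have h1 := Set.smul_mem_smul_set (a := (k : G)) (pt_mem i u)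
    rw [hKB k k.2 i] at h1
    obtain ⟨u', hu'⟩ := pt_surj i _ h1
    exact ⟨u', hu'.symm⟩
  choose σ hσ using hex
  have σ_inv : ∀ (k : K) i u, σ k⁻¹ i (σ k i u) = u := by
    intro k i u
    apply pt_inj i
    rw [← hσ, ← hσ]
    simp
  have σ_inv' : ∀ (k : K) i u, σ k i (σ k⁻¹ i u) = u := by
    intro k i u
    have := σ_inv k⁻¹ i u
    rwa [inv_inv] at this
  let τ : K → ℕ → Equiv.Perm (ZMod p) := fun k i =>
    { toFun := σ k i, invFun := σ k⁻¹ i, left_inv := σ_inv k i, right_inv := σ_inv' k i }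
  have σ_p : ∀ (k : K) u, σ k p u = σ k 0 u := by
    intro k u
    apply pt_inj 0
    rw [← hσ, ← pt_p, ← pt_p, ← hσ]
  -- conjugation by powers of `g`
  have hgK' : ∀ (n : ℕ), ∀ k ∈ K, g ^ n * k * (g ^ n)⁻¹ ∈ K := by
    intro n
    induction n with
    | zero => intro k hk; simpa using hk
    | succ n ih =>
      intro k hk
      have := hgK _ (ih k hk)
      rw [pow_succ']
      simpa [mul_assoc] using this
  have hgK'' : ∀ (i : ℕ), ∀ k ∈ K, (g ^ i)⁻¹ * k * g ^ i ∈ K := by
    intro i k hk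
    have h1 : (g ^ i)⁻¹ = g ^ ((p - 1) * i) := by
      rw [inv_eq_iff_mul_eq_one, ← pow_add]
      have e : i + (p - 1) * i = p * i := by
        obtain ⟨m, hm⟩ : ∃ m, p = m + 1 := ⟨p - 1, (Nat.succ_pred_eq_of_pos hp.pos).symm⟩
        rw [hm]
        simp only [Nat.add_sub_cancel]
        ring
      rw [e, pow_mul, hgp, one_pow]
    have h2 := hgK' ((p - 1) * i) k hk
    rw [← h1, inv_inv] at h2
    exact h2
  -- the difference set
  set T : Finset (ZMod p) :=
    Finset.univ.filter (fun s : ZMod p => ∃ k ∈ K, k • x = x ∧ k • g • x = zp s • g • x) with hT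
  have memT : ∀ s, s ∈ T ↔ ∃ k ∈ K, k • x = x ∧ k • g • x = zp s • g • x := by
    intro s
    simp [hT]
  have compat : ∀ (k : K) i u v, v - u ∈ T → σ k (i + 1) v - σ k i u ∈ T := by
    intro k i u v hvu
    obtain ⟨k0, hk0, hk0x, hk0g⟩ := (memT _).mp hvu
    rw [memT]
    refine ⟨(g ^ i)⁻¹ * ((zp (σ k i u))⁻¹ * k * zp u) * g ^ i * k0, ?_, ?_, ?_⟩
    · refine K.mul_mem (hgK'' i _ ?_) hk0
      exact K.mul_mem (K.mul_mem (K.inv_mem (zp_mem _)) k.2) (zp_mem _)
    · have h1 : (k : G) • zp u • g ^ i • x = zp (σ k i u) • g ^ i • x := hσ k i u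
      simp only [mul_smul, hk0x]
      rw [h1]
      simp
    · have h1 : (k : G) • pt (i + 1) v = pt (i + 1) (σ k (i + 1) v) := hσ k (i + 1) v
      rw [pt_succ, pt_succ] at h1
      simp only [mul_smul, hk0g]
      have h3 : zp u • g ^ i • zp (v - u) • g • x = g ^ i • zp v • g • x := by
        rw [zp_sub]
        simp only [smul_smul]
        congr 1
        calc zp u * (g ^ i * ((zp u)⁻¹ * zp v * g))
            = (zp u * g ^ i) * ((zp u)⁻¹ * zp v * g) := by simp only [mul_assoc]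
          _ = (g ^ i * zp u) * ((zp u)⁻¹ * zp v * g) := by rw [zp_g]
          _ = g ^ i * (zp v * g) := by simp only [mul_assoc, mul_inv_cancel_left]
      rw [h3, h1, zp_sub]
      simp only [smul_smul]
      congr 1
      calc (g ^ i)⁻¹ * ((zp (σ k i u))⁻¹ * (g ^ i * (zp (σ k (i + 1) v) * g)))
          = (g ^ i)⁻¹ * ((zp (σ k i u))⁻¹ * ((g ^ i * zp (σ k (i + 1) v)) * g)) := by
            simp only [mul_assoc]
        _ = (g ^ i)⁻¹ * ((zp (σ k i u))⁻¹ * ((zp (σ k (i + 1) v) * g ^ i) * g)) := by rw [zp_g]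
        _ = (g ^ i)⁻¹ * (((zp (σ k i u))⁻¹ * zp (σ k (i + 1) v)) * g ^ i) * g := by
            simp only [mul_assoc]
        _ = (g ^ i)⁻¹ * ((zp (σ k (i + 1) v - σ k i u)) * g ^ i) * g := by rw [zp_sub]
        _ = (g ^ i)⁻¹ * (g ^ i * (zp (σ k (i + 1) v - σ k i u))) * g := by rw [zp_g]
        _ = (zp (σ k i u))⁻¹ * zp (σ k (i + 1) v) * g := by
            rw [zp_sub, inv_mul_cancel_left]
  have compat_iff : ∀ (k : K) i u v, (σ k (i + 1) v - σ k i u ∈ T ↔ v - u ∈ T) := by
    intro k i u v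
    constructor
    · intro h
      have := compat k⁻¹ i _ _ h
      rwa [σ_inv, σ_inv] at this
    · exact compat k i u v
  -- the count is constant off zero
  have hconst : ∀ w w' : ZMod p, w ≠ 0 → w' ≠ 0 → cycCount T p w' = cycCount T p w := by
    intro w w' hw hw'
    have hxw : x ≠ zp w • x := by
      intro h
      exact hzB x hx (hzfix w x hw h.symm)
    have hxw' : x ≠ zp w' • x := by
      intro h
      exact hzB x hx (hzfix w' x hw' h.symm)
    have hmem : ∀ u, zp u • x ∈ B := fun u => by rw [← hBeq]; exact ⟨u, rfl⟩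
    obtain ⟨k, hk, hkx, hkw⟩ := h2t x hx (zp w • x) (hmem w) x hx (zp w' • x) (hmem w') hxw hxw'
    have h0 : σ ⟨k, hk⟩ 0 0 = 0 := by
      apply pt_inj 0
      rw [← hσ, pt_zero]
      exact hkx
    have h1 : σ ⟨k, hk⟩ 0 w = w' := by
      apply pt_inj 0
      rw [← hσ]
      simp only [hpt, pow_zero, one_smul]
      exact hkw
    have := cycCount_inv T (fun j => τ ⟨k, hk⟩ j) (fun j u v => compat_iff ⟨k, hk⟩ j u v) 0 p w
    simp only [τ, Equiv.coe_fn_mk, sub_zero] at this
    rw [σ_p, h0, h1, sub_zero] at this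
    exact this
  have hcases := hF T (cycCount T p 1) (fun w hw => hconst 1 w one_ne_zero hw)
  have h0T : (0 : ZMod p) ∈ T :=
    (memT 0).mpr ⟨1, K.one_mem, one_smul _ _, by rw [zp_zero, one_smul]⟩
  have hgB : ∀ k ∈ K, ∀ s, ∃ s', k • zp s • g • x = zp s' • g • x := by
    intro k hk s
    refine ⟨σ ⟨k, hk⟩ 1 s, ?_⟩
    have := hσ ⟨k, hk⟩ 1 s
    simpa [hpt] using this
  have hmemgB : ∀ s, zp s • g • x ∈ g • B := by
    intro s
    have := pt_mem 1 s
    simpa [hpt] using this
  rcases hcases with h | h | h | h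
  · exact absurd (Finset.card_eq_zero.mp h) (Finset.ne_empty_of_mem h0T)
  · obtain ⟨t0, ht0⟩ := Finset.card_eq_one.mp h
    have ht00 : t0 = 0 := by
      have := h0T
      rw [ht0, Finset.mem_singleton] at this
      exact this.symm
    refine ⟨g • x, Set.smul_mem_smul_set hx, ?_⟩
    intro k hk hkx
    obtain ⟨s', hs'⟩ := hgB k hk 0
    rw [zp_zero, one_smul] at hs'
    have hs'T : s' ∈ T := (memT s').mpr ⟨k, hk, hkx, hs'⟩
    rw [ht0, Finset.mem_singleton, ht00] at hs'T
    rw [hs', hs'T, zp_zero, one_smul]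
  · have hc : (Finset.univ \ T).card = 1 := by
      rw [Finset.card_sdiff_of_subset (Finset.subset_univ T), Finset.card_univ, ZMod.card]
      omega
    obtain ⟨s0, hs0⟩ := Finset.card_eq_one.mp hc
    have hs0T : s0 ∉ T := by
      have : s0 ∈ Finset.univ \ T := by rw [hs0]; exact Finset.mem_singleton_self _
      exact (Finset.mem_sdiff.mp this).2
    have hall : ∀ s, s ∉ T → s = s0 := by
      intro s hs
      have : s ∈ Finset.univ \ T := Finset.mem_sdiff.mpr ⟨Finset.mem_univ _, hs⟩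
      rw [hs0, Finset.mem_singleton] at this
      exact this
    refine ⟨zp s0 • g • x, hmemgB s0, ?_⟩
    intro k hk hkx
    obtain ⟨s1, hs1⟩ := hgB k hk s0
    by_contra hne
    have hs1T : s1 ∈ T := by
      by_contra h'
      rw [hall s1 h'] at hs1
      exact hne hs1
    obtain ⟨k1, hk1, hk1x, hk1g⟩ := (memT s1).mp hs1T
    apply hs0T
    rw [memT]
    refine ⟨k⁻¹ * k1, K.mul_mem (K.inv_mem hk) hk1, ?_, ?_⟩
    · rw [mul_smul, hk1x, inv_smul_eq_iff, hkx]
    · rw [mul_smul, hk1g, ← hs1, inv_smul_smul]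
  · exfalso
    apply hnt
    have hTuniv : T = Finset.univ := by
      apply Finset.eq_univ_of_card
      rw [h, ZMod.card]
    have horb1 : orbit (↥K) x = B := by
      ext b
      rw [mem_orbit_iff]
      constructor
      · rintro ⟨k, rfl⟩
        have h1 := Set.smul_mem_smul_set (a := (k : G)) hx
        have h2 := hKB k k.2 0
        rw [pow_zero, one_smul] at h2
        rw [h2] at h1
        exact h1
      · intro hb
        rw [← hBeq] at hb
        obtain ⟨u, rfl⟩ := hb
        exact ⟨⟨zp u, zp_mem u⟩, rfl⟩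
    have hidx1 := index_stabilizer (↥K) x
    rw [horb1, hB] at hidx1
    have hcard1 := Subgroup.card_mul_index (stabilizer (↥K) x)
    rw [hidx1] at hcard1
    have horb2 : orbit (↥(stabilizer (↥K) x)) (g • x) = g • B := by
      ext c
      rw [mem_orbit_iff]
      constructor
      · rintro ⟨k, rfl⟩
        have h1 := Set.smul_mem_smul_set (a := ((k : K) : G)) (Set.smul_mem_smul_set (a := g) hx)
        have h2 := hKB (k : K) (k : K).2 1
        rw [pow_one] at h2
        rw [h2] at h1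
        exact h1
      · intro hc
        have hc' : c ∈ g ^ 1 • B := by rwa [pow_one]
        obtain ⟨s, hs⟩ := pt_surj 1 c hc'
        have hsT : s ∈ T := by rw [hTuniv]; exact Finset.mem_univ _
        obtain ⟨k, hk, hkx, hkg⟩ := (memT s).mp hsT
        refine ⟨⟨⟨k, hk⟩, hkx⟩, ?_⟩
        show k • g • x = c
        rw [hkg, ← hs]
        simp [hpt]
    have hgBcard : (g • B).ncard = p := by
      rw [← hB]
      exact Set.ncard_image_of_injective _ (MulAction.injective g)
    have hidx2 := index_stabilizer (↥(stabilizer (↥K) x)) (g • x)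
    rw [horb2, hgBcard] at hidx2
    have hcard2 := Subgroup.card_mul_index (stabilizer (↥(stabilizer (↥K) x)) (g • x))
    rw [hidx2] at hcard2
    rw [← hcard1, ← hcard2]
    exact ⟨_, by ring⟩

end grp

end Cfsg.Agent.Helper3.DP
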