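import Mathlib
import Cfsg.Agent.Lib.Helper3.DPDefs
import Cfsg.Agent.Lib.Helper13.DPFOUR
import Cfsg.Agent.Lib.Helper18.DPCYCb

set_option autoImplicit false
open scoped Pointwise
open MulAction

namespace Cfsg.Agent.Helper3.DP

variable {G Ω : Type*} [Group G] [Finite G] [Fintype Ω] [MulAction G Ω] [FaithfulSMul G Ω] {p : ℕ}

/-- PIECE CYC. -/
theorem cyc_group (hp : p.Prime) (K : Subgroup G) (z g : G) (hz : z ∈ K) (B : Set Ω)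
    (hB : B.ncard = p)
    (hKB : ∀ k ∈ K, ∀ i : ℕ, k • (g ^ i • B) = g ^ i • B)
    (hzB : ∀ y ∈ B, z • y ≠ y) (hzp : z ^ p = 1)
    (hgz : g * z = z * g) (hgK : ∀ k ∈ K, g * k * g⁻¹ ∈ K) (hgp : g ^ p = 1)
    (h2t : ∀ y₁ ∈ B, ∀ y₂ ∈ B, ∀ y₁' ∈ B, ∀ y₂' ∈ B, y₁ ≠ y₂ → y₁' ≠ y₂' →
      ∃ k ∈ K, k • y₁ = y₁' ∧ k • y₂ = y₂')
    (hnt : ¬ p ^ 2 ∣ Nat.card K) (x : Ω) (hx : x ∈ B) :
    ∃ y ∈ g • B, ∀ k ∈ K, k • x = x → k • y = y := by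
  have : Fact p.Prime := ⟨hp⟩
  exact cyc_group_core (fun T N₁ h => cyc_fourier p T N₁ h) K z g hz B hB hKB hzB hzp hgz hgK hgp
    h2t hnt x hx

end Cfsg.Agent.Helper3.DP
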