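import Mathlib
import Cfsg.Agent.Lib.Helper3.DPDefs
import Cfsg.Agent.Lib.Helper3.DPBasA
import Cfsg.Agent.Lib.Helper3.DPBasB
import Cfsg.Agent.Lib.Helper18.DPCYC

set_option autoImplicit false
open scoped Pointwise
open MulAction

namespace Cfsg.Agent.Helper3.DP

variable {G Ω : Type*} [Group G] [Finite G] [Fintype Ω] [MulAction G Ω] [FaithfulSMul G Ω] {p : ℕ}

/-- PIECE FIX2. -/
theorem fixOne_of_two_trans (S : Setup G Ω p) {B : Set Ω} (hK : KData S B) {x : Ω} (hx : x ∈ B)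
    (hne : ∃ k ∈ kern G S.a B, k • x = x ∧ k ≠ 1)
    (h2t : ∀ y₁ ∈ B, ∀ y₂ ∈ B, ∀ y₁' ∈ B, ∀ y₂' ∈ B, y₁ ≠ y₂ → y₁' ≠ y₂' →
      ∃ k ∈ kern G S.a B, k • y₁ = y₁' ∧ k • y₂ = y₂')
    (hexp : ∀ g ∈ S.P, g ^ p = 1) : FixOne S B x := by
  intro h hh
  have hBlk := hK.blk
  have hxa : x ≠ S.a := S.blk_ne hBlk hx
  obtain ⟨v, hv, hvB⟩ := S.blk_exists_P hBlk hh
  obtain ⟨z, hzP0, hz1⟩ : ∃ z ∈ S.P ⊓ kern G S.a B, z ≠ 1 := by
    by_contra hcon
    push_neg at hcon
    have hbot : S.P ⊓ kern G S.a B = ⊥ := (Subgroup.eq_bot_iff_forall _).mpr hcon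
    have h1 := hK.card_P0
    rw [hbot, Subgroup.card_bot] at h1
    exact absurd h1.symm (S.prime.one_lt).ne'
  have hzP : z ∈ S.P := (Subgroup.mem_inf.mp hzP0).1
  have hzK : z ∈ kern G S.a B := (Subgroup.mem_inf.mp hzP0).2
  have hvH : v ∈ stabilizer G S.a := S.P_le hv
  have hex : ∃ y ∈ v • B, ∀ k ∈ kern G S.a B, k • x = x → k • y = y := by
    apply cyc_group S.prime (kern G S.a B) z v hzK B hBlk.2.1
    · intro k hk i
      exact (mem_kern.mp hk).2 (v ^ i) (Subgroup.pow_mem _ hvH i)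
    · intro y hy hzy
      exact hz1 (S.P_reg y (S.blk_ne hBlk hy) z hzP hzy)
    · exact hexp z hzP
    · exact S.P_comm v hv z hzP
    · intro k hk
      exact hK.normal v hvH k hk
    · exact hexp v hv
    · exact h2t
    · rw [S.card_kern hK hxa, pow_two]
      intro hdvd
      exact S.not_dvd_card_kern_inf hK hxa ((Nat.mul_dvd_mul_iff_left S.prime.pos).mp hdvd)
    · exact hx
  obtain ⟨y, hyB, hyfix⟩ := hex
  rw [← hvB] at hyB
  refine ⟨y, ⟨hyB, hyfix⟩, ?_⟩
  rintro y' ⟨hy'B, hy'fix⟩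
  have hBlk' := S.blk_smul hBlk hh
  have hya : y ≠ S.a := S.blk_ne hBlk' hyB
  -- `K_y = K_x`
  have hKxy : ∀ {w : Ω}, w ≠ S.a → (∀ k ∈ kern G S.a B, k • x = x → k • w = w) →
      ∀ k ∈ kern G S.a B, k • w = w → k • x = x := by
    intro w hwa hw
    have hle : kern G S.a B ⊓ stabilizer G x ≤ kern G S.a B ⊓ stabilizer G w := by
      intro k hk
      rw [Subgroup.mem_inf] at hk ⊢
      exact ⟨hk.1, hw k hk.1 hk.2⟩
    have hc1 := S.card_kern hK hxa
    have hc2 := S.card_kern hK hwa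
    have hcard : Nat.card ↥(kern G S.a B ⊓ stabilizer G w) ≤
        Nat.card ↥(kern G S.a B ⊓ stabilizer G x) := by
      have := hc1.symm.trans hc2
      exact le_of_eq (Nat.eq_of_mul_eq_mul_left S.prime.pos this).symm
    have heq := Subgroup.eq_of_le_of_card_ge hle hcard
    intro k hk hkw
    have : k ∈ kern G S.a B ⊓ stabilizer G w := Subgroup.mem_inf.mpr ⟨hk, hkw⟩
    rw [← heq] at this
    exact (Subgroup.mem_inf.mp this).2
  obtain ⟨k, hkP0, hky⟩ := hK.trans h hh y hyB y' hy'B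
  have hkK : k ∈ kern G S.a B := (Subgroup.mem_inf.mp hkP0).2
  have hkB : ∀ κ ∈ kern G S.a B, κ • B = B := by
    intro κ hκ
    have := (mem_kern.mp hκ).2 1 (Subgroup.one_mem _)
    simpa using this
  have hkx : k • x = x := by
    by_contra hkx
    -- every element of `K_x` fixes `k • x`
    have hfix : ∀ κ ∈ kern G S.a B, κ • x = x → κ • (k • x) = k • x := by
      intro κ hκ hκx
      have h1 : k⁻¹ * κ * k ∈ kern G S.a B :=
        Subgroup.mul_mem _ (Subgroup.mul_mem _ (Subgroup.inv_mem _ hkK) hκ) hkK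
      have h2 : (k⁻¹ * κ * k) • y = y := by
        rw [mul_smul, mul_smul, hky, hy'fix κ hκ hκx, ← hky, inv_smul_smul]
      have h3 := hKxy hya hyfix _ h1 h2
      rw [mul_smul, mul_smul, inv_smul_eq_iff] at h3
      exact h3
    have hkxB : k • x ∈ B := by
      have := Set.smul_mem_smul_set (a := k) hx
      rwa [hkB k hkK] at this
    have hall : ∀ b ∈ B, b = x ∨ b = k • x := by
      intro b hb
      by_cases hbx : b = x
      · exact Or.inl hbx
      · right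
        obtain ⟨κ, hκ, hκx, hκb⟩ := h2t x hx (k • x) hkxB x hx b hb (Ne.symm hkx) (Ne.symm hbx)
        rw [← hκb, hfix κ hκ hκx]
    obtain ⟨κ, hκ, hκx, hκ1⟩ := hne
    apply hκ1
    apply hK.faithful κ hκ 1 (Subgroup.one_mem _)
    intro b hb
    rw [one_smul] at hb
    rcases hall b hb with rfl | rfl
    · exact hκx
    · exact hfix κ hκ hκx
  rw [← hky]
  exact hyfix k hkK hkx

end Cfsg.Agent.Helper3.DP
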