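import Mathlib

/-!
# A convolution square in characteristic two (helper18)

For a class function `F` on a finite group with values in a commutative ring of characteristic
two, the value at `h * h` of the convolution square of `F` is the square of the sum of the
`F (h * t)` over the solutions `t` of `t * t = 1`.
-/

set_option autoImplicit false

namespace Cfsg.Agent.Helper18.DZ3

theorem conv_sq_char_two {G : Type*} [Group G] [Fintype G] [DecidableEq G] {k : Type*}
    [CommRing k] [CharP k 2] (F : G → k) (hF : ∀ u v : G, F (u * v) = F (v * u)) (h : G) :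
    ∑ v : G, F v * F (v⁻¹ * (h * h)) =
      (∑ t ∈ Finset.univ.filter (fun t : G => t * t = 1), F (h * t)) ^ 2 := by
  classical
  -- reindex by `v = h * w`
  have h1 : ∑ v : G, F v * F (v⁻¹ * (h * h)) = ∑ w : G, F (h * w) * F (h * w⁻¹) := by
    rw [← Equiv.sum_comp (Equiv.mulLeft h)]
    refine Finset.sum_congr rfl fun w _ => ?_
    rw [Equiv.coe_mulLeft]
    have e : (h * w)⁻¹ * (h * h) = w⁻¹ * h := by group
    rw [e, hF w⁻¹ h]
  rw [h1, ← Finset.sum_filter_add_sum_filter_not Finset.univ (fun w : G => w * w = 1)]
  have h2 : ∑ w ∈ Finset.univ.filter (fun w : G => ¬ w * w = 1), F (h * w) * F (h * w⁻¹) = 0 := by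
    apply Finset.sum_involution (fun w _ => w⁻¹)
    · intro w _
      rw [inv_inv, mul_comm (F (h * w⁻¹)) (F (h * w))]
      exact CharTwo.add_self_eq_zero _
    · intro w hw _
      rw [Finset.mem_filter] at hw
      intro hww
      apply hw.2
      calc w * w = w⁻¹ * w := by rw [hww]
        _ = 1 := inv_mul_cancel w
    · intro w _
      exact inv_inv w
    · intro w hw
      rw [Finset.mem_filter] at hw ⊢
      refine ⟨Finset.mem_univ _, fun hc => hw.2 ?_⟩
      have : (w * w)⁻¹ = 1 := by rw [mul_inv_rev]; exact hc
      rwa [inv_eq_one] at this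
  rw [h2, add_zero]
  have h3 : ∀ w ∈ Finset.univ.filter (fun w : G => w * w = 1),
      F (h * w) * F (h * w⁻¹) = F (h * w) ^ 2 := by
    intro w hw
    rw [Finset.mem_filter] at hw
    have : w⁻¹ = w := inv_eq_of_mul_eq_one_right hw.2
    rw [this, pow_two]
  rw [Finset.sum_congr rfl h3]
  exact (sum_pow_char 2 _ _).symm

end Cfsg.Agent.Helper18.DZ3
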