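import Mathlib

/-!
# Elements of order three normalizing no nontrivial 2-subgroup (helper18)

If `x ^ 3 = 1`, `x` normalizes no nontrivial `2`-subgroup, `t * t = 1` and `(x * t) ^ 3 = 1`,
then `t = 1`: otherwise `t`, `x t x⁻¹`, `x⁻¹ t x` together with `1` form a four-group
normalized by `x`.
-/

set_option autoImplicit false

namespace Cfsg.Agent.Helper18.DZ3

variable {G : Type*} [Group G]

/-- the four-group attached to an involution `t` with `(x t)³ = 1` -/
def fourGroup (x t : G) (hx3 : x ^ 3 = 1) (ht : t * t = 1) (h3 : (x * t) ^ 3 = 1) :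
    Subgroup G where
  carrier := {g | g = 1 ∨ g = t ∨ g = x * t * x⁻¹ ∨ g = x⁻¹ * t * x}
  one_mem' := Or.inl rfl
  inv_mem' := by
    have hti : t⁻¹ = t := inv_eq_of_mul_eq_one_right ht
    rintro g (rfl | rfl | rfl | rfl)
    · left; simp
    · right; left; exact hti
    · right; right; left; simp [mul_assoc, hti]
    · right; right; right; simp [mul_assoc, hti]
  mul_mem' := by
    have hti : t⁻¹ = t := inv_eq_of_mul_eq_one_right ht
    have hxi : x⁻¹ = x * x := by
      apply inv_eq_of_mul_eq_one_right
      rw [← mul_assoc, ← pow_two, ← pow_succ]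
      exact hx3
    -- the basic relation `(x t x⁻¹) (x⁻¹ t x) t = 1`
    have hrel : x * t * x * t * x * t = 1 := by
      have : (x * t) ^ 3 = x * t * x * t * x * t := by
        rw [pow_succ, pow_two]; group
      rw [← this]; exact h3
    set a := x * t * x⁻¹ with ha
    set b := x⁻¹ * t * x with hb
    have haa : a * a = 1 := by
      rw [ha]
      calc x * t * x⁻¹ * (x * t * x⁻¹) = x * (t * t) * x⁻¹ := by group
        _ = 1 := by rw [ht]; group
    have hbb : b * b = 1 := by
      rw [hb]
      calc x⁻¹ * t * x * (x⁻¹ * t * x) = x⁻¹ * (t * t) * x := by group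
        _ = 1 := by rw [ht]; group
    have habt : a * b * t = 1 := by
      rw [ha, hb]
      calc x * t * x⁻¹ * (x⁻¹ * t * x) * t = x * t * (x⁻¹ * x⁻¹) * t * x * t := by group
        _ = x * t * x * t * x * t := by
            have : x⁻¹ * x⁻¹ = x := by
              rw [hxi]
              calc x * x * (x * x) = x ^ 3 * x := by
                    rw [pow_succ, pow_two]; group
                _ = x := by rw [hx3, one_mul]
            rw [this]
        _ = 1 := hrel
    have hab : a * b = t := by
      have := mul_eq_one_iff_eq_inv.1 habt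
      rw [this, hti]
    have hba : b * a = t := by
      have h1 : (a * b)⁻¹ = b * a := by
        rw [mul_inv_rev, inv_eq_of_mul_eq_one_right haa, inv_eq_of_mul_eq_one_right hbb]
      rw [← h1, hab, hti]
    have hta : t * a = b := by
      rw [← hba, mul_assoc, haa, mul_one]
    have hat : a * t = b := by
      rw [← hab, ← mul_assoc, haa, one_mul]
    have htb : t * b = a := by
      rw [← hab, mul_assoc, hbb, mul_one]
    have hbt : b * t = a := by
      rw [← hba, ← mul_assoc, hbb, one_mul]
    rintro g h (rfl | rfl | rfl | rfl) (rfl | rfl | rfl | rfl)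
    · left; simp
    · right; left; simp
    · right; right; left; simp
    · right; right; right; simp
    · right; left; simp
    · left; exact ht
    · right; right; right; exact hta
    · right; right; left; exact htb
    · right; right; left; simp
    · right; right; right; exact hat
    · left; exact haa
    · right; left; exact hab
    · right; right; right; simp
    · right; right; left; exact hbt
    · right; left; exact hba
    · left; exact hbb

theorem mem_fourGroup {x t : G} (hx3 : x ^ 3 = 1) (ht : t * t = 1) (h3 : (x * t) ^ 3 = 1)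
    (g : G) : g ∈ fourGroup x t hx3 ht h3 ↔
      g = 1 ∨ g = t ∨ g = x * t * x⁻¹ ∨ g = x⁻¹ * t * x := Iff.rfl

theorem sq_eq_one_of_mem_fourGroup {x t : G} (hx3 : x ^ 3 = 1) (ht : t * t = 1)
    (h3 : (x * t) ^ 3 = 1) {g : G} (hg : g ∈ fourGroup x t hx3 ht h3) : g * g = 1 := by
  rcases hg with rfl | rfl | rfl | rfl
  · simp
  · exact ht
  · calc x * t * x⁻¹ * (x * t * x⁻¹) = x * (t * t) * x⁻¹ := by group
      _ = 1 := by rw [ht]; group
  · calc x⁻¹ * t * x * (x⁻¹ * t * x) = x⁻¹ * (t * t) * x := by group
      _ = 1 := by rw [ht]; group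

theorem isPGroup_fourGroup {x t : G} (hx3 : x ^ 3 = 1) (ht : t * t = 1)
    (h3 : (x * t) ^ 3 = 1) : IsPGroup 2 ↥(fourGroup x t hx3 ht h3) := by
  intro g
  refine ⟨1, ?_⟩
  apply Subtype.ext
  have := sq_eq_one_of_mem_fourGroup hx3 ht h3 g.2
  simpa [pow_two] using this

theorem mem_normalizer_fourGroup {x t : G} (hx3 : x ^ 3 = 1) (ht : t * t = 1)
    (h3 : (x * t) ^ 3 = 1) :
    x ∈ Subgroup.normalizer ((fourGroup x t hx3 ht h3 : Subgroup G) : Set G) := by
  have hxi : x⁻¹ = x * x := by
    apply inv_eq_of_mul_eq_one_right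
    rw [← mul_assoc, ← pow_two, ← pow_succ]
    exact hx3
  have hxxx : x * x * x = 1 := by rw [← pow_two, ← pow_succ]; exact hx3
  have hxx : x * x = x⁻¹ := hxi.symm
  -- conjugation by `x` permutes the three involutions cyclically
  have h1 : x * (x * t * x⁻¹) * x⁻¹ = x⁻¹ * t * x := by
    calc x * (x * t * x⁻¹) * x⁻¹ = (x * x) * t * (x⁻¹ * x⁻¹) := by group
      _ = x⁻¹ * t * x := by
          have : x⁻¹ * x⁻¹ = x := by
            rw [← mul_inv_rev, hxx, inv_inv]
          rw [hxx, this]
  have h2 : x * (x⁻¹ * t * x) * x⁻¹ = t := by group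
  have key : ∀ h : G, h ∈ fourGroup x t hx3 ht h3 → x * h * x⁻¹ ∈ fourGroup x t hx3 ht h3 := by
    rintro h (rfl | rfl | rfl | rfl)
    · left; simp
    · right; right; left; rfl
    · right; right; right; exact h1
    · right; left; exact h2
  have key' : ∀ h : G, h ∈ fourGroup x t hx3 ht h3 →
      x⁻¹ * h * x ∈ fourGroup x t hx3 ht h3 := by
    rintro h (rfl | rfl | rfl | rfl)
    · left; simp
    · right; right; right; rfl
    · right; left; group
    · right; right; left
      calc x⁻¹ * (x⁻¹ * t * x) * x = (x⁻¹ * x⁻¹) * t * (x * x) := by group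
        _ = x * t * x⁻¹ := by
            have : x⁻¹ * x⁻¹ = x := by
              rw [← mul_inv_rev, hxx, inv_inv]
            rw [hxx, this]
  rw [Subgroup.mem_normalizer_iff]
  intro h
  constructor
  · exact key h
  · intro hh
    have := key' _ hh
    have e : x⁻¹ * (x * h * x⁻¹) * x = h := by group
    rwa [e] at this

/-- **the four-group argument** -/
theorem eq_one_of_special {x t : G} (hx3 : x ^ 3 = 1)
    (hsp : ∀ Q : Subgroup G, IsPGroup 2 ↥Q → x ∈ Subgroup.normalizer (Q : Set G) → Q = ⊥)
    (ht : t * t = 1) (h3 : (x * t) ^ 3 = 1) : t = 1 := by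
  have h := hsp (fourGroup x t hx3 ht h3) (isPGroup_fourGroup hx3 ht h3)
    (mem_normalizer_fourGroup hx3 ht h3)
  have ht' : t ∈ fourGroup x t hx3 ht h3 := Or.inr (Or.inl rfl)
  rw [h, Subgroup.mem_bot] at ht'
  exact ht'

/-- a special element has a centralizer of odd order -/
theorem not_two_dvd_card_centralizer [Finite G] {x : G}
    (hsp : ∀ Q : Subgroup G, IsPGroup 2 ↥Q → x ∈ Subgroup.normalizer (Q : Set G) → Q = ⊥) :
    ¬ 2 ∣ Nat.card (Subgroup.centralizer ({x} : Set G)) := by
  intro h2
  haveI : Fact (Nat.Prime 2) := ⟨Nat.prime_two⟩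
  haveI : Fintype (Subgroup.centralizer ({x} : Set G)) := Fintype.ofFinite _
  rw [Nat.card_eq_fintype_card] at h2
  obtain ⟨c, hc⟩ := exists_prime_orderOf_dvd_card 2 h2
  -- `c` is an involution commuting with `x`
  have hcx : (c : G) * x = x * c := by
    have := c.2
    rw [Subgroup.mem_centralizer_iff] at this
    exact (this x rfl).symm
  have hord : orderOf (c : G) = 2 := by rw [Subgroup.orderOf_coe]; exact hc
  have hQ : IsPGroup 2 ↥(Subgroup.zpowers (c : G)) := by
    apply IsPGroup.of_card (n := 1)
    rw [Nat.card_zpowers, hord, pow_one]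
  have hn : x ∈ Subgroup.normalizer ((Subgroup.zpowers (c : G) : Subgroup G) : Set G) := by
    rw [Subgroup.mem_normalizer_iff]
    intro h
    have hcomm : ∀ g : G, g ∈ Subgroup.zpowers (c : G) → x * g * x⁻¹ = g := by
      intro g hg
      obtain ⟨k, rfl⟩ := Subgroup.mem_zpowers_iff.1 hg
      have : Commute x ((c : G) ^ k) := (Commute.zpow_right (show Commute x (c : G) from hcx.symm) k)
      rw [this.eq, mul_inv_cancel_right]
    constructor
    · intro hh
      rw [hcomm h hh]; exact hh
    · intro hh
      have hcomm' : ∀ g : G, g ∈ Subgroup.zpowers (c : G) → x⁻¹ * g * x = g := by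
        intro g hg
        have := hcomm g hg
        calc x⁻¹ * g * x = x⁻¹ * (x * g * x⁻¹) * x := by rw [this]
          _ = g := by group
      have h1 := hcomm' _ hh
      have e : x⁻¹ * (x * h * x⁻¹) * x = h := by group
      rw [e] at h1
      rw [h1]
      exact hh
  have hbot := hsp _ hQ hn
  have hc1 : (c : G) ∈ Subgroup.zpowers (c : G) := Subgroup.mem_zpowers _
  rw [hbot, Subgroup.mem_bot] at hc1
  rw [hc1, orderOf_one] at hord
  omega

end Cfsg.Agent.Helper18.DZ3
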