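import Mathlib
import Cfsg.Agent.Lib.Helper23.BlockResidue

/-!
# Reduction of determinants modulo the local ideal (helper18)
-/

set_option autoImplicit false
set_option linter.unusedSectionVars false

namespace Cfsg.Agent.Helper18.Robinson

open Cfsg Cfsg.Agent.Helper23.Blk

section Det

variable {M : Ideal AlgInt} [hMax : M.IsMaximal]

/-- the local ring at `M` as a subring of `ℂ` -/
def localSubring (M : Ideal AlgInt) [hMax : M.IsMaximal] : Subring ℂ where
  carrier := {z | MemLocalRing M z}
  mul_mem' := fun ha hb => by
    haveI hMp : M.IsPrime := hMax.isPrime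
    exact memLocalRing_mul ha hb
  one_mem' := memLocalRing_one hMax.ne_top
  add_mem' := fun ha hb => by
    haveI hMp : M.IsPrime := hMax.isPrime
    exact memLocalRing_add ha hb
  zero_mem' := memLocalRing_zero hMax.ne_top
  neg_mem' := fun ha => by
    haveI hMp : M.IsPrime := hMax.isPrime
    exact memLocalRing_neg ha

theorem mem_localSubring {z : ℂ} : z ∈ localSubring M ↔ MemLocalRing M z := Iff.rfl

/-- reduction modulo the local ideal as a ring homomorphism -/
noncomputable def redHom (M : Ideal AlgInt) [hMax : M.IsMaximal] :
    localSubring M →+* AlgInt ⧸ M where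
  toFun z := red M (z : ℂ)
  map_one' := red_one
  map_mul' a b := red_mul a.2 b.2
  map_zero' := red_zero
  map_add' a b := red_add a.2 b.2

theorem redHom_apply (z : localSubring M) : redHom M z = red M (z : ℂ) := rfl

/-- the determinant of a matrix of local integers is a local integer, and reduction commutes
with the determinant -/
theorem red_det {n : Type*} [Fintype n] [DecidableEq n] (X : Matrix n n ℂ)
    (hX : ∀ i j, MemLocalRing M (X i j)) :
    MemLocalRing M X.det ∧ red M X.det = (Matrix.of fun i j => red M (X i j)).det := by
  let X' : Matrix n n (localSubring M) := Matrix.of fun i j => ⟨X i j, hX i j⟩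
  have h1 : X = (localSubring M).subtype.mapMatrix X' := by
    ext i j
    rfl
  have h2 : X.det = ((X'.det : localSubring M) : ℂ) := by
    rw [h1, ← RingHom.map_det]
    rfl
  refine ⟨?_, ?_⟩
  · rw [h2]
    exact (X'.det).2
  · rw [h2, ← redHom_apply, RingHom.map_det]
    rfl

end Det

end Cfsg.Agent.Helper18.Robinson
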