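import Mathlib
import Cfsg.Prelude.Def_Blocks
import Cfsg.Agent.Lib.Helper18.DZ3Grp
import Cfsg.Agent.Lib.Helper18.DZ3Alg
import Cfsg.Agent.Lib.Helper18.KnorrVanish
import Cfsg.Agent.Lib.Helper18.RobinsonDet
import Cfsg.Agent.Lib.Helper18.LiftLinear
import Cfsg.Agent.Lib.Helper23.BlockRank
import Cfsg.Agent.Lib.Helper23.BlockDefectZero
import Cfsg.Agent.Lib.Helper23.BlockBrauer

/-!
# Characters of 2-defect zero at classes of odd centralizer order (helper18)

For `x` with centralizer of odd order, split the class function of the class of `x` as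
`f + g`, `g` the part in the characters of `2`-defect zero.  Then `f * f` (convolution) is
zero modulo the local ideal, hence so is the sum of `f (h t)` over the solutions of `t² = 1`;
the part `g` is fixed by that operation.
-/

set_option autoImplicit false
set_option linter.unusedSectionVars false
set_option linter.unusedVariables false

namespace Cfsg.Agent.Helper18.DZ3

open Cfsg Cfsg.Agent.Helper24 Cfsg.Agent.Helper23.Blk Cfsg.Agent.Helper18.KnorrVanish
  Cfsg.Agent.Helper18.Robinson
open scoped ComplexConjugate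

universe u

section Basic

variable {G : Type u} [Group G] [Fintype G] {M : Ideal AlgInt}

/-- `χ` has `2`-defect zero -/
def IsDZ (χ : IrrCharacter G) : Prop :=
  (charDegree (χ : G → ℂ)).factorization 2 = (Nat.card G).factorization 2

theorem vanish_of_isDZ (hM : IsPModular 2 M) {χ : IrrCharacter G} (h : IsDZ χ) :
    ∀ y : G, 2 ∣ orderOf y → (χ : G → ℂ) y = 0 := by
  classical
  intro y hy
  have h1 : ¬ 2 ∣ Nat.card G / charDegree (χ : G → ℂ) :=
    (not_dvd_card_div_iff 2 Nat.prime_two χ).2 (le_of_eq h.symm)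
  have h2 := (not_dvd_iff_blockOf_eq_singleton hM χ).1 h1
  have hB : IsPBlock M ({χ} : Set (IrrCharacter G)) := ⟨χ, h2.symm⟩
  have hli : LinearIndependent ℂ (fun ψ : ({χ} : Set (IrrCharacter G)) =>
      pRegularPart 2 (((ψ : IrrCharacter G)) : G → ℂ)) := by
    haveI : Unique ({χ} : Set (IrrCharacter G)) := Set.uniqueSingleton χ
    rw [linearIndependent_unique_iff]
    exact pRegularPart_ne_zero 2 Nat.prime_two _
  exact vanish_of_linearIndependent 2 hM hB hli (Set.mem_singleton χ) hy

theorem omega_solInd_of_isDZ (hM : IsPModular 2 M) {χ : IrrCharacter G} (h : IsDZ χ) :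
    omega (χ : G → ℂ) (solInd G 2) = 1 := by
  have : Fact (Nat.Prime 2) := ⟨Nat.prime_two⟩
  apply omega_solInd_of_vanish 2 χ
  intro g hg
  exact vanish_of_isDZ hM h g (by rw [hg])

/-- the basic term -/
theorem centralChar_mul_idemCoeff (χ : IrrCharacter G) (x h : G) :
    centralChar (χ : G → ℂ) x * idemCoeff (χ : G → ℂ) h =
      (Nat.card (Subgroup.centralizer ({x} : Set G)) : ℂ)⁻¹ *
        ((χ : G → ℂ) x * conj ((χ : G → ℂ) h)) := by
  unfold centralChar idemCoeff
  have h1 := irr_one_ne_zero χ.2
  have hG := card_ne_zero (G := G)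
  have hc : (Nat.card (Subgroup.centralizer ({x} : Set G)) : ℂ) ≠ 0 := by
    exact_mod_cast (Nat.card_pos (α := Subgroup.centralizer ({x} : Set G))).ne'
  have hmul : (Nat.card (Subgroup.centralizer ({x} : Set G)) : ℂ) *
      ((Subgroup.centralizer ({x} : Set G)).index : ℂ) = (Nat.card G : ℂ) := by
    exact_mod_cast Subgroup.card_mul_index (Subgroup.centralizer ({x} : Set G))
  have hi : ((Subgroup.centralizer ({x} : Set G)).index : ℂ) ≠ 0 := by
    intro h0
    rw [h0, mul_zero] at hmul
    exact hG hmul.symm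
  rw [← hmul]
  field_simp

/-- the central character of a character of positive defect lies in the local ideal at a class
with centralizer of odd order -/
theorem memLocalIdeal_centralChar_of_not_isDZ (hM : IsPModular 2 M) {χ : IrrCharacter G}
    (hχ : ¬ IsDZ χ) {x : G}
    (hodd : ¬ 2 ∣ Nat.card (Subgroup.centralizer ({x} : Set G))) :
    MemLocalIdeal M (centralChar (χ : G → ℂ) x) := by
  haveI hMp : M.IsPrime := hM.2.1.isPrime
  set d := charDegree (χ : G → ℂ) with hd
  set c := Nat.card (Subgroup.centralizer ({x} : Set G)) with hc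
  set idx := (Subgroup.centralizer ({x} : Set G)).index with hidx
  have hdpos : 0 < d := charDegree_pos χ.2
  have hdn : d ∣ Nat.card G := charDegree_dvd_card χ.2
  have hG0 : Nat.card G ≠ 0 := (Nat.card_pos (α := G)).ne'
  have hmul : c * idx = Nat.card G := Subgroup.card_mul_index _
  have hc0 : c ≠ 0 := (Nat.card_pos (α := Subgroup.centralizer ({x} : Set G))).ne'
  have hidx0 : idx ≠ 0 := by
    intro h0
    rw [h0, mul_zero] at hmul
    exact hG0 hmul.symm
  have hfc : c.factorization 2 = 0 := Nat.factorization_eq_zero_of_not_dvd hodd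
  have hfi : idx.factorization 2 = (Nat.card G).factorization 2 := by
    rw [← hmul, Nat.factorization_mul hc0 hidx0, Finsupp.add_apply, hfc, zero_add]
  have hle : d.factorization 2 ≤ (Nat.card G).factorization 2 :=
    (Nat.factorization_le_iff_dvd hdpos.ne' hG0).2 hdn 2
  have hlt : d.factorization 2 < (Nat.card G).factorization 2 := lt_of_le_of_ne hle hχ
  -- write `d = 2 ^ b * m`, `idx = 2 ^ a * j`
  obtain ⟨j, hj⟩ : 2 ^ (Nat.card G).factorization 2 ∣ idx := by
    rw [← hfi]; exact Nat.ordProj_dvd idx 2
  have hm : 2 ^ d.factorization 2 * (d / 2 ^ d.factorization 2) = d :=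
    Nat.ordProj_mul_ordCompl_eq_self d 2
  have hmodd : ¬ 2 ∣ d / 2 ^ d.factorization 2 := Nat.not_dvd_ordCompl Nat.prime_two hdpos.ne'
  set m := d / 2 ^ d.factorization 2 with hmdef
  set b := d.factorization 2 with hb
  set a := (Nat.card G).factorization 2 with ha
  obtain ⟨e, he⟩ : ∃ e, a = b + 1 + e := ⟨a - b - 1, by omega⟩
  have h1 := irr_one_ne_zero χ.2
  have hχ1 : (χ : G → ℂ) 1 = (d : ℂ) := irr_one_eq_charDegree χ.2
  have hd0 : (d : ℂ) ≠ 0 := by exact_mod_cast hdpos.ne'
  -- `ω * m = 2 * (2 ^ e * j * χ x)`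
  have key : centralChar (χ : G → ℂ) x * (m : ℂ) =
      (2 : ℂ) * ((2 : ℂ) ^ e * (j : ℂ) * (χ : G → ℂ) x) := by
    unfold centralChar
    rw [hχ1, ← hidx]
    have hdm : (d : ℂ) = (2 : ℂ) ^ b * (m : ℂ) := by
      have := congrArg (fun z : ℕ => (z : ℂ)) hm
      push_cast at this
      exact this.symm
    have hij : (idx : ℂ) = (2 : ℂ) ^ a * (j : ℂ) := by
      have := congrArg (fun z : ℕ => (z : ℂ)) hj
      push_cast at this
      exact this
    have h2b : ((2 : ℂ) ^ b) ≠ 0 := pow_ne_zero _ two_ne_zero
    have hm0 : (m : ℂ) ≠ 0 := by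
      intro h0
      rw [hdm, h0, mul_zero] at hd0
      exact hd0 rfl
    rw [hij, hdm, he]
    field_simp
    ring
  have hmR : MemLocalRing M (m : ℂ) := memLocalRing_natCast m
  have hmI : ¬ MemLocalIdeal M (m : ℂ) := fun h => hmodd ((memLocalIdeal_natCast_iff hM m).1 h)
  have hωR : MemLocalRing M (centralChar (χ : G → ℂ) x) :=
    memLocalRing_of_isIntegral (isIntegral_centralChar χ.2 x) hM.2.1.ne_top
  have hprod : MemLocalIdeal M (centralChar (χ : G → ℂ) x * (m : ℂ)) := by
    rw [key]
    apply memLocalIdeal_mul_right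
    · have := memLocalIdeal_prime hM
      simpa using this
    · apply memLocalRing_mul
      · apply memLocalRing_mul
        · exact memLocalRing_pow (by simpa using memLocalRing_natCast (M := M) 2) e
        · exact memLocalRing_natCast j
      · exact Cfsg.Agent.Helper24.Glaub.memLocalRing_irr χ x
  rcases memLocalIdeal_or_of_mul hωR hmR hprod with h | h
  · exact h
  · exact absurd h hmI

end Basic

section Main

variable {G : Type u} [Group G] [Fintype G] [Fintype (IrrCharacter G)] {M : Ideal AlgInt}

open Classical in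
/-- the part of the class function of the class of `x` in the characters of positive defect -/
noncomputable def fpart (x : G) : G → ℂ :=
  synth (fun χ : IrrCharacter G => if IsDZ χ then 0 else centralChar (χ : G → ℂ) x)

open Classical in
/-- the part of the class function of the class of `x` in the characters of defect zero -/
noncomputable def gpart (x : G) : G → ℂ :=
  synth (fun χ : IrrCharacter G => if IsDZ χ then centralChar (χ : G → ℂ) x else 0)

open Classical in
theorem fpart_eq (x h : G) :
    fpart x h = (Nat.card (Subgroup.centralizer ({x} : Set G)) : ℂ)⁻¹ *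
      ∑ χ : IrrCharacter G, if IsDZ χ then 0 else (χ : G → ℂ) x * conj ((χ : G → ℂ) h) := by
  unfold fpart synth
  rw [Finset.mul_sum]
  refine Finset.sum_congr rfl fun χ _ => ?_
  dsimp only
  split_ifs
  · rw [zero_mul, mul_zero]
  · exact centralChar_mul_idemCoeff χ x h

open Classical in
theorem gpart_eq (x h : G) :
    gpart x h = (Nat.card (Subgroup.centralizer ({x} : Set G)) : ℂ)⁻¹ *
      ∑ χ : IrrCharacter G, if IsDZ χ then (χ : G → ℂ) x * conj ((χ : G → ℂ) h) else 0 := by
  unfold gpart synth
  rw [Finset.mul_sum]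
  refine Finset.sum_congr rfl fun χ _ => ?_
  dsimp only
  split_ifs
  · exact centralChar_mul_idemCoeff χ x h
  · rw [zero_mul, mul_zero]

theorem memLocalRing_inv_card_centralizer (hM : IsPModular 2 M) {x : G}
    (hodd : ¬ 2 ∣ Nat.card (Subgroup.centralizer ({x} : Set G))) :
    MemLocalRing M ((Nat.card (Subgroup.centralizer ({x} : Set G)) : ℂ)⁻¹) := by
  haveI hMp : M.IsPrime := hM.2.1.isPrime
  exact memLocalRing_inv (memLocalRing_natCast _)
    (fun h => hodd ((memLocalIdeal_natCast_iff hM _).1 h))

theorem memLocalRing_fpart (hM : IsPModular 2 M) {x : G}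
    (hodd : ¬ 2 ∣ Nat.card (Subgroup.centralizer ({x} : Set G))) (h : G) :
    MemLocalRing M (fpart x h) := by
  classical
  haveI hMp : M.IsPrime := hM.2.1.isPrime
  rw [fpart_eq]
  apply memLocalRing_mul (memLocalRing_inv_card_centralizer hM hodd)
  apply memLocalRing_sum
  intro χ _
  split_ifs
  · exact memLocalRing_zero hM.2.1.ne_top
  · exact memLocalRing_mul (Cfsg.Agent.Helper24.Glaub.memLocalRing_irr χ x)
      (Cfsg.Agent.Helper24.Glaub.memLocalRing_conj_irr χ h)

theorem fpart_add_gpart (x h : G) [Decidable (IsConj x h)] :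
    fpart x h + gpart x h = if IsConj x h then 1 else 0 := by
  classical
  unfold fpart gpart
  rw [← synth_add, ← synth_centralChar x h]
  congr 1
  funext χ
  rw [Pi.add_apply]
  split_ifs
  · rw [zero_add]
  · rw [add_zero]

open Classical in
theorem fpart_mul_comm (x u v : G) : fpart x (u * v) = fpart x (v * u) := by
  have h := synth_isClassFunction
    (fun χ : IrrCharacter G => if IsDZ χ then 0 else centralChar (χ : G → ℂ) x) (v * u) u
  have e : u * (v * u) * u⁻¹ = u * v := by group
  rw [e] at h
  exact h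

/-- the convolution square of the positive-defect part vanishes modulo the local ideal -/
theorem memLocalIdeal_conv_fpart (hM : IsPModular 2 M) {x : G}
    (hodd : ¬ 2 ∣ Nat.card (Subgroup.centralizer ({x} : Set G))) (u : G) :
    MemLocalIdeal M (∑ v : G, fpart x v * fpart x (v⁻¹ * u)) := by
  classical
  haveI hMp : M.IsPrime := hM.2.1.isPrime
  unfold fpart
  rw [synth_conv]
  unfold synth
  apply memLocalIdeal_sum
  intro χ _
  rw [Pi.mul_apply]
  split_ifs with hχ
  · rw [zero_mul, zero_mul]
    exact memLocalIdeal_zero hM.2.1.ne_top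
  · rw [mul_assoc, centralChar_mul_idemCoeff]
    apply memLocalIdeal_mul_right (memLocalIdeal_centralChar_of_not_isDZ hM hχ hodd)
    apply memLocalRing_mul (memLocalRing_inv_card_centralizer hM hodd)
    exact memLocalRing_mul (Cfsg.Agent.Helper24.Glaub.memLocalRing_irr χ x)
      (Cfsg.Agent.Helper24.Glaub.memLocalRing_conj_irr χ u)

open Classical in
/-- convolution with the indicator of the solutions of `t² = 1` -/
theorem sum_mul_solInd (φ : G → ℂ) (h : G) :
    ∑ v : G, φ v * solInd G 2 (v⁻¹ * h) =
      ∑ t ∈ Finset.univ.filter (fun t : G => t * t = 1), φ (h * t) := by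
  rw [← Equiv.sum_comp (Equiv.mulLeft h), Finset.sum_filter]
  refine Finset.sum_congr rfl fun t _ => ?_
  rw [Equiv.coe_mulLeft]
  have e : (h * t)⁻¹ * h = t⁻¹ := by group
  rw [e]
  unfold solInd
  have hiff : t⁻¹ ^ 2 = 1 ↔ t * t = 1 := by
    rw [inv_pow, inv_eq_one, pow_two]
  by_cases ht : t * t = 1
  · rw [if_pos (hiff.2 ht), if_pos ht, mul_one]
  · rw [if_neg (fun hc => ht (hiff.1 hc)), if_neg ht, mul_zero]

open Classical in
/-- the defect-zero part is fixed by the sum of the solutions of `t² = 1` -/
theorem sum_gpart (hM : IsPModular 2 M) (x h : G) :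
    ∑ t ∈ Finset.univ.filter (fun t : G => t * t = 1), gpart x (h * t) = gpart x h := by
  rw [← sum_mul_solInd]
  have hs : solInd G 2 = synth (fun χ : IrrCharacter G => omega (χ : G → ℂ) (solInd G 2)) := by
    funext g
    rw [synth_omega (isClassFunction_solInd 2)]
  rw [hs]
  unfold gpart
  rw [synth_conv]
  congr 1
  funext χ
  rw [Pi.mul_apply]
  split_ifs with hχ
  · rw [omega_solInd_of_isDZ hM hχ, mul_one]
  · rw [zero_mul]

/-- the sum of the positive-defect part over `h t`, `t² = 1`, lies in the local ideal -/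
theorem memLocalIdeal_sum_fpart [DecidableEq G] (hM : IsPModular 2 M) {x : G}
    (hodd : ¬ 2 ∣ Nat.card (Subgroup.centralizer ({x} : Set G))) (h : G) :
    MemLocalIdeal M (∑ t ∈ Finset.univ.filter (fun t : G => t * t = 1), fpart x (h * t)) := by
  haveI hMax : M.IsMaximal := hM.2.1
  haveI hMp : M.IsPrime := hM.2.1.isPrime
  haveI : CharP (AlgInt ⧸ M) 2 := Cfsg.Agent.Helper18.LiftLinear.charP_res hM
  have hR : ∀ v, MemLocalRing M (fpart x v) := memLocalRing_fpart hM hodd
  let F : G → AlgInt ⧸ M := fun v => red M (fpart x v)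
  have hF : ∀ u v : G, F (u * v) = F (v * u) := by
    intro u v
    show red M (fpart x (u * v)) = red M (fpart x (v * u))
    rw [fpart_mul_comm x u v]
  have key := conv_sq_char_two F hF h
  -- the left side is the reduction of an element of the local ideal
  have hconvR : MemLocalRing M (∑ v : G, fpart x v * fpart x (v⁻¹ * (h * h))) :=
    memLocalRing_sum _ _ fun v _ => memLocalRing_mul (hR v) (hR _)
  have hL : ∑ v : G, F v * F (v⁻¹ * (h * h)) = 0 := by
    have h1 : ∑ v : G, F v * F (v⁻¹ * (h * h)) =
        red M (∑ v : G, fpart x v * fpart x (v⁻¹ * (h * h))) := by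
      rw [red_sum _ _ (fun v _ => memLocalRing_mul (hR v) (hR _))]
      refine Finset.sum_congr rfl fun v _ => ?_
      exact (red_mul (hR v) (hR _)).symm
    rw [h1]
    exact (red_eq_zero_iff hconvR).2 (memLocalIdeal_conv_fpart hM hodd (h * h))
  have hsumR : MemLocalRing M
      (∑ t ∈ Finset.univ.filter (fun t : G => t * t = 1), fpart x (h * t)) :=
    memLocalRing_sum _ _ fun t _ => hR _
  have h3 : ∑ t ∈ Finset.univ.filter (fun t : G => t * t = 1), F (h * t) = 0 := by
    have h2 : (∑ t ∈ Finset.univ.filter (fun t : G => t * t = 1), F (h * t)) ^ 2 = 0 := by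
      rw [← key]; exact hL
    exact pow_eq_zero_iff (two_ne_zero) |>.1 h2
  have h4 : red M (∑ t ∈ Finset.univ.filter (fun t : G => t * t = 1), fpart x (h * t)) = 0 := by
    rw [red_sum _ _ (fun t _ => hR _)]
    exact h3
  exact (red_eq_zero_iff hsumR).1 h4

open Classical in
/-- **the congruence**: for `x` with odd centralizer order and `x³ = 1`, and `y` with `y³ = 1`
normalizing no nontrivial `2`-subgroup, the defect-zero part of the class function of `x` at
`y` is congruent to the indicator of conjugacy -/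
theorem memLocalIdeal_ind_sub_gpart (hM : IsPModular 2 M) {x y : G}
    (hodd : ¬ 2 ∣ Nat.card (Subgroup.centralizer ({x} : Set G))) (hx3 : x ^ 3 = 1)
    (hy3 : y ^ 3 = 1)
    (hsp : ∀ Q : Subgroup G, IsPGroup 2 ↥Q → y ∈ Subgroup.normalizer (Q : Set G) → Q = ⊥) :
    MemLocalIdeal M ((if IsConj x y then (1 : ℂ) else 0) - gpart x y) := by
  have h1 := memLocalIdeal_sum_fpart hM hodd y
  have h2 : ∑ t ∈ Finset.univ.filter (fun t : G => t * t = 1), fpart x (y * t) =
      (∑ t ∈ Finset.univ.filter (fun t : G => t * t = 1),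
        (if IsConj x (y * t) then (1 : ℂ) else 0)) -
      ∑ t ∈ Finset.univ.filter (fun t : G => t * t = 1), gpart x (y * t) := by
    rw [← Finset.sum_sub_distrib]
    refine Finset.sum_congr rfl fun t _ => ?_
    exact eq_sub_of_add_eq (fpart_add_gpart x (y * t))
  have h3 : ∑ t ∈ Finset.univ.filter (fun t : G => t * t = 1),
      (if IsConj x (y * t) then (1 : ℂ) else 0) = if IsConj x y then (1 : ℂ) else 0 := by
    rw [Finset.sum_eq_single (1 : G)]
    · rw [mul_one]
    · intro t ht ht1
      rw [Finset.mem_filter] at ht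
      rw [if_neg]
      intro hc
      apply ht1
      obtain ⟨c, hc⟩ := isConj_iff.1 hc
      have h3 : (y * t) ^ 3 = 1 := by
        rw [← hc, conj_pow, hx3, mul_one, mul_inv_cancel]
      exact eq_one_of_special hy3 hsp ht.2 h3
    · intro h
      exfalso
      apply h
      rw [Finset.mem_filter]
      exact ⟨Finset.mem_univ _, mul_one 1⟩
  rw [h2, h3, sum_gpart hM] at h1
  exact h1

end Main

end Cfsg.Agent.Helper18.DZ3
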