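import Mathlib
import Cfsg.Prelude.Def_Blocks
import Cfsg.Agent.Lib.Helper24.CharInduced
import Cfsg.Agent.Lib.Helper24.CharHom
import Cfsg.Agent.Lib.Helper24.CharLinear
import Cfsg.Agent.Lib.Helper24.CharComplete
import Cfsg.Agent.Lib.Helper23.PrincipalPSolv
import Cfsg.Agent.Lib.Helper22.PPrimeCore

/-!
# Characters for the two-prime principal block theorem (helper18's shared library)

If every irreducible character of degree prime to `p` of a finite group `H` is trivial on a
subgroup `R`, then `R` meets each Sylow `p`-subgroup `P` inside the derived subgroup of `P`.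
-/

set_option autoImplicit false
set_option linter.unusedVariables false
set_option linter.unusedSectionVars false
set_option linter.style.haveILetI false

namespace Cfsg.Agent.Helper18.TwoPrime

open Cfsg Cfsg.Agent.Helper24
open scoped ComplexConjugate

universe u

/-- An element outside the derived subgroup is detected by a linear character. -/
theorem exists_linear_ne_one {P : Type u} [Group P] [Finite P] (z : P) (hz : z ∉ commutator P) :
    ∃ lam : P →* ℂˣ, lam z ≠ 1 := by
  have h1 : (Abelianization.of z : Abelianization P) ≠ 1 := by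
    intro h
    apply hz
    rw [← Abelianization.ker_of]
    exact h
  haveI : Finite (Abelianization P) := by
    unfold Abelianization
    infer_instance
  obtain ⟨φ, hφ⟩ := CommGroup.exists_apply_ne_one_of_hasEnoughRootsOfUnity (Abelianization P) ℂ h1
  exact ⟨φ.comp Abelianization.of, hφ⟩

/-- If all irreducible characters of `p'`-degree are trivial on `R`, then `R ∩ P ≤ P'` for every
subgroup `P` of index prime to `p`. -/
theorem inf_le_commutator_of_chars {H : Type u} [Group H] [Finite H] {p : ℕ}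
    [hp : Fact p.Prime] (R P : Subgroup H) (hidx : ¬ p ∣ P.index)
    (hR : ∀ χ : H → ℂ, IsIrrCharacter H χ → ¬ p ∣ charDegree χ → ∀ z ∈ R, χ z = χ 1) :
    R ⊓ P ≤ ⁅P, P⁆ := by
  classical
  haveI : Fintype H := Fintype.ofFinite H
  letI : Fintype (IrrCharacter H) := irrFintype
  haveI : Fintype ↥P := Fintype.ofFinite _
  intro z hz
  by_contra hzc
  set z₀ : ↥P := ⟨z, hz.2⟩ with hz₀
  have hz₀c : z₀ ∉ commutator ↥P := by
    intro hmem
    apply hzc
    rw [← Subgroup.map_subtype_commutator]
    exact ⟨z₀, hmem, rfl⟩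
  obtain ⟨lam, hlam⟩ := exists_linear_ne_one z₀ hz₀c
  set θ : ↥P → ℂ := fun x => ((lam x : ℂˣ) : ℂ) with hθ
  have hθirr : IsIrrCharacter ↥P θ := isIrrCharacter_of_monoidHom lam
  have hθc : IsCharacter ↥P θ := isCharacter_of_isIrrCharacter hθirr
  set ψ : H → ℂ := indFun P θ with hψ
  have hψc : IsCharacter H ψ := isCharacter_indFun _ hθc
  have hψ1 : ψ 1 = (P.index : ℂ) := by
    rw [hψ, indFun_one]
    simp [hθ]
  -- coefficients
  have hcoef : ∀ χ : IrrCharacter H, ∃ n : ℕ, classInner ψ (χ : H → ℂ) = n := fun χ =>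
    classInner_char_nat hψc (isCharacter_of_isIrrCharacter χ.2)
  choose n hn using hcoef
  have hexp := classFunction_expansion (isClassFunction_indFun P θ)
  have hsum : (P.index : ℂ) =
      ((∑ χ : IrrCharacter H, n χ * charDegree (χ : H → ℂ) : ℕ) : ℂ) := by
    rw [← hψ1]
    have := congrFun hexp 1
    rw [← hψ] at this
    rw [this]
    simp only [Finset.sum_apply, Pi.smul_apply, smul_eq_mul]
    push_cast
    refine Finset.sum_congr rfl fun χ _ => ?_
    rw [hn χ, irr_one_eq_charDegree χ.2]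
  have hsumN : P.index = ∑ χ : IrrCharacter H, n χ * charDegree (χ : H → ℂ) :=
    Nat.cast_injective hsum
  have hex : ∃ χ : IrrCharacter H, n χ ≠ 0 ∧ ¬ p ∣ charDegree (χ : H → ℂ) := by
    by_contra hcon
    push Not at hcon
    apply hidx
    rw [hsumN]
    apply Finset.dvd_sum
    intro χ _
    by_cases h0 : n χ = 0
    · rw [h0, zero_mul]
      exact dvd_zero p
    · exact Dvd.dvd.mul_left (hcon χ h0) _
  obtain ⟨χ, hχn, hχp⟩ := hex
  have hχc : IsCharacter H (χ : H → ℂ) := isCharacter_of_isIrrCharacter χ.2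
  have hχz : (χ : H → ℂ) z = (χ : H → ℂ) 1 := hR χ χ.2 hχp z hz.1
  have hzker : z ∈ charKer hχc := hχz
  have hfrob := frobenius_reciprocity P θ (isClassFunction_of_isCharacter hχc)
  have hc : classInner θ (fun h : ↥P => (χ : H → ℂ) h) ≠ 0 := by
    rw [← hfrob, ← hψ, hn χ]
    exact_mod_cast hχn
  -- reindex
  set S : ℂ := ∑ x : ↥P, θ x * conj ((χ : H → ℂ) x) with hS
  have hS0 : S ≠ 0 := by
    intro h0
    apply hc
    unfold classInner
    rw [← hS, h0, mul_zero]
  have hSeq : S = θ z₀ * S := by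
    have h1 := Equiv.sum_comp (Equiv.mulRight z₀)
      (fun x : ↥P => θ x * conj ((χ : H → ℂ) x))
    have h5 : ∑ x : ↥P, θ ((Equiv.mulRight z₀) x) * conj ((χ : H → ℂ) ((Equiv.mulRight z₀) x)) =
        θ z₀ * ∑ x : ↥P, θ x * conj ((χ : H → ℂ) x) := by
      rw [Finset.mul_sum]
      refine Finset.sum_congr rfl fun x _ => ?_
      simp only [Equiv.coe_mulRight]
      have h2 : (χ : H → ℂ) ((x * z₀ : ↥P) : H) = (χ : H → ℂ) (x : H) := by
        have : ((x * z₀ : ↥P) : H) = (x : H) * z := rfl
        rw [this]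
        exact char_mul_of_mem_charKer hχc hzker _
      rw [h2]
      simp only [hθ, map_mul, Units.val_mul]
      ring
    rw [hS]
    exact h1.symm.trans h5
  have hθz : θ z₀ = 1 := by
    have h3 : (θ z₀ - 1) * S = 0 := by
      rw [sub_mul, one_mul, ← hSeq, sub_self]
    rcases mul_eq_zero.1 h3 with h4 | h4
    · exact sub_eq_zero.1 h4
    · exact absurd h4 hS0
  apply hlam
  apply Units.ext
  simpa [hθ] using hθz

/-- Sylow version. -/
theorem inf_sylow_le_commutator_of_chars {H : Type u} [Group H] [Finite H] {p : ℕ}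
    [hp : Fact p.Prime] (R : Subgroup H) (P : Sylow p H)
    (hR : ∀ χ : H → ℂ, IsIrrCharacter H χ → ¬ p ∣ charDegree χ → ∀ z ∈ R, χ z = χ 1) :
    R ⊓ (P : Subgroup H) ≤ ⁅(P : Subgroup H), (P : Subgroup H)⁆ :=
  inf_le_commutator_of_chars R (P : Subgroup H) P.not_dvd_index hR

/-- The block-theoretic input: if the `p'`-degree characters of the principal `p`-block lie in
the principal `q`-block, then the image of `O_{q'}(G)` in `G / O_{p'}(G)` meets every Sylow
`p`-subgroup inside its derived subgroup. -/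
theorem map_inf_sylow_le_commutator {G : Type u} [Group G] [Finite G] {p q : ℕ}
    [hp : Fact p.Prime] [hq : Fact q.Prime] (hps : IsPSolvable p G) (hqs : IsPSolvable q G)
    (Mp Mq : Ideal AlgInt) (hMp : IsPModular p Mp) (hMq : IsPModular q Mq)
    (h : ∀ χ : IrrCharacter G, χ ∈ principalBlock Mp G → ¬ p ∣ charDegree (χ : G → ℂ) →
      χ ∈ principalBlock Mq G)
    [hKpn : (pPrimeCore p G).Normal]
    (P : Sylow p (G ⧸ pPrimeCore p G)) :
    (pPrimeCore q G).map (QuotientGroup.mk' (pPrimeCore p G)) ⊓ (P : Subgroup _) ≤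
      ⁅(P : Subgroup (G ⧸ pPrimeCore p G)), (P : Subgroup (G ⧸ pPrimeCore p G))⁆ := by
  apply inf_sylow_le_commutator_of_chars
  intro χb hχb hdeg zb hzb
  obtain ⟨k, hk, rfl⟩ := hzb
  have hχirr : IsIrrCharacter G (χb ∘ (QuotientGroup.mk : G → G ⧸ pPrimeCore p G)) :=
    isIrrCharacter_inflate (pPrimeCore p G) hχb
  set χ : IrrCharacter G := ⟨χb ∘ (QuotientGroup.mk : G → G ⧸ pPrimeCore p G), hχirr⟩ with hχ
  have hval : ∀ g : G, (χ : G → ℂ) g = χb (QuotientGroup.mk g) := fun g => rfl
  have h1 : (χ : G → ℂ) 1 = χb 1 := rfl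
  have hmemp : χ ∈ principalBlock Mp G := by
    rw [Cfsg.Agent.Helper23.Blk.mem_principalBlock_iff_of_isPSolvable hMp hps]
    intro n hn
    rw [hval, h1]
    have : (QuotientGroup.mk n : G ⧸ pPrimeCore p G) = 1 := (QuotientGroup.eq_one_iff n).2 hn
    rw [this]
  have hdeg' : ¬ p ∣ charDegree (χ : G → ℂ) := by
    have : charDegree (χ : G → ℂ) = charDegree χb := by
      unfold charDegree
      rw [h1]
    rw [this]
    exact hdeg
  have hmemq : χ ∈ principalBlock Mq G := h χ hmemp hdeg'
  rw [Cfsg.Agent.Helper23.Blk.mem_principalBlock_iff_of_isPSolvable hMq hqs] at hmemq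
  have := hmemq k hk
  rw [hval, h1] at this
  exact this

end Cfsg.Agent.Helper18.TwoPrime
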