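import Mathlib
import Cfsg.Prelude.Def_Blocks
import Cfsg.Agent.Lib.Helper18.CliffordCorr
import Cfsg.Agent.Lib.Helper18.TwoPrimeChar
import Cfsg.Agent.Lib.Helper24.Cd2Basic
import Cfsg.Agent.Lib.Helper24.CdPMain
import Cfsg.Agent.Lib.Helper24.CharIntegral

/-!
# Characters of defect zero when there are no elements of order `pq`, I
(helper18's shared library)
-/

set_option autoImplicit false
set_option linter.unusedVariables false
set_option linter.unusedSectionVars false
set_option linter.style.haveILetI false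

namespace Cfsg.Agent.Helper18.DefZero

open Cfsg Cfsg.Agent.Helper24 Cfsg.Agent.Helper5 Cfsg.Agent.Helper18

universe u

/-- No element of order `p` commutes with an element of order `q`. -/
def NoPQ (G : Type u) [Group G] (p q : ℕ) : Prop :=
  ∀ a b : G, orderOf a = p → orderOf b = q → Commute a b → False

variable {G : Type u} [Group G] [Finite G]

theorem NoPQ.symm {p q : ℕ} (h : NoPQ G p q) : NoPQ G q p :=
  fun a b ha hb hab => h b a hb ha hab.symm

/-- The hypothesis passes to quotients. -/
theorem NoPQ.quotient {p q : ℕ} [hp : Fact p.Prime] [hq : Fact q.Prime] (hne : p ≠ q)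
    (h : NoPQ G p q) (K : Subgroup G) [K.Normal] : NoPQ (G ⧸ K) p q := by
  intro a b ha hb hab
  obtain ⟨w, hw⟩ := QuotientGroup.mk'_surjective K (a * b)
  have hord : orderOf (a * b) = p * q := by
    rw [hab.orderOf_mul_eq_mul_orderOf_of_coprime, ha, hb]
    rw [ha, hb]
    exact (Nat.coprime_primes hp.out hq.out).2 hne
  have hdvd : p * q ∣ orderOf w := by
    rw [← hord, ← hw]
    exact orderOf_map_dvd _ w
  have hw0 : orderOf w ≠ 0 := (orderOf_pos w).ne'
  have h1 : orderOf (w ^ (orderOf w / p)) = p :=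
    orderOf_pow_orderOf_div hw0 (Dvd.dvd.trans (dvd_mul_right p q) hdvd)
  have h2 : orderOf (w ^ (orderOf w / q)) = q :=
    orderOf_pow_orderOf_div hw0 (Dvd.dvd.trans (dvd_mul_left q p) hdvd)
  exact h _ _ h1 h2 ((Commute.refl w).pow_pow _ _)

/-- A `p`-element commuting with an element of order `q` is trivial. -/
theorem NoPQ.eq_one {p q : ℕ} [hp : Fact p.Prime] (h : NoPQ G p q) {v y : G}
    (hv : ∃ k : ℕ, orderOf v = p ^ k) (hy : orderOf y = q) (hc : Commute v y) : v = 1 := by
  obtain ⟨k, hk⟩ := hv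
  rcases Nat.eq_zero_or_pos k with h0 | h0
  · rw [h0, pow_zero] at hk
    exact orderOf_eq_one_iff.1 hk
  · exfalso
    have hv0 : orderOf v ≠ 0 := (orderOf_pos v).ne'
    have hdvd : p ∣ orderOf v := by
      rw [hk]
      exact dvd_pow_self p h0.ne'
    have h1 : orderOf (v ^ (orderOf v / p)) = p := orderOf_pow_orderOf_div hv0 hdvd
    exact h _ _ h1 hy (hc.pow_left _)

/-- A character over a character with `r'`-inertia group has `r`-defect zero. -/
theorem defect_zero_of_inertia (N : Subgroup G) [N.Normal] {θ : N → ℂ}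
    (hθ : IsIrrCharacter N θ) (r : ℕ) [hr : Fact r.Prime]
    (hri : ¬ r ∣ Nat.card (inertia N θ)) :
    ∃ χ : IrrCharacter G,
      (charDegree (χ : G → ℂ)).factorization r = (Nat.card G).factorization r := by
  classical
  haveI : Fintype G := Fintype.ofFinite G
  haveI : Fintype N := Fintype.ofFinite N
  obtain ⟨χ, hχ, hcon⟩ := Cfsg.Agent.Helper24.Cd2.exists_over N hθ
  have h1 := Cfsg.Agent.Helper24.CdP.inertia_index_dvd N hχ hθ hcon
  have h2 : charDegree χ ∣ Nat.card G := charDegree_dvd_card hχ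
  have h3 : Nat.card (inertia N θ) * (inertia N θ).index = Nat.card G :=
    Subgroup.card_mul_index _
  have hG0 : Nat.card G ≠ 0 := Nat.card_pos.ne'
  have hi0 : (inertia N θ).index ≠ 0 := Subgroup.index_ne_zero_of_finite
  have hc0 : Nat.card (inertia N θ) ≠ 0 := Nat.card_pos.ne'
  have hd0 : charDegree χ ≠ 0 := (charDegree_pos hχ).ne'
  have h4 : (Nat.card G).factorization r = (inertia N θ).index.factorization r := by
    rw [← h3, Nat.factorization_mul hc0 hi0, Finsupp.add_apply,
      Nat.factorization_eq_zero_of_not_dvd hri, zero_add]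
  have h5 : (inertia N θ).index.factorization r ≤ (charDegree χ).factorization r :=
    (Nat.factorization_le_iff_dvd hi0 hd0).2 h1 r
  have h6 : (charDegree χ).factorization r ≤ (Nat.card G).factorization r :=
    (Nat.factorization_le_iff_dvd hd0 hG0).2 h2 r
  refine ⟨⟨χ, hχ⟩, ?_⟩
  show (charDegree χ).factorization r = (Nat.card G).factorization r
  omega

/-- An element of the inertia group of a nontrivial linear character of a normal subgroup `V`
commutes with a nontrivial element of `V`. -/
theorem exists_commute_of_mem_inertia (V : Subgroup G) [hVn : V.Normal] (lam : V →* ℂˣ) (z : V)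
    (hz : lam z ≠ 1) (y : G) (hy : y ∈ inertia V (fun v : V => ((lam v : ℂˣ) : ℂ))) :
    ∃ v : V, v ≠ 1 ∧ Commute (v : G) y := by
  by_contra hcon
  push Not at hcon
  set f : V → V := fun v => v⁻¹ * ⟨y * v * y⁻¹, hVn.conj_mem (v : G) v.2 y⟩ with hf
  have hinj : Function.Injective f := by
    intro v w hvw
    have h1 : ((f v : V) : G) = ((f w : V) : G) := by rw [hvw]
    simp only [hf, Subgroup.coe_mul, Subgroup.coe_inv] at h1
    by_contra hne
    have hne' : w * v⁻¹ ≠ 1 := by
      intro h
      apply hne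
      have := mul_inv_eq_one.1 h
      exact this.symm
    apply hcon (w * v⁻¹) hne'
    show ((w * v⁻¹ : V) : G) * y = y * ((w * v⁻¹ : V) : G)
    simp only [Subgroup.coe_mul, Subgroup.coe_inv]
    have h2 : (v : G)⁻¹ * y * v = (w : G)⁻¹ * y * w := by
      have h3 : (v : G)⁻¹ * (y * v * y⁻¹) * y = (w : G)⁻¹ * (y * w * y⁻¹) * y := by rw [h1]
      simpa [mul_assoc] using h3
    calc (w : G) * (v : G)⁻¹ * y = w * ((v : G)⁻¹ * y * v) * (v : G)⁻¹ := by group
      _ = w * ((w : G)⁻¹ * y * w) * (v : G)⁻¹ := by rw [h2]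
      _ = y * (w * (v : G)⁻¹) := by group
  have hsurj : Function.Surjective f := Finite.injective_iff_surjective.1 hinj
  obtain ⟨v, hv⟩ := hsurj z
  apply hz
  rw [← hv, hf]
  simp only [map_mul, map_inv]
  rw [mem_inertia] at hy
  have h1 := congrFun hy v
  rw [Cfsg.Agent.Helper5.conjFun_apply] at h1
  have h2 : lam ⟨y * v * y⁻¹, hVn.conj_mem (v : G) v.2 y⟩ = lam v := Units.ext h1
  rw [h2, inv_mul_cancel]

/-- **Case A**: a nontrivial normal `p`-subgroup forces a character of `q`-defect zero. -/
theorem exists_defect_zero_of_normal_pGroup {p q : ℕ} [hp : Fact p.Prime] [hq : Fact q.Prime]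
    (hpq : NoPQ G p q) (V : Subgroup G) [hVn : V.Normal] (hVp : IsPGroup p V) (hV1 : V ≠ ⊥) :
    ∃ χ : IrrCharacter G,
      (charDegree (χ : G → ℂ)).factorization q = (Nat.card G).factorization q := by
  classical
  haveI : Nontrivial V := (Subgroup.nontrivial_iff_ne_bot V).2 hV1
  haveI : Group.IsNilpotent V := hVp.isNilpotent
  have hlt : commutator V < ⊤ := Group.IsSolvable.commutator_lt_top_of_nontrivial V
  obtain ⟨z, -, hz⟩ := SetLike.exists_of_lt hlt
  obtain ⟨lam, hlam⟩ := Cfsg.Agent.Helper18.TwoPrime.exists_linear_ne_one z hz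
  have hθ : IsIrrCharacter V (fun v : V => ((lam v : ℂˣ) : ℂ)) := isIrrCharacter_of_monoidHom lam
  apply defect_zero_of_inertia V hθ q
  intro hdvd
  obtain ⟨y, hy⟩ := exists_prime_orderOf_dvd_card' q hdvd
  have hy' : orderOf (y : G) = q := by rw [Subgroup.orderOf_coe]; exact hy
  obtain ⟨v, hv1, hvc⟩ := exists_commute_of_mem_inertia V lam z hlam (y : G) y.2
  apply hv1
  have hvord : ∃ k : ℕ, orderOf (v : G) = p ^ k := by
    obtain ⟨k, hk⟩ := (IsPGroup.iff_orderOf.1 hVp) v
    exact ⟨k, by rw [Subgroup.orderOf_coe]; exact hk⟩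
  have := hpq.eq_one hvord hy' hvc
  exact Subtype.ext this

end Cfsg.Agent.Helper18.DefZero
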