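import Mathlib
import Cfsg.Prelude.Def_Transfer
import Cfsg.Agent.Lib.Helper18.DefZeroPQ1
import Cfsg.Agent.Lib.Helper15.CoprimeGen

/-!
# Characters of defect zero when there are no elements of order `pq`, II
(helper18's shared library)

Uniqueness of the subgroups of order `p` in `p`-subgroups.
-/

set_option autoImplicit false
set_option linter.unusedVariables false
set_option linter.unusedSectionVars false
set_option linter.style.haveILetI false

namespace Cfsg.Agent.Helper18.DefZero

open Cfsg

universe u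

variable {G : Type u} [Group G] [Finite G]

/-- Two commuting elements of order `p` generating distinct subgroups span an elementary abelian
subgroup of order at least `p²`. -/
theorem exists_elemAb_of_commute {p : ℕ} [hp : Fact p.Prime] {a b : G} (hab : Commute a b)
    (ha : orderOf a = p) (hb : orderOf b = p) (hnot : b ∉ Subgroup.zpowers a) :
    IsElementaryAbelian p (Subgroup.zpowers a ⊔ Subgroup.zpowers b) ∧
      p ^ 2 ≤ Nat.card ↥(Subgroup.zpowers a ⊔ Subgroup.zpowers b) := by
  set U : Subgroup G := Subgroup.zpowers a ⊔ Subgroup.zpowers b with hU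
  have haU : a ∈ U := (le_sup_left : Subgroup.zpowers a ≤ U) (Subgroup.mem_zpowers a)
  have hbU : b ∈ U := (le_sup_right : Subgroup.zpowers b ≤ U) (Subgroup.mem_zpowers b)
  -- every element of `U` commutes with `a` and `b`
  have hcent : ∀ x ∈ U, Commute x a ∧ Commute x b := by
    have hle : U ≤ Subgroup.centralizer ({a, b} : Set G) := by
      rw [hU]
      apply sup_le
      · rw [Subgroup.zpowers_le, Subgroup.mem_centralizer_iff]
        intro h hh
        rcases hh with rfl | rfl
        · rfl
        · exact hab.symm.eq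
      · rw [Subgroup.zpowers_le, Subgroup.mem_centralizer_iff]
        intro h hh
        rcases hh with rfl | rfl
        · exact hab.eq
        · rfl
    intro x hx
    have := hle hx
    rw [Subgroup.mem_centralizer_iff] at this
    exact ⟨(this a (by simp)).symm, (this b (by simp)).symm⟩
  have hcomm : ∀ x ∈ U, ∀ y ∈ U, Commute x y := by
    intro x hx y hy
    have hy' := hcent y hy
    have hle : U ≤ Subgroup.centralizer ({y} : Set G) := by
      rw [hU]
      apply sup_le
      · rw [Subgroup.zpowers_le, Subgroup.mem_centralizer_iff]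
        intro h hh
        rw [Set.mem_singleton_iff] at hh
        rw [hh]
        exact hy'.1.eq
      · rw [Subgroup.zpowers_le, Subgroup.mem_centralizer_iff]
        intro h hh
        rw [Set.mem_singleton_iff] at hh
        rw [hh]
        exact hy'.2.eq
    have := hle hx
    rw [Subgroup.mem_centralizer_iff] at this
    exact (this y rfl).symm
  have hexp : ∀ x ∈ U, x ^ p = 1 := by
    let T : Subgroup G :=
      { carrier := {x | x ∈ U ∧ x ^ p = 1}
        one_mem' := ⟨U.one_mem, one_pow p⟩
        mul_mem' := by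
          rintro x y ⟨hx, hx1⟩ ⟨hy, hy1⟩
          refine ⟨U.mul_mem hx hy, ?_⟩
          rw [(hcomm x hx y hy).mul_pow, hx1, hy1, one_mul]
        inv_mem' := by
          rintro x ⟨hx, hx1⟩
          exact ⟨U.inv_mem hx, by rw [inv_pow, hx1, inv_one]⟩ }
    have haT : a ∈ T := ⟨haU, by rw [← ha]; exact pow_orderOf_eq_one a⟩
    have hbT : b ∈ T := ⟨hbU, by rw [← hb]; exact pow_orderOf_eq_one b⟩
    have hle : U ≤ T := by
      rw [hU]
      exact sup_le ((Subgroup.zpowers_le).2 haT) ((Subgroup.zpowers_le).2 hbT)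
    intro x hx
    exact (hle hx).2
  refine ⟨⟨⟨⟨fun x y => Subtype.ext (hcomm x x.2 y y.2).eq⟩⟩, hexp⟩, ?_⟩
  have hUp : IsPGroup p U := by
    intro x
    refine ⟨1, ?_⟩
    rw [pow_one]
    exact Subtype.ext (hexp x x.2)
  obtain ⟨n, hn⟩ := hUp.exists_card_eq
  rw [hn]
  apply Nat.pow_le_pow_right hp.out.pos
  by_contra hlt
  push Not at hlt
  have hza : Nat.card (Subgroup.zpowers a) = p := by rw [Nat.card_zpowers, ha]
  have hle : Subgroup.zpowers a ≤ U := le_sup_left
  have hcardle : Nat.card U ≤ Nat.card (Subgroup.zpowers a) := by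
    rw [hn, hza]
    interval_cases n
    · rw [pow_zero]; exact hp.out.pos
    · rw [pow_one]
  have heq : Subgroup.zpowers a = U := Subgroup.eq_of_le_of_card_ge hle hcardle
  apply hnot
  rw [heq]
  exact hbU

/-- In the presence of a normal `p'`-subgroup of order divisible by `q`, a `p`-subgroup has at
most one subgroup of order `p`. -/
theorem mem_zpowers_of_orderOf_eq {p q : ℕ} [hp : Fact p.Prime] [hq : Fact q.Prime] (hne : p ≠ q)
    (hpq : NoPQ G p q) (K : Subgroup G) [hKn : K.Normal] (hKp : (Nat.card K).Coprime p)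
    (hKq : q ∣ Nat.card K) (P : Subgroup G) (hP : IsPGroup p P) {u v : G} (hu : u ∈ P)
    (hv : v ∈ P) (huo : orderOf u = p) (hvo : orderOf v = p) : v ∈ Subgroup.zpowers u := by
  classical
  by_contra hv'
  have hp1 : p ≠ 1 := hp.out.ne_one
  have hu1 : u ≠ 1 := by
    intro h
    rw [h, orderOf_one] at huo
    exact hp1 huo.symm
  -- a central element of order `p`
  haveI : Nontrivial P := ⟨⟨⟨u, hu⟩, 1, fun h => hu1 (congrArg Subtype.val h)⟩⟩
  haveI : Nontrivial (Subgroup.center P) := hP.center_nontrivial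
  have hZp : IsPGroup p (Subgroup.center P) := hP.to_subgroup _
  obtain ⟨n, hn⟩ := hZp.exists_card_eq
  have hn0 : n ≠ 0 := by
    intro h0
    rw [h0, pow_zero] at hn
    have := (Nat.card_eq_one_iff_unique.1 hn).1
    exact not_subsingleton (Subgroup.center P) this
  have hdvd : p ∣ Nat.card (Subgroup.center P) := by
    rw [hn]
    exact dvd_pow_self p hn0
  obtain ⟨w, hw⟩ := exists_prime_orderOf_dvd_card' p hdvd
  set w0 : G := ((w : P) : G) with hw0
  have hw0o : orderOf w0 = p := by
    rw [hw0, Subgroup.orderOf_coe, Subgroup.orderOf_coe]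
    exact hw
  have hw0P : w0 ∈ P := (w : P).2
  have hw0c : ∀ x ∈ P, Commute w0 x := by
    intro x hx
    have h1 := (Subgroup.mem_center_iff.1 w.2) ⟨x, hx⟩
    have h2 := congrArg (Subtype.val : P → G) h1
    simp only [Subgroup.coe_mul] at h2
    exact h2.symm
  -- a commuting pair generating distinct subgroups
  obtain ⟨a, b, haP, hbP, hao, hbo, habc, habn⟩ : ∃ a b : G, a ∈ P ∧ b ∈ P ∧ orderOf a = p ∧
      orderOf b = p ∧ Commute a b ∧ b ∉ Subgroup.zpowers a := by
    by_cases hwu : w0 ∈ Subgroup.zpowers u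
    · have hle : Subgroup.zpowers w0 ≤ Subgroup.zpowers u := (Subgroup.zpowers_le).2 hwu
      have heq : Subgroup.zpowers w0 = Subgroup.zpowers u := by
        apply Subgroup.eq_of_le_of_card_ge hle
        rw [Nat.card_zpowers, Nat.card_zpowers, huo, hw0o]
      refine ⟨w0, v, hw0P, hv, hw0o, hvo, hw0c v hv, ?_⟩
      rw [heq]
      exact hv'
    · exact ⟨u, w0, hu, hw0P, huo, hw0o, (hw0c u hu).symm, hwu⟩
  obtain ⟨hUel, hU2⟩ := exists_elemAb_of_commute habc hao hbo habn
  set U : Subgroup G := Subgroup.zpowers a ⊔ Subgroup.zpowers b with hU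
  have hUP : U ≤ P := sup_le ((Subgroup.zpowers_le).2 haP) ((Subgroup.zpowers_le).2 hbP)
  have hUp : IsPGroup p U := hP.to_le hUP
  have hUK : U ≤ Subgroup.normalizer (K : Set G) := by
    rw [Subgroup.normalizer_eq_top]
    exact le_top
  obtain ⟨Q0, hQ0K, hQ0q, hQ0card, hUQ0⟩ :=
    Cfsg.Agent.Helper15.exists_invariant_sylow_of_coprime q hUp hKp hUK
  have hfac : 1 ≤ (Nat.card K).factorization q :=
    (hq.out.dvd_iff_one_le_factorization Nat.card_pos.ne').1 hKq
  have hQ0ne : Q0 ≠ ⊥ := by
    intro h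
    rw [h, Subgroup.card_bot] at hQ0card
    have : 1 < q ^ (Nat.card K).factorization q :=
      Nat.one_lt_pow (by omega) hq.out.one_lt
    omega
  apply hQ0ne
  have hcop : (Nat.card Q0).Coprime p := by
    rw [hQ0card]
    apply Nat.Coprime.pow_left
    exact (Nat.coprime_primes hq.out hp.out).2 (Ne.symm hne)
  apply Cfsg.Agent.Helper15.eq_bot_of_forall_coatom_centralizer_eq_bot hUel hU2 hcop hUQ0
  intro U₀ hU₀ hco
  -- an element of order `p` in `U₀`
  have hU₀ne : U₀ ≠ ⊥ := by
    intro h
    rw [h] at hco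
    have haU : a ∈ U := (le_sup_left : Subgroup.zpowers a ≤ U) (Subgroup.mem_zpowers a)
    have hbU : b ∈ U := (le_sup_right : Subgroup.zpowers b ≤ U) (Subgroup.mem_zpowers b)
    have ha1 : a ≠ 1 := by
      intro h
      rw [h, orderOf_one] at hao
      exact hp1 hao.symm
    have hlt : (⊥ : Subgroup G).subgroupOf U < (Subgroup.zpowers a).subgroupOf U := by
      rw [Subgroup.bot_subgroupOf]
      apply bot_lt_iff_ne_bot.2
      intro hbot
      have : (⟨a, haU⟩ : U) ∈ (Subgroup.zpowers a).subgroupOf U := by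
        rw [Subgroup.mem_subgroupOf]
        exact Subgroup.mem_zpowers a
      rw [hbot, Subgroup.mem_bot] at this
      exact ha1 (congrArg Subtype.val this)
    have htop := hco.2 _ hlt
    have : (⟨b, hbU⟩ : U) ∈ (Subgroup.zpowers a).subgroupOf U := by
      rw [htop]
      exact Subgroup.mem_top _
    rw [Subgroup.mem_subgroupOf] at this
    exact habn this
  obtain ⟨c, hc1⟩ := (Subgroup.ne_bot_iff_exists_ne_one).1 hU₀ne
  have hcU₀ : (c : G) ∈ U₀ := c.2
  have hc1' : (c : G) ≠ 1 := fun h => hc1 (Subtype.ext h)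
  have hcp : (c : G) ^ p = 1 := hUel.2 _ (hU₀ hcU₀)
  have hco' : orderOf (c : G) = p := orderOf_eq_prime hcp hc1'
  rw [eq_bot_iff]
  intro x hx
  rw [Subgroup.mem_inf] at hx
  rw [Subgroup.mem_bot]
  have hxq : ∃ k : ℕ, orderOf x = q ^ k := by
    obtain ⟨k, hk⟩ := (IsPGroup.iff_orderOf.1 hQ0q) ⟨x, hx.1⟩
    exact ⟨k, by rw [← hk, Subgroup.orderOf_mk]⟩
  have hxc : Commute x (c : G) := by
    have := (Subgroup.mem_centralizer_iff.1 hx.2) (c : G) hcU₀
    exact this.symm
  exact hpq.symm.eq_one hxq hco' hxc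

end Cfsg.Agent.Helper18.DefZero
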