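import Mathlib
import Cfsg.Prelude.Def_Blocks
import Cfsg.Agent.Lib.Helper18.DefZeroPQ2
import Cfsg.Agent.Lib.Helper22.PPrimeCore
import Cfsg.Agent.Lib.Helper23.PSolvable
import Cfsg.Agent.Lib.Helper10.Cores
import Cfsg.Agent.Lib.Helper24.CharComplete
import Cfsg.Agent.Lib.Helper24.CharHom

/-!
# Characters of defect zero when there are no elements of order `pq`, III
(helper18's shared library)
-/

set_option autoImplicit false
set_option linter.unusedVariables false
set_option linter.unusedSectionVars false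
set_option linter.style.haveILetI false

namespace Cfsg.Agent.Helper18.DefZero

open Cfsg Cfsg.Agent.Helper24 Cfsg.Agent.Helper5 Cfsg.Agent.Helper18

open scoped Pointwise

universe u

variable {G : Type u} [Group G] [Finite G]

/-- A nontrivial `p`-subgroup contains an element of order `p`. -/
theorem exists_orderOf_eq_of_isPGroup {p : ℕ} [hp : Fact p.Prime] (H : Subgroup G)
    (hH : IsPGroup p H) (hne : H ≠ ⊥) : ∃ h ∈ H, orderOf h = p := by
  obtain ⟨c, hc1⟩ := (Subgroup.ne_bot_iff_exists_ne_one).1 hne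
  obtain ⟨n, hn⟩ := hH.exists_card_eq
  have hn0 : n ≠ 0 := by
    intro h0
    rw [h0, pow_zero] at hn
    have := (Nat.card_eq_one_iff_unique.1 hn).1
    exact hc1 (Subsingleton.elim _ _)
  have hdvd : p ∣ Nat.card H := by
    rw [hn]
    exact dvd_pow_self p hn0
  obtain ⟨w, hw⟩ := exists_prime_orderOf_dvd_card' p hdvd
  exact ⟨(w : G), w.2, by rw [Subgroup.orderOf_coe]; exact hw⟩

/-- An element of order `p` does not lie in a subgroup of order prime to `p`. -/
theorem not_mem_of_orderOf_eq {p : ℕ} [hp : Fact p.Prime] (K : Subgroup G)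
    (hKp : (Nat.card K).Coprime p) {u : G} (hu : orderOf u = p) : u ∉ K := by
  intro h
  have h1 : orderOf u ∣ Nat.card K := Subgroup.orderOf_dvd_natCard K h
  rw [hu] at h1
  have h2 : p ∣ Nat.gcd (Nat.card K) p := Nat.dvd_gcd h1 dvd_rfl
  rw [hKp] at h2
  exact hp.out.one_lt.ne' (Nat.dvd_one.1 h2)

/-- In a `p`-solvable group of order divisible by `p`, `O_p(G / O_{p'}(G)) ≠ 1`. -/
theorem pCore_quotient_ne_bot {p : ℕ} [hp : Fact p.Prime] (hpG : p ∣ Nat.card G)
    (hsolv : IsPSolvable p G) [hKn : (pPrimeCore p G).Normal] :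
    pCore p (G ⧸ pPrimeCore p G) ≠ ⊥ := by
  intro h
  have hO := Cfsg.Agent.Helper23.PSolv.pPrimeCore_quotient_pPrimeCore (G := G) p
  have hc := Cfsg.Agent.Helper23.PSolv.centralizer_pCore_le
    (Cfsg.Agent.Helper23.PSolv.isPSolvable_quotient (pPrimeCore p G) hsolv) hO
  rw [h] at hc
  have htop : Subgroup.centralizer
      ((⊥ : Subgroup (G ⧸ pPrimeCore p G)) : Set (G ⧸ pPrimeCore p G)) = ⊤ := by
    rw [Subgroup.centralizer_eq_top_iff_subset]
    intro z hz
    have : z = 1 := hz
    rw [this]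
    exact Subgroup.one_mem _
  rw [htop] at hc
  have hK : pPrimeCore p G = ⊤ := by
    rw [eq_top_iff]
    intro g _
    have h1 : (QuotientGroup.mk g : G ⧸ pPrimeCore p G) ∈ (⊥ : Subgroup _) :=
      hc (Subgroup.mem_top _)
    rw [Subgroup.mem_bot] at h1
    exact (QuotientGroup.eq_one_iff g).1 h1
  have hcop := Cfsg.Agent.Helper22.card_pPrimeCore_coprime (G := G) p
  rw [hK, Subgroup.card_top] at hcop
  have h2 : p ∣ Nat.gcd (Nat.card G) p := Nat.dvd_gcd hpG dvd_rfl
  rw [hcop] at h2
  exact hp.out.one_lt.ne' (Nat.dvd_one.1 h2)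

/-- An element of order `p` moves some irreducible character of a normal `p'`-subgroup of order
divisible by `q`. -/
theorem exists_irr_not_fixed {p q : ℕ} [hp : Fact p.Prime] [hq : Fact q.Prime]
    (hpq : NoPQ G p q) (K : Subgroup G) [hKn : K.Normal] (hKp : (Nat.card K).Coprime p)
    (hKq : q ∣ Nat.card K) (x : G) (hx : orderOf x = p) :
    ∃ θ : K → ℂ, IsIrrCharacter K θ ∧ Cfsg.Agent.Helper5.conjFun K x θ ≠ θ := by
  classical
  by_contra hcon
  push Not at hcon
  haveI : Fintype K := Fintype.ofFinite K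
  letI : Fintype (IrrCharacter K) := irrFintype
  obtain ⟨y, hy⟩ := exists_prime_orderOf_dvd_card' q hKq
  set f : K → ℂ := fun k => if IsConj k y then 1 else 0 with hf
  have hfc : IsClassFunction K f := by
    intro g h
    simp only [hf]
    have : IsConj (h * g * h⁻¹) y ↔ IsConj g y := by
      constructor
      · intro h1
        exact (isConj_iff.2 ⟨h, rfl⟩ : IsConj g (h * g * h⁻¹)).trans h1
      · intro h1
        exact (isConj_iff.2 ⟨h, rfl⟩ : IsConj g (h * g * h⁻¹)).symm.trans h1
    rw [if_congr this rfl rfl]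
  have hexp := classFunction_expansion hfc
  set y' : K := ⟨x * y * x⁻¹, hKn.conj_mem (y : G) y.2 x⟩ with hy'
  have h1 : f y' = f y := by
    rw [hexp]
    simp only [Finset.sum_apply, Pi.smul_apply, smul_eq_mul]
    refine Finset.sum_congr rfl fun θ _ => ?_
    have h2 := congrFun (hcon θ.1 θ.2) y
    rw [Cfsg.Agent.Helper5.conjFun_apply] at h2
    rw [← h2]
  have h3 : f y = 1 := by
    simp only [hf]
    rw [if_pos (IsConj.refl y)]
  have h4 : IsConj y' y := by
    by_contra hne
    have : f y' = 0 := by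
      simp only [hf]
      rw [if_neg hne]
    rw [h1, h3] at this
    exact one_ne_zero this
  obtain ⟨k, hk⟩ := isConj_iff.1 h4
  have hk' : (k : G) * (x * y * x⁻¹) * (k : G)⁻¹ = (y : G) := by
    have := congrArg (Subtype.val : K → G) hk
    simpa [hy'] using this
  set u : G := k * x with hu
  have hcomm : Commute u (y : G) := by
    show u * y = y * u
    rw [hu]
    have : (k : G) * x * y = y * (k * x) := by
      calc (k : G) * x * y = (k * (x * y * x⁻¹) * (k : G)⁻¹) * (k * x) := by group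
        _ = y * (k * x) := by rw [hk']
    exact this
  -- the order of `u` is divisible by `p`
  have hxK : x ∉ K := not_mem_of_orderOf_eq K hKp hx
  have hπx : orderOf (QuotientGroup.mk' K x) = p := by
    apply orderOf_eq_prime
    · rw [← map_pow, ← hx, pow_orderOf_eq_one, map_one]
    · intro h
      exact hxK ((QuotientGroup.eq_one_iff x).1 h)
  have hπu : QuotientGroup.mk' K u = QuotientGroup.mk' K x := by
    rw [hu, map_mul]
    have : QuotientGroup.mk' K (k : G) = 1 := (QuotientGroup.eq_one_iff (k : G)).2 k.2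
    rw [this, one_mul]
  have hdvd : p ∣ orderOf u := by
    rw [← hπx, ← hπu]
    exact orderOf_map_dvd _ u
  have hu0 : orderOf u ≠ 0 := (orderOf_pos u).ne'
  have h5 : orderOf (u ^ (orderOf u / p)) = p := orderOf_pow_orderOf_div hu0 hdvd
  have hy0 : orderOf (y : G) = q := by rw [Subgroup.orderOf_coe]; exact hy
  exact hpq _ _ h5 hy0 (hcomm.pow_left _)

/-- All elements of order `p` lie in `K⟨x⟩` for a suitable element `x` of order `p`, where
`K = O_{p'}(G)` has order divisible by `q`. -/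
theorem exists_forall_orderOf {p q : ℕ} [hp : Fact p.Prime] [hq : Fact q.Prime] (hne : p ≠ q)
    (hpq : NoPQ G p q) (hpG : p ∣ Nat.card G) (hsolv : IsPSolvable p G)
    [hKn : (pPrimeCore p G).Normal] (hKq : q ∣ Nat.card (pPrimeCore p G)) :
    ∃ x : G, orderOf x = p ∧ ∀ u : G, orderOf u = p →
      ∃ k ∈ pPrimeCore p G, ∃ u' ∈ Subgroup.zpowers x, u = k * u' := by
  classical
  set K := pPrimeCore p G with hK
  have hKp : (Nat.card K).Coprime p := Cfsg.Agent.Helper22.card_pPrimeCore_coprime (G := G) p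
  set π := QuotientGroup.mk' K with hπ
  have hπs : Function.Surjective π := QuotientGroup.mk'_surjective K
  haveI hVn : (pCore p (G ⧸ K)).Normal := Cfsg.Agent.Helper10.pCore_normal p
  have hVp : IsPGroup p (pCore p (G ⧸ K)) := Cfsg.Agent.Helper10.pCore_isPGroup p
  have hVne : pCore p (G ⧸ K) ≠ ⊥ := pCore_quotient_ne_bot hpG hsolv
  obtain ⟨v, hvV, hvo⟩ := exists_orderOf_eq_of_isPGroup _ hVp hVne
  obtain ⟨x₁, hx₁⟩ := hπs v
  have hdvd : p ∣ orderOf x₁ := by
    rw [← hvo, ← hx₁]
    exact orderOf_map_dvd _ x₁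
  have hx₁0 : orderOf x₁ ≠ 0 := (orderOf_pos x₁).ne'
  set x : G := x₁ ^ (orderOf x₁ / p) with hx
  have hxo : orderOf x = p := orderOf_pow_orderOf_div hx₁0 hdvd
  have hxV : π x ∈ pCore p (G ⧸ K) := by
    rw [hx, map_pow, hx₁]
    exact Subgroup.pow_mem _ hvV _
  refine ⟨x, hxo, ?_⟩
  -- a Sylow subgroup containing `x`
  have hzx : IsPGroup p (Subgroup.zpowers x) := by
    apply IsPGroup.of_card (n := 1)
    rw [Nat.card_zpowers, hxo, pow_one]
  obtain ⟨P, hxP⟩ := hzx.exists_le_sylow
  have hxP' : x ∈ (P : Subgroup G) := hxP (Subgroup.mem_zpowers x)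
  have hVle : pCore p (G ⧸ K) ≤ (P : Subgroup G).map π := by
    have := Cfsg.Agent.Helper23.PSolv.normal_pGroup_le_sylow (pCore p (G ⧸ K)) hVp
      (P.mapSurjective hπs)
    rw [Sylow.coe_mapSurjective] at this
    exact this
  have hKP : K ⊓ (P : Subgroup G) = ⊥ := by
    apply (Subgroup.disjoint_of_coprime_natCard ?_).eq_bot
    obtain ⟨n, hn⟩ := P.isPGroup'.exists_card_eq
    rw [hn]
    exact Nat.Coprime.pow_right n hKp
  have hzxV : Subgroup.zpowers x ≤ (pCore p (G ⧸ K)).comap π := by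
    rw [Subgroup.zpowers_le]
    exact hxV
  intro u huo
  -- conjugate `u` into `P`
  have hzu : IsPGroup p (Subgroup.zpowers u) := by
    apply IsPGroup.of_card (n := 1)
    rw [Nat.card_zpowers, huo, pow_one]
  obtain ⟨P', huP'⟩ := hzu.exists_le_sylow
  obtain ⟨g, hg⟩ := MulAction.exists_smul_eq G P' P
  have hu₁P : g * u * g⁻¹ ∈ (P : Subgroup G) := by
    rw [← hg, Sylow.coe_subgroup_smul]
    have := Subgroup.smul_mem_pointwise_smul u (MulAut.conj g) (P' : Subgroup G)
      (huP' (Subgroup.mem_zpowers u))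
    rw [MulAut.smul_def, MulAut.conj_apply] at this
    exact this
  have hu₁o : orderOf (g * u * g⁻¹) = p := by
    have := MulEquiv.orderOf_eq (MulAut.conj g) u
    rw [MulAut.conj_apply] at this
    rw [this, huo]
  have hu₁x : g * u * g⁻¹ ∈ Subgroup.zpowers x :=
    mem_zpowers_of_orderOf_eq hne hpq K hKp hKq (P : Subgroup G) P.isPGroup' hxP' hu₁P hxo hu₁o
  have hcomapn : ((pCore p (G ⧸ K)).comap π).Normal := Subgroup.Normal.comap hVn π
  have huV : u ∈ (pCore p (G ⧸ K)).comap π := by
    have h1 := hzxV hu₁x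
    have h2 := hcomapn.conj_mem _ h1 g⁻¹
    have h3 : g⁻¹ * (g * u * g⁻¹) * g⁻¹⁻¹ = u := by group
    rw [h3] at h2
    exact h2
  have huV' : π u ∈ (P : Subgroup G).map π := hVle huV
  obtain ⟨u', hu'P, hu'⟩ := huV'
  have huK : u ∉ K := not_mem_of_orderOf_eq K hKp huo
  have hu'1 : u' ≠ 1 := by
    intro h
    rw [h, map_one] at hu'
    exact huK ((QuotientGroup.eq_one_iff u).1 hu'.symm)
  have hu'p : u' ^ p = 1 := by
    have h1 : u' ^ p ∈ K := by
      apply (QuotientGroup.eq_one_iff (u' ^ p)).1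
      have : π (u' ^ p) = 1 := by
        rw [map_pow, hu', ← map_pow, ← huo, pow_orderOf_eq_one, map_one]
      exact this
    have h2 : u' ^ p ∈ K ⊓ (P : Subgroup G) := ⟨h1, Subgroup.pow_mem _ hu'P _⟩
    rw [hKP, Subgroup.mem_bot] at h2
    exact h2
  have hu'o : orderOf u' = p := orderOf_eq_prime hu'p hu'1
  have hu'x : u' ∈ Subgroup.zpowers x :=
    mem_zpowers_of_orderOf_eq hne hpq K hKp hKq (P : Subgroup G) P.isPGroup' hxP' hu'P hxo hu'o
  refine ⟨u * u'⁻¹, ?_, u', hu'x, by group⟩
  apply (QuotientGroup.eq_one_iff (u * u'⁻¹)).1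
  have : π (u * u'⁻¹) = 1 := by
    rw [map_mul, map_inv, hu', mul_inv_cancel]
  exact this

/-- **Case C**: if `q` divides the order of `O_{p'}(G)`, there is a character of `p`-defect
zero. -/
theorem exists_defect_zero_of_dvd_card_pPrimeCore {p q : ℕ} [hp : Fact p.Prime]
    [hq : Fact q.Prime] (hne : p ≠ q) (hpq : NoPQ G p q) (hpG : p ∣ Nat.card G)
    (hsolv : IsPSolvable p G) (hKq : q ∣ Nat.card (pPrimeCore p G)) :
    ∃ χ : IrrCharacter G,
      (charDegree (χ : G → ℂ)).factorization p = (Nat.card G).factorization p := by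
  classical
  haveI hKn : (pPrimeCore p G).Normal := Cfsg.Agent.Helper22.pPrimeCore_normal (G := G) p
  set K := pPrimeCore p G with hK
  have hKp : (Nat.card K).Coprime p := Cfsg.Agent.Helper22.card_pPrimeCore_coprime (G := G) p
  obtain ⟨x, hxo, hE⟩ := exists_forall_orderOf hne hpq hpG hsolv hKq
  obtain ⟨θ, hθ, hmove⟩ := exists_irr_not_fixed hpq K hKp hKq x hxo
  apply defect_zero_of_inertia K hθ p
  intro hdvd
  obtain ⟨u, hu⟩ := exists_prime_orderOf_dvd_card' p hdvd
  have huo : orderOf (u : G) = p := by rw [Subgroup.orderOf_coe]; exact hu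
  obtain ⟨k, hk, u', hu', hueq⟩ := hE (u : G) huo
  have hKle : K ≤ inertia K θ := le_inertia K (isClassFunction_of_isIrrCharacter hθ)
  have hu'in : u' ∈ inertia K θ := by
    have h1 : u' = k⁻¹ * (u : G) := by rw [hueq]; group
    rw [h1]
    exact Subgroup.mul_mem _ (Subgroup.inv_mem _ (hKle hk)) u.2
  have hu'1 : u' ≠ 1 := by
    intro h
    rw [h, mul_one] at hueq
    have : (u : G) ∉ K := not_mem_of_orderOf_eq K hKp huo
    rw [hueq] at this
    exact this hk
  have hzle : Subgroup.zpowers u' ≤ Subgroup.zpowers x := (Subgroup.zpowers_le).2 hu'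
  have hu'o : orderOf u' = p := by
    have h1 : orderOf u' ∣ p := by
      rw [← hxo]
      exact orderOf_dvd_of_mem_zpowers hu'
    rcases (Nat.dvd_prime hp.out).1 h1 with h2 | h2
    · exact absurd (orderOf_eq_one_iff.1 h2) hu'1
    · exact h2
  have hzeq : Subgroup.zpowers u' = Subgroup.zpowers x := by
    apply Subgroup.eq_of_le_of_card_ge hzle
    rw [Nat.card_zpowers, Nat.card_zpowers, hxo, hu'o]
  have hxin : x ∈ inertia K θ := by
    have h1 : x ∈ Subgroup.zpowers u' := by rw [hzeq]; exact Subgroup.mem_zpowers x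
    exact ((Subgroup.zpowers_le).2 hu'in) h1
  exact hmove ((mem_inertia K θ x).1 hxin)

/-- **Core theorem**: a `p`-solvable group of order divisible by `p` and `q` with no commuting
elements of orders `p` and `q` has a character of `p`-defect zero or of `q`-defect zero. -/
theorem exists_defect_zero {p q : ℕ} [hp : Fact p.Prime] [hq : Fact q.Prime] (hne : p ≠ q)
    (hpq : NoPQ G p q) (hpG : p ∣ Nat.card G) (hsolv : IsPSolvable p G) :
    (∃ χ : IrrCharacter G,
      (charDegree (χ : G → ℂ)).factorization p = (Nat.card G).factorization p) ∨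
    (∃ χ : IrrCharacter G,
      (charDegree (χ : G → ℂ)).factorization q = (Nat.card G).factorization q) := by
  classical
  by_cases hKq : q ∣ Nat.card (pPrimeCore p G)
  · exact Or.inl (exists_defect_zero_of_dvd_card_pPrimeCore hne hpq hpG hsolv hKq)
  · right
    haveI hKn : (pPrimeCore p G).Normal := Cfsg.Agent.Helper22.pPrimeCore_normal (G := G) p
    set K := pPrimeCore p G with hK
    haveI hVn : (pCore p (G ⧸ K)).Normal := Cfsg.Agent.Helper10.pCore_normal p
    have hVp : IsPGroup p (pCore p (G ⧸ K)) := Cfsg.Agent.Helper10.pCore_isPGroup p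
    have hVne : pCore p (G ⧸ K) ≠ ⊥ := pCore_quotient_ne_bot hpG hsolv
    obtain ⟨χb, hχb⟩ := exists_defect_zero_of_normal_pGroup (hpq.quotient hne K)
      (pCore p (G ⧸ K)) hVp hVne
    have hirr : IsIrrCharacter G ((χb : G ⧸ K → ℂ) ∘ (QuotientGroup.mk : G → G ⧸ K)) :=
      isIrrCharacter_inflate K χb.2
    refine ⟨⟨_, hirr⟩, ?_⟩
    have hdeg : charDegree ((χb : G ⧸ K → ℂ) ∘ (QuotientGroup.mk : G → G ⧸ K)) =
        charDegree (χb : G ⧸ K → ℂ) := by
      unfold charDegree
      rfl
    show (charDegree ((χb : G ⧸ K → ℂ) ∘ (QuotientGroup.mk : G → G ⧸ K))).factorization q = _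
    rw [hdeg, hχb]
    have hcard : Nat.card G = Nat.card (G ⧸ K) * Nat.card K :=
      Subgroup.card_eq_card_quotient_mul_card_subgroup K
    rw [hcard, Nat.factorization_mul Nat.card_pos.ne' Nat.card_pos.ne', Finsupp.add_apply,
      Nat.factorization_eq_zero_of_not_dvd hKq, add_zero]

end Cfsg.Agent.Helper18.DefZero
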