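import Mathlib
import Cfsg.Prelude.Def_Blocks
import Cfsg.Agent.Lib.Helper18.CliffordCorr2
import Cfsg.Agent.Lib.Helper18.BlockCover
import Cfsg.Agent.Lib.Helper18.BlockInduce
import Cfsg.Agent.Lib.Helper18.GenChar
import Cfsg.Agent.Lib.Helper23.BlockFR2

/-!
# The Fong–Reynolds correspondence (helper18's library)

Let `b` be a block of the normal subgroup `N` of `G` and `T` a subgroup containing `N` whose
elements stabilize `b` and which contains every element of `G` carrying a member of `b` into `b`.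
Induction of characters is a bijection from the blocks of `T` covering `b` onto the blocks of `G`
covering `b`.
-/

set_option autoImplicit false
set_option linter.style.haveILetI false
set_option linter.unusedSectionVars false

namespace Cfsg.Agent.Helper18.FR

open Cfsg Cfsg.Agent.Helper24 Cfsg.Agent.Helper5 Cfsg.Agent.Helper23.Blk Cfsg.Agent.Helper18

universe u

open scoped ComplexConjugate

section Dict

variable {G : Type u} [Group G] [Fintype G] (N T : Subgroup G) [hN : N.Normal] [Fintype N]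
  [Fintype T] (hNT : N ≤ T) {M : Ideal AlgInt}

/-- conjugation in `T` and in `G` agree under the dictionary -/
theorem conjIrr_irrComp (t : T) (θ : IrrCharacter N) :
    Cfsg.Agent.Helper18.conjIrr (N.subgroupOf T) t
        (irrComp (Subgroup.subgroupOfEquivOfLe hNT) θ) =
      irrComp (Subgroup.subgroupOfEquivOfLe hNT) (Cfsg.Agent.Helper18.conjIrr N (t : G) θ) := by
  apply Subtype.ext
  funext x
  rfl

theorem irrComp_coe (θ : IrrCharacter N) :
    ((irrComp (Subgroup.subgroupOfEquivOfLe hNT) θ : IrrCharacter (N.subgroupOf T)) :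
      N.subgroupOf T → ℂ) = thetaSub N T hNT (θ : N → ℂ) := rfl

/-- the characters of `T` over a set of characters of `N`, in the two languages -/
theorem mem_overSet_image_iff [Fintype (N.subgroupOf T)] (b : Set (IrrCharacter N))
    (ψ : IrrCharacter T) :
    ψ ∈ overSet (N.subgroupOf T) (irrComp (Subgroup.subgroupOfEquivOfLe hNT) '' b) ↔
      ∃ θ ∈ b, classInner (resFun hNT (ψ : T → ℂ)) (θ : N → ℂ) ≠ 0 := by
  constructor
  · rintro ⟨_, ⟨θ, hθ, rfl⟩, hcon⟩
    refine ⟨θ, hθ, ?_⟩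
    rw [irrComp_coe, classInner_thetaSub] at hcon
    exact hcon
  · rintro ⟨θ, hθ, hcon⟩
    refine ⟨irrComp (Subgroup.subgroupOfEquivOfLe hNT) θ, ⟨θ, hθ, rfl⟩, ?_⟩
    rw [irrComp_coe, classInner_thetaSub]
    exact hcon

/-- an element carrying one member of a block into the block carries the whole block into it -/
theorem conjIrr_mem_of_one [hMp : M.IsPrime] {b : Set (IrrCharacter N)} (hb : IsPBlock M b) (g : G)
    {θ : IrrCharacter N} (hθ : θ ∈ b) (hgθ : Cfsg.Agent.Helper18.conjIrr N g θ ∈ b)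
    {θ' : IrrCharacter N} (hθ' : θ' ∈ b) : Cfsg.Agent.Helper18.conjIrr N g θ' ∈ b := by
  obtain ⟨θ₀, rfl⟩ := hb
  have h1 : SameBlock M (θ : N → ℂ) (θ' : N → ℂ) := sameBlock_trans (sameBlock_symm hθ) hθ'
  have h2 : SameBlock M ((Cfsg.Agent.Helper18.conjIrr N g θ : IrrCharacter N) : N → ℂ)
      ((Cfsg.Agent.Helper18.conjIrr N g θ' : IrrCharacter N) : N → ℂ) :=
    sameBlock_conjFun N g h1
  exact sameBlock_trans hgθ h2

end Dict

section Cover

variable {G : Type u} [Group G] [Fintype G] (N T : Subgroup G) [hN : N.Normal] [Fintype N]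
  [Fintype T] (hNT : N ≤ T) {M : Ideal AlgInt} {p : ℕ}

/-- the set of characters of `T` over a `T`-stable block of `N` is a union of blocks of `T` -/
theorem over_of_sameBlock_rel (hMp : M.IsPrime) {b : Set (IrrCharacter N)} (hb : IsPBlock M b)
    (hstab : ∀ t ∈ T, ∀ θ ∈ b, Cfsg.Agent.Helper18.conjIrr N t θ ∈ b)
    {ψ₀ ψ : IrrCharacter T} (hsame : SameBlock M (ψ₀ : T → ℂ) (ψ : T → ℂ))
    {θ₀ : IrrCharacter N} (hθ₀ : θ₀ ∈ b)
    (hcon : classInner (resFun hNT (ψ₀ : T → ℂ)) (θ₀ : N → ℂ) ≠ 0) :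
    ∃ θ ∈ b, classInner (resFun hNT (ψ : T → ℂ)) (θ : N → ℂ) ≠ 0 := by
  classical
  haveI := hMp
  haveI : Fintype (N.subgroupOf T) := Fintype.ofFinite _
  rw [← mem_overSet_image_iff N T hNT b ψ]
  have hψ₀ : ψ₀ ∈ overSet (N.subgroupOf T) (irrComp (Subgroup.subgroupOfEquivOfLe hNT) '' b) :=
    (mem_overSet_image_iff N T hNT b ψ₀).2 ⟨θ₀, hθ₀, hcon⟩
  have hU : ∀ t : T, ∀ θ ∈ irrComp (Subgroup.subgroupOfEquivOfLe hNT) '' b,
      Cfsg.Agent.Helper18.conjIrr (N.subgroupOf T) t θ ∈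
        irrComp (Subgroup.subgroupOfEquivOfLe hNT) '' b := by
    rintro t _ ⟨θ, hθ, rfl⟩
    rw [conjIrr_irrComp]
    exact ⟨_, hstab t t.2 θ hθ, rfl⟩
  have hbT : IsPBlock M (irrComp (Subgroup.subgroupOfEquivOfLe hNT) '' b) :=
    isPBlock_image_irrComp _ hb
  have hR : ∀ t : T, MemLocalRing M (blockCoeff
      (overSet (N.subgroupOf T) (irrComp (Subgroup.subgroupOfEquivOfLe hNT) '' b)) t) := by
    intro t
    rw [blockCoeff_overSet (N.subgroupOf T) hU t]
    split_ifs with h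
    · exact memLocalRing_blockCoeff hMp hbT _
    · exact memLocalRing_zero ne_top
  exact blockOf_subset_of_memLocalRing hMp hR hψ₀ hsame

/-- the inertia group of a member of `b` lies in the stabilizer of `b` -/
theorem inertia_le (hMp : M.IsPrime) {b : Set (IrrCharacter N)} (hb : IsPBlock M b)
    (hfull : ∀ g : G, (∀ θ ∈ b, Cfsg.Agent.Helper18.conjIrr N g θ ∈ b) → g ∈ T)
    {θ : IrrCharacter N} (hθ : θ ∈ b) : inertia N (θ : N → ℂ) ≤ T := by
  haveI := hMp
  intro g hg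
  apply hfull
  intro θ' hθ'
  apply conjIrr_mem_of_one N hb g hθ _ hθ'
  have h1 : Cfsg.Agent.Helper18.conjIrr N g θ = θ := Subtype.ext ((mem_inertia N _ g).1 hg)
  rw [h1]
  exact hθ

/-- restriction to `N` of a class function of `T` is invariant under `T` -/
theorem classInner_resFun_conjFun {ψ : T → ℂ} (hψ : IsClassFunction T ψ) (t : T) (θ : N → ℂ) :
    classInner (resFun hNT ψ) (Cfsg.Agent.Helper5.conjFun N (t : G) θ) = classInner (resFun hNT ψ) θ := by
  classical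
  haveI : Fintype (N.subgroupOf T) := Fintype.ofFinite _
  rw [← classInner_thetaSub N T hNT ψ θ, ← classInner_thetaSub N T hNT ψ (Cfsg.Agent.Helper5.conjFun N (t : G) θ)]
  have h1 : thetaSub N T hNT (Cfsg.Agent.Helper5.conjFun N (t : G) θ) =
      Cfsg.Agent.Helper5.conjFun (N.subgroupOf T) t (thetaSub N T hNT θ) := by
    funext x
    rfl
  rw [h1]
  exact Cfsg.Agent.Helper5.classInner_restrict_conjFun (N.subgroupOf T) t hψ (thetaSub N T hNT θ)

end Cover

section Induce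

variable {G : Type u} [Group G] [Fintype G] (N T : Subgroup G) [hN : N.Normal] [Fintype N]
  [Fintype T] (hNT : N ≤ T) {M : Ideal AlgInt} {p : ℕ}

/-- a character of `T` over a member of `b` induces irreducibly, to a character over it -/
theorem isIrr_indFun (hMp : M.IsPrime) {b : Set (IrrCharacter N)} (hb : IsPBlock M b)
    (hfull : ∀ g : G, (∀ θ ∈ b, Cfsg.Agent.Helper18.conjIrr N g θ ∈ b) → g ∈ T)
    {ψ : IrrCharacter T} {θ : IrrCharacter N} (hθ : θ ∈ b)
    (hcon : classInner (resFun hNT (ψ : T → ℂ)) (θ : N → ℂ) ≠ 0) :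
    IsIrrCharacter G (indFun T (ψ : T → ℂ)) ∧
      classInner (fun n : N => indFun T (ψ : T → ℂ) n) (θ : N → ℂ) ≠ 0 := by
  obtain ⟨h1, h2⟩ := clifford_induce_irr N T hNT θ.2 (inertia_le N T hMp hb hfull hθ) ψ.2 hcon
  exact ⟨h1, by rw [h2]; exact hcon⟩

/-- induction is injective on the characters of `T` over `b` -/
theorem indFun_inj (hMp : M.IsPrime) {b : Set (IrrCharacter N)} (hb : IsPBlock M b)
    (hfull : ∀ g : G, (∀ θ ∈ b, Cfsg.Agent.Helper18.conjIrr N g θ ∈ b) → g ∈ T)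
    {ψ₁ ψ₂ : IrrCharacter T} {θ₁ θ₂ : IrrCharacter N} (hθ₁ : θ₁ ∈ b) (hθ₂ : θ₂ ∈ b)
    (hcon₁ : classInner (resFun hNT (ψ₁ : T → ℂ)) (θ₁ : N → ℂ) ≠ 0)
    (hcon₂ : classInner (resFun hNT (ψ₂ : T → ℂ)) (θ₂ : N → ℂ) ≠ 0)
    (h : indFun T (ψ₁ : T → ℂ) = indFun T (ψ₂ : T → ℂ)) : ψ₁ = ψ₂ := by
  haveI := hMp
  obtain ⟨hirr, hm₁⟩ := isIrr_indFun N T hNT hMp hb hfull hθ₁ hcon₁
  obtain ⟨-, hm₂⟩ := isIrr_indFun N T hNT hMp hb hfull hθ₂ hcon₂
  rw [← h] at hm₂
  obtain ⟨x, hx⟩ := clifford_conj N hirr θ₁.2 θ₂.2 hm₁ hm₂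
  have hxθ : Cfsg.Agent.Helper18.conjIrr N x θ₁ = θ₂ := Subtype.ext hx
  have hxT : x ∈ T := by
    apply hfull
    intro θ' hθ'
    apply conjIrr_mem_of_one N hb x hθ₁ _ hθ'
    rw [hxθ]
    exact hθ₂
  have hcon₂' : classInner (resFun hNT (ψ₂ : T → ℂ)) (θ₁ : N → ℂ) ≠ 0 := by
    rw [← classInner_resFun_conjFun N T hNT (isClassFunction_of_isIrrCharacter ψ₂.2) ⟨x, hxT⟩
      (θ₁ : N → ℂ)]
    show classInner (resFun hNT (ψ₂ : T → ℂ)) (Cfsg.Agent.Helper5.conjFun N x (θ₁ : N → ℂ)) ≠ 0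
    rw [hx]
    exact hcon₂
  exact Subtype.ext (clifford_induce_inj N T hNT θ₁.2 (inertia_le N T hMp hb hfull hθ₁)
    ψ₁.2 ψ₂.2 hcon₁ hcon₂' h)

/-- the induced character, as an irreducible character (a default value when it is not) -/
noncomputable def indIrr (ψ : IrrCharacter T) : IrrCharacter G := by
  classical
  exact if h : IsIrrCharacter G (indFun T (ψ : T → ℂ)) then ⟨indFun T (ψ : T → ℂ), h⟩
    else principalChar G

theorem indIrr_coe {ψ : IrrCharacter T} (h : IsIrrCharacter G (indFun T (ψ : T → ℂ))) :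
    ((indIrr T ψ : IrrCharacter G) : G → ℂ) = indFun T (ψ : T → ℂ) := by
  unfold indIrr
  rw [dif_pos h]

/-- the idempotent of an induced character is induced from the idempotent -/
theorem idemCoeff_indFun (ψ : T → ℂ) (g : G) :
    idemCoeff (indFun T ψ) g = indFun T (idemCoeff ψ) g := by
  classical
  have hG0 : (Nat.card G : ℂ) ≠ 0 := by
    have : Nat.card G ≠ 0 := Nat.card_pos.ne'
    exact_mod_cast this
  have hT0 : (Nat.card T : ℂ) ≠ 0 := by
    have : Nat.card T ≠ 0 := Nat.card_pos.ne'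
    exact_mod_cast this
  have hTG : (Nat.card T : ℂ) * (T.index : ℂ) = (Nat.card G : ℂ) := by
    have := Subgroup.card_mul_index T
    exact_mod_cast this
  have hext : ∀ y : G, extendByZero T (idemCoeff ψ) y =
      (Nat.card T : ℂ)⁻¹ * (ψ 1 * conj (extendByZero T ψ y)) := by
    intro y
    by_cases hy : y ∈ T
    · rw [extendByZero_of_mem T _ hy, extendByZero_of_mem T _ hy]
      rfl
    · rw [extendByZero_of_not_mem T _ hy, extendByZero_of_not_mem T _ hy, map_zero, mul_zero,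
        mul_zero]
  have hR : indFun T (idemCoeff ψ) g = (Nat.card T : ℂ)⁻¹ *
      ∑ x : G, (Nat.card T : ℂ)⁻¹ * (ψ 1 * conj (extendByZero T ψ (x⁻¹ * g * x))) := by
    rw [indFun_apply]
    congr 1
    apply Finset.sum_congr rfl
    intro x _
    exact hext _
  rw [hR]
  show (Nat.card G : ℂ)⁻¹ * (indFun T ψ 1 * conj (indFun T ψ g)) = _
  rw [indFun_one, indFun_apply]
  rw [← Finset.mul_sum, ← Finset.mul_sum, map_mul, map_sum, map_inv₀, Complex.conj_natCast]
  have hTi0 : (T.index : ℂ) ≠ 0 := by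
    intro h0
    rw [h0, mul_zero] at hTG
    exact hG0 hTG.symm
  rw [← hTG]
  field_simp

/-- induction preserves local integrality of class functions -/
theorem memLocalRing_indFun [hMp : M.IsPrime] {a : T → ℂ} (ha : IsClassFunction T a)
    (hR : ∀ t : T, MemLocalRing M (a t)) (g : G) : MemLocalRing M (indFun T a g) := by
  classical
  haveI : Fintype (G ⧸ T) := Fintype.ofFinite _
  have hT0 : (Nat.card T : ℂ) ≠ 0 := by
    have : Nat.card T ≠ 0 := Nat.card_pos.ne'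
    exact_mod_cast this
  have hF : ∀ x : G, ∀ h ∈ T, extendByZero T a ((x * h)⁻¹ * g * (x * h)) =
      extendByZero T a (x⁻¹ * g * x) := by
    intro x h hh
    have e : (x * h)⁻¹ * g * (x * h) = h⁻¹ * (x⁻¹ * g * x) * h := by group
    rw [e]
    by_cases hy : x⁻¹ * g * x ∈ T
    · have hy' : h⁻¹ * (x⁻¹ * g * x) * h ∈ T := T.mul_mem (T.mul_mem (T.inv_mem hh) hy) hh
      rw [extendByZero_of_mem T _ hy, extendByZero_of_mem T _ hy']
      have h1 := ha ⟨x⁻¹ * g * x, hy⟩ ⟨h, hh⟩⁻¹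
      rw [← h1]
      congr 1
      apply Subtype.ext
      simp
    · have hy' : h⁻¹ * (x⁻¹ * g * x) * h ∉ T := by
        intro hcon
        apply hy
        have := T.mul_mem (T.mul_mem hh hcon) (T.inv_mem hh)
        have e2 : h * (h⁻¹ * (x⁻¹ * g * x) * h) * h⁻¹ = x⁻¹ * g * x := by group
        rwa [e2] at this
      rw [extendByZero_of_not_mem T _ hy, extendByZero_of_not_mem T _ hy']
  rw [indFun_apply, sum_eq_card_mul_sum_quotient T
    (fun x => extendByZero T a (x⁻¹ * g * x)) hF, ← mul_assoc, inv_mul_cancel₀ hT0, one_mul]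
  apply memLocalRing_sum
  intro q _
  by_cases hy : (q.out)⁻¹ * g * q.out ∈ T
  · rw [extendByZero_of_mem T _ hy]
    exact hR _
  · rw [extendByZero_of_not_mem T _ hy]
    exact memLocalRing_zero ne_top

end Induce

section Main

variable {G : Type u} [Group G] [Fintype G] (N T : Subgroup G) [hN : N.Normal] [Fintype N]
  [Fintype T] (hNT : N ≤ T) {M : Ideal AlgInt} {p : ℕ}

/-- the set of irreducible characters of `G` induced from members of `B'` -/
def indSet (B' : Set (IrrCharacter T)) : Set (IrrCharacter G) :=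
  {χ | ∃ ψ ∈ B', (χ : G → ℂ) = indFun T (ψ : T → ℂ)}

/-- every member of a block of `T` covering `b` lies over a member of `b` -/
theorem over_of_mem (hMp : M.IsPrime) {b : Set (IrrCharacter N)} (hb : IsPBlock M b)
    (hstab : ∀ t ∈ T, ∀ θ ∈ b, Cfsg.Agent.Helper18.conjIrr N t θ ∈ b)
    {B' : Set (IrrCharacter T)} (hB' : IsPBlock M B')
    (hcov : ∃ ψ ∈ B', ∃ θ ∈ b, classInner (resFun hNT (ψ : T → ℂ)) (θ : N → ℂ) ≠ 0)
    {ψ : IrrCharacter T} (hψ : ψ ∈ B') :
    ∃ θ ∈ b, classInner (resFun hNT (ψ : T → ℂ)) (θ : N → ℂ) ≠ 0 := by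
  haveI := hMp
  obtain ⟨ψ₀, hψ₀, θ₀, hθ₀, hcon⟩ := hcov
  obtain ⟨ψ₁, rfl⟩ := hB'
  exact over_of_sameBlock_rel N T hNT hMp hb hstab
    (sameBlock_trans (sameBlock_symm hψ₀) hψ) hθ₀ hcon

/-- the idempotent of the induced characters is induced from the idempotent of `B'` -/
theorem blockCoeff_indSet (hMp : M.IsPrime) {b : Set (IrrCharacter N)} (hb : IsPBlock M b)
    (hstab : ∀ t ∈ T, ∀ θ ∈ b, Cfsg.Agent.Helper18.conjIrr N t θ ∈ b)
    (hfull : ∀ g : G, (∀ θ ∈ b, Cfsg.Agent.Helper18.conjIrr N g θ ∈ b) → g ∈ T)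
    {B' : Set (IrrCharacter T)} (hB' : IsPBlock M B')
    (hcov : ∃ ψ ∈ B', ∃ θ ∈ b, classInner (resFun hNT (ψ : T → ℂ)) (θ : N → ℂ) ≠ 0) (g : G) :
    blockCoeff (indSet T B') g = indFun T (blockCoeff B') g := by
  classical
  letI : Fintype (IrrCharacter G) := irrFintype
  letI : Fintype (IrrCharacter T) := irrFintype
  have hover := fun ψ (hψ : ψ ∈ B') => over_of_mem N T hNT hMp hb hstab hB' hcov hψ
  have hirr : ∀ ψ ∈ B', IsIrrCharacter G (indFun T (ψ : T → ℂ)) := by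
    intro ψ hψ
    obtain ⟨θ, hθ, hcon⟩ := hover ψ hψ
    exact (isIrr_indFun N T hNT hMp hb hfull hθ hcon).1
  have hset : indSet T B' = indIrr T '' B' := by
    ext χ
    constructor
    · rintro ⟨ψ, hψ, hχ⟩
      exact ⟨ψ, hψ, Subtype.ext ((indIrr_coe T (hirr ψ hψ)).trans hχ.symm)⟩
    · rintro ⟨ψ, hψ, rfl⟩
      exact ⟨ψ, hψ, indIrr_coe T (hirr ψ hψ)⟩
  have hinj : Set.InjOn (indIrr T (G := G)) B' := by
    intro ψ₁ hψ₁ ψ₂ hψ₂ h12
    obtain ⟨θ₁, hθ₁, hcon₁⟩ := hover ψ₁ hψ₁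
    obtain ⟨θ₂, hθ₂, hcon₂⟩ := hover ψ₂ hψ₂
    apply indFun_inj N T hNT hMp hb hfull hθ₁ hθ₂ hcon₁ hcon₂
    rw [← indIrr_coe T (hirr ψ₁ hψ₁), ← indIrr_coe T (hirr ψ₂ hψ₂), h12]
  rw [hset, blockCoeff_eq_synth]
  unfold synth
  have h1 : ∑ χ : IrrCharacter G, (if χ ∈ indIrr T '' B' then (1 : ℂ) else 0) *
      idemCoeff (χ : G → ℂ) g =
      ∑ χ ∈ (Finset.univ.filter (fun ψ : IrrCharacter T => ψ ∈ B')).image (indIrr T (G := G)),
        idemCoeff (χ : G → ℂ) g := by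
    have hite : ∀ χ : IrrCharacter G, (if χ ∈ indIrr T '' B' then (1 : ℂ) else 0) *
        idemCoeff (χ : G → ℂ) g =
        if χ ∈ indIrr T '' B' then idemCoeff (χ : G → ℂ) g else 0 := by
      intro χ
      split_ifs
      · rw [one_mul]
      · rw [zero_mul]
    rw [Finset.sum_congr rfl (fun χ _ => hite χ), ← Finset.sum_filter]
    have hfe : Finset.univ.filter (fun χ : IrrCharacter G => χ ∈ indIrr T '' B') =
        (Finset.univ.filter (fun ψ : IrrCharacter T => ψ ∈ B')).image (indIrr T (G := G)) := by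
      ext χ
      simp only [Finset.mem_filter, Finset.mem_univ, true_and, Finset.mem_image, Set.mem_image]
    rw [hfe]
  rw [h1, Finset.sum_image (fun ψ₁ h₁ ψ₂ h₂ h12 =>
    hinj (Finset.mem_filter.1 h₁).2 (Finset.mem_filter.1 h₂).2 h12)]
  have h2 : blockCoeff B' = ∑ ψ ∈ Finset.univ.filter (fun ψ : IrrCharacter T => ψ ∈ B'),
      idemCoeff (ψ : T → ℂ) := by
    funext t
    rw [blockCoeff_eq_synth, Finset.sum_apply]
    unfold synth
    rw [Finset.sum_filter]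
    apply Finset.sum_congr rfl
    intro ψ _
    by_cases hψ : ψ ∈ B'
    · simp [hψ]
    · simp [hψ]
  rw [h2, indFun_sum', Finset.sum_apply]
  apply Finset.sum_congr rfl
  intro ψ hψ
  rw [indIrr_coe T (hirr ψ (Finset.mem_filter.1 hψ).2), idemCoeff_indFun]

/-- **Fong–Reynolds**: the characters induced from a block `B'` of `T` covering `b` form a block
of `G`, induced from `B'`. -/
theorem indSet_eq_blockOf (hM : IsPModular p M) {b : Set (IrrCharacter N)} (hb : IsPBlock M b)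
    (hstab : ∀ t ∈ T, ∀ θ ∈ b, Cfsg.Agent.Helper18.conjIrr N t θ ∈ b)
    (hfull : ∀ g : G, (∀ θ ∈ b, Cfsg.Agent.Helper18.conjIrr N g θ ∈ b) → g ∈ T)
    {B' : Set (IrrCharacter T)} (hB' : IsPBlock M B')
    (hcov : ∃ ψ ∈ B', ∃ θ ∈ b, classInner (resFun hNT (ψ : T → ℂ)) (θ : N → ℂ) ≠ 0)
    {ψ₀ : IrrCharacter T} (hψ₀ : ψ₀ ∈ B') :
    indSet T B' = blockOf M ((indIrr T ψ₀ : IrrCharacter G) : G → ℂ) ∧
      IsInducedBlock M T B' (blockOf M ((indIrr T ψ₀ : IrrCharacter G) : G → ℂ)) ∧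
      ∀ ψ ∈ B', IsIrrCharacter G (indFun T (ψ : T → ℂ)) := by
  classical
  letI : Fintype (IrrCharacter G) := irrFintype
  letI : Fintype (IrrCharacter T) := irrFintype
  haveI hMp : M.IsPrime := hM.2.1.isPrime
  have hover := fun ψ (hψ : ψ ∈ B') => over_of_mem N T hNT hMp hb hstab hB' hcov hψ
  have hirr : ∀ ψ ∈ B', IsIrrCharacter G (indFun T (ψ : T → ℂ)) := by
    intro ψ hψ
    obtain ⟨θ, hθ, hcon⟩ := hover ψ hψ
    exact (isIrr_indFun N T hNT hMp hb hfull hθ hcon).1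
  have hsameT : ∀ ψ ∈ B', SameBlock M (ψ₀ : T → ℂ) (ψ : T → ℂ) := by
    intro ψ hψ
    obtain ⟨ψ₁, rfl⟩ := hB'
    exact sameBlock_trans (sameBlock_symm hψ₀) hψ
  have hcc : ∀ ψ ∈ B', ∀ g : G, MemLocalIdeal M
      (centralChar ((indIrr T ψ₀ : IrrCharacter G) : G → ℂ) g -
        inducedCentralChar T (ψ : T → ℂ) g) := by
    intro ψ hψ g
    rw [indIrr_coe T (hirr ψ₀ hψ₀), centralChar_indFun]
    exact memLocalIdeal_inducedCentralChar_sub T (hsameT ψ hψ) g
  have hsub : indSet T B' ⊆ blockOf M ((indIrr T ψ₀ : IrrCharacter G) : G → ℂ) := by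
    rintro χ ⟨ψ, hψ, hχ⟩ g
    rw [hχ, centralChar_indFun]
    exact hcc ψ hψ g
  have hmem₀ : indIrr T ψ₀ ∈ indSet T B' := ⟨ψ₀, hψ₀, indIrr_coe T (hirr ψ₀ hψ₀)⟩
  have hR : ∀ g : G, MemLocalRing M (blockCoeff (indSet T B') g) := by
    intro g
    rw [blockCoeff_indSet N T hNT hMp hb hstab hfull hB' hcov g]
    exact memLocalRing_indFun T (isClassFunction_blockCoeff B')
      (fun t => memLocalRing_blockCoeff hMp hB' t) g
  have hsup := blockOf_subset_of_memLocalRing hMp hR hmem₀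
  refine ⟨Set.Subset.antisymm hsub hsup, ⟨hB', ⟨_, rfl⟩, ?_⟩, hirr⟩
  intro ξ hξ χ hχ g
  have h1 := hcc ξ hξ g
  have h2 : MemLocalIdeal M (centralChar ((indIrr T ψ₀ : IrrCharacter G) : G → ℂ) g -
      centralChar (χ : G → ℂ) g) := hχ g
  have h3 := memLocalIdeal_sub h2 h1
  have e : centralChar ((indIrr T ψ₀ : IrrCharacter G) : G → ℂ) g - centralChar (χ : G → ℂ) g -
      (centralChar ((indIrr T ψ₀ : IrrCharacter G) : G → ℂ) g -
        inducedCentralChar T (ξ : T → ℂ) g) =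
      inducedCentralChar T (ξ : T → ℂ) g - centralChar (χ : G → ℂ) g := by ring
  rwa [e] at h3

/-- the block induced by a block is unique -/
theorem isInducedBlock_unique (hM : IsPModular p M) {B' : Set (IrrCharacter T)}
    {B₁ B₂ : Set (IrrCharacter G)} (h₁ : IsInducedBlock M T B' B₁)
    (h₂ : IsInducedBlock M T B' B₂) : B₁ = B₂ := by
  haveI hMp : M.IsPrime := hM.2.1.isPrime
  obtain ⟨ξ, hξ⟩ := block_nonempty hM h₁.1
  obtain ⟨χ₁, hχ₁⟩ := block_nonempty hM h₁.2.1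
  obtain ⟨χ₂, hχ₂⟩ := block_nonempty hM h₂.2.1
  have hsame : SameBlock M (χ₁ : G → ℂ) (χ₂ : G → ℂ) := by
    intro g
    have a1 := h₁.2.2 ξ hξ χ₁ hχ₁ g
    have a2 := h₂.2.2 ξ hξ χ₂ hχ₂ g
    have a3 := memLocalIdeal_sub a2 a1
    have e : inducedCentralChar T (ξ : T → ℂ) g - centralChar (χ₂ : G → ℂ) g -
        (inducedCentralChar T (ξ : T → ℂ) g - centralChar (χ₁ : G → ℂ) g) =
        centralChar (χ₁ : G → ℂ) g - centralChar (χ₂ : G → ℂ) g := by ring
    rwa [e] at a3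
  obtain ⟨χ₀, hB₁⟩ := h₁.2.1
  have hχ₂' : χ₂ ∈ B₁ := by
    rw [hB₁] at hχ₁ ⊢
    exact sameBlock_trans hχ₁ hsame
  exact isPBlock_eq_of_mem ⟨χ₀, hB₁⟩ h₂.2.1 hχ₂' hχ₂

end Main

end Cfsg.Agent.Helper18.FR
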