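import Mathlib
import Cfsg.Prelude.Def_Blocks
import Cfsg.Agent.Lib.Helper18.BlockPC3
import Cfsg.Agent.Lib.Helper18.FongReynolds
import Cfsg.Agent.S0973
import Cfsg.Agent.S4437
import Cfsg.Agent.S0169
import Cfsg.Agent.S0187

/-!
# Reynolds' theorem on blocks with a normal defect group (helper18's library)
-/

set_option autoImplicit false
set_option linter.style.haveILetI false
set_option linter.unusedSectionVars false

namespace Cfsg.Agent.Helper18.Reynolds

open Cfsg Cfsg.Agent.Helper24 Cfsg.Agent.Helper5 Cfsg.Agent.Helper23.Blk Cfsg.Agent.Helper18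
  Cfsg.Agent.Helper18.Twist

universe u

section Stab

variable {G : Type u} [Group G] [Fintype G] (N : Subgroup G) [hN : N.Normal] [Fintype N]
  {M : Ideal AlgInt}

/-- the stabilizer of a block of a normal subgroup -/
def stabN (hMp : M.IsPrime) (b : Set (IrrCharacter N)) (hb : IsPBlock M b) : Subgroup G where
  carrier := {g | ∀ θ ∈ b, Cfsg.Agent.Helper18.conjIrr N g θ ∈ b}
  one_mem' := fun θ hθ => by
    rw [Cfsg.Agent.Helper18.conjIrr_one]
    exact hθ
  mul_mem' := fun {x y} hx hy θ hθ => by
    rw [Cfsg.Agent.Helper18.conjIrr_mul]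
    exact hy _ (hx θ hθ)
  inv_mem' := fun {x} hx θ hθ => by
    haveI := hMp
    exact Cfsg.Agent.Helper18.FR.conjIrr_mem_of_one N hb x⁻¹ (hx θ hθ)
      (by rw [Cfsg.Agent.Helper18.conjIrr_inv_conjIrr]; exact hθ) hθ

theorem mem_stabN (hMp : M.IsPrime) (b : Set (IrrCharacter N)) (hb : IsPBlock M b) (g : G) :
    g ∈ stabN N hMp b hb ↔ ∀ θ ∈ b, Cfsg.Agent.Helper18.conjIrr N g θ ∈ b := Iff.rfl

theorem mem_stabN_iff_rel (hMp : M.IsPrime) (b : Set (IrrCharacter N)) (hb : IsPBlock M b)
    (g : G) :
    g ∈ stabN N hMp b hb ↔ ∀ θ ∈ b, ∀ θ' : IrrCharacter N,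
      (∀ h h' : N, (h' : G) = g * h * g⁻¹ → (θ' : N → ℂ) h' = (θ : N → ℂ) h) → θ' ∈ b := by
  rw [← Subgroup.inv_mem_iff, mem_stabN]
  constructor
  · intro hg θ hθ θ' hrel
    have h1 : θ' = Cfsg.Agent.Helper18.conjIrr N g⁻¹ θ := by
      apply Subtype.ext
      funext h'
      rw [Cfsg.Agent.Helper18.conjIrr_coe, Cfsg.Agent.Helper5.conjFun_apply]
      apply hrel
      simp only [inv_inv]
      group
    rw [h1]
    exact hg θ hθ
  · intro hcond θ hθ
    apply hcond θ hθ
    intro h h' hh
    rw [Cfsg.Agent.Helper18.conjIrr_coe, Cfsg.Agent.Helper5.conjFun_apply]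
    apply congrArg (θ : N → ℂ)
    apply Subtype.ext
    simp only [inv_inv]
    rw [hh]
    group

end Stab

section Inf

variable {G : Type u} [Group G] [Fintype G] {p : ℕ} {M : Ideal AlgInt}

/-- the least `p`-part of a degree in a block is the `p`-part of the index of a defect group -/
theorem sInf_eq_factorization_index (hM : IsPModular p M) {B : Set (IrrCharacter G)}
    (hB : IsPBlock M B) {D : Subgroup G} (hBD : IsDefectGroup p M B D) :
    sInf ((fun χ : IrrCharacter G => (charDegree (χ : G → ℂ)).factorization p) '' B) =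
      D.index.factorization p := by
  have hp := hM.1
  obtain ⟨χ, hχ⟩ := block_nonempty hM hB
  have hcard := card_defectGroup hM hB hBD
  have hidx := Subgroup.card_mul_index D
  have hfac : (Nat.card G).factorization p = blockDefect p B + D.index.factorization p := by
    rw [← hidx, Nat.factorization_mul Nat.card_pos.ne' Subgroup.index_ne_zero_of_finite, hcard]
    simp [Nat.Prime.factorization_pow hp]
  have hsInf : sInf ((fun χ : IrrCharacter G => (charDegree (χ : G → ℂ)).factorization p) '' B)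
      ≤ (charDegree (χ : G → ℂ)).factorization p := Nat.sInf_le ⟨χ, hχ, rfl⟩
  have hle : (charDegree (χ : G → ℂ)).factorization p ≤ (Nat.card G).factorization p := by
    have h1 := charDegree_dvd_card χ.2
    exact (Nat.factorization_le_iff_dvd (charDegree_pos χ.2).ne' Nat.card_pos.ne').mpr h1 p
  unfold blockDefect at hfac
  omega

end Inf

section Main

variable {G : Type u} [Group G] [Fintype G] {p : ℕ} {M : Ideal AlgInt}

/-- `L = P · C_G(P)` is the product of `P` and its centralizer inside `L` -/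
theorem sup_centralizer_subgroupOf (P : Subgroup G) [P.Normal] (L : Subgroup G)
    (hL : L = P ⊔ Subgroup.centralizer (P : Set G)) :
    P.subgroupOf L ⊔ Subgroup.centralizer ((P.subgroupOf L : Subgroup L) : Set L) = ⊤ := by
  subst hL
  rw [eq_top_iff]
  rintro ⟨x, hx⟩ -
  have hx' : x ∈ ((P ⊔ Subgroup.centralizer (P : Set G) : Subgroup G) : Set G) := hx
  rw [Subgroup.coe_mul_of_right_le_normalizer_left P _
    (Subgroup.centralizer_le_normalizer (P : Set G))] at hx'
  obtain ⟨u, hu, c, hc, rfl⟩ := hx'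
  have huL : u ∈ P ⊔ Subgroup.centralizer (P : Set G) := (le_sup_left : P ≤ _) hu
  have hcL : c ∈ P ⊔ Subgroup.centralizer (P : Set G) :=
    (le_sup_right : Subgroup.centralizer (P : Set G) ≤ _) hc
  have h1 : (⟨u * c, hx⟩ : ↥(P ⊔ Subgroup.centralizer (P : Set G))) =
      ⟨u, huL⟩ * ⟨c, hcL⟩ := rfl
  rw [h1]
  apply Subgroup.mul_mem_sup
  · exact Subgroup.mem_subgroupOf.2 hu
  · rw [Subgroup.mem_centralizer_iff]
    rintro ⟨d, hdL⟩ hd
    apply Subtype.ext
    exact Subgroup.mem_centralizer_iff.1 hc d (Subgroup.mem_subgroupOf.1 hd)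

/-- the extended first main theorem, for a name of `P · C_G(P)` -/
theorem exists_block_sup (hM : IsPModular p M) [Fact p.Prime]
    {B : Set (IrrCharacter G)} (hB : IsPBlock M B) (P : Subgroup G)
    (hP : IsDefectGroup p M B P) (L : Subgroup G)
    (hL : L = P ⊔ Subgroup.centralizer (P : Set G)) :
    ∃ b : Set (IrrCharacter L), IsDefectGroup p M b (P.subgroupOf L) ∧
      IsInducedBlock M L b B := by
  subst hL
  exact (Cfsg.Agent.S0973.result p M hM B hB P hP).1

/-- **Reynolds, the key step**: if all members of a block with the normal defect group `P` have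
height zero, every irreducible character of `P` is linear. -/
theorem degree_eq_one_of_heights (hM : IsPModular p M) [Fact p.Prime]
    {B : Set (IrrCharacter G)} (hB : IsPBlock M B) (P : Subgroup G) [P.Normal]
    (hP : IsDefectGroup p M B P)
    (hht : ∀ χ ∈ B, blockHeight p B (χ : G → ℂ) = 0) (L : Subgroup G)
    (hL : L = P ⊔ Subgroup.centralizer (P : Set G))
    (ζ : IrrCharacter (P.subgroupOf L)) :
    charDegree (ζ : P.subgroupOf L → ℂ) = 1 := by
  classical
  haveI hMp : M.IsPrime := hM.2.1.isPrime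
  have hp := hM.1
  haveI : L.Normal := by
    rw [hL]
    infer_instance
  haveI : Fintype L := Fintype.ofFinite L
  obtain ⟨b, hbD, hind⟩ := exists_block_sup hM hB P hP L hL
  have hb : IsPBlock M b := hind.1
  have hPp : IsPGroup p P := isPGroup_of_isDefectGroup hM hP
  obtain ⟨T, hT⟩ : ∃ T : Subgroup G, T = stabN L hMp b hb := ⟨_, rfl⟩
  haveI : Fintype T := Fintype.ofFinite T
  have hTmem : ∀ g : G, g ∈ T ↔ (g ∈ Subgroup.normalizer (P : Set G) ∧
      ∀ θ ∈ b, ∀ θ' : IrrCharacter L,
        (∀ h h' : L, (h' : G) = g * h * g⁻¹ → (θ' : L → ℂ) h' = (θ : L → ℂ) h) → θ' ∈ b) := by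
    intro g
    rw [hT, mem_stabN_iff_rel]
    constructor
    · intro h
      refine ⟨?_, h⟩
      rw [Subgroup.normalizer_eq_top]
      exact Subgroup.mem_top g
    · exact fun h => h.2
  have hidx : ¬ p ∣ L.relIndex T :=
    (Cfsg.Agent.S4437.result p M hM P hPp L hL b hb hbD B hind T hTmem).mp hP
  -- the structure of `b`
  have hDp : IsPGroup p (P.subgroupOf L) := hPp.comap_subtype
  have hsup : P.subgroupOf L ⊔ Subgroup.centralizer ((P.subgroupOf L : Subgroup L) : Set L) = ⊤ :=
    sup_centralizer_subgroupOf P L hL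
  haveI : (P.subgroupOf L).Normal := normal_of_sup_eq_top hsup
  obtain ⟨χb, hχb, hχbD⟩ := exists_mem_block_trivial_on (P.subgroupOf L) hM hDp hb
  have h : PCData p M (P.subgroupOf L) b χb := ⟨hM, hDp, hsup, hb, hbD, hχb, hχbD⟩
  have hθb : h.theta ζ ∈ b := h.theta_mem ζ
  -- a member of `B` over it
  obtain ⟨χ₀, hχ₀⟩ := block_nonempty hM hB
  have hB0 : B = blockOf M (χ₀ : G → ℂ) := by
    obtain ⟨χ', hχ'⟩ := hB
    rw [hχ'] at hχ₀ ⊢
    exact (blockOf_eq_of_mem hχ₀).symm
  obtain ⟨χ, hχB, hcon⟩ := exists_over_of_induced L hMp (χ₀ := χ₀) (ξ := h.theta ζ)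
    (fun g => hind.2.2 (h.theta ζ) hθb χ₀ hχ₀ g)
  rw [← hB0] at hχB
  -- Clifford
  have hIT : inertia L ((h.theta ζ : IrrCharacter L) : L → ℂ) ≤ T :=
    Cfsg.Agent.Helper18.FR.inertia_le L T hMp hb (fun g hg => by rw [hT]; exact hg) hθb
  have hLI : L ≤ inertia L ((h.theta ζ : IrrCharacter L) : L → ℂ) :=
    le_inertia L (isClassFunction_of_isIrrCharacter (h.theta ζ).2)
  have hLT : L ≤ T := le_trans hLI hIT
  obtain ⟨I, hI⟩ : ∃ I : Subgroup G, I = inertia L ((h.theta ζ : IrrCharacter L) : L → ℂ) :=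
    ⟨_, rfl⟩
  rw [← hI] at hIT hLI
  haveI : Fintype I := Fintype.ofFinite I
  obtain ⟨ψ, hψ, hindψ, f, hf0, hres⟩ : ∃ ψ : I → ℂ, IsIrrCharacter I ψ ∧ indFun I ψ = χ ∧
      ∃ f : ℕ, f ≠ 0 ∧ resFun hLI ψ = (f : ℂ) • ((h.theta ζ : IrrCharacter L) : L → ℂ) := by
    subst hI
    exact clifford_correspondence L χ.2 (h.theta ζ).2 hcon
  -- degrees
  have hψ1 : ψ 1 = (f : ℂ) * ((h.theta ζ : IrrCharacter L) : L → ℂ) 1 := by
    have h1 := congrFun hres 1
    rw [resFun_apply] at h1
    simp only [Pi.smul_apply, smul_eq_mul] at h1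
    rw [← h1]
    rfl
  have hχ1 : (χ : G → ℂ) 1 = (I.index : ℂ) * ((f : ℂ) *
      ((h.theta ζ : IrrCharacter L) : L → ℂ) 1) := by
    rw [← hindψ, Cfsg.Agent.Helper24.indFun_one, hψ1]
  have hdegχ : charDegree (χ : G → ℂ) = I.index * (f *
      (charDegree (ζ : P.subgroupOf L → ℂ) * charDegree (χb : L → ℂ))) := by
    rw [irr_one_eq_charDegree χ.2, irr_one_eq_charDegree (h.theta ζ).2, h.charDegree_theta] at hχ1
    exact_mod_cast hχ1
  -- valuations
  have hζpos := charDegree_pos ζ.2
  have hχbpos := charDegree_pos χb.2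
  have hIpos : I.index ≠ 0 := Subgroup.index_ne_zero_of_finite
  have hval : (charDegree (χ : G → ℂ)).factorization p = I.index.factorization p +
      (f.factorization p + ((charDegree (ζ : P.subgroupOf L → ℂ)).factorization p +
        (charDegree (χb : L → ℂ)).factorization p)) := by
    rw [hdegχ, Nat.factorization_mul hIpos (by positivity),
      Nat.factorization_mul hf0 (by positivity),
      Nat.factorization_mul hζpos.ne' hχbpos.ne']
    simp only [Finsupp.coe_add, Pi.add_apply]
  have hIidx : I.relIndex T * T.index = I.index := Subgroup.relIndex_mul_index hIT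
  have hLidx : L.relIndex T * T.index = L.index := Subgroup.relIndex_mul_index hLT
  have hPidx : P.relIndex L * L.index = P.index :=
    Subgroup.relIndex_mul_index (hL ▸ le_sup_left : P ≤ L)
  have hDidx : (P.subgroupOf L).index = P.relIndex L := rfl
  have hTpos : T.index ≠ 0 := Subgroup.index_ne_zero_of_finite
  have hLpos : L.index ≠ 0 := Subgroup.index_ne_zero_of_finite
  have hITpos : I.relIndex T ≠ 0 := by
    intro h0
    rw [h0, zero_mul] at hIidx
    exact hIpos hIidx.symm
  have hLTpos : L.relIndex T ≠ 0 := by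
    intro h0
    rw [h0, zero_mul] at hLidx
    exact hLpos hLidx.symm
  have hPLpos : P.relIndex L ≠ 0 := by
    intro h0
    rw [h0, zero_mul] at hPidx
    exact Subgroup.index_ne_zero_of_finite hPidx.symm
  have hv1 : I.index.factorization p = (I.relIndex T).factorization p +
      T.index.factorization p := by
    rw [← hIidx, Nat.factorization_mul hITpos hTpos]
    simp only [Finsupp.coe_add, Pi.add_apply]
  have hv2 : L.index.factorization p = T.index.factorization p := by
    rw [← hLidx, Nat.factorization_mul hLTpos hTpos]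
    simp only [Finsupp.coe_add, Pi.add_apply]
    rw [Nat.factorization_eq_zero_of_not_dvd hidx, zero_add]
  have hv3 : P.index.factorization p = (P.relIndex L).factorization p +
      L.index.factorization p := by
    rw [← hPidx, Nat.factorization_mul hPLpos hLpos]
    simp only [Finsupp.coe_add, Pi.add_apply]
  have hv4 : (charDegree (χb : L → ℂ)).factorization p = (P.relIndex L).factorization p := by
    rw [h.hdeg, hDidx]
  -- height zero
  have hh := hht χ hχB
  unfold blockHeight at hh
  rw [sInf_eq_factorization_index hM hB hP] at hh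
  have hζ0 : (charDegree (ζ : P.subgroupOf L → ℂ)).factorization p = 0 := by omega
  -- the degree is a power of `p`
  haveI : Fintype (P.subgroupOf L) := Fintype.ofFinite _
  obtain ⟨k, hk⟩ := IsPGroup.exists_card_eq hDp
  have hdvd := charDegree_dvd_card ζ.2
  rw [hk] at hdvd
  obtain ⟨j, -, hj⟩ := (Nat.dvd_prime_pow hp).1 hdvd
  rw [hj, hp.factorization_pow] at hζ0
  simp only [Finsupp.single_eq_same] at hζ0
  rw [hj, hζ0, pow_zero]

end Main

end Cfsg.Agent.Helper18.Reynolds
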