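import Mathlib
import Cfsg.Prelude.Def_Blocks
import Cfsg.Agent.Lib.Helper18.BlockPC3
import Cfsg.Agent.Lib.Helper18.Reynolds
import Cfsg.Agent.Lib.Helper23.BlockSections
import Cfsg.Agent.S0973
import Cfsg.Agent.S0917
import Cfsg.Agent.S0926
import Cfsg.Agent.S0925

/-!
# 2-blocks with a defect group of order 2 (helper18's library)
-/

set_option autoImplicit false
set_option linter.style.haveILetI false
set_option linter.unusedSectionVars false

namespace Cfsg.Agent.Helper18.DefectTwo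

open Cfsg Cfsg.Agent.Helper24 Cfsg.Agent.Helper5 Cfsg.Agent.Helper23.Blk Cfsg.Agent.Helper18
  Cfsg.Agent.Helper18.Twist
open scoped ComplexConjugate

universe u

section Unique

variable {G : Type u} [Group G] [Fintype G] {p : ℕ} {M : Ideal AlgInt}

/-- blocks of `L = P · C_G(P) ⊇ N_G(P)` inducing a block with defect group `P` coincide -/
theorem eq_of_isInducedBlock (hM : IsPModular p M) [Fact p.Prime] {B : Set (IrrCharacter G)}
    (hB : IsPBlock M B) (P : Subgroup G) (hP : IsDefectGroup p M B P) (L : Subgroup G)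
    (hL : L = P ⊔ Subgroup.centralizer (P : Set G))
    (hNL : Subgroup.normalizer (P : Set G) ≤ L) {b b' : Set (IrrCharacter L)}
    (h : IsInducedBlock M L b B) (h' : IsInducedBlock M L b' B) : b = b' := by
  haveI hMp : M.IsPrime := hM.2.1.isPrime
  subst hL
  haveI : Fintype ↥(P ⊔ Subgroup.centralizer (P : Set G)) := Fintype.ofFinite _
  obtain ⟨n, hn, hconj⟩ := (Cfsg.Agent.S0973.result p M hM B hB P hP).2 b b' h h'
  obtain ⟨θ, hθ⟩ := block_nonempty hM h.1
  obtain ⟨θ', hθ', hrel⟩ := hconj θ hθ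
  have hnL := hNL hn
  have hθθ' : θ' = θ := by
    apply Subtype.ext
    funext y
    have hy : n * (y : G) * n⁻¹ ∈ P ⊔ Subgroup.centralizer (P : Set G) :=
      mul_mem (mul_mem hnL y.2) (inv_mem hnL)
    rw [hrel y hy]
    exact isClassFunction_of_isIrrCharacter θ.2 y ⟨n, hnL⟩
  rw [hθθ'] at hθ'
  exact isPBlock_eq_of_mem h.1 h'.1 hθ hθ'

end Unique

section Two

variable {G : Type u} [Group G] [Fintype G] {M : Ideal AlgInt} {x : G}

theorem zpowers_le_centralizer (x : G) :
    Subgroup.zpowers x ≤ Subgroup.centralizer ({x} : Set G) := by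
  rw [Subgroup.zpowers_le]
  exact self_mem_centralizer_singleton x

theorem centralizer_eq_sup (x : G) :
    Subgroup.centralizer ({x} : Set G) = Subgroup.zpowers x ⊔
      Subgroup.centralizer ((Subgroup.zpowers x : Subgroup G) : Set G) := by
  rw [centralizer_zpowers]
  exact (sup_eq_right.2 (zpowers_le_centralizer x)).symm

/-- the elements of the group generated by an involution -/
theorem mem_zpowers_involution (hx : orderOf x = 2) {y : G} (hy : y ∈ Subgroup.zpowers x) :
    y = 1 ∨ y = x := by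
  obtain ⟨k, rfl⟩ := Subgroup.mem_zpowers_iff.1 hy
  have h2 : x ^ (2 : ℤ) = 1 := by
    have := pow_orderOf_eq_one x
    rw [hx] at this
    exact_mod_cast this
  rcases Int.emod_two_eq_zero_or_one k with h | h
  · left
    have hk : k = 2 * (k / 2) := by omega
    rw [hk, zpow_mul, h2, one_zpow]
  · right
    have hk : k = 2 * (k / 2) + 1 := by omega
    rw [hk, zpow_add, zpow_mul, h2, one_zpow, one_mul, zpow_one]

theorem normalizer_zpowers_le (hx : orderOf x = 2) :
    Subgroup.normalizer ((Subgroup.zpowers x : Subgroup G) : Set G) ≤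
      Subgroup.centralizer ({x} : Set G) := by
  intro n hn
  have h1 : n * x * n⁻¹ ∈ Subgroup.zpowers x :=
    (Subgroup.mem_normalizer_iff.1 hn x).1 (Subgroup.mem_zpowers x)
  have hx1 : x ≠ 1 := by
    intro h
    rw [h, orderOf_one] at hx
    omega
  rcases mem_zpowers_involution hx h1 with h | h
  · exfalso
    apply hx1
    have : x = n⁻¹ * (n * x * n⁻¹) * n := by group
    rw [this, h]
    group
  · rw [Subgroup.mem_centralizer_iff]
    intro w hw
    rw [Set.mem_singleton_iff] at hw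
    rw [hw]
    calc x * n = (n * x * n⁻¹) * n := by rw [h]
      _ = n * x := by group

theorem card_zpowers_involution (hx : orderOf x = 2) : Nat.card (Subgroup.zpowers x) = 2 := by
  rw [Nat.card_zpowers, hx]

/-- the block of `C_G(x)` inducing a block with defect group `⟨x⟩` has defect group `⟨x⟩` -/
theorem isDefectGroup_centralizer (hM : IsPModular 2 M) (hx : orderOf x = 2)
    {B : Set (IrrCharacter G)} (hBD : IsDefectGroup 2 M B (Subgroup.zpowers x))
    {b : Set (IrrCharacter (Subgroup.centralizer ({x} : Set G)))}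
    (hind : IsInducedBlock M (Subgroup.centralizer ({x} : Set G)) b B) :
    IsDefectGroup 2 M b ((Subgroup.zpowers x).subgroupOf (Subgroup.centralizer ({x} : Set G))) := by
  classical
  haveI : Fact (Nat.Prime 2) := ⟨hM.1⟩
  obtain ⟨hb, hB, -⟩ := id hind
  obtain ⟨Db, hDb⟩ := exists_isDefectGroup hM hb
  obtain ⟨E, hE, hle⟩ := Cfsg.Agent.S0917.result 2 M hM _ b hb B hB hind Db hDb
  have hcardE : Nat.card E = 2 := by
    rw [card_defectGroup hM hB hE, ← card_defectGroup hM hB hBD, card_zpowers_involution hx]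
  have hxp : ∃ k : ℕ, orderOf x = 2 ^ k := ⟨1, by rw [hx, pow_one]⟩
  set P' : Subgroup (Subgroup.centralizer ({x} : Set G)) :=
    (Subgroup.zpowers x).subgroupOf (Subgroup.centralizer ({x} : Set G)) with hP'
  haveI hP'n : P'.Normal := by
    constructor
    intro n hn c
    rw [hP', Subgroup.mem_subgroupOf] at hn ⊢
    obtain ⟨k, hk⟩ := Subgroup.mem_zpowers_iff.1 hn
    have hc : (c : G) * x = x * (c : G) :=
      (Subgroup.mem_centralizer_iff.1 c.2 x (Set.mem_singleton x)).symm
    have hc' : Commute (c : G) (x ^ k) := (show Commute (c : G) x from hc).zpow_right k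
    have e : ((c * n * c⁻¹ : Subgroup.centralizer ({x} : Set G)) : G) = x ^ k := by
      push_cast
      rw [← hk, hc'.eq, mul_inv_cancel_right]
    rw [e]
    exact Subgroup.zpow_mem _ (Subgroup.mem_zpowers x) k
  have hP'p : IsPGroup 2 P' := (isPGroup_zpowers (p := 2) hxp).comap_subtype
  have hP'Db : P' ≤ Db := by
    obtain ⟨g, hg, S, rfl⟩ := hDb
    exact normal_pgroup_le_defectGroup hM hb P' hP'p hg S
  have hcardDb : Nat.card Db ≤ 2 := by
    rw [← hcardE, ← Subgroup.card_map_of_injective (Subgroup.subtype_injective _)]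
    exact Subgroup.card_le_of_le hle
  have hcardP' : Nat.card P' = 2 := by
    rw [hP', ← card_zpowers_involution hx]
    exact Nat.card_congr (Subgroup.subgroupOfEquivOfLe (zpowers_le_centralizer x)).toEquiv
  have : P' = Db := Subgroup.eq_of_le_of_card_ge hP'Db (by rw [hcardP']; exact hcardDb)
  rw [this]
  exact hDb

/-- the standing hypotheses -/
structure Hyp (M : Ideal AlgInt) (x : G) (B : Set (IrrCharacter G))
    (b : Set (IrrCharacter (Subgroup.centralizer ({x} : Set G))))
    (θ : IrrCharacter (Subgroup.centralizer ({x} : Set G))) : Prop where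
  hM : IsPModular 2 M
  hx : orderOf x = 2
  hB : IsPBlock M B
  hBD : IsDefectGroup 2 M B (Subgroup.zpowers x)
  hind : IsInducedBlock M (Subgroup.centralizer ({x} : Set G)) b B
  hθ : θ ∈ b
  hθx : ∀ z : Subgroup.centralizer ({x} : Set G), (z : G) = x →
    (θ : Subgroup.centralizer ({x} : Set G) → ℂ) z =
      (θ : Subgroup.centralizer ({x} : Set G) → ℂ) 1

variable {B : Set (IrrCharacter G)}
  {b : Set (IrrCharacter (Subgroup.centralizer ({x} : Set G)))}
  {θ : IrrCharacter (Subgroup.centralizer ({x} : Set G))}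

theorem Hyp.pc (H : Hyp M x B b θ) :
    PCData 2 M ((Subgroup.zpowers x).subgroupOf (Subgroup.centralizer ({x} : Set G))) b θ where
  hM := H.hM
  hD := (isPGroup_zpowers (p := 2) ⟨1, by rw [H.hx, pow_one]⟩).comap_subtype
  hG := by
    rw [eq_top_iff]
    intro c _
    apply Subgroup.mem_sup_right
    rw [Subgroup.mem_centralizer_iff]
    intro d hd
    have hd' : (d : G) ∈ Subgroup.zpowers x := Subgroup.mem_subgroupOf.1 hd
    obtain ⟨k, hk⟩ := Subgroup.mem_zpowers_iff.1 hd'
    have hc : (c : G) * x = x * (c : G) :=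
      (Subgroup.mem_centralizer_iff.1 c.2 x (Set.mem_singleton x)).symm
    have hc' : Commute (c : G) (x ^ k) := (show Commute (c : G) x from hc).zpow_right k
    apply Subtype.ext
    push_cast
    rw [← hk]
    exact hc'.eq.symm
  hB := H.hind.1
  hBD := isDefectGroup_centralizer H.hM H.hx H.hBD H.hind
  hχ := H.hθ
  hχD := by
    intro y hy
    have hy' : (y : G) ∈ Subgroup.zpowers x := Subgroup.mem_subgroupOf.1 hy
    rcases mem_zpowers_involution H.hx hy' with h | h
    · have : y = 1 := Subtype.ext h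
      rw [this]
    · exact H.hθx y h

theorem Hyp.unique (H : Hyp M x B b θ)
    {b' : Set (IrrCharacter (Subgroup.centralizer ({x} : Set G)))}
    (h' : IsInducedBlock M (Subgroup.centralizer ({x} : Set G)) b' B) : b' = b := by
  haveI : Fact (Nat.Prime 2) := ⟨H.hM.1⟩
  exact eq_of_isInducedBlock H.hM H.hB (Subgroup.zpowers x) H.hBD _ (centralizer_eq_sup x)
    (normalizer_zpowers_le H.hx) h' H.hind

end Two

section Reindex

variable {G : Type u} [Group G] [Fintype G] {p : ℕ} {M : Ideal AlgInt} {D : Subgroup G}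
  {B : Set (IrrCharacter G)} {χ : IrrCharacter G}

/-- sums over the block are sums over the irreducible characters of the defect group -/
theorem sum_indicator_eq (h : PCData p M D B χ) [Fintype (IrrCharacter G)]
    [Fintype (IrrCharacter D)] (F : IrrCharacter G → ℂ) :
    ∑ θ' : IrrCharacter G, B.indicator F θ' = ∑ ζ : IrrCharacter D, F (h.theta ζ) := by
  classical
  rw [← Finset.sum_image (s := Finset.univ) (g := h.theta) (f := F)
    (fun a _ b _ hab => h.theta_injective hab)]
  rw [← Finset.sum_subset (Finset.subset_univ (Finset.univ.image h.theta))]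
  · apply Finset.sum_congr rfl
    intro θ' hθ'
    rw [Finset.mem_image] at hθ'
    obtain ⟨ζ, -, rfl⟩ := hθ'
    rw [Set.indicator_of_mem (h.theta_mem ζ)]
  · intro θ' _ hθ'
    rw [Set.indicator_of_notMem]
    intro hB
    apply hθ'
    obtain ⟨ζ, rfl⟩ := (h.mem_iff θ').1 hB
    exact Finset.mem_image_of_mem _ (Finset.mem_univ ζ)

theorem finsum_mem_eq (h : PCData p M D B χ) [Fintype (IrrCharacter D)]
    (F : IrrCharacter G → ℂ) :
    ∑ᶠ θ' ∈ B, F θ' = ∑ ζ : IrrCharacter D, F (h.theta ζ) := by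
  classical
  letI : Fintype (IrrCharacter G) := irrFintype
  rw [finsum_mem_def, finsum_eq_sum_of_fintype]
  exact sum_indicator_eq h F

end Reindex

section Values

variable {G : Type u} [Group G] [Fintype G] {M : Ideal AlgInt} {x : G}
  {B : Set (IrrCharacter G)}
  {b : Set (IrrCharacter (Subgroup.centralizer ({x} : Set G)))}
  {θ : IrrCharacter (Subgroup.centralizer ({x} : Set G))}

/-- the inner product of a shifted character of `G` with an irreducible character of the
centralizer of the involution `x` is an integer -/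
theorem exists_int_classInner_shift (hx : orderOf x = 2)
    [Fintype (Subgroup.centralizer ({x} : Set G))] {χ : G → ℂ}
    (hχ : IsCharacter G χ) (ψ : IrrCharacter (Subgroup.centralizer ({x} : Set G))) :
    ∃ m : ℤ, classInner (fun c : Subgroup.centralizer ({x} : Set G) => χ (x * (c : G)))
      (ψ : Subgroup.centralizer ({x} : Set G) → ℂ) = (m : ℂ) := by
  classical
  letI : Fintype (IrrCharacter (Subgroup.centralizer ({x} : Set G))) := irrFintype
  set xC : Subgroup.centralizer ({x} : Set G) := ⟨x, self_mem_centralizer_singleton x⟩ with hxC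
  have hcen : xC ∈ Subgroup.center (Subgroup.centralizer ({x} : Set G)) := by
    rw [Subgroup.mem_center_iff]
    intro c
    apply Subtype.ext
    push_cast
    exact (Subgroup.mem_centralizer_iff.1 c.2 x (Set.mem_singleton x)).symm
  have hxx : x * x = 1 := by
    have := pow_orderOf_eq_one x
    rw [hx, pow_two] at this
    exact this
  have hxCxC : xC * xC = 1 := Subtype.ext hxx
  have hψ1 : (ψ : Subgroup.centralizer ({x} : Set G) → ℂ) 1 ≠ 0 := irr_one_ne_zero ψ.2
  set s : ℂ := (ψ : Subgroup.centralizer ({x} : Set G) → ℂ) xC /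
    (ψ : Subgroup.centralizer ({x} : Set G) → ℂ) 1 with hs
  have hmul : ∀ c, (ψ : Subgroup.centralizer ({x} : Set G) → ℂ) (xC * c) =
      s * (ψ : Subgroup.centralizer ({x} : Set G) → ℂ) c :=
    fun c => Cfsg.Agent.Helper23.irr_central_mul _ ψ.2 xC hcen c
  have hss : s * s = 1 := by
    have h1 := hmul xC
    rw [hxCxC] at h1
    have h2 : (ψ : Subgroup.centralizer ({x} : Set G) → ℂ) xC =
        s * (ψ : Subgroup.centralizer ({x} : Set G) → ℂ) 1 := by
      rw [hs]
      field_simp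
    rw [h2, ← mul_assoc] at h1
    have h3 : (s * s - 1) * (ψ : Subgroup.centralizer ({x} : Set G) → ℂ) 1 = 0 := by
      rw [sub_mul, one_mul, ← h1, sub_self]
    rcases mul_eq_zero.1 h3 with h | h
    · exact sub_eq_zero.1 h
    · exact absurd h hψ1
  have hs1 : s = 1 ∨ s = -1 := by
    have : (s - 1) * (s + 1) = 0 := by ring_nf; rw [← hss]; ring
    rcases mul_eq_zero.1 this with h | h
    · left; exact sub_eq_zero.1 h
    · right; exact eq_neg_of_add_eq_zero_left h
  obtain ⟨n, hn⟩ := classInner_char_nat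
    (isCharacter_restrict (Subgroup.centralizer ({x} : Set G)) hχ)
    (isCharacter_of_isIrrCharacter ψ.2)
  have hkey : classInner (fun c : Subgroup.centralizer ({x} : Set G) => χ (x * (c : G)))
      (ψ : Subgroup.centralizer ({x} : Set G) → ℂ) = conj s * (n : ℂ) := by
    rw [← hn]
    unfold classInner
    rw [← mul_assoc, mul_comm (conj s), mul_assoc]
    congr 1
    rw [← Equiv.sum_comp (Equiv.mulLeft xC), Finset.mul_sum]
    apply Finset.sum_congr rfl
    intro c _
    simp only [Equiv.coe_mulLeft]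
    rw [hmul, map_mul]
    have e : x * ((xC * c : Subgroup.centralizer ({x} : Set G)) : G) = (c : G) := by
      push_cast
      rw [← mul_assoc, hxx, one_mul]
    rw [e]
    ring
  rcases hs1 with h | h
  · refine ⟨(n : ℤ), ?_⟩
    rw [hkey, h]
    simp
  · refine ⟨-(n : ℤ), ?_⟩
    rw [hkey, h]
    simp

/-- **the values on the section of `x`**: `χ(x y) = d θ(y)` with an integer `d` -/
theorem Hyp.exists_int (H : Hyp M x B b θ) {χ : IrrCharacter G} (hχ : χ ∈ B) :
    ∃ d : ℤ, ∀ y : Subgroup.centralizer ({x} : Set G), ¬ 2 ∣ orderOf y →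
      (χ : G → ℂ) (x * (y : G)) =
        (d : ℂ) * (θ : Subgroup.centralizer ({x} : Set G) → ℂ) y := by
  classical
  haveI hMp : M.IsPrime := H.hM.2.1.isPrime
  haveI : Fintype (Subgroup.centralizer ({x} : Set G)) := Fintype.ofFinite _
  letI : Fintype (IrrCharacter (Subgroup.centralizer ({x} : Set G))) := irrFintype
  haveI : Fintype ((Subgroup.zpowers x).subgroupOf (Subgroup.centralizer ({x} : Set G))) :=
    Fintype.ofFinite _
  letI : Fintype (IrrCharacter
    ((Subgroup.zpowers x).subgroupOf (Subgroup.centralizer ({x} : Set G)))) := irrFintype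
  have hχc := isCharacter_of_isIrrCharacter χ.2
  have hint := fun ζ => exists_int_classInner_shift H.hx hχc (H.pc.theta ζ)
  choose m hm using hint
  refine ⟨∑ ζ, m ζ * (charDegree (ζ : (Subgroup.zpowers x).subgroupOf
    (Subgroup.centralizer ({x} : Set G)) → ℂ) : ℤ), ?_⟩
  intro y hy
  obtain ⟨𝔅, h𝔅⟩ := exists_finset_blocks (K := Subgroup.centralizer ({x} : Set G)) (M := M)
  have h1 := sum_blocks_induced_shift H.hM ⟨1, by rw [H.hx, pow_one]⟩ H.hB 𝔅 h𝔅 χ y hy
  rw [if_pos hχ] at h1
  have hfilter : 𝔅.filter (fun b' =>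
      IsInducedBlock M (Subgroup.centralizer ({x} : Set G)) b' B) = {b} := by
    ext b'
    rw [Finset.mem_filter, Finset.mem_singleton, h𝔅]
    constructor
    · rintro ⟨-, h'⟩
      exact H.unique h'
    · rintro rfl
      exact ⟨H.hind.1, H.hind⟩
  rw [hfilter, Finset.sum_singleton,
    sum_blockCoeff_mul_shift b (isClassFunction_shift (isClassFunction_of_isIrrCharacter χ.2) x) y,
    finsum_mem_eq H.pc] at h1
  rw [← h1]
  push_cast
  rw [Finset.sum_mul]
  apply Finset.sum_congr rfl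
  intro ζ _
  rw [hm ζ, H.pc.theta_reg ζ hy, irr_one_eq_charDegree ζ.2]
  ring

/-- all members of the block have height zero -/
theorem Hyp.height_zero (H : Hyp M x B b θ) {χ : IrrCharacter G} (hχ : χ ∈ B) :
    blockHeight 2 B (χ : G → ℂ) = 0 := by
  haveI hMp : M.IsPrime := H.hM.2.1.isPrime
  haveI : Fact (Nat.Prime 2) := ⟨H.hM.1⟩
  have hp := H.hM.1
  have hsInf := Cfsg.Agent.Helper18.Reynolds.sInf_eq_factorization_index H.hM H.hB H.hBD
  unfold blockHeight
  rw [hsInf]
  by_contra hne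
  have hlt : (Subgroup.zpowers x).index.factorization 2 <
      (charDegree (χ : G → ℂ)).factorization 2 := by omega
  have hidx := Subgroup.card_mul_index (Subgroup.zpowers x)
  rw [card_zpowers_involution H.hx] at hidx
  have hfacG : (Nat.card G).factorization 2 = 1 + (Subgroup.zpowers x).index.factorization 2 := by
    rw [← hidx, Nat.factorization_mul (by norm_num) Subgroup.index_ne_zero_of_finite]
    simp [hp.factorization_self]
  obtain ⟨q, hq⟩ := charDegree_dvd_card χ.2
  have hpos := charDegree_pos χ.2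
  have hq0 : q ≠ 0 := by
    rintro rfl
    rw [mul_zero] at hq
    exact Nat.card_pos.ne' hq
  have hfacq : (Nat.card G).factorization 2 =
      (charDegree (χ : G → ℂ)).factorization 2 + q.factorization 2 := by
    rw [hq, Nat.factorization_mul hpos.ne' hq0]
    simp
  have hq2 : ¬ 2 ∣ q := by
    intro h2
    have := (hp.dvd_iff_one_le_factorization hq0).1 h2
    omega
  have hdz : ¬ 2 ∣ Nat.card G / charDegree (χ : G → ℂ) := by
    rw [hq, Nat.mul_div_cancel_left _ hpos]
    exact hq2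
  have hsing := (not_dvd_iff_blockOf_eq_singleton H.hM χ).1 hdz
  have hBχ : B = {χ} := by
    obtain ⟨χ₀, hB0⟩ := H.hB
    have h1 : χ ∈ blockOf M (χ₀ : G → ℂ) := hB0 ▸ hχ
    rw [hB0, ← blockOf_eq_of_mem h1, hsing]
  rw [hBχ, Set.image_singleton, csInf_singleton] at hsInf
  omega

/-- the integers `d` are nonzero -/
theorem Hyp.int_ne_zero (H : Hyp M x B b θ) {χ : IrrCharacter G} (hχ : χ ∈ B) {d : ℤ}
    (hd : ∀ y : Subgroup.centralizer ({x} : Set G), ¬ 2 ∣ orderOf y →
      (χ : G → ℂ) (x * (y : G)) =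
        (d : ℂ) * (θ : Subgroup.centralizer ({x} : Set G) → ℂ) y) : d ≠ 0 := by
  haveI : Fact (Nat.Prime 2) := ⟨H.hM.1⟩
  have h1 := (Cfsg.Agent.S0926.result 2 M H.hM B H.hB (Subgroup.zpowers x) H.hBD χ hχ
    (H.height_zero hχ) x ⟨1, by rw [H.hx, pow_one]⟩).1
    ⟨1, by rw [one_mul, inv_one, mul_one]; exact Subgroup.mem_zpowers x⟩
  obtain ⟨u, ⟨z, hpp, hconj⟩, hne⟩ := h1
  obtain ⟨t, ht⟩ := isConj_iff.1 hconj
  obtain ⟨w, hzw, hcomm, -, hw⟩ := hpp
  intro hd0
  apply hne
  have hcx : Commute x (t⁻¹ * w * t) := by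
    have h2 : Commute (t * x * t⁻¹) w := ht ▸ hcomm
    have h3 := h2.eq
    show x * (t⁻¹ * w * t) = t⁻¹ * w * t * x
    calc x * (t⁻¹ * w * t) = t⁻¹ * ((t * x * t⁻¹) * w) * t := by group
      _ = t⁻¹ * (w * (t * x * t⁻¹)) * t := by rw [h3]
      _ = t⁻¹ * w * t * x := by group
  have hcC : t⁻¹ * w * t ∈ Subgroup.centralizer ({x} : Set G) := by
    rw [Subgroup.mem_centralizer_iff]
    intro v hv
    rw [Set.mem_singleton_iff] at hv
    rw [hv]
    exact hcx.eq
  have hord : ¬ 2 ∣ orderOf (⟨t⁻¹ * w * t, hcC⟩ : Subgroup.centralizer ({x} : Set G)) := by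
    rw [← Subgroup.orderOf_coe]
    have : orderOf (t⁻¹ * w * t) = orderOf w := by
      have := (MulAut.conj t⁻¹).orderOf_eq w
      rwa [MulAut.conj_apply, inv_inv] at this
    rw [this]
    exact hw
  have h4 := hd ⟨t⁻¹ * w * t, hcC⟩ hord
  rw [hd0, Int.cast_zero, zero_mul] at h4
  have h5 : (χ : G → ℂ) u = (χ : G → ℂ) (x * (t⁻¹ * w * t)) := by
    have := isClassFunction_of_isIrrCharacter χ.2 u t⁻¹
    rw [← this]
    congr 1
    rw [← hzw, ← ht]
    group
  rw [h5]
  exact h4

/-- **the sum of the squares of the integers `d` is `2`** -/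
theorem Hyp.sum_sq (H : Hyp M x B b θ) [Fintype (IrrCharacter G)] (d : IrrCharacter G → ℤ)
    (hd : ∀ χ ∈ B, ∀ y : Subgroup.centralizer ({x} : Set G), ¬ 2 ∣ orderOf y →
      (χ : G → ℂ) (x * (y : G)) =
        (d χ : ℂ) * (θ : Subgroup.centralizer ({x} : Set G) → ℂ) y) :
    ∑ χ : IrrCharacter G, B.indicator (fun χ => (d χ) ^ 2) χ = 2 := by
  classical
  haveI hMp : M.IsPrime := H.hM.2.1.isPrime
  haveI : Fintype (Subgroup.centralizer ({x} : Set G)) := Fintype.ofFinite _
  letI : Fintype (IrrCharacter (Subgroup.centralizer ({x} : Set G))) := irrFintype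
  haveI : Fintype ((Subgroup.zpowers x).subgroupOf (Subgroup.centralizer ({x} : Set G))) :=
    Fintype.ofFinite _
  letI : Fintype (IrrCharacter
    ((Subgroup.zpowers x).subgroupOf (Subgroup.centralizer ({x} : Set G)))) := irrFintype
  obtain ⟨𝔅, h𝔅⟩ := exists_finset_blocks (K := Subgroup.centralizer ({x} : Set G)) (M := M)
  have hone : ¬ 2 ∣ orderOf (1 : Subgroup.centralizer ({x} : Set G)) := by
    rw [orderOf_one]
    norm_num
  have h1 := section_block_orthogonality H.hM ⟨1, by rw [H.hx, pow_one]⟩ H.hB 𝔅 h𝔅 1 1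
    hone hone
  have hfilter : 𝔅.filter (fun b' =>
      IsInducedBlock M (Subgroup.centralizer ({x} : Set G)) b' B) = {b} := by
    ext b'
    rw [Finset.mem_filter, Finset.mem_singleton, h𝔅]
    constructor
    · rintro ⟨-, h'⟩
      exact H.unique h'
    · rintro rfl
      exact ⟨H.hind.1, H.hind⟩
  rw [hfilter, Finset.sum_singleton, sum_indicator_eq H.pc] at h1
  set t : ℂ := (θ : Subgroup.centralizer ({x} : Set G) → ℂ) 1 with ht
  have ht0 : t ≠ 0 := irr_one_ne_zero θ.2
  have htc : conj t = t := conj_irr_one θ.2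
  -- the right side
  have hR : ∑ ζ : IrrCharacter
      ((Subgroup.zpowers x).subgroupOf (Subgroup.centralizer ({x} : Set G))),
      ((H.pc.theta ζ : IrrCharacter (Subgroup.centralizer ({x} : Set G))) :
        Subgroup.centralizer ({x} : Set G) → ℂ) 1 *
      conj (((H.pc.theta ζ : IrrCharacter (Subgroup.centralizer ({x} : Set G))) :
        Subgroup.centralizer ({x} : Set G) → ℂ) 1) = 2 * t ^ 2 := by
    have hcard : Nat.card ((Subgroup.zpowers x).subgroupOf
        (Subgroup.centralizer ({x} : Set G))) = 2 := by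
      rw [← card_zpowers_involution H.hx]
      exact Nat.card_congr (Subgroup.subgroupOfEquivOfLe (zpowers_le_centralizer x)).toEquiv
    have h2 := sum_charDegree_sq (G := (Subgroup.zpowers x).subgroupOf
      (Subgroup.centralizer ({x} : Set G)))
    rw [hcard] at h2
    have h3 : (2 : ℂ) = ((∑ ζ : IrrCharacter ((Subgroup.zpowers x).subgroupOf
        (Subgroup.centralizer ({x} : Set G))), charDegree (ζ : (Subgroup.zpowers x).subgroupOf
        (Subgroup.centralizer ({x} : Set G)) → ℂ) ^ 2 : ℕ) : ℂ) := by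
      rw [h2]
      norm_num
    rw [h3, Nat.cast_sum, Finset.sum_mul]
    apply Finset.sum_congr rfl
    intro ζ _
    rw [H.pc.theta_one ζ, map_mul, htc, irr_one_eq_charDegree ζ.2, Complex.conj_natCast]
    push_cast
    ring
  rw [hR] at h1
  -- the left side
  have hL : ∑ ζ : IrrCharacter G, B.indicator (fun ζ : IrrCharacter G =>
      (ζ : G → ℂ) (x * ((1 : Subgroup.centralizer ({x} : Set G)) : G)) *
        conj ((ζ : G → ℂ) (x * ((1 : Subgroup.centralizer ({x} : Set G)) : G)))) ζ =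
      ((∑ χ : IrrCharacter G, B.indicator (fun χ => (d χ) ^ 2) χ : ℤ) : ℂ) * t ^ 2 := by
    rw [Int.cast_sum, Finset.sum_mul]
    apply Finset.sum_congr rfl
    intro χ _
    by_cases hχ : χ ∈ B
    · rw [Set.indicator_of_mem hχ, Set.indicator_of_mem hχ, hd χ hχ 1 hone, map_mul, htc]
      rw [map_intCast]
      push_cast
      ring
    · rw [Set.indicator_of_notMem hχ, Set.indicator_of_notMem hχ]
      simp
  rw [hL] at h1
  have h4 : ((∑ χ : IrrCharacter G, B.indicator (fun χ => (d χ) ^ 2) χ : ℤ) : ℂ) = 2 := by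
    have ht2 : t ^ 2 ≠ 0 := pow_ne_zero 2 ht0
    exact mul_right_cancel₀ ht2 h1
  exact_mod_cast h4

/-- **2-blocks with a defect group of order 2** -/
theorem Hyp.main (H : Hyp M x B b θ) :
    Nat.card B = 2 ∧ (∀ χ ∈ B, ∀ ψ ∈ B, ∀ g : G, ¬ 2 ∣ orderOf g →
      (χ : G → ℂ) g = (ψ : G → ℂ) g) ∧
      ∃ χ₁ ∈ B, ∃ χ₂ ∈ B, χ₁ ≠ χ₂ ∧ ∃ ε₁ ε₂ : ℤ, (ε₁ = 1 ∨ ε₁ = -1) ∧ (ε₂ = 1 ∨ ε₂ = -1) ∧
        ε₁ * ε₂ = -1 ∧
        ∀ y : ↥(Subgroup.centralizer ({x} : Set G)), ¬ 2 ∣ orderOf y →
          (χ₁ : G → ℂ) (x * y) = (ε₁ : ℂ) * (θ : ↥(Subgroup.centralizer ({x} : Set G)) → ℂ) y ∧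
          (χ₂ : G → ℂ) (x * y) =
            (ε₂ : ℂ) * (θ : ↥(Subgroup.centralizer ({x} : Set G)) → ℂ) y := by
  classical
  haveI hMp : M.IsPrime := H.hM.2.1.isPrime
  haveI : Fact (Nat.Prime 2) := ⟨H.hM.1⟩
  letI : Fintype (IrrCharacter G) := irrFintype
  haveI : Fintype (Subgroup.centralizer ({x} : Set G)) := Fintype.ofFinite _
  -- the integers
  set d : IrrCharacter G → ℤ := fun χ =>
    if h : χ ∈ B then Classical.choose (H.exists_int h) else 0 with hddef
  have hd : ∀ χ ∈ B, ∀ y : Subgroup.centralizer ({x} : Set G), ¬ 2 ∣ orderOf y →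
      (χ : G → ℂ) (x * (y : G)) =
        (d χ : ℂ) * (θ : Subgroup.centralizer ({x} : Set G) → ℂ) y := by
    intro χ hχ
    have : d χ = Classical.choose (H.exists_int hχ) := by
      simp only [hddef, dif_pos hχ]
    rw [this]
    exact Classical.choose_spec (H.exists_int hχ)
  have hd0 : ∀ χ ∈ B, d χ ≠ 0 := fun χ hχ => H.int_ne_zero hχ (hd χ hχ)
  have hsum := H.sum_sq d hd
  set S : Finset (IrrCharacter G) := Finset.univ.filter (· ∈ B) with hS
  have hBS : B = ↑S := by
    ext χ
    simp [hS]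
  have hmemS : ∀ χ, χ ∈ S ↔ χ ∈ B := by
    intro χ
    simp [hS]
  have hsumS : ∑ χ ∈ S, (d χ) ^ 2 = 2 := by
    rw [← hsum, hS, Finset.sum_filter]
    apply Finset.sum_congr rfl
    intro χ _
    by_cases hχ : χ ∈ B
    · rw [if_pos hχ, Set.indicator_of_mem hχ]
    · rw [if_neg hχ, Set.indicator_of_notMem hχ]
  have hge : ∀ χ ∈ S, 1 ≤ (d χ) ^ 2 := by
    intro χ hχ
    have := hd0 χ ((hmemS χ).1 hχ)
    have h1 : 0 < (d χ) ^ 2 := by positivity
    omega
  have hcard_le : (S.card : ℤ) ≤ 2 := by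
    rw [← hsumS]
    have : (S.card : ℤ) = ∑ χ ∈ S, (1 : ℤ) := by simp
    rw [this]
    exact Finset.sum_le_sum hge
  have hcard : S.card = 2 := by
    have h0 : S.card ≠ 0 := by
      intro h0
      rw [Finset.card_eq_zero] at h0
      rw [h0, Finset.sum_empty] at hsumS
      omega
    have h1 : S.card ≠ 1 := by
      intro h1
      obtain ⟨χ, hχ⟩ := Finset.card_eq_one.1 h1
      rw [hχ, Finset.sum_singleton] at hsumS
      have h2 : (d χ) ^ 2 = 2 := hsumS
      have h3 : d χ ≤ 1 ∧ -1 ≤ d χ := by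
        constructor <;> nlinarith
      have h4 : d χ = -1 ∨ d χ = 0 ∨ d χ = 1 := by omega
      rcases h4 with h | h | h <;> rw [h] at h2 <;> norm_num at h2
    omega
  obtain ⟨χ₁, χ₂, hne12, hS12⟩ := Finset.card_eq_two.1 hcard
  have hχ₁ : χ₁ ∈ B := (hmemS χ₁).1 (by rw [hS12]; simp)
  have hχ₂ : χ₂ ∈ B := (hmemS χ₂).1 (by rw [hS12]; simp)
  rw [hS12, Finset.sum_pair hne12] at hsumS
  have hg1 := hge χ₁ (by rw [hS12]; simp)
  have hg2 := hge χ₂ (by rw [hS12]; simp)
  have hsq1 : (d χ₁) ^ 2 = 1 := by omega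
  have hsq2 : (d χ₂) ^ 2 = 1 := by omega
  have hpm : ∀ z : ℤ, z ^ 2 = 1 → z = 1 ∨ z = -1 := by
    intro z hz
    have h1 : (z - 1) * (z + 1) = 0 := by ring_nf; rw [hz]; ring
    rcases mul_eq_zero.1 h1 with h | h
    · left; omega
    · right; omega
  have hd1 := hpm _ hsq1
  have hd2 := hpm _ hsq2
  -- values at `x`
  have hone : ¬ 2 ∣ orderOf (1 : Subgroup.centralizer ({x} : Set G)) := by
    rw [orderOf_one]
    norm_num
  set t : ℂ := (θ : Subgroup.centralizer ({x} : Set G) → ℂ) 1 with ht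
  have ht0 : t ≠ 0 := irr_one_ne_zero θ.2
  have hx1 : (χ₁ : G → ℂ) x = (d χ₁ : ℂ) * t := by
    have := hd χ₁ hχ₁ 1 hone
    rwa [OneMemClass.coe_one, mul_one] at this
  have hx2 : (χ₂ : G → ℂ) x = (d χ₂ : ℂ) * t := by
    have := hd χ₂ hχ₂ 1 hone
    rwa [OneMemClass.coe_one, mul_one] at this
  have hxne : x ≠ 1 := by
    intro h
    have := H.hx
    rw [h, orderOf_one] at this
    omega
  have hppx : IsPPart 2 x x :=
    ⟨1, mul_one x, Commute.one_right x, ⟨1, by rw [H.hx, pow_one]⟩, by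
      rw [orderOf_one]; norm_num⟩
  have hnc : ¬ IsConj x 1 := by
    rw [isConj_one_left]
    exact hxne
  have horth : ∀ h : G, ¬ 2 ∣ orderOf h →
      (χ₁ : G → ℂ) x * (χ₁ : G → ℂ) h⁻¹ + (χ₂ : G → ℂ) x * (χ₂ : G → ℂ) h⁻¹ = 0 := by
    intro h hh
    have hpp1 : IsPPart 2 h 1 :=
      ⟨h, one_mul h, Commute.one_left h, ⟨0, by rw [orderOf_one, pow_zero]⟩, hh⟩
    have key := (Cfsg.Agent.S0925.result 2 M H.hM).2 x h x 1 hppx hpp1 hnc B H.hB
    rw [hBS, finsum_mem_coe_finset, hS12, Finset.sum_pair hne12] at key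
    exact key
  -- opposite signs
  have hprod : d χ₁ * d χ₂ = -1 := by
    have h1 := horth 1 (by rw [orderOf_one]; norm_num)
    rw [inv_one, hx1, hx2, irr_one_eq_charDegree χ₁.2, irr_one_eq_charDegree χ₂.2] at h1
    have h2 : ((d χ₁ * (charDegree (χ₁ : G → ℂ) : ℤ) +
        d χ₂ * (charDegree (χ₂ : G → ℂ) : ℤ) : ℤ) : ℂ) * t = 0 := by
      push_cast
      rw [← h1]
      ring
    have h3 : ((d χ₁ * (charDegree (χ₁ : G → ℂ) : ℤ) +
        d χ₂ * (charDegree (χ₂ : G → ℂ) : ℤ) : ℤ) : ℂ) = 0 := by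
      rcases mul_eq_zero.1 h2 with h | h
      · exact h
      · exact absurd h ht0
    have h4 : d χ₁ * (charDegree (χ₁ : G → ℂ) : ℤ) +
        d χ₂ * (charDegree (χ₂ : G → ℂ) : ℤ) = 0 := by exact_mod_cast h3
    have hp1 : (0 : ℤ) < (charDegree (χ₁ : G → ℂ) : ℤ) := by
      exact_mod_cast charDegree_pos χ₁.2
    have hp2 : (0 : ℤ) < (charDegree (χ₂ : G → ℂ) : ℤ) := by
      exact_mod_cast charDegree_pos χ₂.2
    rcases hd1 with h | h <;> rcases hd2 with h' | h' <;> rw [h, h'] at h4 ⊢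
    · exfalso; omega
    · norm_num
    · norm_num
    · exfalso; omega
  have hneg : (d χ₂ : ℂ) = -(d χ₁ : ℂ) := by
    rcases hd1 with h | h <;> rcases hd2 with h' | h' <;> rw [h, h'] at hprod ⊢
    · exfalso; omega
    · norm_num
    · norm_num
    · exfalso; omega
  have hd1c : (d χ₁ : ℂ) ≠ 0 := by
    exact_mod_cast hd0 χ₁ hχ₁
  have hagree : ∀ g : G, ¬ 2 ∣ orderOf g → (χ₁ : G → ℂ) g = (χ₂ : G → ℂ) g := by
    intro g hg
    have h1 := horth g⁻¹ (by rwa [orderOf_inv])
    rw [inv_inv, hx1, hx2, hneg] at h1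
    have h2 : (d χ₁ : ℂ) * t * ((χ₁ : G → ℂ) g - (χ₂ : G → ℂ) g) = 0 := by
      rw [← h1]
      ring
    rcases mul_eq_zero.1 h2 with h | h
    · exact absurd h (mul_ne_zero hd1c ht0)
    · exact sub_eq_zero.1 h
  refine ⟨?_, ?_, χ₁, hχ₁, χ₂, hχ₂, hne12, d χ₁, d χ₂, hd1, hd2, hprod,
    fun y hy => ⟨hd χ₁ hχ₁ y hy, hd χ₂ hχ₂ y hy⟩⟩
  · rw [Nat.card_coe_set_eq, hBS, Set.ncard_coe_finset, hcard]
  · intro χ hχ ψ hψ g hg
    have hχS : χ ∈ S := (hmemS χ).2 hχ
    have hψS : ψ ∈ S := (hmemS ψ).2 hψ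
    rw [hS12, Finset.mem_insert, Finset.mem_singleton] at hχS hψS
    rcases hχS with rfl | rfl <;> rcases hψS with rfl | rfl
    · rfl
    · exact hagree g hg
    · exact (hagree g hg).symm
    · rfl

end Values

end Cfsg.Agent.Helper18.DefectTwo
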