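import Mathlib
import Cfsg.Agent.Lib.Helper20.E8TLat

/-!
# S2375, piece Q2TAB: table facts on the `240` roots of `E₈`
-/

set_option autoImplicit false

namespace Cfsg.Agent.Helper20.E8T

theorem e8tq2tab_length : rcN.length = 240 := by decide +kernel

theorem e8tq2tab_neg : ∀ v : Fin 240, ∀ i : Fin 8, rc (239 - v.val) i = -rc v.val i := by
  decide +kernel

theorem rc_neg (v : ℕ) (hv : v < 240) : rc (239 - v) = -rc v := by
  funext i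
  exact e8tq2tab_neg ⟨v, hv⟩ i

theorem e8tq2tab_nodup : rcN.Nodup := by decide +kernel

theorem e8tq2tab_row : ∀ v : Fin 240,
    rcN.getD v.val [] = (List.finRange 8).map (fun i => (rc v.val i + 6).toNat) := by
  decide +kernel

theorem rc_injective (v : ℕ) (hv : v < 240) (v' : ℕ) (hv' : v' < 240) (h : rc v = rc v') : v = v' := by
  have h1 := e8tq2tab_row ⟨v, hv⟩
  have h2 := e8tq2tab_row ⟨v', hv'⟩
  simp only at h1 h2
  rw [h] at h1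
  have h3 : rcN.getD v [] = rcN.getD v' [] := h1.trans h2.symm
  have hl : v < rcN.length := by rw [e8tq2tab_length]; exact hv
  have hl' : v' < rcN.length := by rw [e8tq2tab_length]; exact hv'
  rw [List.getD_eq_getElem _ _ hl, List.getD_eq_getElem _ _ hl'] at h3
  exact (List.Nodup.getElem_inj_iff e8tq2tab_nodup).1 h3

/-- the bilinear form, explicitly -/
theorem e8tq2tab_ip (y z : Fin 8 → ℤ) :
    ip y z = 2 * (y 0 * z 0 + y 1 * z 1 + y 2 * z 2 + y 3 * z 3 + y 4 * z 4 + y 5 * z 5 + y 6 * z 6 + y 7 * z 7) -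
      (y 0 * z 2 + y 2 * z 0 + y 1 * z 3 + y 3 * z 1 + y 2 * z 3 + y 3 * z 2 + y 3 * z 4 + y 4 * z 3 +
        y 4 * z 5 + y 5 * z 4 + y 5 * z 6 + y 6 * z 5 + y 6 * z 7 + y 7 * z 6) := by
  simp only [ip, dotProduct, Matrix.mulVec, Fin.sum_univ_eight, C8]
  simp
  ring

/-- the bilinear form on coordinate lists (shifted by `6`) -/
def e8tq2tab_ipL (A B : List ℕ) : ℤ :=
  2 * ((((A.getD 0 6 : ℕ) : ℤ) - 6) * (((B.getD 0 6 : ℕ) : ℤ) - 6) +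
      (((A.getD 1 6 : ℕ) : ℤ) - 6) * (((B.getD 1 6 : ℕ) : ℤ) - 6) +
      (((A.getD 2 6 : ℕ) : ℤ) - 6) * (((B.getD 2 6 : ℕ) : ℤ) - 6) +
      (((A.getD 3 6 : ℕ) : ℤ) - 6) * (((B.getD 3 6 : ℕ) : ℤ) - 6) +
      (((A.getD 4 6 : ℕ) : ℤ) - 6) * (((B.getD 4 6 : ℕ) : ℤ) - 6) +
      (((A.getD 5 6 : ℕ) : ℤ) - 6) * (((B.getD 5 6 : ℕ) : ℤ) - 6) +
      (((A.getD 6 6 : ℕ) : ℤ) - 6) * (((B.getD 6 6 : ℕ) : ℤ) - 6) +
      (((A.getD 7 6 : ℕ) : ℤ) - 6) * (((B.getD 7 6 : ℕ) : ℤ) - 6)) -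
    ((((A.getD 0 6 : ℕ) : ℤ) - 6) * (((B.getD 2 6 : ℕ) : ℤ) - 6) +
      (((A.getD 2 6 : ℕ) : ℤ) - 6) * (((B.getD 0 6 : ℕ) : ℤ) - 6) +
      (((A.getD 1 6 : ℕ) : ℤ) - 6) * (((B.getD 3 6 : ℕ) : ℤ) - 6) +
      (((A.getD 3 6 : ℕ) : ℤ) - 6) * (((B.getD 1 6 : ℕ) : ℤ) - 6) +
      (((A.getD 2 6 : ℕ) : ℤ) - 6) * (((B.getD 3 6 : ℕ) : ℤ) - 6) +
      (((A.getD 3 6 : ℕ) : ℤ) - 6) * (((B.getD 2 6 : ℕ) : ℤ) - 6) +
      (((A.getD 3 6 : ℕ) : ℤ) - 6) * (((B.getD 4 6 : ℕ) : ℤ) - 6) +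
      (((A.getD 4 6 : ℕ) : ℤ) - 6) * (((B.getD 3 6 : ℕ) : ℤ) - 6) +
      (((A.getD 4 6 : ℕ) : ℤ) - 6) * (((B.getD 5 6 : ℕ) : ℤ) - 6) +
      (((A.getD 5 6 : ℕ) : ℤ) - 6) * (((B.getD 4 6 : ℕ) : ℤ) - 6) +
      (((A.getD 5 6 : ℕ) : ℤ) - 6) * (((B.getD 6 6 : ℕ) : ℤ) - 6) +
      (((A.getD 6 6 : ℕ) : ℤ) - 6) * (((B.getD 5 6 : ℕ) : ℤ) - 6) +
      (((A.getD 6 6 : ℕ) : ℤ) - 6) * (((B.getD 7 6 : ℕ) : ℤ) - 6) +
      (((A.getD 7 6 : ℕ) : ℤ) - 6) * (((B.getD 6 6 : ℕ) : ℤ) - 6))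

theorem e8tq2tab_ip_eq (v w : ℕ) : ip (rc v) (rc w) = e8tq2tab_ipL (rcN.getD v []) (rcN.getD w []) := by
  rw [e8tq2tab_ip]
  rfl

/-- the check -/
def e8tq2tab_chk : Bool :=
  rcN.all fun A => rcN.all fun B =>
    !(decide (e8tq2tab_ipL A B = 1)) ||
      rcN.any fun X => decide (e8tq2tab_ipL X A = 1) && decide (e8tq2tab_ipL X B = 1)

theorem e8tq2tab_chk_true : e8tq2tab_chk = true := by decide +kernel

/-- two roots with inner product `1` have a common neighbour -/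
theorem q2_table (a : ℕ) (ha : a < 240) (b : ℕ) (hb : b < 240) (h : ip (rc a) (rc b) = 1) :
    ∃ x < 240, ip (rc x) (rc a) = 1 ∧ ip (rc x) (rc b) = 1 := by
  have hc := e8tq2tab_chk_true
  unfold e8tq2tab_chk at hc
  rw [List.all_eq_true] at hc
  have hla : a < rcN.length := by rw [e8tq2tab_length]; exact ha
  have hlb : b < rcN.length := by rw [e8tq2tab_length]; exact hb
  have hA : rcN.getD a [] ∈ rcN := by
    rw [List.getD_eq_getElem _ _ hla]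
    exact List.getElem_mem hla
  have hB : rcN.getD b [] ∈ rcN := by
    rw [List.getD_eq_getElem _ _ hlb]
    exact List.getElem_mem hlb
  have h1 := hc _ hA
  rw [List.all_eq_true] at h1
  have h2 := h1 _ hB
  rw [e8tq2tab_ip_eq] at h
  rw [Bool.or_eq_true] at h2
  rcases h2 with h2 | h2
  · rw [Bool.not_eq_true', decide_eq_false_iff_not] at h2
    exact absurd h h2
  · rw [List.any_eq_true] at h2
    obtain ⟨X, hX, hX2⟩ := h2
    obtain ⟨x, hx, rfl⟩ := List.getElem_of_mem hX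
    rw [Bool.and_eq_true, decide_eq_true_eq, decide_eq_true_eq] at hX2
    refine ⟨x, by rw [← e8tq2tab_length]; exact hx, ?_, ?_⟩
    · rw [e8tq2tab_ip_eq, List.getD_eq_getElem _ _ hx]
      exact hX2.1
    · rw [e8tq2tab_ip_eq, List.getD_eq_getElem _ _ hx]
      exact hX2.2

end Cfsg.Agent.Helper20.E8T
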