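import Mathlib
import Cfsg.Agent.Lib.Helper20.E8TLat
import Cfsg.Agent.Lib.Helper18.E8TNORM
import Cfsg.Agent.Lib.Helper18.E8TPD8
import Cfsg.Agent.Lib.Helper18.E8TFINORD
import Cfsg.Agent.Lib.Helper18.E8TQ2TAB
import Cfsg.Agent.Lib.Helper1.E8TDETN

/-!
# S2375, piece Q2: `q = 2`, `(M' - 1) ℤ⁸ ⊆ (2 - M) ℤ⁸` forces `M' = 1`
-/

set_option autoImplicit false

namespace Cfsg.Agent.Helper20.E8T

/-- membership in `L' = (2 - M) ℤ⁸` -/
def e8tq2_L (M : Matrix (Fin 8) (Fin 8) ℤ) (y : Fin 8 → ℤ) : Prop :=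
  ∃ z : Fin 8 → ℤ, y = (qM 2 M).mulVec z

theorem e8tq2_L_add {M : Matrix (Fin 8) (Fin 8) ℤ} {y y' : Fin 8 → ℤ} (h : e8tq2_L M y) (h' : e8tq2_L M y') :
    e8tq2_L M (y + y') := by
  obtain ⟨z, rfl⟩ := h
  obtain ⟨z', rfl⟩ := h'
  exact ⟨z + z', (Matrix.mulVec_add _ _ _).symm⟩

theorem e8tq2_L_sub {M : Matrix (Fin 8) (Fin 8) ℤ} {y y' : Fin 8 → ℤ} (h : e8tq2_L M y) (h' : e8tq2_L M y') :
    e8tq2_L M (y - y') := by
  obtain ⟨z, rfl⟩ := h
  obtain ⟨z', rfl⟩ := h'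
  exact ⟨z - z', (Matrix.mulVec_sub _ _ _).symm⟩

theorem e8tq2_L_neg {M : Matrix (Fin 8) (Fin 8) ℤ} {y : Fin 8 → ℤ} (h : e8tq2_L M y) : e8tq2_L M (-y) := by
  obtain ⟨z, rfl⟩ := h
  exact ⟨-z, (Matrix.mulVec_neg _ _).symm⟩

theorem e8tq2_L_smul {M : Matrix (Fin 8) (Fin 8) ℤ} {y : Fin 8 → ℤ} (k : ℤ) (h : e8tq2_L M y) :
    e8tq2_L M (k • y) := by
  obtain ⟨z, rfl⟩ := h
  exact ⟨k • z, (Matrix.mulVec_smul _ _ _).symm⟩

theorem e8tq2_L_norm {M : Matrix (Fin 8) (Fin 8) ℤ} (hM : IsGood M) {y : Fin 8 → ℤ} (h : e8tq2_L M y)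
    (hy : y ≠ 0) : 6 ≤ ip y y := by
  obtain ⟨z, rfl⟩ := h
  have hz : z ≠ 0 := by
    rintro rfl
    exact hy (Matrix.mulVec_zero _)
  have h1 := norm_lower 2 M hM z hz
  norm_num at h1
  linarith

theorem e8tq2_L_331 {M : Matrix (Fin 8) (Fin 8) ℤ} (hM : IsGood M) (y : Fin 8 → ℤ) :
    e8tq2_L M ((331 : ℤ) • y) := by
  obtain ⟨z, hz⟩ := mq_smul_mem 2 le_rfl M hM.2 y
  have h331 : ((mq 2 : ℕ) : ℤ) = 331 := by norm_num [mq]
  rw [h331] at hz
  exact ⟨z, hz⟩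

theorem e8tq2_norm_sub (y z : Fin 8 → ℤ) : ip (y - z) (y - z) = ip y y - 2 * ip y z + ip z z := by
  rw [ip_sub_left, ip_sub_right, ip_sub_right, ip_comm z y]
  ring

theorem e8tq2_norm_add (y z : Fin 8 → ℤ) : ip (y + z) (y + z) = ip y y + 2 * ip y z + ip z z := by
  rw [ip_add_left, ip_add_right, ip_add_right, ip_comm z y]
  ring

/-- (a) a vector of norm `2` is not in `L'` -/
theorem e8tq2_a1 {M : Matrix (Fin 8) (Fin 8) ℤ} (hM : IsGood M) (v : Fin 8 → ℤ) (hv : ip v v = 2) :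
    ¬ e8tq2_L M v := by
  intro h
  have hv0 : v ≠ 0 := by
    rintro rfl
    rw [ip_zero_left] at hv
    norm_num at hv
  have h1 := e8tq2_L_norm hM h hv0
  omega

theorem e8tq2_a2 {M : Matrix (Fin 8) (Fin 8) ℤ} (hM : IsGood M) (v : Fin 8 → ℤ) (hv : ip v v = 2) :
    ¬ e8tq2_L M ((2 : ℤ) • v) := by
  intro h
  apply e8tq2_a1 hM v hv
  have h1 := e8tq2_L_sub (e8tq2_L_331 hM v) (e8tq2_L_smul 165 h)
  have e : (331 : ℤ) • v - (165 : ℤ) • ((2 : ℤ) • v) = v := by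
    rw [smul_smul, ← sub_smul]
    norm_num
  rwa [e] at h1

theorem e8tq2_a3 {M : Matrix (Fin 8) (Fin 8) ℤ} (hM : IsGood M) (v : Fin 8 → ℤ) (hv : ip v v = 2) :
    ¬ e8tq2_L M ((3 : ℤ) • v) := by
  intro h
  apply e8tq2_a1 hM v hv
  have h1 := e8tq2_L_sub (e8tq2_L_331 hM v) (e8tq2_L_smul 110 h)
  have e : (331 : ℤ) • v - (110 : ℤ) • ((3 : ℤ) • v) = v := by
    rw [smul_smul, ← sub_smul]
    norm_num
  rwa [e] at h1

/-- (b) -/
theorem e8tq2_b {M : Matrix (Fin 8) (Fin 8) ℤ} (hM : IsGood M) (M' : Matrix (Fin 8) (Fin 8) ℤ) (hM' : IsW M')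
    (hdiff : ∀ y : Fin 8 → ℤ, e8tq2_L M (M'.mulVec y - y)) (v : Fin 8 → ℤ) (hv : ip v v = 2) :
    M'.mulVec v = v ∨ ip (M'.mulVec v) v = -1 := by
  by_cases h0 : M'.mulVec v = v
  · left
    exact h0
  right
  have hu : M'.mulVec v - v ≠ 0 := fun h => h0 (sub_eq_zero.1 h)
  have h1 := e8tq2_L_norm hM (hdiff v) hu
  have e2 : ip (M'.mulVec v) (M'.mulVec v) = 2 := by rw [isw_ip hM', hv]
  have e3 := ip_self_nonneg (M'.mulVec v + v)
  rw [e8tq2_norm_sub, e2, hv] at h1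
  rw [e8tq2_norm_add, e2, hv] at e3
  by_contra hc
  have hc2 : ip (M'.mulVec v) v = -2 := by omega
  have h5 : M'.mulVec v + v = 0 := by
    apply ip_self_eq_zero
    rw [e8tq2_norm_add, e2, hv, hc2]
    norm_num
  apply e8tq2_a2 hM v hv
  have h6 := e8tq2_L_neg (hdiff v)
  have e : -(M'.mulVec v - v) = (2 : ℤ) • v := by
    rw [eq_neg_of_add_eq_zero_left h5, two_smul]
    abel
  rwa [e] at h6

/-- (c) -/
theorem e8tq2_c {M : Matrix (Fin 8) (Fin 8) ℤ} (hM : IsGood M) (M' : Matrix (Fin 8) (Fin 8) ℤ) (hM' : IsW M')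
    (hdiff : ∀ y : Fin 8 → ℤ, e8tq2_L M (M'.mulVec y - y)) (v : Fin 8 → ℤ) (hv : ip v v = 2) :
    M'.mulVec (M'.mulVec v) = v := by
  rcases e8tq2_b hM M' hM' hdiff v hv with h0 | hc
  · rw [h0, h0]
  have e2 : ip (M'.mulVec v) (M'.mulVec v) = 2 := by rw [isw_ip hM', hv]
  have e2' : ip (M'.mulVec (M'.mulVec v)) (M'.mulVec (M'.mulVec v)) = 2 := by rw [isw_ip hM', e2]
  have hne : M'.mulVec v ≠ v := by
    intro h
    rw [h, hv] at hc
    norm_num at hc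
  rcases e8tq2_b hM M' hM' hdiff (M'.mulVec v) e2 with h0 | hc'
  · exact absurd (isw_injective hM' h0) hne
  by_contra hw
  have hw0 : M'.mulVec (M'.mulVec v) - v ≠ 0 := fun h => hw (sub_eq_zero.1 h)
  have hwL : e8tq2_L M (M'.mulVec (M'.mulVec v) - v) := by
    have h1 := e8tq2_L_add (hdiff (M'.mulVec v)) (hdiff v)
    have e : M'.mulVec (M'.mulVec v) - M'.mulVec v + (M'.mulVec v - v) = M'.mulVec (M'.mulVec v) - v := by abel
    rwa [e] at h1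
  have h1 := e8tq2_L_norm hM hwL hw0
  have e3 := ip_self_nonneg (M'.mulVec (M'.mulVec v) + v)
  rw [e8tq2_norm_sub, e2', hv] at h1
  rw [e8tq2_norm_add, e2', hv] at e3
  by_cases hd : ip (M'.mulVec (M'.mulVec v)) v = -2
  · have h5 : M'.mulVec (M'.mulVec v) + v = 0 := by
      apply ip_self_eq_zero
      rw [e8tq2_norm_add, e2', hv, hd]
      norm_num
    apply e8tq2_a2 hM v hv
    have h6 := e8tq2_L_neg hwL
    have e : -(M'.mulVec (M'.mulVec v) - v) = (2 : ℤ) • v := by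
      rw [eq_neg_of_add_eq_zero_left h5, two_smul]
      abel
    rwa [e] at h6
  · have hd1 : ip (M'.mulVec (M'.mulVec v)) v = -1 := by omega
    have h5 : (M'.mulVec (M'.mulVec v) + M'.mulVec v) + v = 0 := by
      apply ip_self_eq_zero
      rw [e8tq2_norm_add, e8tq2_norm_add, ip_add_left, e2', e2, hv, hc', hd1, hc]
      norm_num
    apply e8tq2_a3 hM v hv
    have h6 := e8tq2_L_neg (e8tq2_L_add hwL (hdiff v))
    have e : -(M'.mulVec (M'.mulVec v) - v + (M'.mulVec v - v)) = (3 : ℤ) • v := by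
      have e5 : M'.mulVec (M'.mulVec v) = -(M'.mulVec v) - v := by
        rw [← sub_eq_zero, ← h5]
        abel
      rw [e5]
      have : (3 : ℤ) • v = v + v + v := by
        rw [show (3 : ℤ) = 1 + 1 + 1 by norm_num, add_smul, add_smul, one_smul]
      rw [this]
      abel
    rwa [e] at h6

theorem corew2_core2 (M : Matrix (Fin 8) (Fin 8) ℤ) (hM : IsGood M)
    (M' : Matrix (Fin 8) (Fin 8) ℤ) (hM' : IsW M')
    (hdiff : ∀ y : Fin 8 → ℤ, ∃ z : Fin 8 → ℤ, M'.mulVec y - y = (qM 2 M).mulVec z) : M' = 1 := by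
  have hdiff' : ∀ y : Fin 8 → ℤ, e8tq2_L M (M'.mulVec y - y) := hdiff
  apply isw_eq_one
  intro v0 hv0
  by_contra hne
  have hv : ip (rc v0) (rc v0) = 2 := ip_rc v0 hv0
  obtain ⟨v1, hv1, hv1e⟩ := hM'.2 v0 hv0
  have hc : ip (M'.mulVec (rc v0)) (rc v0) = -1 := by
    rcases e8tq2_b hM M' hM' hdiff' (rc v0) hv with h | h
    · exact absurd h hne
    · exact h
  have e2 : ip (M'.mulVec (rc v0)) (M'.mulVec (rc v0)) = 2 := by rw [isw_ip hM', hv]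
  -- `z = v - v'`
  have hzL : e8tq2_L M (rc v0 - M'.mulVec (rc v0)) := by
    have h1 := e8tq2_L_neg (hdiff' (rc v0))
    rwa [neg_sub] at h1
  have hzz : ip (rc v0 - M'.mulVec (rc v0)) (rc v0 - M'.mulVec (rc v0)) = 6 := by
    rw [e8tq2_norm_sub, hv, e2, ip_comm, hc]
    norm_num
  have hMz : M'.mulVec (rc v0 - M'.mulVec (rc v0)) = -(rc v0 - M'.mulVec (rc v0)) := by
    rw [Matrix.mulVec_sub, e8tq2_c hM M' hM' hdiff' (rc v0) hv]
    abel
  -- the common neighbour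
  have hb : 239 - v1 < 240 := by omega
  have hab : ip (rc v0) (rc (239 - v1)) = 1 := by
    rw [rc_neg v1 hv1, ← hv1e, ip_neg_right, ip_comm, hc]
    norm_num
  obtain ⟨x, hx, hxa, hxb⟩ := q2_table v0 hv0 (239 - v1) hb hab
  rw [rc_neg v1 hv1, ← hv1e, ip_neg_right] at hxb
  have hxx : ip (rc x) (rc x) = 2 := ip_rc x hx
  have hzx : ip (rc v0 - M'.mulVec (rc v0)) (rc x) = 2 := by
    rw [ip_sub_left, ip_comm (rc v0), ip_comm (M'.mulVec (rc v0)), hxa]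
    linarith
  have hzMx : ip (rc v0 - M'.mulVec (rc v0)) (M'.mulVec (rc x)) = -2 := by
    have h1 := isw_ip hM' (rc v0 - M'.mulVec (rc v0)) (M'.mulVec (rc x))
    rw [e8tq2_c hM M' hM' hdiff' (rc x) hxx, hMz, ip_neg_left, hzx] at h1
    linarith
  have hxne : M'.mulVec (rc x) ≠ rc x := by
    intro h
    rw [h, hzx] at hzMx
    norm_num at hzMx
  have hcx : ip (M'.mulVec (rc x)) (rc x) = -1 := by
    rcases e8tq2_b hM M' hM' hdiff' (rc x) hxx with h | h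
    · exact absurd h hxne
    · exact h
  have e2x : ip (M'.mulVec (rc x)) (M'.mulVec (rc x)) = 2 := by rw [isw_ip hM', hxx]
  have htL : e8tq2_L M (rc x - M'.mulVec (rc x)) := by
    have h1 := e8tq2_L_neg (hdiff' (rc x))
    rwa [neg_sub] at h1
  have htt : ip (rc x - M'.mulVec (rc x)) (rc x - M'.mulVec (rc x)) = 6 := by
    rw [e8tq2_norm_sub, hxx, e2x, ip_comm, hcx]
    norm_num
  have hzt : ip (rc v0 - M'.mulVec (rc v0)) (rc x - M'.mulVec (rc x)) = 4 := by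
    rw [ip_sub_right, hzx, hzMx]
    norm_num
  have hfin : ip ((rc v0 - M'.mulVec (rc v0)) - (rc x - M'.mulVec (rc x)))
      ((rc v0 - M'.mulVec (rc v0)) - (rc x - M'.mulVec (rc x))) = 4 := by
    rw [e8tq2_norm_sub, hzz, htt, hzt]
    norm_num
  have hfL := e8tq2_L_sub hzL htL
  have hf0 : (rc v0 - M'.mulVec (rc v0)) - (rc x - M'.mulVec (rc x)) ≠ 0 := by
    intro h
    rw [h, ip_zero_left] at hfin
    norm_num at hfin
  have h6 := e8tq2_L_norm hM hfL hf0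
  omega

end Cfsg.Agent.Helper20.E8T
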