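import Mathlib
import Cfsg.Prelude.Def_Blocks
import Cfsg.Agent.Lib.Helper24.RamifiedCyc
import Cfsg.Agent.S0856
import Cfsg.Agent.S0868

/-!
# Coset averages against an extension, general quotient (helper18's library)

`N ⊴ T`, `η ∈ Irr(T)` restricting irreducibly to `N`.  Characters of `T` whose restriction to
`N` is a multiple of `η_N` are the product of `η` with their coset average; characters whose
restriction to `N` does not involve `η_N` have zero coset average.
-/

set_option autoImplicit false
set_option linter.style.haveILetI false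
set_option linter.unusedSectionVars false

namespace Cfsg.Agent.Helper18.ExtAvg

open Cfsg Cfsg.Agent.Helper24 Cfsg.Agent.Helper5 Cfsg.Agent.Helper24.RamCyc
open scoped ComplexConjugate

universe u

variable {T : Type u} [Group T] [Fintype T] (N : Subgroup T) [hN : N.Normal] [Fintype N]

/-- the coset norm of an extension: `∑_{n ∈ N} |η(nt)|² = |N|` -/
theorem cosetAvg_self {η : T → ℂ} (hη : IsIrrCharacter T η)
    (hηN : IsIrrCharacter N (fun n : N => η n)) (t : T) : cosetAvg N η η t = 1 := by
  have h := (Cfsg.Agent.S0868.result N η hη hηN η hη (cosetAvg N η η) rfl).2.2 rfl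
  exact congrFun h t

theorem exists_ne_zero {η : T → ℂ} (hη : IsIrrCharacter T η)
    (hηN : IsIrrCharacter N (fun n : N => η n)) (t : T) : ∃ n : N, η ((n : T) * t) ≠ 0 := by
  by_contra hcon
  push Not at hcon
  have h := cosetAvg_self N hη hηN t
  rw [cosetAvg_apply] at h
  simp only [hcon, zero_mul, Finset.sum_const_zero, mul_zero] at h
  exact zero_ne_one h

/-- the coset average of an irreducible character not over `η_N` vanishes -/
theorem cosetAvg_eq_zero_of_irr {η : T → ℂ} (hη : IsIrrCharacter T η)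
    (hηN : IsIrrCharacter N (fun n : N => η n)) {ψ : T → ℂ} (hψ : IsIrrCharacter T ψ)
    (h0 : classInner (fun n : N => ψ n) (fun n : N => η n) = 0) : cosetAvg N ψ η = 0 :=
  (Cfsg.Agent.S0868.result N η hη hηN ψ hψ (cosetAvg N ψ η) rfl).2.1 h0

/-- **Gallagher, general quotient**: an irreducible character over `η_N` is `η` times its coset
average. -/
theorem eq_cosetAvg_mul_of_irr {η : T → ℂ} (hη : IsIrrCharacter T η)
    (hηN : IsIrrCharacter N (fun n : N => η n)) {ψ : T → ℂ} (hψ : IsIrrCharacter T ψ)
    (hover : classInner (fun n : N => ψ n) (fun n : N => η n) ≠ 0) :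
    ψ = cosetAvg N ψ η * η := by
  classical
  have hcfη := isClassFunction_of_isIrrCharacter hη
  have hcfψ := isClassFunction_of_isIrrCharacter hψ
  have hone : IsIrrCharacter N (fun _ : N => (1 : ℂ)) := isIrrCharacter_one
  set ϑ : N → ℂ := fun n : N => η n with hϑdef
  have hϑinv : ∀ (g : T) (n : N), ϑ ⟨g * n * g⁻¹, hN.conj_mem (n : T) n.2 g⟩ = ϑ n := by
    intro g n
    exact hcfη n g
  have hprodeq : ((fun _ : N => (1 : ℂ)) * ϑ) = ϑ := by
    funext n; simp
  have hgal := Cfsg.Agent.S0856.result N (fun _ => (1 : ℂ)) ϑ hone hηN (fun g n => rfl) hϑinv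
    (by rw [hprodeq]; exact hηN) η hη (fun n => rfl)
  rw [hprodeq] at hgal
  obtain ⟨-, -, hsurj⟩ := hgal
  have hψmem : ψ ∈ {ψ : T → ℂ | IsIrrCharacter T ψ ∧ classInner (indFun N ϑ) ψ ≠ 0} := by
    refine ⟨hψ, ?_⟩
    rw [frobenius_reciprocity N ϑ hcfψ, ← classInner_conj_symm]
    intro h
    apply hover
    have := congrArg conj h
    rwa [Complex.conj_conj, map_zero] at this
  obtain ⟨β, ⟨hβ, hβind⟩, hβψ⟩ := hsurj hψmem
  simp only at hβψ
  have hβN := ntrivial_of_constituent_ind_one N hβ hβind
  have hβc := isCharacter_of_isIrrCharacter hβ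
  have hβleft : ∀ (n : N) (g : T), β ((n : T) * g) = β g := by
    intro n g
    have h1 : (n : T) * g = g * (g⁻¹ * n * g) := by group
    rw [h1]
    have hmem : g⁻¹ * (n : T) * g ∈ N := by
      have := hN.conj_mem (n : T) n.2 g⁻¹
      simpa using this
    exact char_mul_of_mem_charKer hβc ((mem_charKer hβc _).mpr (hβN _ hmem)) g
  have havg : cosetAvg N ψ η = β := by
    funext t
    rw [cosetAvg_apply, ← hβψ]
    have h1 : ∀ n : N, (β * η) ((n : T) * t) * conj (η ((n : T) * t)) =
        β t * (η ((n : T) * t) * conj (η ((n : T) * t))) := by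
      intro n
      rw [Pi.mul_apply, hβleft n t]
      ring
    rw [Finset.sum_congr rfl (fun n _ => h1 n), ← Finset.mul_sum, mul_left_comm]
    have h2 := cosetAvg_self N hη hηN t
    rw [cosetAvg_apply] at h2
    rw [h2, mul_one]
  rw [havg, hβψ]

/-- a character whose restriction to `N` is a multiple of `η_N` is `η` times its coset
average -/
theorem eq_cosetAvg_mul {η : T → ℂ} (hη : IsIrrCharacter T η)
    (hηN : IsIrrCharacter N (fun n : N => η n)) {ξ : T → ℂ} (hξ : IsCharacter T ξ) (c : ℂ)
    (hξN : (fun n : N => ξ n) = c • (fun n : N => η n)) :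
    ξ = cosetAvg N ξ η * η := by
  classical
  letI := irrFintype (G := T)
  obtain ⟨hnat, hdec⟩ := isCharacter_decomp hξ
  have hterm : ∀ μ : IrrCharacter T, classInner ξ (μ : T → ℂ) • (μ : T → ℂ) =
      classInner ξ (μ : T → ℂ) • (cosetAvg N (μ : T → ℂ) η * η) := by
    intro μ
    by_cases h0 : classInner ξ (μ : T → ℂ) = 0
    · rw [h0, zero_smul, zero_smul]
    · have hover := over_of_constituent N hηN hξ c hξN μ.2 h0
      rw [← eq_cosetAvg_mul_of_irr N hη hηN μ.2 hover]
  have h1 : cosetAvg N ξ η = ∑ μ : IrrCharacter T,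
      classInner ξ (μ : T → ℂ) • cosetAvg N (μ : T → ℂ) η := by
    conv_lhs => rw [hdec]
    exact cosetAvg_sum_left N Finset.univ _ _ η
  rw [h1, Finset.sum_mul]
  conv_lhs => rw [hdec]
  apply Finset.sum_congr rfl
  intro μ _
  rw [hterm μ, smul_mul_assoc]

/-- a character whose restriction to `N` does not involve `η_N` has zero coset average -/
theorem cosetAvg_eq_zero {η : T → ℂ} (hη : IsIrrCharacter T η)
    (hηN : IsIrrCharacter N (fun n : N => η n)) {ξ : T → ℂ} (hξ : IsCharacter T ξ)
    (h0 : classInner (fun n : N => ξ n) (fun n : N => η n) = 0) :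
    cosetAvg N ξ η = 0 := by
  classical
  letI := irrFintype (G := T)
  letI := irrFintype (G := N)
  obtain ⟨hnat, hdec⟩ := isCharacter_decomp hξ
  have h1 : cosetAvg N ξ η = ∑ μ : IrrCharacter T,
      classInner ξ (μ : T → ℂ) • cosetAvg N (μ : T → ℂ) η := by
    conv_lhs => rw [hdec]
    exact cosetAvg_sum_left N Finset.univ _ _ η
  rw [h1]
  apply Finset.sum_eq_zero
  intro μ _
  by_cases hm : classInner ξ (μ : T → ℂ) = 0
  · rw [hm, zero_smul]
  · have hμ0 : classInner (fun n : N => (μ : T → ℂ) n) (fun n : N => η n) = 0 := by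
      by_contra hne
      apply absurd h0
      -- `ξ = μ + ρ`
      obtain ⟨ρ, hρ, hsum⟩ := exists_add_of_constituent hξ μ.2 hm
      have hμN : IsCharacter N (fun n : N => (μ : T → ℂ) n) :=
        isCharacter_restrict N (isCharacter_of_isIrrCharacter μ.2)
      have hρN : IsCharacter N (fun n : N => ρ n) := isCharacter_restrict N hρ
      have h2 : (fun n : N => ξ n) = (fun n : N => (μ : T → ℂ) n) + (fun n : N => ρ n) := by
        rw [hsum]
        rfl
      rw [h2]
      exact classInner_add_ne_zero hμN hρN (isCharacter_of_isIrrCharacter hηN) hne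
    rw [cosetAvg_eq_zero_of_irr N hη hηN μ.2 hμ0, smul_zero]

end Cfsg.Agent.Helper18.ExtAvg
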