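import Mathlib
import Cfsg.Agent.Lib.Lead.TwClsAutPar
import Cfsg.Agent.Lib.Lead.TwReeCount

/-!
# S2369 piece CELL (core): the order of an element of `B¹ ∪ B¹ n_v B¹` divides the order of the minimal parabolic
subgroup `P_v`, the order of `P_v` being taken as a hypothesis.
-/

set_option autoImplicit false
set_option linter.unusedSectionVars false
set_option linter.unusedSimpArgs false
set_option linter.unusedVariables false

namespace Cfsg.Agent.Helper12.F4C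

open Cfsg Cfsg.Lie Cfsg.Agent.Lead.Chev Cfsg.Agent.Lead.Tw

section generic

variable {K : Type*} [Field K] {D : ChevalleyDatum} {hF : ChevFacts D K} {T : Twist D K hF.xadd}
  {S l₀ : List (List ℕ)} {G₁ : Subgroup (GL D.Idx K)} (h : ClsData hF T S l₀ G₁)
include h

/-- an element of `B¹ ∪ B¹ n_v B¹` lies in the minimal parabolic subgroup `P_v` -/
theorem cell_mem_parabolic [Fintype K] (hS : CorSize D) (hC : CorComb D) (v : List ℕ) (hv : v ∈ S)
    (g : GL D.Idx K) (hg : g ∈ G₁)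
    (hcell : g ∈ D.borelSubgroup K ∨ ∃ b ∈ D.borelSubgroup K ⊓ G₁, ∃ u ∈ D.borelSubgroup K ⊓ G₁,
      g = b * nWordGL D hF.xadd v * u) :
    (⟨g, hg⟩ : ↥G₁) ∈ ((h.twGroup hS hC).bnPair hS).parabolic {(h.sG v hv : ↥G₁)} := by
  have hG := h.twGroup hS hC
  set P := hG.bnPair hS with hP
  have hsS : h.sG v hv ∈ P.S := ⟨v, hv, rfl⟩
  rw [mem_parabolic_singleton P ⟨_, hsS⟩]
  rcases hcell with hB | ⟨b, hb, u, hu, e⟩
  · left
    rw [h.mem_bnB hS hC]
    exact hB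
  · right
    obtain ⟨hbB, hbG⟩ := Subgroup.mem_inf.1 hb
    obtain ⟨huB, huG⟩ := Subgroup.mem_inf.1 hu
    refine ⟨⟨b, hbG⟩, (h.mem_bnB hS hC _).2 hbB, ⟨u, huG⟩, (h.mem_bnB hS hC _).2 huB, ?_⟩
    apply Subtype.ext
    simp only [Subgroup.coe_mul, ClsData.sG_coe]
    exact e

/-- PIECE CELL, with the order of `P_v` as a hypothesis -/
theorem cell_core [Fintype K] (hS : CorSize D) (hC : CorComb D) (v : List ℕ) (hv : v ∈ S)
    (N : ℕ)
    (hcard : Nat.card ↥(((h.twGroup hS hC).bnPair hS).parabolic {(h.sG v hv : ↥G₁)}) = N)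
    (g : GL D.Idx K) (hg : g ∈ G₁)
    (hcell : g ∈ D.borelSubgroup K ∨ ∃ b ∈ D.borelSubgroup K ⊓ G₁, ∃ u ∈ D.borelSubgroup K ⊓ G₁,
      g = b * nWordGL D hF.xadd v * u) :
    orderOf g ∣ N := by
  have hmem := cell_mem_parabolic h hS hC v hv g hg hcell
  set Pv := ((h.twGroup hS hC).bnPair hS).parabolic {(h.sG v hv : ↥G₁)} with hPv
  have h1 : orderOf (⟨⟨g, hg⟩, hmem⟩ : ↥Pv) ∣ Nat.card ↥Pv := orderOf_dvd_natCard _
  have h2 : orderOf (⟨⟨g, hg⟩, hmem⟩ : ↥Pv) = orderOf g := by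
    rw [← Subgroup.orderOf_coe, ← Subgroup.orderOf_coe]
  rw [h2, hcard] at h1
  exact h1

end generic

end Cfsg.Agent.Helper12.F4C
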