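import Mathlib
import Cfsg.Agent.Lib.Helper12.F4CDefs

/-!
# S2369 piece NEG: an `n_w`-conjugate of `Z4(a) U5(t) Z6(c)`, `t ≠ 0`, is not in the Borel subgroup when `w` makes
the roots `39, 45` negative.
-/

set_option autoImplicit false
set_option linter.unusedSectionVars false
set_option linter.unusedSimpArgs false
set_option linter.unusedVariables false

namespace Cfsg.Agent.Helper12.F4C

open Cfsg Cfsg.Lie Cfsg.Agent.Lead.Chev Cfsg.Agent.Lead.Tw Cfsg.Agent.Helper11.F4I

section aux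

variable {K : Type*} [Field K]

theorem neg_X_mem_negU (r : ℕ) (hr : chevF4.IsNegRoot r) (t : K) : X r t ∈ chevF4.negUnipotent K :=
  Subgroup.subset_closure ⟨r, t, hr, by rw [xGL_val]⟩

theorem neg_X_mem_posU (r : ℕ) (hr : chevF4.IsPosRoot r) (t : K) : X r t ∈ chevF4.posUnipotent K :=
  Subgroup.subset_closure ⟨r, t, hr, by rw [xGL_val]⟩

/-- an element of `B ∩ V` is trivial -/
theorem neg_eq_one_of_mem (x : GL chevF4.Idx K) (hB : x ∈ chevF4.borelSubgroup K)
    (hV : x ∈ chevF4.negUnipotent K) : x = 1 := by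
  have h1 : x ∈ chevF4.borelSubgroup K ⊓ chevF4.negUnipotent K := ⟨hB, hV⟩
  rwa [(F4.hF (K := K)).borel_inf_negUnipotent, Subgroup.mem_bot] at h1

theorem neg_conj_eq_one (n x : GL chevF4.Idx K) (h : n * x * n⁻¹ = 1) : x = 1 := by
  have : x = n⁻¹ * (n * x * n⁻¹) * n := by group
  rw [this, h]
  group

/-- a pair of root elements on roots of the same sign lies in `U` or in `V` -/
theorem neg_pair_mem (w : List ℕ) (r r' : ℕ) (h : SameSign w r r') (s s' : K) :
    X (reflWord chevF4 w r) s * X (reflWord chevF4 w r') s' ∈ chevF4.posUnipotent K ∨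
      X (reflWord chevF4 w r) s * X (reflWord chevF4 w r') s' ∈ chevF4.negUnipotent K := by
  rcases h with ⟨h1, h2⟩ | ⟨h1, h2⟩
  · exact Or.inl (mul_mem (neg_X_mem_posU _ h1 _) (neg_X_mem_posU _ h2 _))
  · exact Or.inr (mul_mem (neg_X_mem_negU _ h1 _) (neg_X_mem_negU _ h2 _))

end aux

variable {K : Type*} [Field K] [Fintype K] [CharP K 2] {m : ℕ} (hK : Fintype.card K = 2 ^ (2 * m + 1))
  (hperf : ∀ x : K, ∃ y : K, y ^ 2 = x) (f : K ≃+* K) (hf : ∀ t, f t = t ^ (2 ^ m))
include hK hperf hf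

/-- PIECE NEG: if `w` makes the roots `39, 45` negative (and treats the pairs `44, 47` and `40, 46` uniformly), the
`n_w`-conjugate of `Z4(a) U5(t) Z6(c)`, `t ≠ 0`, is not in the Borel subgroup -/
theorem neg_not_borel (w : List ℕ) (hw : ∀ i ∈ w, i < chevF4.rank) (a t c : K) (ht : t ≠ 0)
    (h39 : chevF4.IsNegRoot (reflWord chevF4 w 39)) (h45 : chevF4.IsNegRoot (reflWord chevF4 w 45))
    (h4 : SameSign w 44 47) (h6 : SameSign w 40 46) :
    nWordGL chevF4 (F4.hF (K := K)).xadd w * NF f 0 0 0 0 0 a t 0 c 0 0 0 *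
      (nWordGL chevF4 (F4.hF (K := K)).xadd w)⁻¹ ∉ chevF4.borelSubgroup K := by
  intro hB
  have h3 := hff hK f hf
  -- the three blocks
  set A0 : GL chevF4.Idx K := X 44 a * X 47 ((f a) ^ 2) with hA0
  set Y0 : GL chevF4.Idx K := X 39 (f t) * X 45 t with hY0
  set C0 : GL chevF4.Idx K := X 40 c * X 46 ((f c) ^ 2) with hC0
  have eU4 : ∀ x : K, U4 f 0 x = X 44 x * X 47 ((f x) ^ 2) := by
    intro x
    simp only [U4, UB, map_zero, X_zero, one_mul, zero_mul, zero_add]
  have eU6 : ∀ x : K, U6 f 0 x = X 40 x * X 46 ((f x) ^ 2) := by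
    intro x
    simp only [U6, UB, map_zero, X_zero, one_mul, zero_mul, zero_add]
  have eU5 : ∀ x : K, U5 f x = X 39 (f x) * X 45 x := by
    intro x
    simp only [U5, UP]
  have eNF : ∀ x y z : K, NF f 0 0 0 0 0 x y 0 z 0 0 0 = U4 f 0 x * (U5 f y * U6 f 0 z) := by
    intro x y z
    simp only [NF, U1_zero, U2_zero, U3_zero, U7_zero, U8_zero, mul_one, one_mul]
  have e0 : NF f 0 0 0 0 0 a t 0 c 0 0 0 = A0 * (Y0 * C0) := by
    rw [eNF, eU4, eU5, eU6]
  -- a sub-product that is trivial forces `t = 0`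
  have kill : ∀ x z : K, NF f 0 0 0 0 0 x t 0 z 0 0 0 = 1 → False := by
    intro x z e
    rw [← NF_zero f] at e
    exact ht (NF_inj f h3 e).2.2.2.2.2.2.1
  have h44 : (44 : ℕ) < chevF4.nroots := by rw [nroots48]; norm_num
  have h47 : (47 : ℕ) < chevF4.nroots := by rw [nroots48]; norm_num
  have h39' : (39 : ℕ) < chevF4.nroots := by rw [nroots48]; norm_num
  have h45' : (45 : ℕ) < chevF4.nroots := by rw [nroots48]; norm_num
  have h40 : (40 : ℕ) < chevF4.nroots := by rw [nroots48]; norm_num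
  have h46 : (46 : ℕ) < chevF4.nroots := by rw [nroots48]; norm_num
  set n := nWordGL chevF4 (F4.hF (K := K)).xadd w with hn
  have eA : n * A0 * n⁻¹ = X (reflWord chevF4 w 44) a * X (reflWord chevF4 w 47) ((f a) ^ 2) := by
    rw [hA0, conj_mul2, nconj w hw 44 h44, nconj w hw 47 h47]
  have eY : n * Y0 * n⁻¹ = X (reflWord chevF4 w 39) (f t) * X (reflWord chevF4 w 45) t := by
    rw [hY0, conj_mul2, nconj w hw 39 h39', nconj w hw 45 h45']
  have eC : n * C0 * n⁻¹ = X (reflWord chevF4 w 40) c * X (reflWord chevF4 w 46) ((f c) ^ 2) := by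
    rw [hC0, conj_mul2, nconj w hw 40 h40, nconj w hw 46 h46]
  have hYV : n * Y0 * n⁻¹ ∈ chevF4.negUnipotent K := by
    rw [eY]
    exact mul_mem (neg_X_mem_negU _ h39 _) (neg_X_mem_negU _ h45 _)
  have hA := neg_pair_mem w 44 47 h4 a ((f a) ^ 2)
  have hC := neg_pair_mem w 40 46 h6 c ((f c) ^ 2)
  rw [← eA] at hA
  rw [← eC] at hC
  have hsplit : n * NF f 0 0 0 0 0 a t 0 c 0 0 0 * n⁻¹ = (n * A0 * n⁻¹) * ((n * Y0 * n⁻¹) * (n * C0 * n⁻¹)) := by
    rw [e0]
    group
  rw [hsplit] at hB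
  generalize hAA : n * A0 * n⁻¹ = A at *
  generalize hYY : n * Y0 * n⁻¹ = Y at *
  generalize hCC : n * C0 * n⁻¹ = C at *
  rcases hA with hAU | hAV <;> rcases hC with hCU | hCV
  · -- `A, C ∈ U`
    have hYB : Y ∈ chevF4.borelSubgroup K := by
      have : Y = A⁻¹ * (A * (Y * C)) * C⁻¹ := by group
      rw [this]
      exact mul_mem (mul_mem (inv_mem (posUnipotent_le_borel chevF4 hAU)) hB)
        (inv_mem (posUnipotent_le_borel chevF4 hCU))
    have hY1 := neg_eq_one_of_mem Y hYB hYV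
    rw [← hYY] at hY1
    have hY01 := neg_conj_eq_one n Y0 hY1
    apply kill 0 0
    rw [eNF, eU4, eU5, eU6]
    simp only [map_zero, X_zero, one_mul, mul_one, ne_eq, OfNat.ofNat_ne_zero, not_false_eq_true, zero_pow]
    exact hY01
  · -- `A ∈ U`, `C ∈ V`
    have hYCB : Y * C ∈ chevF4.borelSubgroup K := by
      have : Y * C = A⁻¹ * (A * (Y * C)) := by group
      rw [this]
      exact mul_mem (inv_mem (posUnipotent_le_borel chevF4 hAU)) hB
    have h1 := neg_eq_one_of_mem (Y * C) hYCB (mul_mem hYV hCV)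
    rw [← hYY, ← hCC] at h1
    have h2 : n * (Y0 * C0) * n⁻¹ = 1 := by
      rw [← h1]
      group
    have h01 := neg_conj_eq_one n (Y0 * C0) h2
    apply kill 0 c
    rw [eNF, eU4, eU5, eU6]
    simp only [map_zero, X_zero, one_mul, mul_one, ne_eq, OfNat.ofNat_ne_zero, not_false_eq_true, zero_pow]
    exact h01
  · -- `A ∈ V`, `C ∈ U`
    have hAYB : A * Y ∈ chevF4.borelSubgroup K := by
      have : A * Y = (A * (Y * C)) * C⁻¹ := by group
      rw [this]
      exact mul_mem hB (inv_mem (posUnipotent_le_borel chevF4 hCU))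
    have h1 := neg_eq_one_of_mem (A * Y) hAYB (mul_mem hAV hYV)
    rw [← hAA, ← hYY] at h1
    have h2 : n * (A0 * Y0) * n⁻¹ = 1 := by
      rw [← h1]
      group
    have h01 := neg_conj_eq_one n (A0 * Y0) h2
    apply kill a 0
    rw [eNF, eU4, eU5, eU6]
    simp only [map_zero, X_zero, one_mul, mul_one, ne_eq, OfNat.ofNat_ne_zero, not_false_eq_true, zero_pow]
    exact h01
  · -- `A, C ∈ V`
    have h1 := neg_eq_one_of_mem (A * (Y * C)) hB (mul_mem hAV (mul_mem hYV hCV))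
    rw [← hAA, ← hYY, ← hCC] at h1
    have h2 : n * (A0 * (Y0 * C0)) * n⁻¹ = 1 := by
      rw [← h1]
      group
    have h01 := neg_conj_eq_one n (A0 * (Y0 * C0)) h2
    apply kill a c
    rw [e0]
    exact h01

end Cfsg.Agent.Helper12.F4C
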