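import Mathlib
import Cfsg.Agent.Lib.Lead.IsoCalc
import Cfsg.Prelude.Def_LieTwisted

/-!
Word identities in `F₄` in characteristic two used for the two-generation of the large Ree groups
(generated, verified by the calculator of the Lead library).
-/

set_option autoImplicit false
set_option linter.unusedTactic false
set_option linter.unreachableTactic false

namespace Cfsg.Agent.Lead.MCalc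

open Cfsg Cfsg.Lie

def f4GT_A : List (ℕ × LPoly) := [(27, [⟨1, 0, 1, 0, 0, 0, 0⟩]), (25, [⟨1, 1, 0, 0, 0, 0, 0⟩]), (28, [⟨1, 0, 0, 1, 0, 0, 0⟩]), (28, [⟨1, 0, 0, 1, 0, 0, 1⟩]), (25, [⟨1, 1, 0, 0, 1, 0, 0⟩]), (27, [⟨1, 0, 1, 0, 0, 1, 0⟩]), (27, [⟨1, 0, 0, 0, 0, 1, 0⟩]), (25, [⟨1, 0, 0, 0, 1, 0, 0⟩]), (28, [⟨1, 0, 0, 0, 0, 0, 1⟩]), (28, [⟨1, 0, 0, 0, 0, 0, 0⟩]), (25, [⟨1, 0, 0, 0, 0, 0, 0⟩]), (27, [⟨1, 0, 0, 0, 0, 0, 0⟩])]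

def f4GT_B : List (ℕ × LPoly) := [(25, [⟨1, 0, 0, 0, 0, 0, 0⟩, ⟨1, 0, 0, 0, 1, 0, 0⟩, ⟨1, 1, 0, 0, 0, 0, 0⟩, ⟨1, 1, 0, 0, 1, 0, 0⟩]), (27, [⟨1, 0, 0, 0, 0, 0, 0⟩, ⟨1, 0, 0, 0, 0, 1, 0⟩, ⟨1, 0, 1, 0, 0, 0, 0⟩, ⟨1, 0, 1, 0, 0, 1, 0⟩]), (28, [⟨1, 0, 0, 0, 0, 0, 0⟩, ⟨1, 0, 0, 0, 0, 0, 1⟩, ⟨1, 0, 0, 0, 0, 1, 0⟩, ⟨1, 0, 0, 0, 1, 1, 0⟩, ⟨1, 0, 0, 1, 0, 0, 0⟩, ⟨1, 0, 0, 1, 0, 0, 1⟩, ⟨1, 0, 1, 0, 0, 0, 0⟩, ⟨1, 0, 1, 0, 0, 1, 0⟩, ⟨1, 0, 1, 0, 1, 0, 0⟩, ⟨1, 0, 1, 0, 1, 1, 0⟩, ⟨1, 1, 1, 0, 0, 0, 0⟩, ⟨1, 1, 1, 0, 1, 0, 0⟩]), (30, [⟨1, 0, 0, 0, 0, 2, 0⟩, ⟨1, 0, 0, 0, 1, 2, 0⟩, ⟨1, 0, 2, 0, 0, 0, 0⟩, ⟨1, 0, 2, 0, 0, 2, 0⟩, ⟨1, 0, 2, 0, 1, 0, 0⟩, ⟨1, 0, 2, 0, 1, 2, 0⟩, ⟨1, 1, 2, 0, 0, 0, 0⟩, ⟨1, 1, 2, 0, 1, 0, 0⟩])]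

theorem f4GT_chk : wordEqN 2 chevF4 f4GT_A f4GT_B = true := by decide +kernel

theorem f4GT {K : Type*} [Field K] [CharP K 2] (x1 x2 x3 x4 x5 x6 : K) :
    chevF4.wordMat K [(27, x2), (25, x1), (28, x3), (28, x3 * x6), (25, x1 * x4), (27, x2 * x5), (27, x5), (25, x4), (28, x6), (28, 1), (25, 1), (27, 1)] =
      chevF4.wordMat K [(25, 1 + x4 + x1 + x1 * x4), (27, 1 + x5 + x2 + x2 * x5), (28, 1 + x6 + x5 + x4 * x5 + x3 + x3 * x6 + x2 + x2 * x5 + x2 * x4 + x2 * x4 * x5 + x1 * x2 + x1 * x2 * x4), (30, x5 ^ 2 + x4 * x5 ^ 2 + x2 ^ 2 + x2 ^ 2 * x5 ^ 2 + x2 ^ 2 * x4 + x2 ^ 2 * x4 * x5 ^ 2 + x1 * x2 ^ 2 + x1 * x2 ^ 2 * x4)] := by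
  have h := wordMat_eq_of_wordEqN 2 chevF4 (⟨x1, x2, x3, x4, x5, x6⟩ : Val K) f4GT_A f4GT_B f4GT_chk
  have e1 : evalWord (⟨x1, x2, x3, x4, x5, x6⟩ : Val K) f4GT_A = [(27, x2), (25, x1), (28, x3), (28, x3 * x6), (25, x1 * x4), (27, x2 * x5), (27, x5), (25, x4), (28, x6), (28, 1), (25, 1), (27, 1)] := by
    simp [evalWord, evalP, Term.eval, f4GT_A]
  have e2 : evalWord (⟨x1, x2, x3, x4, x5, x6⟩ : Val K) f4GT_B = [(25, 1 + x4 + x1 + x1 * x4), (27, 1 + x5 + x2 + x2 * x5), (28, 1 + x6 + x5 + x4 * x5 + x3 + x3 * x6 + x2 + x2 * x5 + x2 * x4 + x2 * x4 * x5 + x1 * x2 + x1 * x2 * x4), (30, x5 ^ 2 + x4 * x5 ^ 2 + x2 ^ 2 + x2 ^ 2 * x5 ^ 2 + x2 ^ 2 * x4 + x2 ^ 2 * x4 * x5 ^ 2 + x1 * x2 ^ 2 + x1 * x2 ^ 2 * x4)] := by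
    simp [evalWord, evalP, Term.eval, f4GT_B]
    all_goals ((repeat' (refine And.intro ?_ ?_)) <;> ring1)
  rw [e1, e2] at h
  exact h

def f4GC_A : List (ℕ × LPoly) := [(35, [⟨1, 1, 0, 0, 0, 0, 0⟩]), (31, [⟨1, 0, 1, 0, 0, 0, 0⟩]), (40, [⟨1, 1, 1, 0, 0, 0, 0⟩]), (27, [⟨1, 0, 0, 1, 0, 0, 0⟩]), (25, [⟨1, 0, 0, 0, 1, 0, 0⟩]), (28, [⟨1, 0, 0, 1, 1, 0, 0⟩]), (40, [⟨1, 1, 1, 0, 0, 0, 0⟩]), (31, [⟨1, 0, 1, 0, 0, 0, 0⟩]), (35, [⟨1, 1, 0, 0, 0, 0, 0⟩]), (28, [⟨1, 0, 0, 1, 1, 0, 0⟩]), (25, [⟨1, 0, 0, 0, 1, 0, 0⟩]), (27, [⟨1, 0, 0, 1, 0, 0, 0⟩])]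

def f4GC_B : List (ℕ × LPoly) := [(37, [⟨1, 1, 0, 1, 0, 0, 0⟩]), (32, [⟨1, 0, 1, 0, 1, 0, 0⟩])]

theorem f4GC_chk : wordEqN 2 chevF4 f4GC_A f4GC_B = true := by decide +kernel

theorem f4GC {K : Type*} [Field K] [CharP K 2] (x1 x2 x3 x4 : K) :
    chevF4.wordMat K [(35, x1), (31, x2), (40, x1 * x2), (27, x3), (25, x4), (28, x3 * x4), (40, x1 * x2), (31, x2), (35, x1), (28, x3 * x4), (25, x4), (27, x3)] =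
      chevF4.wordMat K [(37, x1 * x3), (32, x2 * x4)] := by
  have h := wordMat_eq_of_wordEqN 2 chevF4 (⟨x1, x2, x3, x4, 0, 0⟩ : Val K) f4GC_A f4GC_B f4GC_chk
  have e1 : evalWord (⟨x1, x2, x3, x4, 0, 0⟩ : Val K) f4GC_A = [(35, x1), (31, x2), (40, x1 * x2), (27, x3), (25, x4), (28, x3 * x4), (40, x1 * x2), (31, x2), (35, x1), (28, x3 * x4), (25, x4), (27, x3)] := by
    simp [evalWord, evalP, Term.eval, f4GC_A]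
  have e2 : evalWord (⟨x1, x2, x3, x4, 0, 0⟩ : Val K) f4GC_B = [(37, x1 * x3), (32, x2 * x4)] := by
    simp [evalWord, evalP, Term.eval, f4GC_B]
    all_goals ((repeat' (refine And.intro ?_ ?_)) <;> ring1)
  rw [e1, e2] at h
  exact h

def f4GS_A : List (ℕ × LPoly) := [(25, [⟨1, 1, 0, 0, 0, 0, 0⟩]), (27, [⟨1, 0, 1, 0, 0, 0, 0⟩]), (28, [⟨1, 0, 0, 1, 0, 0, 0⟩]), (30, [⟨1, 0, 0, 0, 1, 0, 0⟩]), (25, [⟨1, 1, 0, 0, 0, 0, 0⟩]), (27, [⟨1, 0, 1, 0, 0, 0, 0⟩]), (28, [⟨1, 0, 0, 1, 0, 0, 0⟩]), (30, [⟨1, 0, 0, 0, 1, 0, 0⟩])]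

def f4GS_B : List (ℕ × LPoly) := [(25, []), (27, []), (28, [⟨1, 1, 1, 0, 0, 0, 0⟩]), (30, [⟨1, 1, 2, 0, 0, 0, 0⟩])]

theorem f4GS_chk : wordEqN 2 chevF4 f4GS_A f4GS_B = true := by decide +kernel

theorem f4GS {K : Type*} [Field K] [CharP K 2] (x1 x2 x3 x4 : K) :
    chevF4.wordMat K [(25, x1), (27, x2), (28, x3), (30, x4), (25, x1), (27, x2), (28, x3), (30, x4)] =
      chevF4.wordMat K [(25, 0), (27, 0), (28, x1 * x2), (30, x1 * x2 ^ 2)] := by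
  have h := wordMat_eq_of_wordEqN 2 chevF4 (⟨x1, x2, x3, x4, 0, 0⟩ : Val K) f4GS_A f4GS_B f4GS_chk
  have e1 : evalWord (⟨x1, x2, x3, x4, 0, 0⟩ : Val K) f4GS_A = [(25, x1), (27, x2), (28, x3), (30, x4), (25, x1), (27, x2), (28, x3), (30, x4)] := by
    simp [evalWord, evalP, Term.eval, f4GS_A]
  have e2 : evalWord (⟨x1, x2, x3, x4, 0, 0⟩ : Val K) f4GS_B = [(25, 0), (27, 0), (28, x1 * x2), (30, x1 * x2 ^ 2)] := by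
    simp [evalWord, evalP, Term.eval, f4GS_B]
    all_goals ((repeat' (refine And.intro ?_ ?_)) <;> ring1)
  rw [e1, e2] at h
  exact h

def f4GZ_A : List (ℕ × LPoly) := [(25, [⟨1, 1, 0, 0, 0, 0, 0⟩]), (27, [⟨1, 0, 1, 0, 0, 0, 0⟩]), (28, [⟨1, 0, 0, 1, 0, 0, 0⟩]), (30, [⟨1, 0, 0, 0, 1, 0, 0⟩]), (28, [⟨1, 0, 0, 0, 0, 1, 0⟩]), (30, [⟨1, 0, 0, 0, 0, 0, 1⟩])]

def f4GZ_B : List (ℕ × LPoly) := [(25, [⟨1, 1, 0, 0, 0, 0, 0⟩]), (27, [⟨1, 0, 1, 0, 0, 0, 0⟩]), (28, [⟨1, 0, 0, 0, 0, 1, 0⟩, ⟨1, 0, 0, 1, 0, 0, 0⟩]), (30, [⟨1, 0, 0, 0, 0, 0, 1⟩, ⟨1, 0, 0, 0, 1, 0, 0⟩])]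

theorem f4GZ_chk : wordEqN 2 chevF4 f4GZ_A f4GZ_B = true := by decide +kernel

theorem f4GZ {K : Type*} [Field K] [CharP K 2] (x1 x2 x3 x4 x5 x6 : K) :
    chevF4.wordMat K [(25, x1), (27, x2), (28, x3), (30, x4), (28, x5), (30, x6)] =
      chevF4.wordMat K [(25, x1), (27, x2), (28, x5 + x3), (30, x6 + x4)] := by
  have h := wordMat_eq_of_wordEqN 2 chevF4 (⟨x1, x2, x3, x4, x5, x6⟩ : Val K) f4GZ_A f4GZ_B f4GZ_chk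
  have e1 : evalWord (⟨x1, x2, x3, x4, x5, x6⟩ : Val K) f4GZ_A = [(25, x1), (27, x2), (28, x3), (30, x4), (28, x5), (30, x6)] := by
    simp [evalWord, evalP, Term.eval, f4GZ_A]
  have e2 : evalWord (⟨x1, x2, x3, x4, x5, x6⟩ : Val K) f4GZ_B = [(25, x1), (27, x2), (28, x5 + x3), (30, x6 + x4)] := by
    simp [evalWord, evalP, Term.eval, f4GZ_B]
    all_goals ((repeat' (refine And.intro ?_ ?_)) <;> ring1)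
  rw [e1, e2] at h
  exact h

end Cfsg.Agent.Lead.MCalc
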