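import Mathlib
import Cfsg.Agent.Lib.Lead.TwF4Perf
import Cfsg.Agent.Lib.Lead.TwReeSetup
import Cfsg.Agent.Lib.Helper18.F4GenId

/-!
# `²F₄(q)`, `q > 2`, is generated by two elements

`a = h(μ)` (a torus element, `μ` a generator of `Kˣ`) and `b = x · n` with `x` a non-central element of the
fundamental class of type `B₂` and `n` a lift of the twisted Coxeter element.  Steinberg's trick
`⁅a, b a b⁻¹⁆` produces an element of that class with non-zero first coordinate; the torus fills the class modulo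
its centre, squares fill the centre, then `n` lies in the subgroup, the classes of type `B₂` are rotated and one
commutator gives a pair class.
-/

set_option autoImplicit false
set_option linter.unusedSectionVars false
set_option linter.unusedSimpArgs false
set_option linter.unusedVariables false

namespace Cfsg.Agent.Helper18.F4Gen

open Cfsg Cfsg.Lie Cfsg.Agent.Lead.Chev Cfsg.Agent.Lead Cfsg.Agent.Lead.Tw Cfsg.Agent.Lead.Tw.F4
open scoped commutatorElement

section general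

variable {K : Type*} [Field K]

/-- conjugation of a word by `n_v`, in characteristic two -/
theorem nconj [CharP K 2] {D : ChevalleyDatum} (hF : ChevFacts D K) (v : List ℕ)
    (hv : ∀ i ∈ v, i < D.rank) (W : List (ℕ × K)) (hW : ∀ q ∈ W, q.1 < D.nroots) :
    nWordGL D hF.xadd v * wordGL D hF.xadd W * (nWordGL D hF.xadd v)⁻¹ =
      wordGL D hF.xadd (W.map fun q => (reflWord D v q.1, q.2)) := by
  induction W with
  | nil => simp [wordGL_nil]
  | cons q W ih =>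
    have hs : ((signWord D (etaOf D) v q.1 : ℤ) : K) = 1 := by
      rcases signWord_sq D (etaOf D) v (fun i hi s => (hF.nsimple i (hv i hi)).sign s) q.1 with h | h
      · rw [h, Int.cast_one]
      · rw [h, Int.cast_neg, Int.cast_one]
        have : (2 : K) = 0 := by
          have := CharP.cast_eq_zero K 2
          exact_mod_cast this
        linear_combination -this
    have key : nWordGL D hF.xadd v * xGL D hF.xadd q.1 q.2 * (nWordGL D hF.xadd v)⁻¹ =
        xGL D hF.xadd (reflWord D v q.1) q.2 := by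
      rw [nWordGL_conj D hF.xadd (etaOf D) hF.nsimple v hv q.1 (hW q List.mem_cons_self) q.2, hs, one_mul]
    rw [List.map_cons, wordGL_cons, wordGL_cons, ← ih fun q' hq' => hW q' (List.mem_cons_of_mem _ hq')]
    dsimp only
    rw [← key]
    group

/-- diagonal elements commute -/
theorem diag_comm {D : ChevalleyDatum} (hD : ChevFacts D K) (h₁ h₂ : GL D.Idx K)
    (h1 : h₁ ∈ D.diagonalSubgroup K) (h2 : h₂ ∈ D.diagonalSubgroup K) : h₁ * h₂ = h₂ * h₁ := by
  obtain ⟨c, _, e1⟩ := exists_Tmat_of_mem D hD.hall h₁ h1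
  obtain ⟨c', _, e2⟩ := exists_Tmat_of_mem D hD.hall h₂ h2
  apply Units.ext
  rw [Units.val_mul, Units.val_mul, e1, e2]
  unfold Tmat
  rw [Matrix.diagonal_mul_diagonal, Matrix.diagonal_mul_diagonal]
  congr 1
  funext i
  exact mul_comm _ _

end general

/-- the twisted Coxeter word -/
def cox : List ℕ := [0, 3, 1, 2, 1, 2]

theorem cox_valid : ∀ i ∈ cox, i < chevF4.rank := by decide

theorem cox3_valid : ∀ i ∈ cox ++ cox ++ cox, i < chevF4.rank := by decide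

theorem cox4_valid : ∀ i ∈ cox ++ cox ++ cox ++ cox, i < chevF4.rank := by decide

theorem cox_vals : reflWord chevF4 cox 35 = 27 ∧ reflWord chevF4 cox 31 = 25 ∧ reflWord chevF4 cox 40 = 28 ∧
    reflWord chevF4 cox 46 = 30 ∧ reflWord chevF4 cox 37 = 14 ∧ reflWord chevF4 cox 32 = 23 := by
  decide +kernel

theorem cox3_vals : reflWord chevF4 (cox ++ cox ++ cox) 33 = 37 ∧ reflWord chevF4 (cox ++ cox ++ cox) 24 = 32 := by
  decide +kernel

theorem cox4_vals : reflWord chevF4 (cox ++ cox ++ cox ++ cox) 27 = 20 ∧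
    reflWord chevF4 (cox ++ cox ++ cox ++ cox) 25 = 22 ∧ reflWord chevF4 (cox ++ cox ++ cox ++ cox) 28 = 19 ∧
    reflWord chevF4 (cox ++ cox ++ cox ++ cox) 30 = 17 := by
  decide +kernel

section finite

variable {K : Type*} [Field K] [Fintype K] [CharP K 2] {m : ℕ} (hK : Fintype.card K = 2 ^ (2 * m + 1))
  (hperf : ∀ x : K, ∃ y : K, y ^ 2 = x) (f : K ≃+* K) (hf : ∀ t, f t = t ^ (2 ^ m))

/-- the lift of the Coxeter element -/
noncomputable def nC (K : Type*) [Field K] : GL chevF4.Idx K := nWordGL chevF4 (hF (K := K)).xadd cox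

theorem nC_eq : nC K = nWordGL chevF4 (hF (K := K)).xadd [0, 3] * nWordGL chevF4 (hF (K := K)).xadd [1, 2, 1, 2] := by
  unfold nC
  rw [← nWordGL_append]
  rfl

theorem nC3_eq : nC K * nC K * nC K = nWordGL chevF4 (hF (K := K)).xadd (cox ++ cox ++ cox) := by
  unfold nC
  rw [nWordGL_append, nWordGL_append]

theorem nC4_eq : nC K * nC K * nC K * nC K = nWordGL chevF4 (hF (K := K)).xadd (cox ++ cox ++ cox ++ cox) := by
  unfold nC
  rw [nWordGL_append, nWordGL_append, nWordGL_append]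

include hK hperf hf in
theorem nC_mem : nC K ∈ twistedF4 K (2 ^ m) := by
  have hcl := clsData hK hperf f hf
  rw [nC_eq]
  exact mul_mem (hcl.s_mem [0, 3] (by decide)) (hcl.s_mem [1, 2, 1, 2] (by decide))

/-- the elements of the fundamental class of type `B₂` -/
noncomputable def xB (m : ℕ) (t u : K) : GL chevF4.Idx K :=
  wordGL chevF4 hF.xadd (b2ClassWord (2 ^ m) f4a f4b f4ab f4aab t u)

theorem xB_mem (t u : K) : xB m t u ∈ twistedF4 K (2 ^ m) := gen_mem _ (b2_pos_mem t u)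

/-- the normal form -/
theorem xB_nf (t u : K) :
    xB m t u = wordGL chevF4 hF.xadd [(25, t), (27, t ^ 2 ^ m), (28, u), (30, u ^ (2 * 2 ^ m) + (t ^ 2 ^ m) ^ 2 * t)] := by
  unfold xB
  rw [b2_normal]
  have e : t ^ (2 ^ m + 1) + u + t ^ 2 ^ m * t = u := by
    rw [pow_succ]
    linear_combination add_self (t ^ 2 ^ m * t)
  rw [e]

/-- the short form of `x(1, 0)` -/
theorem xB_one : xB m (1 : K) 0 = wordGL chevF4 hF.xadd [(27, 1), (25, 1), (28, 1)] := by
  unfold xB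
  show wordGL chevF4 hF.xadd [(27, (1 : K) ^ 2 ^ m), (25, 1), (28, 1 ^ (2 ^ m + 1) + 0), (30, (0 : K) ^ (2 * 2 ^ m))] = _
  have h00 : (0 : K) ^ (2 * 2 ^ m) = 0 := zero_pow (by positivity)
  rw [h00, one_pow, one_pow, add_zero]
  simp only [wordGL_cons, wordGL_nil, xGL_zero, mul_one]

theorem mem_negPart12 (w : List (ℕ × K)) (hw : ∀ q ∈ w, q.1 = 25 ∨ q.1 = 27 ∨ q.1 = 28 ∨ q.1 = 30) :
    wordGL chevF4 hF.xadd w ∈ negPart chevF4 hF.xadd [1, 2, 1, 2] := by
  apply ChevFacts'.wordGL_mem_negPart hF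
  intro q hq
  rcases hw q hq with h | h | h | h <;> rw [h] <;> decide +kernel


omit [Fintype K] in
/-- inverses of words in characteristic two -/
theorem wordGL_inv_two {D : ChevalleyDatum} (hD : ChevFacts D K) (w : List (ℕ × K)) :
    (wordGL D hD.xadd w)⁻¹ = wordGL D hD.xadd w.reverse := by
  induction w with
  | nil => simp [wordGL_nil]
  | cons q w ih =>
    rw [wordGL_cons, mul_inv_rev, ih, List.reverse_cons, wordGL_append, wordGL_singleton, xGL_inv, neg_eq]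

omit [Fintype K] [CharP K 2] in
theorem xGL25_inj (a b : K) (h : xGL chevF4 hF.xadd 25 a = xGL chevF4 hF.xadd 25 b) : a = b := by
  have e : ∀ z : K, wordGL chevF4 hF.xadd [(25, z), (27, 0), (28, 0), (30, 0)] = xGL chevF4 hF.xadd 25 z := by
    intro z
    simp only [wordGL_cons, wordGL_nil, xGL_zero, mul_one]
  exact (inj_b2 a 0 0 0 b 0 0 0 (by rw [e, e, h])).1

include hK in
theorem pow2e_add (a b : K) : (a + b) ^ (2 * 2 ^ m) = a ^ (2 * 2 ^ m) + b ^ (2 * 2 ^ m) := by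
  rw [pow_mul, pow_mul, pow_mul, add_sq_char]
  have : Fact (Nat.Prime 2) := ⟨Nat.prime_two⟩
  exact add_pow_char_pow (a ^ 2) (b ^ 2) 2 m

include hK in
/-- the map `T ↦ T ^ (2 ^ m + 1)` is onto -/
theorem pow_surj (hperf : ∀ x : K, ∃ y : K, y ^ 2 = x) (f : K ≃+* K) (hf : ∀ t, f t = t ^ (2 ^ m)) (U : K) :
    ∃ T : K, T ^ (2 ^ m + 1) = U := by
  by_cases hU : U = 0
  · exact ⟨0, by rw [hU]; exact zero_pow (Nat.succ_ne_zero _)⟩
  · have hinj : Function.Injective (fun x : Kˣ => x ^ (2 ^ m + 1)) := by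
      intro x y hxy
      have h1 : (x * y⁻¹) ^ (2 ^ m + 1) = 1 := by
        rw [mul_pow, inv_pow]
        exact mul_inv_eq_one.2 hxy
      have h2 : x * y⁻¹ = 1 := by
        apply units_pow_inj hK hperf f hf
        have : (x * y⁻¹) ^ (2 * 2 ^ m) * (x * y⁻¹) ^ 2 = ((x * y⁻¹) ^ (2 ^ m + 1)) ^ 2 := by
          rw [← pow_add, ← pow_mul]
          congr 1
          ring
        rw [this, h1, one_pow]
      exact mul_inv_eq_one.1 h2
    have hsurj := Finite.injective_iff_surjective.1 hinj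
    obtain ⟨T, hT⟩ := hsurj (Units.mk0 U hU)
    refine ⟨(T : K), ?_⟩
    have := congrArg (fun z : Kˣ => (z : K)) hT
    simpa using this

end finite

section gen

variable {K : Type*} [Field K] [Fintype K] [CharP K 2] {m : ℕ} (hK : Fintype.card K = 2 ^ (2 * m + 1))
  (hperf : ∀ x : K, ∃ y : K, y ^ 2 = x) (f : K ≃+* K) (hf : ∀ t, f t = t ^ (2 ^ m))
  (L : Subgroup (GL chevF4.Idx K)) (hLG : L ≤ twistedF4 K (2 ^ m))
include hK hperf hf hLG

/-- an element of `L` in the class `U_B` is one of the standard elements, with the expected first coordinate -/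
theorem form_of_mem (a1 a2 a3 a4 : K)
    (h : wordGL chevF4 hF.xadd [(25, a1), (27, a2), (28, a3), (30, a4)] ∈ L) :
    ∃ u : K, wordGL chevF4 hF.xadd [(25, a1), (27, a2), (28, a3), (30, a4)] = xB m a1 u := by
  have hcl := clsData hK hperf f hf
  have hfix := hcl.fixed _ (hLG h)
  obtain ⟨t', u', hT'⟩ := fix_b2 hK hperf f hf _ (mem_negPart_b2 _ _ _ _) hfix
  have hT'' : wordGL chevF4 hF.xadd [(25, a1), (27, a2), (28, a3), (30, a4)] = xB m t' u' := hT'
  have h2 := hT''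
  rw [xB_nf] at h2
  obtain ⟨k1, -, -, -⟩ := inj_b2 _ _ _ _ _ _ _ _ h2
  exact ⟨u', by rw [hT'', k1]⟩

/-- the character of `h(μ)` on the root `31` is not `1` -/
theorem chi31_ne (μ : Kˣ) (hμ : μ ≠ 1) : chi chevF4 (extC chevF4 (cT m μ)) 31 ≠ 1 := by
  have hv : chevF4.cartan 0 31 = -2 ∧ chevF4.cartan 3 31 = 1 := by decide
  rw [chi_hT, hv.1, hv.2, zpow_one]
  intro h
  apply hμ
  have hμ0 : (μ : K) ≠ 0 := Units.ne_zero μ
  have he0 : ((μ : K) ^ 2 ^ m) ≠ 0 := pow_ne_zero _ hμ0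
  -- μ = (μ ^ e) ^ 2
  have h1 : (μ : K) = ((μ : K) ^ 2 ^ m) ^ 2 := by
    have h' : (((μ : K) ^ 2 ^ m) ^ 2)⁻¹ * (μ : K) = 1 := by
      rw [← h, zpow_neg, zpow_ofNat]
    field_simp at h'
    exact h'
  -- apply the map twice
  have h2 : (μ : K) ^ 2 = (μ : K) := by
    have h3 : (((μ : K) ^ 2 ^ m) ^ 2 ^ m) ^ 2 = (μ : K) := frob_key hK f hf (μ : K)
    have h4 : (μ : K) ^ 2 ^ m = (μ : K) := by
      calc (μ : K) ^ 2 ^ m = (((μ : K) ^ 2 ^ m) ^ 2) ^ 2 ^ m := by rw [← h1]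
        _ = (((μ : K) ^ 2 ^ m) ^ 2 ^ m) ^ 2 := by ring
        _ = (μ : K) := h3
    rw [h4] at h1
    exact h1.symm
  apply Units.ext
  rw [Units.val_one]
  have h4 : (μ : K) * ((μ : K) - 1) = 0 := by linear_combination h2
  rcases mul_eq_zero.1 h4 with h5 | h5
  · exact absurd h5 hμ0
  · exact sub_eq_zero.1 h5

theorem hT_mem_diagonal (μ : Kˣ) : hT m μ ∈ chevF4.diagonalSubgroup K := by
  unfold hT
  exact mul_mem (hGLt_mem_diagonal chevF4 hF.xadd 33 (by decide) _ (pow_ne_zero _ (Units.ne_zero μ)))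
    (hGLt_mem_diagonal chevF4 hF.xadd 24 (by decide) _ (Units.ne_zero μ))

/-- **Steinberg's trick** in the class `U_B` -/
theorem trick (μ : Kˣ) (hμ : μ ≠ 1) (ha : hT m μ ∈ L) (hb : xB m (1 : K) 0 * nC K ∈ L) :
    ∃ t u : K, t ≠ 0 ∧ xB m t u ∈ L := by
  set h := hT m μ with hh_def
  set c := extC chevF4 (cT m μ) with hc
  have hcne : ∀ i < chevF4.rank, c i ≠ 0 := fun i _ => extC_ne_zero chevF4 (cT m μ) i
  have hh : (h : Matrix chevF4.Idx chevF4.Idx K) = Tmat chevF4 c := hT_val μ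
  have hhd : h ∈ chevF4.diagonalSubgroup K := hT_mem_diagonal hK hperf f hf L hLG μ
  obtain ⟨h', hh'_def⟩ : ∃ h' : GL chevF4.Idx K, h' = nC K * h * (nC K)⁻¹ := ⟨_, rfl⟩
  have hh'd : h' ∈ chevF4.diagonalSubgroup K := by
    rw [hh'_def]
    exact nWordGL_conj_mem_diagonal chevF4 hF.xadd (etaOf chevF4) hF.nsimple cox cox_valid h hhd
  obtain ⟨c', hc'ne, hh'⟩ := exists_Tmat_of_mem chevF4 hF.hall h' hh'd
  set x := xB m (1 : K) 0 with hx_def
  have hy : ⁅h, (x * nC K) * h * (x * nC K)⁻¹⁆ ∈ L := by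
    rw [commutatorElement_def]
    exact mul_mem (mul_mem (mul_mem ha (mul_mem (mul_mem hb ha) (inv_mem hb))) (inv_mem ha))
      (inv_mem (mul_mem (mul_mem hb ha) (inv_mem hb)))
  have e1 : (x * nC K) * h * (x * nC K)⁻¹ = x * h' * x⁻¹ := by
    rw [hh'_def]
    group
  have ecomm : h * h' = h' * h := diag_comm hF h h' hhd hh'd
  have e2 : ⁅h, x * h' * x⁻¹⁆ = (h * x * h⁻¹) * (h' * ((h * x * h⁻¹)⁻¹ * x) * h'⁻¹) * x⁻¹ := by
    rw [commutatorElement_def]
    have e3 : h * h' * h⁻¹ = h' := by rw [ecomm]; group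
    calc h * (x * h' * x⁻¹) * h⁻¹ * (x * h' * x⁻¹)⁻¹
        = (h * x * h⁻¹) * (h * h' * h⁻¹) * (h * x * h⁻¹)⁻¹ * x * h'⁻¹ * x⁻¹ := by group
      _ = (h * x * h⁻¹) * (h' * ((h * x * h⁻¹)⁻¹ * x) * h'⁻¹) * x⁻¹ := by rw [e3]; group
  rw [e1, e2] at hy
  -- the characters
  set a1 := chi chevF4 c 25 with ha1
  set a2 := chi chevF4 c 27 with ha2
  set a3 := chi chevF4 c 28 with ha3
  set b1 := chi chevF4 c' 25 with hb1
  set b2 := chi chevF4 c' 27 with hb2
  set b3 := chi chevF4 c' 28 with hb3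
  have hxw : x = wordGL chevF4 hF.xadd [(27, 1), (25, 1), (28, 1)] := xB_one
  have hX1 : h * x * h⁻¹ = wordGL chevF4 hF.xadd [(27, a2), (25, a1), (28, a3)] := by
    rw [hxw, ChevFacts'.conj_wordGL hF h c hcne hh _ (by
      intro q hq
      simp only [List.mem_cons, List.not_mem_nil, or_false] at hq
      rcases hq with rfl | rfl | rfl <;> dsimp only <;> decide)]
    simp only [List.map_cons, List.map_nil, mul_one]
    rfl
  have hX1inv : (h * x * h⁻¹)⁻¹ * x =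
      wordGL chevF4 hF.xadd [(28, a3), (25, a1), (27, a2), (27, 1), (25, 1), (28, 1)] := by
    rw [hX1, wordGL_inv_two hF, hxw, ← wordGL_append]
    rfl
  have hZ : h' * ((h * x * h⁻¹)⁻¹ * x) * h'⁻¹ =
      wordGL chevF4 hF.xadd [(28, a3 * b3), (25, a1 * b1), (27, a2 * b2), (27, b2), (25, b1), (28, b3)] := by
    rw [hX1inv, ChevFacts'.conj_wordGL hF h' c' hc'ne hh' _ (by
      intro q hq
      simp only [List.mem_cons, List.not_mem_nil, or_false] at hq
      rcases hq with rfl | rfl | rfl | rfl | rfl | rfl <;> dsimp only <;> decide)]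
    simp only [List.map_cons, List.map_nil, mul_one]
    rw [mul_comm b3 a3, mul_comm b1 a1, mul_comm b2 a2]
  have hxinv : x⁻¹ = wordGL chevF4 hF.xadd [(28, 1), (25, 1), (27, 1)] := by
    rw [hxw, wordGL_inv_two hF]
    rfl
  have hY : (h * x * h⁻¹) * (h' * ((h * x * h⁻¹)⁻¹ * x) * h'⁻¹) * x⁻¹ =
      wordGL chevF4 hF.xadd [(25, 1 + b1 + a1 + a1 * b1), (27, 1 + b2 + a2 + a2 * b2),
        (28, 1 + b3 + b2 + b1 * b2 + a3 + a3 * b3 + a2 + a2 * b2 + a2 * b1 + a2 * b1 * b2 + a1 * a2 + a1 * a2 * b1),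
        (30, b2 ^ 2 + b1 * b2 ^ 2 + a2 ^ 2 + a2 ^ 2 * b2 ^ 2 + a2 ^ 2 * b1 + a2 ^ 2 * b1 * b2 ^ 2 + a1 * a2 ^ 2 +
          a1 * a2 ^ 2 * b1)] := by
    rw [hZ, hX1, hxinv, ← wordGL_append, ← wordGL_append]
    exact wordGL_congr_val _ _ (MCalc.f4GT a1 a2 a3 b1 b2 b3)
  rw [hY] at hy
  obtain ⟨u, hu⟩ := form_of_mem hK hperf f hf L hLG _ _ _ _ hy
  refine ⟨1 + b1 + a1 + a1 * b1, u, ?_, ?_⟩
  · -- the first coordinate is non-zero
    have hA : a1 - 1 ≠ 0 := chi25_ne hK μ hμ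
    have hB : b1 ≠ 1 := by
      have hconj : xGL chevF4 hF.xadd 25 (b1 * 1) = xGL chevF4 hF.xadd 25 (chi chevF4 c 31 * 1) := by
        have s1 : h' * xGL chevF4 hF.xadd 25 1 * h'⁻¹ = xGL chevF4 hF.xadd 25 (b1 * 1) :=
          hF.Tmat_conj_xGL h' c' hc'ne hh' 25 (by decide) 1
        have s2 : nC K * xGL chevF4 hF.xadd 31 1 * (nC K)⁻¹ = xGL chevF4 hF.xadd 25 1 := by
          have := nconj hF cox cox_valid [(31, (1 : K))] (by
            intro q hq
            rw [List.mem_singleton] at hq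
            rw [hq]
            show 31 < chevF4.nroots
            decide)
          simp only [List.map_cons, List.map_nil, wordGL_singleton] at this
          rw [cox_vals.2.1] at this
          exact this
        have s3 : nC K * xGL chevF4 hF.xadd 31 (chi chevF4 c 31 * 1) * (nC K)⁻¹ =
            xGL chevF4 hF.xadd 25 (chi chevF4 c 31 * 1) := by
          have := nconj hF cox cox_valid [(31, chi chevF4 c 31 * 1)] (by
            intro q hq
            rw [List.mem_singleton] at hq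
            rw [hq]
            show 31 < chevF4.nroots
            decide)
          simp only [List.map_cons, List.map_nil, wordGL_singleton] at this
          rw [cox_vals.2.1] at this
          exact this
        have s4 : h * xGL chevF4 hF.xadd 31 1 * h⁻¹ = xGL chevF4 hF.xadd 31 (chi chevF4 c 31 * 1) :=
          hF.Tmat_conj_xGL h c hcne hh 31 (by decide) 1
        rw [← s1, ← s3, ← s4, ← s2, hh'_def]
        group
      have := xGL25_inj _ _ hconj
      rw [mul_one, mul_one] at this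
      rw [this]
      exact chi31_ne hK hperf f hf L hLG μ hμ
    have hfac : 1 + b1 + a1 + a1 * b1 = (a1 - 1) * (b1 - 1) := by
      linear_combination (a1 + b1) * (two_eq_zero (K := K))
    rw [hfac]
    exact mul_ne_zero hA (sub_ne_zero.2 hB)
  · rw [← hu]
    exact hy


omit hLG in
theorem xB_zero : xB m (0 : K) 0 = 1 := by
  unfold xB
  show wordGL chevF4 hF.xadd [(27, (0 : K) ^ 2 ^ m), (25, 0), (28, 0 ^ (2 ^ m + 1) + 0), (30, (0 : K) ^ (2 * 2 ^ m))] = 1
  have h0 : (0 : K) ^ 2 ^ m = 0 := zero_pow (pow_ne_zero _ (by norm_num))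
  have h1 : (0 : K) ^ (2 ^ m + 1) = 0 := zero_pow (Nat.succ_ne_zero _)
  have h2 : (0 : K) ^ (2 * 2 ^ m) = 0 := zero_pow (by positivity)
  rw [h0, h1, h2, add_zero]
  simp only [wordGL_cons, wordGL_nil, xGL_zero, mul_one]

/-- the torus fills the first coordinate -/
theorem first_coord (hH : ∀ ν : Kˣ, hT m ν ∈ L) (t₀ u₀ : K) (ht₀ : t₀ ≠ 0) (h0 : xB m t₀ u₀ ∈ L) (T : K) :
    ∃ u : K, xB m T u ∈ L := by
  by_cases hT0 : T = 0
  · refine ⟨0, ?_⟩
    rw [hT0, xB_zero hK hperf f hf]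
    exact one_mem _
  · set ν : Kˣ := Units.mk0 (t₀ / T) (div_ne_zero ht₀ hT0) with hν
    set c := extC chevF4 (cT m ν) with hc
    have hcne : ∀ i < chevF4.rank, c i ≠ 0 := fun i _ => extC_ne_zero chevF4 (cT m ν) i
    have hg : hT m ν * xB m t₀ u₀ * (hT m ν)⁻¹ ∈ L := mul_mem (mul_mem (hH ν) h0) (inv_mem (hH ν))
    rw [xB_nf, ChevFacts'.conj_wordGL hF (hT m ν) c hcne (hT_val ν) _ (by
      intro q hq
      simp only [List.mem_cons, List.not_mem_nil, or_false] at hq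
      rcases hq with rfl | rfl | rfl | rfl <;> dsimp only <;> decide)] at hg
    simp only [List.map_cons, List.map_nil] at hg
    obtain ⟨u, hu⟩ := form_of_mem hK hperf f hf L hLG _ _ _ _ hg
    refine ⟨u, ?_⟩
    have e : chi chevF4 c 25 * t₀ = T := by
      rw [hc, chi_hT, cartan_vals.2.2.1, cartan_vals.2.2.2.1, zpow_zero, one_mul]
      have : ((ν : Kˣ) : K) = t₀ / T := rfl
      rw [this, zpow_neg_one]
      field_simp
    rw [e] at hu hg
    rw [← hu]
    exact hg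

/-- the centre of the class, by squaring -/
theorem center_mem (hH : ∀ ν : Kˣ, hT m ν ∈ L) (t₀ u₀ : K) (ht₀ : t₀ ≠ 0) (h0 : xB m t₀ u₀ ∈ L) (U : K) :
    xB m 0 U ∈ L := by
  obtain ⟨T, hTU⟩ := pow_surj hK hperf f hf U
  obtain ⟨u, hu⟩ := first_coord hK hperf f hf L hLG hH t₀ u₀ ht₀ h0 T
  have hsq : xB m T u * xB m T u ∈ L := mul_mem hu hu
  have e : xB m T u * xB m T u = xB m 0 U := by
    rw [xB_nf, ← wordGL_append, xB_nf]
    have h0e : (0 : K) ^ 2 ^ m = 0 := zero_pow (pow_ne_zero _ (by norm_num))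
    have e1 := wordGL_congr_val _ _ (MCalc.f4GS T (T ^ 2 ^ m) u (u ^ (2 * 2 ^ m) + (T ^ 2 ^ m) ^ 2 * T))
    have e2 : T * T ^ 2 ^ m = U := by rw [← hTU, pow_succ]; ring
    have e3 : T * (T ^ 2 ^ m) ^ 2 = U ^ (2 * 2 ^ m) + ((0 : K) ^ 2 ^ m) ^ 2 * 0 := by
      rw [mul_zero, add_zero, ← hTU]
      have h3 : ((T ^ 2 ^ m) ^ 2 ^ m) ^ 2 = T := frob_key hK f hf T
      calc T * (T ^ 2 ^ m) ^ 2 = ((T ^ 2 ^ m) ^ 2 ^ m) ^ 2 * (T ^ 2 ^ m) ^ 2 := by rw [h3]
        _ = (T ^ (2 ^ m + 1)) ^ (2 * 2 ^ m) := by ring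
    show wordGL chevF4 hF.xadd ([(25, T), (27, T ^ 2 ^ m), (28, u), (30, u ^ (2 * 2 ^ m) + (T ^ 2 ^ m) ^ 2 * T)] ++
      [(25, T), (27, T ^ 2 ^ m), (28, u), (30, u ^ (2 * 2 ^ m) + (T ^ 2 ^ m) ^ 2 * T)]) = _
    rw [List.cons_append, List.cons_append, List.cons_append, List.cons_append, List.nil_append, e1, e2, e3, h0e]
  rw [← e]
  exact hsq

/-- the whole class `U_B` -/
theorem xB_mem_L (hH : ∀ ν : Kˣ, hT m ν ∈ L) (t₀ u₀ : K) (ht₀ : t₀ ≠ 0) (h0 : xB m t₀ u₀ ∈ L) (T U : K) :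
    xB m T U ∈ L := by
  obtain ⟨u, hu⟩ := first_coord hK hperf f hf L hLG hH t₀ u₀ ht₀ h0 T
  have hz := center_mem hK hperf f hf L hLG hH t₀ u₀ ht₀ h0 (U + u)
  have e : xB m T U = xB m T u * xB m 0 (U + u) := by
    have h0e : (0 : K) ^ 2 ^ m = 0 := zero_pow (pow_ne_zero _ (by norm_num))
    have ez : xB m 0 (U + u) = wordGL chevF4 hF.xadd [(28, U + u), (30, (U + u) ^ (2 * 2 ^ m))] := by
      rw [xB_nf, h0e]
      simp only [wordGL_cons, wordGL_nil, xGL_zero, mul_one, one_mul, mul_zero, add_zero]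
    rw [ez, xB_nf, xB_nf, ← wordGL_append]
    show _ = wordGL chevF4 hF.xadd [(25, T), (27, T ^ 2 ^ m), (28, u), (30, u ^ (2 * 2 ^ m) + (T ^ 2 ^ m) ^ 2 * T),
      (28, U + u), (30, (U + u) ^ (2 * 2 ^ m))]
    rw [wordGL_congr_val _ _ (MCalc.f4GZ T (T ^ 2 ^ m) u (u ^ (2 * 2 ^ m) + (T ^ 2 ^ m) ^ 2 * T) (U + u)
      ((U + u) ^ (2 * 2 ^ m)))]
    have e1 : U + u + u = U := by linear_combination add_self u
    have e2 : (U + u) ^ (2 * 2 ^ m) + (u ^ (2 * 2 ^ m) + (T ^ 2 ^ m) ^ 2 * T) =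
        U ^ (2 * 2 ^ m) + (T ^ 2 ^ m) ^ 2 * T := by
      rw [pow2e_add hK]
      linear_combination add_self (u ^ (2 * 2 ^ m))
    rw [e1, e2]
  rw [e]
  exact mul_mem hu hz

/-- the elements of the class `c⁻¹ U_B` -/
theorem u6_mem (hn : nC K ∈ L) (hB : ∀ T U : K, xB m T U ∈ L) (T : K) :
    wordGL chevF4 hF.xadd [(35, T ^ 2 ^ m), (31, T), (40, T ^ 2 ^ m * T)] ∈ L := by
  have h1 : nC K * wordGL chevF4 hF.xadd [(35, T ^ 2 ^ m), (31, T), (40, T ^ 2 ^ m * T)] * (nC K)⁻¹ = xB m T 0 := by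
    unfold nC
    rw [nconj hF cox cox_valid _ (by
      intro q hq
      simp only [List.mem_cons, List.not_mem_nil, or_false] at hq
      rcases hq with rfl | rfl | rfl <;> dsimp only <;> decide)]
    simp only [List.map_cons, List.map_nil]
    rw [cox_vals.1, cox_vals.2.1, cox_vals.2.2.1]
    unfold xB
    show _ = wordGL chevF4 hF.xadd [(27, T ^ 2 ^ m), (25, T), (28, T ^ (2 ^ m + 1) + 0), (30, (0 : K) ^ (2 * 2 ^ m))]
    have h00 : (0 : K) ^ (2 * 2 ^ m) = 0 := zero_pow (by positivity)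
    rw [h00, add_zero, pow_succ]
    simp only [wordGL_cons, wordGL_nil, xGL_zero, mul_one]
  have h2 : wordGL chevF4 hF.xadd [(35, T ^ 2 ^ m), (31, T), (40, T ^ 2 ^ m * T)] =
      (nC K)⁻¹ * xB m T 0 * nC K := by
    rw [← h1]
    group
  rw [h2]
  exact mul_mem (mul_mem (inv_mem hn) (hB T 0)) hn

/-- the elements of the pair class `c³ U_A`, by one commutator -/
theorem u7_mem (hn : nC K ∈ L) (hB : ∀ T U : K, xB m T U ∈ L) (T : K) :
    wordGL chevF4 hF.xadd [(37, T ^ 2 ^ m), (32, T)] ∈ L := by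
  have h6 := u6_mem hK hperf f hf L hLG hn hB T
  have h8 : wordGL chevF4 hF.xadd [(27, (1 : K)), (25, 1), (28, 1)] ∈ L := by
    rw [← xB_one (m := m)]
    exact hB 1 0
  have hc : ⁅wordGL chevF4 hF.xadd [(35, T ^ 2 ^ m), (31, T), (40, T ^ 2 ^ m * T)],
      wordGL chevF4 hF.xadd [(27, (1 : K)), (25, 1), (28, 1)]⁆ ∈ L := by
    rw [commutatorElement_def]
    exact mul_mem (mul_mem (mul_mem h6 h8) (inv_mem h6)) (inv_mem h8)
  rw [commutatorElement_def, wordGL_inv_two hF, wordGL_inv_two hF, ← wordGL_append, ← wordGL_append,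
    ← wordGL_append] at hc
  have e := wordGL_congr_val _ _ (MCalc.f4GC (T ^ 2 ^ m) T (1 : K) 1)
  rw [mul_one, mul_one, mul_one] at e
  have e' : [(35, T ^ 2 ^ m), (31, T), (40, T ^ 2 ^ m * T)] ++ [(27, (1 : K)), (25, 1), (28, 1)] ++
      [(35, T ^ 2 ^ m), (31, T), (40, T ^ 2 ^ m * T)].reverse ++ [(27, (1 : K)), (25, 1), (28, 1)].reverse =
      [(35, T ^ 2 ^ m), (31, T), (40, T ^ 2 ^ m * T), (27, 1), (25, 1), (28, 1), (40, T ^ 2 ^ m * T), (31, T),
        (35, T ^ 2 ^ m), (28, 1), (25, 1), (27, 1)] := rfl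
  rw [e', e] at hc
  exact hc

/-- the positive pair class -/
theorem pair_pos_mem_L (hn : nC K ∈ L) (hB : ∀ T U : K, xB m T U ∈ L) (T : K) :
    wordGL chevF4 hF.xadd (f4PairWord (2 ^ m) f4p1 f4p4 T) ∈ L := by
  have h7 := u7_mem hK hperf f hf L hLG hn hB T
  have h1 : (nC K * nC K * nC K) * wordGL chevF4 hF.xadd (f4PairWord (2 ^ m) f4p1 f4p4 T) *
      (nC K * nC K * nC K)⁻¹ = wordGL chevF4 hF.xadd [(37, T ^ 2 ^ m), (32, T)] := by
    rw [nC3_eq, nconj hF (cox ++ cox ++ cox) cox3_valid _ (by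
      intro q hq
      simp only [f4PairWord, f4p1, f4p4, List.mem_cons, List.not_mem_nil, or_false] at hq
      rcases hq with rfl | rfl <;> dsimp only <;> decide)]
    simp only [f4PairWord, f4p1, f4p4, List.map_cons, List.map_nil]
    rw [cox3_vals.1, cox3_vals.2]
  have h2 : wordGL chevF4 hF.xadd (f4PairWord (2 ^ m) f4p1 f4p4 T) =
      (nC K * nC K * nC K)⁻¹ * wordGL chevF4 hF.xadd [(37, T ^ 2 ^ m), (32, T)] * (nC K * nC K * nC K) := by
    rw [← h1]
    group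
  rw [h2]
  have hn3 : nC K * nC K * nC K ∈ L := mul_mem (mul_mem hn hn) hn
  exact mul_mem (mul_mem (inv_mem hn3) h7) hn3

/-- the negative pair class -/
theorem pair_neg_mem_L (hn : nC K ∈ L) (hB : ∀ T U : K, xB m T U ∈ L) (T : K) :
    wordGL chevF4 hF.xadd (f4PairWord (2 ^ m) f4m1 f4m4 T) ∈ L := by
  have h7 := u7_mem hK hperf f hf L hLG hn hB T
  have h1 : nC K * wordGL chevF4 hF.xadd [(37, T ^ 2 ^ m), (32, T)] * (nC K)⁻¹ =
      wordGL chevF4 hF.xadd (f4PairWord (2 ^ m) f4m1 f4m4 T) := by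
    unfold nC
    rw [nconj hF cox cox_valid _ (by
      intro q hq
      simp only [List.mem_cons, List.not_mem_nil, or_false] at hq
      rcases hq with rfl | rfl <;> dsimp only <;> decide)]
    simp only [List.map_cons, List.map_nil]
    rw [cox_vals.2.2.2.2.1, cox_vals.2.2.2.2.2]
    rfl
  rw [← h1]
  exact mul_mem (mul_mem hn h7) (inv_mem hn)

/-- the negative class of type `B₂` -/
theorem b2_neg_mem_L (hn : nC K ∈ L) (hB : ∀ T U : K, xB m T U ∈ L) (T U : K) :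
    wordGL chevF4 hF.xadd (b2ClassWord (2 ^ m) f4ma f4mb f4mab f4maab T U) ∈ L := by
  have h1 : (nC K * nC K * nC K * nC K) * xB m T U * (nC K * nC K * nC K * nC K)⁻¹ =
      wordGL chevF4 hF.xadd (b2ClassWord (2 ^ m) f4ma f4mb f4mab f4maab T U) := by
    unfold xB
    rw [nC4_eq, nconj hF (cox ++ cox ++ cox ++ cox) cox4_valid _ (by
      intro q hq
      simp only [b2ClassWord, f4a, f4b, f4ab, f4aab, List.mem_cons, List.not_mem_nil, or_false] at hq
      rcases hq with rfl | rfl | rfl | rfl <;> dsimp only <;> decide)]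
    simp only [b2ClassWord, f4a, f4b, f4ab, f4aab, f4ma, f4mb, f4mab, f4maab, List.map_cons, List.map_nil]
    rw [cox4_vals.1, cox4_vals.2.1, cox4_vals.2.2.1, cox4_vals.2.2.2]
  rw [← h1]
  have hn4 : nC K * nC K * nC K * nC K ∈ L := mul_mem (mul_mem (mul_mem hn hn) hn) hn
  exact mul_mem (mul_mem hn4 (hB T U)) (inv_mem hn4)

/-- `L` is the whole group -/
theorem le_L (hm : 1 ≤ m) (hH : ∀ ν : Kˣ, hT m ν ∈ L) (hb : xB m (1 : K) 0 * nC K ∈ L) :
    twistedF4 K (2 ^ m) ≤ L := by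
  have hc3 : 3 < Fintype.card K := by
    rw [hK]
    calc 3 < 2 ^ 3 := by norm_num
      _ ≤ 2 ^ (2 * m + 1) := Nat.pow_le_pow_right (by norm_num) (by omega)
  obtain ⟨μ, hμ2⟩ := exists_unit_sq_ne_one hc3
  have hμ : μ ≠ 1 := fun h => hμ2 (by rw [h, one_pow])
  obtain ⟨t₀, u₀, ht₀, h0⟩ := trick hK hperf f hf L hLG μ hμ (hH μ) hb
  have hB : ∀ T U : K, xB m T U ∈ L := xB_mem_L hK hperf f hf L hLG hH t₀ u₀ ht₀ h0
  have hn : nC K ∈ L := by
    have : nC K = (xB m (1 : K) 0)⁻¹ * (xB m (1 : K) 0 * nC K) := by group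
    rw [this]
    exact mul_mem (inv_mem (hB 1 0)) hb
  unfold twistedF4 ChevalleyDatum.genSubgroup
  rw [Subgroup.closure_le]
  rintro g ⟨w, hw, hg⟩
  have e : g = wordGL chevF4 hF.xadd w := Units.ext (by rw [hg, wordGL_val])
  rw [e]
  rcases hw with ⟨t, rfl | rfl⟩ | ⟨t, u, rfl | rfl⟩
  · exact pair_pos_mem_L hK hperf f hf L hLG hn hB t
  · exact pair_neg_mem_L hK hperf f hf L hLG hn hB t
  · exact hB t u
  · exact b2_neg_mem_L hK hperf f hf L hLG hn hB t u

end gen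

section final

variable {K : Type*} [Field K] [Fintype K] {m : ℕ}

theorem hT_zpow_alg (μ : Kˣ) (k : ℤ) (a b : ℤ) :
    ((μ ^ k) ^ 2 ^ m) ^ a * (μ ^ k) ^ b = ((μ ^ 2 ^ m) ^ a * μ ^ b) ^ k := by
  rw [← zpow_natCast (μ ^ k), ← zpow_natCast μ, ← zpow_mul, ← zpow_mul, ← zpow_mul, ← zpow_mul, mul_zpow,
    ← zpow_mul, ← zpow_mul]
  congr 1 <;> ring_nf

/-- the torus family is multiplicative -/
theorem hT_zpow [CharP K 2] (μ : Kˣ) (k : ℤ) : hT m (μ ^ k) = (hT m μ) ^ k := by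
  rw [hT_eq, hT_eq, ← map_zpow]
  congr 1
  funext i
  simp only [cT, Pi.pow_apply]
  exact hT_zpow_alg μ k _ _

/-- **`²F₄(q)`, `q > 2`, is generated by two elements** -/
theorem two_generated (hm : 1 ≤ m) (hK : Fintype.card K = 2 ^ (2 * m + 1)) :
    ∃ a b : ↥(twistedF4 K (2 ^ m)), Subgroup.closure ({a, b} : Set ↥(twistedF4 K (2 ^ m))) = ⊤ := by
  obtain ⟨hc, hperf, f, hf⟩ := Cfsg.Agent.Lead.Tw.exists_ree_setup 2 Nat.prime_two m hK
  have := hc
  obtain ⟨μ₀, hμ₀⟩ := IsCyclic.exists_generator (α := Kˣ)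
  have haG : hT m μ₀ ∈ twistedF4 K (2 ^ m) := hT_mem hK hperf f hf μ₀
  have hbG : xB m (1 : K) 0 * nC K ∈ twistedF4 K (2 ^ m) :=
    mul_mem (xB_mem 1 0) (nC_mem hK hperf f hf)
  refine ⟨⟨_, haG⟩, ⟨_, hbG⟩, ?_⟩
  set C := Subgroup.closure ({⟨_, haG⟩, ⟨_, hbG⟩} : Set ↥(twistedF4 K (2 ^ m))) with hC
  have hLG : C.map (twistedF4 K (2 ^ m)).subtype ≤ twistedF4 K (2 ^ m) := by
    rintro g ⟨c, -, rfl⟩
    exact c.2
  have haL : hT m μ₀ ∈ C.map (twistedF4 K (2 ^ m)).subtype :=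
    ⟨⟨_, haG⟩, Subgroup.subset_closure (by simp), rfl⟩
  have hbL : xB m (1 : K) 0 * nC K ∈ C.map (twistedF4 K (2 ^ m)).subtype :=
    ⟨⟨_, hbG⟩, Subgroup.subset_closure (by simp), rfl⟩
  have hH : ∀ ν : Kˣ, hT m ν ∈ C.map (twistedF4 K (2 ^ m)).subtype := by
    intro ν
    obtain ⟨k, rfl⟩ := Subgroup.mem_zpowers_iff.1 (hμ₀ ν)
    rw [hT_zpow]
    exact zpow_mem haL k
  have hle := le_L hK hperf f hf _ hLG hm hH hbL
  rw [eq_top_iff]
  rintro ⟨g, hg⟩ -
  obtain ⟨c, hc', hcg⟩ := hle hg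
  have : c = ⟨g, hg⟩ := Subtype.ext hcg
  rw [← this]
  exact hc'

end final

end Cfsg.Agent.Helper18.F4Gen
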