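import Mathlib
import Cfsg.Prelude.Def_Blocks
import Cfsg.Agent.Lib.Helper18.ExtAvg
import Cfsg.Agent.Lib.Helper23.BlockOrtho
import Cfsg.Agent.Lib.Helper23.BlockConv

/-!
# The block of a `G`-invariant character of a normal `p'`-subgroup (helper18's library)

`N ≤ K` normal in `G`, `N` a `p'`-group, `K / N` a `p`-group, `θ ∈ Irr(N)` and its extension
`θ̂ ∈ Irr(K)` both `G`-invariant.  A block `B` of `G` lying over `θ` has its idempotent
supported on the `p`-regular `g` whose image in `G / N` centralizes `K / N`.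
-/

set_option autoImplicit false
set_option linter.style.haveILetI false
set_option linter.unusedSectionVars false

namespace Cfsg.Agent.Helper18.ThetaBlock

open Cfsg Cfsg.Agent.Helper24 Cfsg.Agent.Helper5 Cfsg.Agent.Helper24.RamCyc
  Cfsg.Agent.Helper23.Blk
open scoped ComplexConjugate

universe u

section Basic

variable {G : Type u} [Group G] [Fintype G]

/-- sums over a subgroup as sums over the group -/
theorem sum_subgroup (A : Subgroup G) [Fintype A] [DecidablePred (· ∈ A)] (f : G → ℂ) :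
    ∑ a : A, f a = ∑ x : G, if x ∈ A then f x else 0 := by
  rw [← Finset.sum_filter]
  exact (Finset.sum_subtype (Finset.univ.filter (· ∈ A)) (p := (· ∈ A)) (by simp) f).symm

/-- a `p`-regular element times an element of a normal `p'`-subgroup is `p`-regular -/
theorem not_dvd_orderOf_mul {p : ℕ} (hp : p.Prime) (N : Subgroup G) [hN : N.Normal]
    (hNp : (Nat.card N).Coprime p) {x : G} (hx : ¬ p ∣ orderOf x) {n : G} (hn : n ∈ N) :
    ¬ p ∣ orderOf (n * x) := by
  have h1 : (n * x) ^ orderOf x ∈ N := by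
    rw [← QuotientGroup.eq_one_iff, QuotientGroup.mk_pow, QuotientGroup.mk_mul,
      (QuotientGroup.eq_one_iff n).2 hn, one_mul, ← QuotientGroup.mk_pow, pow_orderOf_eq_one,
      QuotientGroup.mk_one]
  have h2 : ((n * x) ^ orderOf x) ^ Nat.card N = 1 := by
    have h3 : (⟨(n * x) ^ orderOf x, h1⟩ : N) ^ Nat.card N = 1 := pow_card_eq_one'
    have h4 := congrArg Subtype.val h3
    rw [Subgroup.coe_pow, Subgroup.coe_one] at h4
    exact h4
  rw [← pow_mul] at h2
  have h3 := orderOf_dvd_of_pow_eq_one h2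
  intro hdvd
  have h4 := hdvd.trans h3
  rcases (Nat.Prime.dvd_mul hp).1 h4 with h | h
  · exact hx h
  · have := Nat.Coprime.symm hNp
    rw [Nat.Prime.coprime_iff_not_dvd hp] at this
    exact this h

end Basic

section Star

variable {G : Type u} [Group G] [Fintype G] {M : Ideal AlgInt} {p : ℕ}

/-- degrees over an invariant character -/
theorem one_eq_inner_mul (A : Subgroup G) [hA : A.Normal] [Fintype A] {ϑ : A → ℂ}
    (hϑ : IsIrrCharacter A ϑ) (hinv : ∀ x : G, Cfsg.Agent.Helper5.conjFun A x ϑ = ϑ) (χ : IrrCharacter G)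
    (hcon : classInner (fun a : A => (χ : G → ℂ) a) ϑ ≠ 0) :
    (χ : G → ℂ) 1 = classInner (fun a : A => (χ : G → ℂ) a) ϑ * ϑ 1 := by
  obtain ⟨e, -, hee, heq⟩ := restrict_eq_smul_of_invariant A χ.2 hϑ hinv hcon
  rw [hee]
  have := congrFun heq 1
  simpa using this

/-- **the key relation**: on `p`-regular elements, the part of the block idempotent over the
invariant extension `θ̂` is `|K : N|⁻¹` times the idempotent -/
theorem star (hM : IsPModular p M) (N K : Subgroup G) [hN : N.Normal] [hK : K.Normal]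
    [Fintype N] [Fintype K] (hNK : N ≤ K) (hKp : ∀ k ∈ K, k ∉ N → p ∣ orderOf k)
    (θ : N → ℂ) (hθ : IsIrrCharacter N θ) (hθinv : ∀ x : G, Cfsg.Agent.Helper5.conjFun N x θ = θ)
    (θh : K → ℂ) (hθh : IsIrrCharacter K θh) (hθhinv : ∀ x : G, Cfsg.Agent.Helper5.conjFun K x θh = θh)
    (hθhN : ∀ n : N, θh ⟨n, hNK n.2⟩ = θ n)
    {B : Set (IrrCharacter G)} (hB : IsPBlock M B)
    (hBθ : ∀ χ ∈ B, classInner (fun n : N => (χ : G → ℂ) n) θ ≠ 0)
    {y : G} (hy : ¬ p ∣ orderOf y) [Fintype (IrrCharacter G)] [DecidablePred (· ∈ B)]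
    [DecidablePred (fun χ : IrrCharacter G =>
      χ ∈ B ∧ classInner (fun k : K => (χ : G → ℂ) k) θh ≠ 0)] :
    (Nat.card N : ℂ) * ∑ χ : IrrCharacter G,
      (if χ ∈ B then (χ : G → ℂ) 1 * (χ : G → ℂ) y else 0) =
    (Nat.card K : ℂ) * ∑ χ : IrrCharacter G,
      (if χ ∈ B ∧ classInner (fun k : K => (χ : G → ℂ) k) θh ≠ 0 then
        (χ : G → ℂ) 1 * (χ : G → ℂ) y else 0) := by
  classical
  have hone : (⟨((1 : N) : G), hNK (1 : N).2⟩ : K) = 1 := Subtype.ext rfl
  have hθ1 : θh 1 = θ 1 := by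
    have := hθhN 1
    rwa [hone] at this
  obtain ⟨d, hdpos, hd⟩ := irr_one_eq hθ
  have hd0 : (d : ℂ) ≠ 0 := by exact_mod_cast hdpos.ne'
  set Θ : G → ℂ := fun x => if h : x ∈ K then θh ⟨x, h⟩ else 0 with hΘ
  have hwbo : ∀ x : G, x ∈ K → x ∉ N → ∑ χ : IrrCharacter G,
      (if χ ∈ B then (χ : G → ℂ) y * conj ((χ : G → ℂ) x) else 0) = 0 := by
    intro x hxK hxN
    have h := weak_block_orthogonality hM hB hy (hKp x hxK hxN)
    rw [finsum_mem_def, finsum_eq_sum_of_fintype] at h
    refine Eq.trans ?_ h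
    apply Finset.sum_congr rfl
    intro χ _
    rw [Set.indicator_apply]
  have hsum0 : ∑ x : G, (if x ∈ K ∧ x ∉ N then Θ x * ∑ χ : IrrCharacter G,
      (if χ ∈ B then (χ : G → ℂ) y * conj ((χ : G → ℂ) x) else 0) else 0) = 0 := by
    apply Finset.sum_eq_zero
    intro x _
    split_ifs with h
    · rw [hwbo x h.1 h.2, mul_zero]
    · rfl
  have hswap : ∑ x : G, (if x ∈ K ∧ x ∉ N then Θ x * ∑ χ : IrrCharacter G,
      (if χ ∈ B then (χ : G → ℂ) y * conj ((χ : G → ℂ) x) else 0) else 0) =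
      ∑ χ : IrrCharacter G, (if χ ∈ B then (χ : G → ℂ) y * ∑ x : G,
        (if x ∈ K ∧ x ∉ N then Θ x * conj ((χ : G → ℂ) x) else 0) else 0) := by
    have h1 : ∀ x : G, (if x ∈ K ∧ x ∉ N then Θ x * ∑ χ : IrrCharacter G,
        (if χ ∈ B then (χ : G → ℂ) y * conj ((χ : G → ℂ) x) else 0) else 0) =
        ∑ χ : IrrCharacter G, (if χ ∈ B then (χ : G → ℂ) y *
          (if x ∈ K ∧ x ∉ N then Θ x * conj ((χ : G → ℂ) x) else 0) else 0) := by
      intro x
      split_ifs with h
      · rw [Finset.mul_sum]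
        apply Finset.sum_congr rfl
        intro χ _
        split_ifs
        · ring
        · rw [mul_zero]
      · simp
    rw [Finset.sum_congr rfl (fun x _ => h1 x), Finset.sum_comm]
    apply Finset.sum_congr rfl
    intro χ _
    split_ifs
    · rw [Finset.mul_sum]
    · simp
  have hinner : ∀ χ : IrrCharacter G, ∑ x : G,
      (if x ∈ K ∧ x ∉ N then Θ x * conj ((χ : G → ℂ) x) else 0) =
      (Nat.card K : ℂ) * conj (classInner (fun k : K => (χ : G → ℂ) k) θh) -
        (Nat.card N : ℂ) * conj (classInner (fun n : N => (χ : G → ℂ) n) θ) := by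
    intro χ
    have hK0 : (Nat.card K : ℂ) ≠ 0 := by
      rw [Nat.cast_ne_zero]; exact Nat.card_pos.ne'
    have hN0 : (Nat.card N : ℂ) ≠ 0 := by
      rw [Nat.cast_ne_zero]; exact Nat.card_pos.ne'
    have e1 : (Nat.card K : ℂ) * conj (classInner (fun k : K => (χ : G → ℂ) k) θh) =
        ∑ x : G, if x ∈ K then Θ x * conj ((χ : G → ℂ) x) else 0 := by
      rw [classInner_conj_symm]
      unfold classInner
      rw [← mul_assoc, mul_inv_cancel₀ hK0, one_mul,
        ← sum_subgroup K (fun x => Θ x * conj ((χ : G → ℂ) x))]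
      apply Finset.sum_congr rfl
      intro k _
      rw [hΘ]
      simp only [dif_pos k.2]
    have e2 : (Nat.card N : ℂ) * conj (classInner (fun n : N => (χ : G → ℂ) n) θ) =
        ∑ x : G, if x ∈ N then Θ x * conj ((χ : G → ℂ) x) else 0 := by
      rw [classInner_conj_symm]
      unfold classInner
      rw [← mul_assoc, mul_inv_cancel₀ hN0, one_mul,
        ← sum_subgroup N (fun x => Θ x * conj ((χ : G → ℂ) x))]
      apply Finset.sum_congr rfl
      intro n _
      rw [hΘ]
      simp only [dif_pos (hNK n.2), hθhN n]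
    rw [e1, e2, ← Finset.sum_sub_distrib]
    apply Finset.sum_congr rfl
    intro x _
    by_cases hxN : x ∈ N
    · have hxK : x ∈ K := hNK hxN
      simp [hxN, hxK]
    · by_cases hxK : x ∈ K
      · simp [hxN, hxK]
      · simp [hxN, hxK]
  rw [hswap] at hsum0
  -- evaluate the multiplicities
  have hterm : ∀ χ : IrrCharacter G, χ ∈ B →
      (d : ℂ) * ((Nat.card K : ℂ) * conj (classInner (fun k : K => (χ : G → ℂ) k) θh) -
        (Nat.card N : ℂ) * conj (classInner (fun n : N => (χ : G → ℂ) n) θ)) =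
      (Nat.card K : ℂ) * (if classInner (fun k : K => (χ : G → ℂ) k) θh ≠ 0 then
        (χ : G → ℂ) 1 else 0) - (Nat.card N : ℂ) * (χ : G → ℂ) 1 := by
    intro χ hχ
    letI := irrFintype (G := N)
    letI := irrFintype (G := K)
    have h1 := one_eq_inner_mul N hθ hθinv χ (hBθ χ hχ)
    obtain ⟨e, he⟩ := classInner_char_nat
      (isCharacter_restrict N (isCharacter_of_isIrrCharacter χ.2))
      (isCharacter_of_isIrrCharacter hθ)
    obtain ⟨a, ha⟩ := classInner_char_nat
      (isCharacter_restrict K (isCharacter_of_isIrrCharacter χ.2))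
      (isCharacter_of_isIrrCharacter hθh)
    rw [he, Complex.conj_natCast]
    rw [he, hd] at h1
    by_cases h0 : classInner (fun k : K => (χ : G → ℂ) k) θh = 0
    · rw [if_neg (not_not.2 h0), h0, map_zero, h1]
      ring
    · have h2 := one_eq_inner_mul K hθh hθhinv χ h0
      rw [if_pos h0, ha, Complex.conj_natCast]
      rw [ha, hθ1, hd] at h2
      rw [h1]
      have h3 : (a : ℂ) * d = e * d := by rw [← h2, h1]
      have h4 : (a : ℂ) = e := mul_right_cancel₀ hd0 h3
      rw [h4]
      ring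
  have hfinal : ∑ χ : IrrCharacter G, (if χ ∈ B then (χ : G → ℂ) y *
      ((Nat.card K : ℂ) * (if classInner (fun k : K => (χ : G → ℂ) k) θh ≠ 0 then
        (χ : G → ℂ) 1 else 0) - (Nat.card N : ℂ) * (χ : G → ℂ) 1) else 0) = 0 := by
    have h1 : ∀ χ : IrrCharacter G, (if χ ∈ B then (χ : G → ℂ) y *
        ((Nat.card K : ℂ) * (if classInner (fun k : K => (χ : G → ℂ) k) θh ≠ 0 then
          (χ : G → ℂ) 1 else 0) - (Nat.card N : ℂ) * (χ : G → ℂ) 1) else 0) =
        (d : ℂ) * (if χ ∈ B then (χ : G → ℂ) y * ∑ x : G,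
          (if x ∈ K ∧ x ∉ N then Θ x * conj ((χ : G → ℂ) x) else 0) else 0) := by
      intro χ
      by_cases hχ : χ ∈ B
      · rw [if_pos hχ, if_pos hχ, hinner χ, ← hterm χ hχ]
        ring
      · rw [if_neg hχ, if_neg hχ, mul_zero]
    rw [Finset.sum_congr rfl (fun χ _ => h1 χ), ← Finset.mul_sum, hsum0, mul_zero]
  have hsplit : ∑ χ : IrrCharacter G, (if χ ∈ B then (χ : G → ℂ) y *
      ((Nat.card K : ℂ) * (if classInner (fun k : K => (χ : G → ℂ) k) θh ≠ 0 then
        (χ : G → ℂ) 1 else 0) - (Nat.card N : ℂ) * (χ : G → ℂ) 1) else 0) =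
      (Nat.card K : ℂ) * ∑ χ : IrrCharacter G,
        (if χ ∈ B ∧ classInner (fun k : K => (χ : G → ℂ) k) θh ≠ 0 then
          (χ : G → ℂ) 1 * (χ : G → ℂ) y else 0) -
      (Nat.card N : ℂ) * ∑ χ : IrrCharacter G,
        (if χ ∈ B then (χ : G → ℂ) 1 * (χ : G → ℂ) y else 0) := by
    rw [Finset.mul_sum, Finset.mul_sum, ← Finset.sum_sub_distrib]
    apply Finset.sum_congr rfl
    intro χ _
    by_cases hχ : χ ∈ B
    · by_cases h0 : classInner (fun k : K => (χ : G → ℂ) k) θh = 0
      · simp only [if_pos hχ, h0, ne_eq, not_true_eq_false, if_false, and_false]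
        ring
      · simp only [if_pos hχ, ne_eq, h0, not_false_eq_true, if_true, and_true]
        ring
    · simp [hχ]
  rw [hsplit] at hfinal
  exact (sub_eq_zero.1 hfinal).symm

end Star

section Internal

variable {T : Type u} [Group T] [Fintype T] {p : ℕ}

/-- **the twisted coset argument**, inside a group `T` to which `θ` extends -/
theorem eq_zero_of_relations (hp : p.Prime) (NT KT : Subgroup T) [hNT : NT.Normal]
    [hKT : KT.Normal] [Fintype NT] [Fintype KT] (hNK : NT ≤ KT)
    (hNp : (Nat.card NT).Coprime p)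
    {η : T → ℂ} (hη : IsIrrCharacter T η) (hηN : IsIrrCharacter NT (fun n : NT => η n))
    (hηK : IsIrrCharacter KT (fun k : KT => η k))
    {ι : Type*} [Fintype ι] (c : ι → ℂ) (ξ : ι → T → ℂ)
    (hξ : ∀ i, IsCharacter T (ξ i))
    (hξN : ∀ i, c i ≠ 0 → ∃ e : ℂ, (fun n : NT => ξ i n) = e • (fun n : NT => η n))
    (I' : ι → Prop) [DecidablePred I']
    (hξK : ∀ i, c i ≠ 0 → I' i →
      ∃ e : ℂ, (fun k : KT => ξ i k) = e • (fun k : KT => η k))
    (hξK0 : ∀ i, c i ≠ 0 → ¬ I' i →
      classInner (fun k : KT => ξ i k) (fun k : KT => η k) = 0)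
    (hsing : ∀ t : T, p ∣ orderOf t → ∑ i, c i * ξ i t = 0)
    (hstar : ∀ t : T, ¬ p ∣ orderOf t → (Nat.card NT : ℂ) * ∑ i, c i * ξ i t =
      (Nat.card KT : ℂ) * ∑ i, if I' i then c i * ξ i t else 0)
    {g : T} (hg : ¬ p ∣ orderOf g) {k₁ : T} (hk₁ : k₁ ∈ KT) (hk₁N : k₁ ∉ NT)
    (hk₁g : ¬ p ∣ orderOf (k₁ * g)) :
    ∑ i, c i * ξ i g = 0 := by
  classical
  have hN0 : (Nat.card NT : ℂ) ≠ 0 := by
    rw [Nat.cast_ne_zero]; exact Nat.card_pos.ne'
  have hK0 : (Nat.card KT : ℂ) ≠ 0 := by
    rw [Nat.cast_ne_zero]; exact Nat.card_pos.ne'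
  set Φ : T → ℂ := fun t => ∑ i, c i * ξ i t with hΦ
  set F : T → ℂ := fun t => ∑ i, c i * cosetAvg NT (ξ i) η t with hF
  -- (1)
  have h1 : ∀ t, Φ t = F t * η t := by
    intro t
    rw [hΦ, hF]
    simp only
    rw [Finset.sum_mul]
    apply Finset.sum_congr rfl
    intro i _
    by_cases hc : c i = 0
    · rw [hc, zero_mul, zero_mul, zero_mul]
    · obtain ⟨e, he⟩ := hξN i hc
      have := ExtAvg.eq_cosetAvg_mul NT hη hηN (hξ i) e he
      conv_lhs => rw [this]
      rw [Pi.mul_apply, mul_assoc]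
  -- (3)
  have h3 : ∀ (n : NT) (t : T), F ((n : T) * t) = F t := by
    intro n t
    rw [hF]
    simp only
    apply Finset.sum_congr rfl
    intro i _
    rw [cosetAvg_mul_left]
  -- F as an average of Φ
  have hFavg : ∀ t, F t = (Nat.card NT : ℂ)⁻¹ *
      ∑ n : NT, Φ ((n : T) * t) * conj (η ((n : T) * t)) := by
    intro t
    rw [hF, hΦ]
    simp only [cosetAvg_apply]
    rw [Finset.mul_sum]
    simp only [Finset.sum_mul, Finset.mul_sum]
    rw [Finset.sum_comm]
    apply Finset.sum_congr rfl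
    intro n _
    apply Finset.sum_congr rfl
    intro i _
    ring
  -- (5)
  have h5 : ∀ t, p ∣ orderOf t → F t = 0 := by
    intro t ht
    rw [hFavg]
    have : ∀ n : NT, Φ ((n : T) * t) = 0 := by
      intro n
      apply hsing
      by_contra hcon
      apply absurd ht
      have h := not_dvd_orderOf_mul hp NT hNp hcon (NT.inv_mem n.2)
      rwa [inv_mul_cancel_left] at h
    simp only [this, zero_mul, Finset.sum_const_zero, mul_zero]
  -- the sum over `K`
  set S : T → ℂ := fun t => ∑ k : KT, F ((k : T) * t) with hS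
  have hSK : ∀ (k : KT) (t : T), S ((k : T) * t) = S t := by
    intro k t
    rw [hS]
    simp only
    rw [← Equiv.sum_comp (Equiv.mulRight k) (fun k' : KT => F ((k' : T) * t))]
    apply Finset.sum_congr rfl
    intro k' _
    simp only [Equiv.coe_mulRight, Subgroup.coe_mul, mul_assoc]
  -- G3
  have hG3 : ∀ t, ∑ k : KT, Φ ((k : T) * t) * conj (η ((k : T) * t)) = S t := by
    intro t
    have hn : ∀ n : NT, ∑ k : KT, Φ ((k : T) * t) * conj (η ((k : T) * t)) =
        ∑ k : KT, F ((k : T) * t) *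
          (η ((n : T) * ((k : T) * t)) * conj (η ((n : T) * ((k : T) * t)))) := by
      intro n
      rw [← Equiv.sum_comp (Equiv.mulLeft (⟨(n : T), hNK n.2⟩ : KT))
        (fun k : KT => Φ ((k : T) * t) * conj (η ((k : T) * t)))]
      apply Finset.sum_congr rfl
      intro k _
      simp only [Equiv.coe_mulLeft, Subgroup.coe_mul, mul_assoc]
      rw [h1, h3 n]
      ring
    have hsum : (Nat.card NT : ℂ) * ∑ k : KT, Φ ((k : T) * t) * conj (η ((k : T) * t)) =
        (Nat.card NT : ℂ) * S t := by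
      calc (Nat.card NT : ℂ) * ∑ k : KT, Φ ((k : T) * t) * conj (η ((k : T) * t))
          = ∑ n : NT, ∑ k : KT, Φ ((k : T) * t) * conj (η ((k : T) * t)) := by
            simp [Finset.sum_const, Nat.card_eq_fintype_card]
        _ = ∑ n : NT, ∑ k : KT, F ((k : T) * t) *
              (η ((n : T) * ((k : T) * t)) * conj (η ((n : T) * ((k : T) * t)))) :=
            Finset.sum_congr rfl (fun n _ => hn n)
        _ = ∑ k : KT, F ((k : T) * t) * ∑ n : NT,
              (η ((n : T) * ((k : T) * t)) * conj (η ((n : T) * ((k : T) * t)))) := by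
            rw [Finset.sum_comm]
            apply Finset.sum_congr rfl
            intro k _
            rw [Finset.mul_sum]
        _ = ∑ k : KT, F ((k : T) * t) * (Nat.card NT : ℂ) := by
            apply Finset.sum_congr rfl
            intro k _
            have h := ExtAvg.cosetAvg_self NT hη hηN ((k : T) * t)
            rw [cosetAvg_apply] at h
            have h' : ∑ n : NT, (η ((n : T) * ((k : T) * t)) *
                conj (η ((n : T) * ((k : T) * t)))) = (Nat.card NT : ℂ) := by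
              have h9 : (Nat.card NT : ℂ) * ((Nat.card NT : ℂ)⁻¹ *
                  ∑ n : NT, (η ((n : T) * ((k : T) * t)) *
                    conj (η ((n : T) * ((k : T) * t))))) = (Nat.card NT : ℂ) * 1 := by
                rw [h]
              rwa [← mul_assoc, mul_inv_cancel₀ hN0, one_mul, mul_one] at h9
            rw [h']
        _ = (Nat.card NT : ℂ) * S t := by
            rw [hS, ← Finset.sum_mul, mul_comm]
    exact mul_left_cancel₀ hN0 hsum
  -- (2)
  have h2 : ∀ t, (∑ i, if I' i then c i * ξ i t else 0) =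
      η t * ((Nat.card KT : ℂ)⁻¹ * S t) := by
    intro t
    have e1 : ∀ i, (if I' i then c i * ξ i t else 0) =
        η t * (c i * cosetAvg KT (ξ i) η t) := by
      intro i
      by_cases hc : c i = 0
      · rw [hc]
        simp
      · by_cases hi : I' i
        · rw [if_pos hi]
          obtain ⟨e, he⟩ := hξK i hc hi
          have := ExtAvg.eq_cosetAvg_mul KT hη hηK (hξ i) e he
          conv_lhs => rw [this]
          rw [Pi.mul_apply]
          ring
        · rw [if_neg hi, ExtAvg.cosetAvg_eq_zero KT hη hηK (hξ i) (hξK0 i hc hi)]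
          simp
    rw [Finset.sum_congr rfl (fun i _ => e1 i), ← Finset.mul_sum]
    congr 1
    rw [← hG3 t, hΦ]
    simp only [cosetAvg_apply]
    rw [Finset.mul_sum]
    simp only [Finset.sum_mul, Finset.mul_sum]
    rw [Finset.sum_comm]
    apply Finset.sum_congr rfl
    intro i _
    apply Finset.sum_congr rfl
    intro k _
    ring
  -- (4)
  have h4 : ∀ t, ¬ p ∣ orderOf t → (Nat.card NT : ℂ) * F t = S t := by
    intro t ht
    obtain ⟨n, hn⟩ := ExtAvg.exists_ne_zero NT hη hηN t
    have hnt : ¬ p ∣ orderOf ((n : T) * t) := not_dvd_orderOf_mul hp NT hNp ht n.2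
    have h := hstar _ hnt
    rw [h2] at h
    have h' : (Nat.card NT : ℂ) * Φ ((n : T) * t) =
        (Nat.card KT : ℂ) * (η ((n : T) * t) * ((Nat.card KT : ℂ)⁻¹ * S ((n : T) * t))) := h
    rw [h1, h3 n, hSK ⟨(n : T), hNK n.2⟩ t] at h'
    have h'' : ((Nat.card NT : ℂ) * F t - S t) * η ((n : T) * t) = 0 := by
      have : (Nat.card KT : ℂ) * (η ((n : T) * t) * ((Nat.card KT : ℂ)⁻¹ * S t)) =
          S t * η ((n : T) * t) := by
        field_simp
      rw [this] at h'
      linear_combination h'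
    rcases mul_eq_zero.1 h'' with h | h
    · exact sub_eq_zero.1 h
    · exact absurd h hn
  -- (6) the count
  set R : ℕ := (Finset.univ.filter (fun k : KT => ¬ p ∣ orderOf ((k : T) * g))).card with hR
  have hcount : (Nat.card NT : ℂ) * S g = (R : ℂ) * S g := by
    have e1 : ∀ k : KT, (Nat.card NT : ℂ) * F ((k : T) * g) =
        if ¬ p ∣ orderOf ((k : T) * g) then S g else 0 := by
      intro k
      by_cases hk : p ∣ orderOf ((k : T) * g)
      · rw [if_neg (not_not.2 hk), h5 _ hk, mul_zero]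
      · rw [if_pos hk, h4 _ hk, hSK]
    calc (Nat.card NT : ℂ) * S g = ∑ k : KT, (Nat.card NT : ℂ) * F ((k : T) * g) := by
          rw [hS, Finset.mul_sum]
      _ = ∑ k : KT, (if ¬ p ∣ orderOf ((k : T) * g) then S g else 0) :=
          Finset.sum_congr rfl (fun k _ => e1 k)
      _ = (R : ℂ) * S g := by
          rw [← Finset.sum_filter, Finset.sum_const, nsmul_eq_mul]
  have hRge : 2 * Nat.card NT ≤ R := by
    let f : NT ⊕ NT → KT := fun x => match x with
      | Sum.inl n => ⟨(n : T), hNK n.2⟩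
      | Sum.inr n => ⟨(n : T) * k₁, KT.mul_mem (hNK n.2) hk₁⟩
    have hfinj : Function.Injective f := by
      intro x x' hxx
      rcases x with n | n <;> rcases x' with n' | n'
      · have h := congrArg Subtype.val hxx
        simp only [f] at h
        rw [Subtype.ext h]
      · exfalso
        have h := congrArg Subtype.val hxx
        simp only [f] at h
        apply hk₁N
        have h2 : k₁ = (n' : T)⁻¹ * (n : T) := by
          rw [h]
          group
        rw [h2]
        exact NT.mul_mem (NT.inv_mem n'.2) n.2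
      · exfalso
        have h := congrArg Subtype.val hxx
        simp only [f] at h
        apply hk₁N
        have h2 : k₁ = (n : T)⁻¹ * (n' : T) := by
          rw [← h]
          group
        rw [h2]
        exact NT.mul_mem (NT.inv_mem n.2) n'.2
      · have h := congrArg Subtype.val hxx
        simp only [f] at h
        have h2 : (n : T) = n' := mul_right_cancel h
        rw [Subtype.ext h2]
    have hfmem : ∀ x, f x ∈ Finset.univ.filter (fun k : KT => ¬ p ∣ orderOf ((k : T) * g)) := by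
      intro x
      rw [Finset.mem_filter]
      refine ⟨Finset.mem_univ _, ?_⟩
      rcases x with n | n
      · exact not_dvd_orderOf_mul hp NT hNp hg n.2
      · simp only [f]
        rw [mul_assoc]
        exact not_dvd_orderOf_mul hp NT hNp hk₁g n.2
    have h1 : Fintype.card (NT ⊕ NT) ≤ R := by
      rw [hR, ← Finset.card_univ]
      apply Finset.card_le_card_of_injOn f
      · intro x _
        exact hfmem x
      · intro x _ x' _ h
        exact hfinj h
    rw [Fintype.card_sum, ← Nat.card_eq_fintype_card] at h1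
    omega
  have hS0 : S g = 0 := by
    by_contra hne
    have h := mul_right_cancel₀ hne hcount
    have h' : Nat.card NT = R := by exact_mod_cast h
    have : 0 < Nat.card NT := Nat.card_pos
    omega
  have hFg : F g = 0 := by
    have h := h4 g hg
    rw [hS0] at h
    rcases mul_eq_zero.1 h with h | h
    · exact absurd h hN0
    · exact h
  have := h1 g
  rw [hFg, zero_mul] at this
  exact this

end Internal

section Main

variable {G : Type u} [Group G] [Fintype G] {M : Ideal AlgInt} {p : ℕ}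

/-- **Vanishing of the idempotent** of a block over `θ` at the `p`-regular elements acting
nontrivially on `K / N`. -/
theorem blockCoeff_eq_zero_of_regular (hM : IsPModular p M)
    (N K H : Subgroup G) [hN : N.Normal] [hK : K.Normal] [Fintype N] [Fintype K]
    (hNK : N ≤ K) (hKH : K ≤ H) (hNp : (Nat.card N).Coprime p)
    (hKp : ∀ k ∈ K, k ∉ N → p ∣ orderOf k)
    (θ : N → ℂ) (hθ : IsIrrCharacter N θ)
    (hθinv : ∀ x : G, Cfsg.Agent.Helper5.conjFun N x θ = θ)
    (θh : K → ℂ) (hθh : IsIrrCharacter K θh)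
    (hθhinv : ∀ x : G, Cfsg.Agent.Helper5.conjFun K x θh = θh)
    (hθhN : ∀ n : N, θh ⟨n, hNK n.2⟩ = θ n)
    (η : H → ℂ) (hη : IsIrrCharacter H η) (hηK : ∀ k : K, η ⟨k, hKH k.2⟩ = θh k)
    {B : Set (IrrCharacter G)} (hB : IsPBlock M B)
    (hBθ : ∀ χ ∈ B, classInner (fun n : N => (χ : G → ℂ) n) θ ≠ 0)
    {g : G} (hgH : g ∈ H) (hg : ¬ p ∣ orderOf g) {k₀ : G} (hk₀ : k₀ ∈ K)
    (hk₀g : k₀⁻¹ * g * k₀ * g⁻¹ ∉ N) :
    blockCoeff B g = 0 := by
  classical
  have hp := hM.1
  haveI : Fintype H := Fintype.ofFinite H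
  letI : Fintype (IrrCharacter G) := irrFintype
  haveI : Fintype (N.subgroupOf H) := Fintype.ofFinite _
  haveI : Fintype (K.subgroupOf H) := Fintype.ofFinite _
  have hNH : N ≤ H := hNK.trans hKH
  let eN : N.subgroupOf H ≃* N := Subgroup.subgroupOfEquivOfLe hNH
  let eK : K.subgroupOf H ≃* K := Subgroup.subgroupOfEquivOfLe hKH
  have hNTK : N.subgroupOf H ≤ K.subgroupOf H := by
    intro x hx
    rw [Subgroup.mem_subgroupOf] at hx ⊢
    exact hNK hx
  have hcardN : Nat.card (N.subgroupOf H) = Nat.card N := Nat.card_congr eN.toEquiv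
  have hcardK : Nat.card (K.subgroupOf H) = Nat.card K := Nat.card_congr eK.toEquiv
  have hηKfun : (fun k : K.subgroupOf H => η k) = θh ∘ eK := by
    funext k
    have := hηK (eK k)
    rw [Function.comp_apply, ← this]
    exact congrArg η (Subtype.ext rfl)
  have hηNfun : (fun n : N.subgroupOf H => η n) = θ ∘ eN := by
    funext n
    rw [Function.comp_apply, ← hθhN (eN n), ← hηK]
    exact congrArg η (Subtype.ext rfl)
  have hηNT : IsIrrCharacter (N.subgroupOf H) (fun n : N.subgroupOf H => η n) := by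
    rw [hηNfun]
    exact isIrrCharacter_comp_equiv eN hθ
  have hηKT : IsIrrCharacter (K.subgroupOf H) (fun k : K.subgroupOf H => η k) := by
    rw [hηKfun]
    exact isIrrCharacter_comp_equiv eK hθh
  have hNTp : (Nat.card (N.subgroupOf H)).Coprime p := by rw [hcardN]; exact hNp
  -- the family
  set c : IrrCharacter G → ℂ := fun χ => if χ ∈ B then (χ : G → ℂ) 1 else 0 with hc
  set ξ : IrrCharacter G → H → ℂ := fun χ t => (χ : G → ℂ) t with hξdef
  have hξ : ∀ χ, IsCharacter H (ξ χ) := fun χ =>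
    isCharacter_restrict H (isCharacter_of_isIrrCharacter χ.2)
  have hcB : ∀ χ, c χ ≠ 0 → χ ∈ B := by
    intro χ h
    by_contra hcon
    apply h
    rw [hc]
    simp only [if_neg hcon]
  have hξN : ∀ χ, c χ ≠ 0 → ∃ e : ℂ, (fun n : N.subgroupOf H => ξ χ n) =
      e • (fun n : N.subgroupOf H => η n) := by
    intro χ hχ
    obtain ⟨e, -, -, heq⟩ := restrict_eq_smul_of_invariant N χ.2 hθ hθinv (hBθ χ (hcB χ hχ))
    refine ⟨e, ?_⟩
    funext n
    have h1 := congrFun heq (eN n)
    have h2 := congrFun hηNfun n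
    simp only [Pi.smul_apply, smul_eq_mul, Function.comp_apply] at h1 h2 ⊢
    rw [h2, ← h1]
    rfl
  have hξK : ∀ χ, c χ ≠ 0 → classInner (fun k : K => (χ : G → ℂ) k) θh ≠ 0 →
      ∃ e : ℂ, (fun k : K.subgroupOf H => ξ χ k) = e • (fun k : K.subgroupOf H => η k) := by
    intro χ _ hχK
    obtain ⟨e, -, -, heq⟩ := restrict_eq_smul_of_invariant K χ.2 hθh hθhinv hχK
    refine ⟨e, ?_⟩
    funext k
    have h1 := congrFun heq (eK k)
    have h2 := congrFun hηKfun k
    simp only [Pi.smul_apply, smul_eq_mul, Function.comp_apply] at h1 h2 ⊢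
    rw [h2, ← h1]
    rfl
  have hξK0 : ∀ χ, c χ ≠ 0 → ¬ (classInner (fun k : K => (χ : G → ℂ) k) θh ≠ 0) →
      classInner (fun k : K.subgroupOf H => ξ χ k) (fun k : K.subgroupOf H => η k) = 0 := by
    intro χ _ hχK
    rw [not_not] at hχK
    rw [hηKfun]
    have h1 : (fun k : K.subgroupOf H => ξ χ k) = (fun k : K => (χ : G → ℂ) k) ∘ eK := by
      funext k
      rfl
    rw [h1, classInner_comp_equiv, hχK]
  -- vanishing on singular elements
  have hsing : ∀ t : H, p ∣ orderOf t → ∑ χ, c χ * ξ χ t = 0 := by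
    intro t ht
    have ht' : p ∣ orderOf ((t : G)⁻¹) := by
      rw [orderOf_inv, Subgroup.orderOf_coe]
      exact ht
    have h1 : ¬ p ∣ orderOf (1 : G) := by
      rw [orderOf_one]
      exact hp.one_lt.ne' ∘ Nat.dvd_one.1
    have h := weak_block_orthogonality hM hB h1 ht'
    rw [finsum_mem_def, finsum_eq_sum_of_fintype] at h
    refine Eq.trans ?_ h
    apply Finset.sum_congr rfl
    intro χ _
    rw [Set.indicator_apply, hc, hξdef]
    simp only
    by_cases hχ : χ ∈ B
    · rw [if_pos hχ, if_pos hχ, irr_inv (isCharacter_of_isIrrCharacter χ.2), Complex.conj_conj]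
    · rw [if_neg hχ, if_neg hχ, zero_mul]
  have hstar : ∀ t : H, ¬ p ∣ orderOf t →
      (Nat.card (N.subgroupOf H) : ℂ) * ∑ χ, c χ * ξ χ t =
      (Nat.card (K.subgroupOf H) : ℂ) * ∑ χ : IrrCharacter G,
        if classInner (fun k : K => (χ : G → ℂ) k) θh ≠ 0 then c χ * ξ χ t else 0 := by
    intro t ht
    have ht' : ¬ p ∣ orderOf (t : G) := by
      rw [Subgroup.orderOf_coe]
      exact ht
    have h := star hM N K hNK hKp θ hθ hθinv θh hθh hθhinv hθhN hB hBθ ht'
    rw [hcardN, hcardK]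
    refine Eq.trans ?_ (Eq.trans h ?_)
    · congr 1
      apply Finset.sum_congr rfl
      intro χ _
      rw [hc, hξdef]
      simp only
      by_cases hχ : χ ∈ B
      · rw [if_pos hχ, if_pos hχ]
      · rw [if_neg hχ, if_neg hχ, zero_mul]
    · congr 1
      apply Finset.sum_congr rfl
      intro χ _
      rw [hc, hξdef]
      simp only
      by_cases hχ : χ ∈ B
      · by_cases h0 : classInner (fun k : K => (χ : G → ℂ) k) θh = 0
        · simp [hχ, h0]
        · simp [hχ, h0]
      · simp [hχ]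
  -- the elements
  have hk₁K : k₀⁻¹ * g * k₀ * g⁻¹ ∈ K := by
    have h1 : g * k₀ * g⁻¹ ∈ K := hK.conj_mem k₀ hk₀ g
    have h2 : k₀⁻¹ * g * k₀ * g⁻¹ = k₀⁻¹ * (g * k₀ * g⁻¹) := by group
    rw [h2]
    exact K.mul_mem (K.inv_mem hk₀) h1
  have hgT : ¬ p ∣ orderOf (⟨g, hgH⟩ : H) := by
    rw [← Subgroup.orderOf_coe]
    exact hg
  have hk₁g : ¬ p ∣ orderOf ((⟨k₀⁻¹ * g * k₀ * g⁻¹, hKH hk₁K⟩ : H) * ⟨g, hgH⟩) := by
    rw [← Subgroup.orderOf_coe]
    have h1 : (((⟨k₀⁻¹ * g * k₀ * g⁻¹, hKH hk₁K⟩ : H) * ⟨g, hgH⟩ : H) : G) =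
        k₀⁻¹ * g * (k₀⁻¹)⁻¹ := by
      rw [Subgroup.coe_mul]
      show k₀⁻¹ * g * k₀ * g⁻¹ * g = _
      group
    rw [h1]
    have ho : orderOf (k₀⁻¹ * g * (k₀⁻¹)⁻¹) = orderOf g := by
      have := (MulAut.conj k₀⁻¹).orderOf_eq g
      rwa [MulAut.conj_apply] at this
    rwa [ho]
  have hmain := eq_zero_of_relations hp (N.subgroupOf H) (K.subgroupOf H) hNTK hNTp hη hηNT hηKT
    c ξ hξ hξN (fun χ => classInner (fun k : K => (χ : G → ℂ) k) θh ≠ 0) hξK hξK0 hsing hstar
    hgT (k₁ := ⟨k₀⁻¹ * g * k₀ * g⁻¹, hKH hk₁K⟩)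
    (Subgroup.mem_subgroupOf.2 hk₁K) (fun h => hk₀g (Subgroup.mem_subgroupOf.1 h)) hk₁g
  -- conclude
  unfold blockCoeff
  rw [finsum_mem_def, finsum_eq_sum_of_fintype]
  have h2 : ∑ χ : IrrCharacter G, Set.indicator B
      (fun χ : IrrCharacter G => (χ : G → ℂ) 1 * conj ((χ : G → ℂ) g)) χ =
      conj (∑ χ, c χ * ξ χ ⟨g, hgH⟩) := by
    rw [map_sum]
    apply Finset.sum_congr rfl
    intro χ _
    rw [Set.indicator_apply, hc, hξdef]
    simp only
    by_cases hχ : χ ∈ B
    · rw [if_pos hχ, if_pos hχ, map_mul]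
      obtain ⟨d, -, hd⟩ := irr_one_eq χ.2
      rw [hd, Complex.conj_natCast]
    · rw [if_neg hχ, if_neg hχ, zero_mul, map_zero]
  rw [h2, hmain, map_zero, mul_zero]

end Main

end Cfsg.Agent.Helper18.ThetaBlock
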