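import Mathlib
import Cfsg.Prelude.Def_Blocks
import Cfsg.Agent.Lib.Helper18.ThetaBlock
import Cfsg.Agent.Lib.Helper18.CanonExt
import Cfsg.Agent.Lib.Helper18.BlockOver
import Cfsg.Agent.Lib.Helper18.CyclicStab
import Cfsg.Agent.Lib.Helper24.CoprimeOver

/-!
# Fong's theorem on the characters over an invariant character of `O_{p'}(G)`
(helper18's library)
-/

set_option autoImplicit false
set_option linter.style.haveILetI false
set_option linter.unusedSectionVars false

namespace Cfsg.Agent.Helper18.FongBlock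

open Cfsg Cfsg.Agent.Helper24 Cfsg.Agent.Helper5 Cfsg.Agent.Helper23.Blk Cfsg.Agent.Helper18
open scoped ComplexConjugate

universe u

variable {G : Type u} [Group G] [Fintype G] {M : Ideal AlgInt} {p : ℕ}

/-- elements of `K` outside `N` are `p`-singular when `K / N` is a `p`-group -/
theorem dvd_orderOf_of_not_mem (hp : p.Prime) (N K : Subgroup G) [hN : N.Normal] (a : ℕ)
    (hidx : N.relIndex K = p ^ a) {k : G} (hk : k ∈ K) (hkN : k ∉ N) : p ∣ orderOf k := by
  by_contra hcon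
  apply hkN
  haveI : (N.subgroupOf K).Normal := inferInstance
  have h1 : k ^ p ^ a ∈ N := by
    have h2 := Subgroup.pow_index_mem (N.subgroupOf K) (⟨k, hk⟩ : K)
    rw [Subgroup.mem_subgroupOf] at h2
    have h3 : (N.subgroupOf K).index = p ^ a := hidx
    rw [h3] at h2
    exact h2
  have h2 : k ^ orderOf k ∈ N := by
    rw [pow_orderOf_eq_one]
    exact N.one_mem
  have hcop : Nat.Coprime (p ^ a) (orderOf k) :=
    Nat.Coprime.pow_left a ((Nat.Prime.coprime_iff_not_dvd hp).2 hcon)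
  have h4 := pow_gcd_mem N k _ _ h1 h2
  rwa [hcop, pow_one] at h4

/-- **Fong's theorem, constrained form**: the characters over a `G`-invariant irreducible
character `θ` of the normal `p'`-subgroup `N` form a single block, with idempotent supported on
`N`, provided `p`-regular elements outside `N` act nontrivially on the normal `p`-section
`K / N`. -/
theorem exists_block_over (hM : IsPModular p M) [Fact p.Prime] (N K : Subgroup G)
    [hN : N.Normal] [hK : K.Normal] [Fintype N] (hNK : N ≤ K)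
    (hNp : (Nat.card N).Coprime p) (a : ℕ) (hidx : N.relIndex K = p ^ a)
    (hC : ∀ g : G, ¬ p ∣ orderOf g → g ∉ N → ∃ k₀ ∈ K, k₀⁻¹ * g * k₀ * g⁻¹ ∉ N)
    (θ : N → ℂ) (hθ : IsIrrCharacter N θ)
    (hθinv : ∀ x : G, Cfsg.Agent.Helper5.conjFun N x θ = θ) :
    ∃ B : Set (IrrCharacter G), IsPBlock M B ∧
      (∀ χ : IrrCharacter G, χ ∈ B ↔ classInner (fun n : N => (χ : G → ℂ) n) θ ≠ 0) ∧
      (∀ g : G, g ∉ N → blockCoeff B g = 0) ∧
      blockCoeff B 1 = θ 1 ^ 2 / (Nat.card N : ℂ) := by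
  classical
  have hp := hM.1
  haveI hMp : M.IsPrime := hM.2.1.isPrime
  haveI : Fintype K := Fintype.ofFinite K
  letI : Fintype (IrrCharacter G) := irrFintype
  letI : Fintype (IrrCharacter N) := irrFintype
  have hpN : ¬ p ∣ Nat.card N := by
    have := Nat.Coprime.symm hNp
    rwa [Nat.Prime.coprime_iff_not_dvd hp] at this
  obtain ⟨χ₀f, hχ₀, hover₀⟩ := exists_irr_over N hθ
  set χ₀ : IrrCharacter G := ⟨χ₀f, hχ₀⟩ with hχ₀def
  set B₀ : Set (IrrCharacter G) := blockOf M (χ₀ : G → ℂ) with hB₀def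
  have hB₀ : IsPBlock M B₀ := ⟨χ₀, rfl⟩
  have hBθ : ∀ χ ∈ B₀, classInner (fun n : N => (χ : G → ℂ) n) θ ≠ 0 := by
    intro χ hχ
    exact over_of_sameBlock N hM hpN hθ (χ := χ₀) (ψ := χ) hχ hover₀
  have hKp : ∀ k ∈ K, k ∉ N → p ∣ orderOf k := fun k hk hkN =>
    dvd_orderOf_of_not_mem hp N K a hidx hk hkN
  obtain ⟨θh, hθh, hθhN, hθhinv⟩ :=
    CanonExt.exists_invariant_extension N K hNK hNp a hidx θ hθ hθinv
  -- support
  have hsupp : ∀ g : G, g ∉ N → blockCoeff B₀ g = 0 := by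
    intro g hgN
    by_cases hg : p ∣ orderOf g
    · exact blockCoeff_eq_zero_of_pSingular hM hB₀ hg
    · obtain ⟨k₀, hk₀, hk₀g⟩ := hC g hg hgN
      obtain ⟨η, hη, hηK⟩ := CanonExt.exists_extension_sup_zpowers K g θh hθh hθhinv
      exact ThetaBlock.blockCoeff_eq_zero_of_regular hM N K (K ⊔ Subgroup.zpowers g) hNK
        le_sup_left hNp hKp θ hθ hθinv θh hθh hθhinv hθhN η hη hηK hB₀ hBθ
        ((le_sup_right : Subgroup.zpowers g ≤ K ⊔ Subgroup.zpowers g)
          (Subgroup.mem_zpowers g)) hg hk₀ hk₀g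
  -- the values on `N`
  set C : ℂ := (Nat.card G : ℂ)⁻¹ * ∑ χ : IrrCharacter G,
    (if χ ∈ B₀ then (χ : G → ℂ) 1 * classInner (fun n : N => (χ : G → ℂ) n) θ else 0) with hC'
  have hres : ∀ χ : IrrCharacter G, classInner (fun n : N => (χ : G → ℂ) n) θ ≠ 0 →
      ∃ e : ℕ, classInner (fun n : N => (χ : G → ℂ) n) θ = e ∧
        ∀ n : N, (χ : G → ℂ) n = (e : ℂ) * θ n := by
    intro χ hχ
    obtain ⟨e, -, hee, heq⟩ := restrict_eq_smul_of_invariant N χ.2 hθ hθinv hχ
    refine ⟨e, hee, ?_⟩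
    intro n
    have := congrFun heq n
    simpa using this
  have hval : ∀ n : N, blockCoeff B₀ (n : G) = C * conj (θ n) := by
    intro n
    unfold blockCoeff
    rw [finsum_mem_def, finsum_eq_sum_of_fintype, hC', mul_assoc, Finset.sum_mul]
    congr 1
    apply Finset.sum_congr rfl
    intro χ _
    rw [Set.indicator_apply]
    by_cases hχ : χ ∈ B₀
    · rw [if_pos hχ, if_pos hχ]
      obtain ⟨e, hee, heq⟩ := hres χ (hBθ χ hχ)
      rw [heq n, hee, map_mul, Complex.conj_natCast]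
      ring
    · rw [if_neg hχ, if_neg hχ, zero_mul]
  -- the central characters
  have hN0 : (Nat.card N : ℂ) ≠ 0 := by
    rw [Nat.cast_ne_zero]; exact Nat.card_pos.ne'
  obtain ⟨d, hdpos, hd⟩ := irr_one_eq hθ
  have hd0 : (d : ℂ) ≠ 0 := by exact_mod_cast hdpos.ne'
  have homega : ∀ φ : IrrCharacter G, classInner (fun n : N => (φ : G → ℂ) n) θ ≠ 0 →
      omega (φ : G → ℂ) (blockCoeff B₀) = C * (Nat.card N : ℂ) / θ 1 := by
    intro φ hφ
    obtain ⟨e, hee, heq⟩ := hres φ hφ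
    have he0 : (e : ℂ) ≠ 0 := by
      rw [← hee]
      exact hφ
    unfold omega
    have h1 : ∑ g : G, blockCoeff B₀ g * (φ : G → ℂ) g =
        ∑ n : N, blockCoeff B₀ (n : G) * (φ : G → ℂ) n := by
      rw [ThetaBlock.sum_subgroup N (fun g => blockCoeff B₀ g * (φ : G → ℂ) g)]
      apply Finset.sum_congr rfl
      intro g _
      by_cases hg : g ∈ N
      · rw [if_pos hg]
      · rw [if_neg hg, hsupp g hg, zero_mul]
    have h2 : ∑ n : N, blockCoeff B₀ (n : G) * (φ : G → ℂ) n =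
        C * e * ((Nat.card N : ℂ) * classInner θ θ) := by
      unfold classInner
      rw [← mul_assoc (Nat.card N : ℂ), mul_inv_cancel₀ hN0, one_mul, Finset.mul_sum]
      apply Finset.sum_congr rfl
      intro n _
      rw [hval n, heq n]
      ring
    have h3 : (φ : G → ℂ) 1 = (e : ℂ) * θ 1 := heq 1
    rw [h1, h2, irr_orthogonality hθ hθ, if_pos rfl, h3, hd]
    field_simp
  have hsynth : blockCoeff B₀ = synth (fun χ : IrrCharacter G => if χ ∈ B₀ then (1 : ℂ) else 0) := by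
    funext g
    exact blockCoeff_eq_synth B₀ g
  have hχ₀mem : χ₀ ∈ B₀ := mem_blockOf_self χ₀
  have hCval : C * (Nat.card N : ℂ) / θ 1 = 1 := by
    rw [← homega χ₀ hover₀, hsynth, omega_synth]
    simp only [if_pos hχ₀mem]
  have hmem : ∀ φ : IrrCharacter G, classInner (fun n : N => (φ : G → ℂ) n) θ ≠ 0 → φ ∈ B₀ := by
    intro φ hφ
    have h1 := homega φ hφ
    rw [hCval, hsynth, omega_synth] at h1
    by_contra hcon
    simp only [if_neg hcon] at h1
    exact zero_ne_one h1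
  refine ⟨B₀, hB₀, fun χ => ⟨hBθ χ, hmem χ⟩, hsupp, ?_⟩
  have h1 := hval 1
  rw [hd, Complex.conj_natCast] at h1
  have h2 : (((1 : N) : G)) = 1 := rfl
  rw [h2] at h1
  rw [h1, hd]
  rw [hd] at hCval
  have : C = (d : ℂ) / (Nat.card N : ℂ) := by
    field_simp at hCval ⊢
    exact hCval
  rw [this]
  ring

end Cfsg.Agent.Helper18.FongBlock
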