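import Mathlib
import Cfsg.Prelude.Def_Local
import Cfsg.Prelude.Def_Solvable
import Cfsg.Agent.Lib.Helper7.PLocal2
import Cfsg.Agent.Lib.Helper10.Cores
import Cfsg.Agent.Lib.Helper22.PPrimeCore

/-!
# Centralizers of `p`-subgroups in `p`-constrained groups (helper18's library)

The Hall--Higman type condition needed for Fong's theorem, for the centralizer of a `p`-subgroup.
-/

set_option autoImplicit false
set_option linter.style.haveILetI false
set_option linter.unusedSectionVars false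

namespace Cfsg.Agent.Helper18.FongConstrained

open Cfsg

variable {G : Type*} [Group G]

/-- A `p`-group `R` acting trivially on the coset `l K` modulo the normal `p'`-subgroup `K`
centralizes an element of that coset. -/
theorem exists_mul_mem_centralizer [Finite G] {p : ℕ} [Fact p.Prime] (K : Subgroup G)
    [hKn : K.Normal] (hK : (Nat.card K).Coprime p) (R : Subgroup G) (hR : IsPGroup p R) (l : G)
    (hl : ∀ r ∈ R, l⁻¹ * r * l * r⁻¹ ∈ K) :
    ∃ k ∈ K, l * k ∈ Subgroup.centralizer (R : Set G) := by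
  classical
  have hmem : ∀ (r : R) (k : K), l⁻¹ * (r : G) * l * (k : G) * (r : G)⁻¹ ∈ K := by
    intro r k
    have h1 := hl r r.2
    have h2 := hKn.conj_mem k k.2 r
    have h3 := K.mul_mem h1 h2
    have e : l⁻¹ * (r : G) * l * (r : G)⁻¹ * ((r : G) * (k : G) * (r : G)⁻¹) =
        l⁻¹ * (r : G) * l * (k : G) * (r : G)⁻¹ := by group
    rwa [e] at h3
  letI act : MulAction R K :=
    { smul := fun r k => ⟨l⁻¹ * (r : G) * l * (k : G) * (r : G)⁻¹, hmem r k⟩
      one_smul := by
        intro k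
        apply Subtype.ext
        show l⁻¹ * ((1 : R) : G) * l * (k : G) * ((1 : R) : G)⁻¹ = k
        rw [Subgroup.coe_one]
        group
      mul_smul := by
        intro r s k
        apply Subtype.ext
        show l⁻¹ * ((r * s : R) : G) * l * (k : G) * ((r * s : R) : G)⁻¹ =
          l⁻¹ * (r : G) * l * (l⁻¹ * (s : G) * l * (k : G) * (s : G)⁻¹) * (r : G)⁻¹
        rw [Subgroup.coe_mul]
        group }
  have hnd : ¬ p ∣ Nat.card K := by
    have := Nat.Coprime.symm hK
    rwa [Nat.Prime.coprime_iff_not_dvd Fact.out] at this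
  obtain ⟨k, hk⟩ := hR.nonempty_fixed_point_of_prime_not_dvd_card K hnd
  refine ⟨k, k.2, ?_⟩
  rw [Subgroup.mem_centralizer_iff]
  intro r hr
  have h1 := hk ⟨r, hr⟩
  have h2 : l⁻¹ * r * l * (k : G) * r⁻¹ = k := congrArg Subtype.val h1
  calc r * (l * k) = l * (l⁻¹ * r * l * (k : G) * r⁻¹) * r := by group
    _ = l * k * r := by rw [h2]

/-- if `C_G(Q) ≤ L` for a `p`-subgroup `Q`, `K ≤ L` a normal `p'`-subgroup, then every element
centralizing `Q` modulo `K` lies in `L` -/
theorem mem_of_comm_mem [Finite G] {p : ℕ} [Fact p.Prime] (K L : Subgroup G)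
    [hKn : K.Normal] (hK : (Nat.card K).Coprime p) (hKL : K ≤ L) (Q : Subgroup G)
    (hQ : IsPGroup p Q) (hCQ : Subgroup.centralizer (Q : Set G) ≤ L) (g : G)
    (hg : ∀ q ∈ Q, q⁻¹ * g * q * g⁻¹ ∈ K) : g ∈ L := by
  have hl : ∀ r ∈ Q, g⁻¹ * r * g * r⁻¹ ∈ K := by
    intro r hr
    have h1 := hg r⁻¹ (Q.inv_mem hr)
    rw [inv_inv] at h1
    -- r g r⁻¹ g⁻¹ ∈ K, conjugate by g⁻¹ and invert
    have h2 := hKn.conj_mem _ h1 g⁻¹
    have e : g⁻¹ * (r * g * r⁻¹ * g⁻¹) * g⁻¹⁻¹ = g⁻¹ * r * g * r⁻¹ := by group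
    rwa [e] at h2
  obtain ⟨k, hk, hgk⟩ := exists_mul_mem_centralizer K hK Q hQ g hl
  have h1 := hCQ hgk
  have h2 := L.mul_mem h1 (L.inv_mem (hKL hk))
  rwa [mul_inv_cancel_right] at h2

/-- **Hall--Higman condition in centralizers**: let `K = O_{p'}(G)`, `L = O_{p',p}(G)` and
suppose `C_G(Q) ≤ L` for a `p`-subgroup `Q ≤ L`.  If `R` is a `p`-subgroup, then every
`p`-regular element of `C_G(R)` outside `K` acts nontrivially on `C_L(R)` modulo `K`. -/
theorem exists_comm_not_mem [Finite G] {p : ℕ} [Fact p.Prime] (Q : Subgroup G)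
    (hQL : Q ≤ pPrimePCore p G) (hQ : IsPGroup p Q)
    (hCQ : Subgroup.centralizer (Q : Set G) ≤ pPrimePCore p G)
    (R : Subgroup G) (hR : IsPGroup p R) (g : G) (hgR : g ∈ Subgroup.centralizer (R : Set G))
    (hg : ¬ p ∣ orderOf g) (hgK : g ∉ pPrimeCore p G) :
    ∃ k₀ ∈ pPrimePCore p G ⊓ Subgroup.centralizer (R : Set G),
      k₀⁻¹ * g * k₀ * g⁻¹ ∉ pPrimeCore p G := by
  haveI hKn := Helper22.pPrimeCore_normal (G := G) p
  have hK : (Nat.card (pPrimeCore p G)).Coprime p := Helper22.card_pPrimeCore_coprime p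
  have hKL : pPrimeCore p G ≤ pPrimePCore p G := by
    intro x hx
    change QuotientGroup.mk' (pPrimeCore p G) x ∈ pCore p (G ⧸ pPrimeCore p G)
    have : QuotientGroup.mk' (pPrimeCore p G) x = 1 := (QuotientGroup.eq_one_iff x).mpr hx
    rw [this]; exact one_mem _
  by_contra hcon
  push Not at hcon
  apply hgK
  set π := QuotientGroup.mk' (pPrimeCore p G) with hπ
  haveI hQn : (pCore p (G ⧸ pPrimeCore p G)).Normal := Helper10.pCore_normal p
  have hQp : IsPGroup p (pCore p (G ⧸ pPrimeCore p G)) := Helper10.pCore_isPGroup p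
  have hcomm_of : ∀ a b : G, a⁻¹ * b * a * b⁻¹ ∈ pPrimeCore p G → π a * π b = π b * π a := by
    intro a b hab
    have h3 : π (a⁻¹ * b * a * b⁻¹) = 1 := (QuotientGroup.eq_one_iff _).2 hab
    simp only [map_mul, map_inv] at h3
    have h4 := mul_inv_eq_one.1 h3
    calc π a * π b = π a * ((π a)⁻¹ * π b * π a) := by rw [h4]
      _ = π b * π a := by group
  have hmem_of : ∀ a b : G, π a * π b = π b * π a → a⁻¹ * b * a * b⁻¹ ∈ pPrimeCore p G := by
    intro a b hab
    rw [← QuotientGroup.eq_one_iff]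
    show π (a⁻¹ * b * a * b⁻¹) = 1
    simp only [map_mul, map_inv]
    rw [mul_assoc (π a)⁻¹, ← hab]
    group
  have hRp : IsPGroup p (R.map π) := hR.map π
  have hcop : (orderOf (π g)).Coprime p := by
    have hd : orderOf (π g) ∣ orderOf g := orderOf_map_dvd _ g
    have : (orderOf g).Coprime p :=
      ((Nat.Prime.coprime_iff_not_dvd Fact.out).2 hg).symm
    exact Nat.Coprime.coprime_dvd_left hd this
  have h1 : π g ∈ Subgroup.centralizer ((pCore p (G ⧸ pPrimeCore p G) : Subgroup _) : Set _) := by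
    apply Helper7.thompson_AxB_element p (pCore p (G ⧸ pPrimeCore p G)) (R.map π) hQp hRp
      (by rw [Subgroup.normalizer_eq_top]; exact le_top) (π g)
      (by rw [Subgroup.normalizer_eq_top]; exact Subgroup.mem_top _) hcop
    · rw [Subgroup.mem_centralizer_iff]
      rintro _ ⟨r, hr, rfl⟩
      rw [Subgroup.mem_centralizer_iff] at hgR
      rw [← map_mul, ← map_mul, hgR r hr]
    · rw [Subgroup.mem_centralizer_iff]
      intro x hx
      obtain ⟨l, rfl⟩ := QuotientGroup.mk'_surjective (pPrimeCore p G) x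
      have hx1 : π l ∈ pCore p (G ⧸ pPrimeCore p G) := hx.1
      have hx2 : π l ∈ Subgroup.centralizer ((R.map π : Subgroup _) : Set _) := hx.2
      have hlL : l ∈ pPrimePCore p G := hx1
      have hl : ∀ r ∈ R, l⁻¹ * r * l * r⁻¹ ∈ pPrimeCore p G := by
        intro r hr
        apply hmem_of
        rw [Subgroup.mem_centralizer_iff] at hx2
        exact (hx2 (π r) ⟨r, hr, rfl⟩).symm
      obtain ⟨k, hk, hlk⟩ := exists_mul_mem_centralizer (pPrimeCore p G) hK R hR l hl
      have h2 := hcon (l * k) ⟨(pPrimePCore p G).mul_mem hlL (hKL hk), hlk⟩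
      have h3 := hcomm_of _ _ h2
      have h4 : π (l * k) = π l := by
        rw [map_mul]
        have : π k = 1 := (QuotientGroup.eq_one_iff k).mpr hk
        rw [this, mul_one]
      rw [h4] at h3
      exact h3
  have h2 : ∀ q ∈ Q, q⁻¹ * g * q * g⁻¹ ∈ pPrimeCore p G := by
    intro q hq
    apply hmem_of
    rw [Subgroup.mem_centralizer_iff] at h1
    exact h1 (π q) (hQL hq)
  have h3 : g ∈ pPrimePCore p G :=
    mem_of_comm_mem (pPrimeCore p G) (pPrimePCore p G) hK hKL Q hQ hCQ g h2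
  have h4 : π g ∈ pCore p (G ⧸ pPrimeCore p G) := h3
  have h5 := Helper7.eq_one_of_isPGroup_of_coprime hQp h4 hcop
  exact (QuotientGroup.eq_one_iff g).1 h5

end Cfsg.Agent.Helper18.FongConstrained
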