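import Mathlib
import Cfsg.Prelude.Def_Blocks
import Cfsg.Prelude.Def_Local
import Cfsg.Agent.Lib.Helper18.FongBlock
import Cfsg.Agent.Lib.Helper23.PSolvable
import Cfsg.Agent.Lib.Helper23.BlockDefect
import Cfsg.Agent.Lib.Helper23.BlockDefectGroup

/-!
# Fong's theorem for `p`-solvable groups: the block over an invariant character of `O_{p'}(G)`
has the Sylow subgroups as defect groups (helper18's library)
-/

set_option autoImplicit false
set_option linter.style.haveILetI false
set_option linter.unusedSectionVars false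

namespace Cfsg.Agent.Helper18.FongBlock

open Cfsg Cfsg.Agent.Helper24 Cfsg.Agent.Helper23.Blk Cfsg.Agent.Helper18
open scoped ComplexConjugate

universe u

variable {G : Type u} [Group G] [Fintype G] {M : Ideal AlgInt} {p : ℕ}

/-- Hall--Higman: a `p`-regular element outside `O_{p'}(G)` of a `p`-solvable group acts
nontrivially on `O_{p',p}(G) / O_{p'}(G)`. -/
theorem exists_comm_not_mem [Fact p.Prime] (hsolv : IsPSolvable p G) (g : G)
    (hg : ¬ p ∣ orderOf g) (hgN : g ∉ pPrimeCore p G) :
    ∃ k₀ ∈ pPrimePCore p G, k₀⁻¹ * g * k₀ * g⁻¹ ∉ pPrimeCore p G := by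
  haveI hNn := Helper22.pPrimeCore_normal (G := G) p
  by_contra hcon
  push_neg at hcon
  apply hgN
  have hQsolv : IsPSolvable p (G ⧸ pPrimeCore p G) :=
    Helper23.PSolv.isPSolvable_quotient _ hsolv
  have hO := Helper23.PSolv.pPrimeCore_quotient_pPrimeCore (G := G) p
  have hcent := Helper23.PSolv.centralizer_pCore_le hQsolv hO
  have h1 : (QuotientGroup.mk' (pPrimeCore p G) g) ∈
      Subgroup.centralizer (pCore p (G ⧸ pPrimeCore p G) : Set (G ⧸ pPrimeCore p G)) := by
    rw [Subgroup.mem_centralizer_iff]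
    intro k hk
    obtain ⟨k₀, rfl⟩ := QuotientGroup.mk'_surjective _ k
    have hk₀ : k₀ ∈ pPrimePCore p G := hk
    have h2 := hcon k₀ hk₀
    have h3 : QuotientGroup.mk' (pPrimeCore p G) (k₀⁻¹ * g * k₀ * g⁻¹) = 1 :=
      (QuotientGroup.eq_one_iff _).2 h2
    simp only [map_mul, map_inv] at h3
    have h4 := mul_inv_eq_one.1 h3
    have h5 : (QuotientGroup.mk' (pPrimeCore p G)) k₀ *
        ((QuotientGroup.mk' (pPrimeCore p G)) k₀)⁻¹ * (QuotientGroup.mk' (pPrimeCore p G)) g *
        (QuotientGroup.mk' (pPrimeCore p G)) k₀ = (QuotientGroup.mk' (pPrimeCore p G)) k₀ *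
        (QuotientGroup.mk' (pPrimeCore p G)) g := by
      rw [mul_assoc, mul_assoc, ← mul_assoc _ ((QuotientGroup.mk' (pPrimeCore p G)) g), h4]
    rw [mul_inv_cancel, one_mul] at h5
    exact h5.symm
  have h2 := hcent h1
  have hpg : IsPGroup p (pCore p (G ⧸ pPrimeCore p G)) := Helper10.pCore_isPGroup p
  obtain ⟨k, hk⟩ := hpg ⟨_, h2⟩
  have hk' : (QuotientGroup.mk' (pPrimeCore p G) g) ^ p ^ k = 1 := by
    have := congrArg Subtype.val hk
    simpa using this
  have hd1 : orderOf (QuotientGroup.mk' (pPrimeCore p G) g) ∣ p ^ k := orderOf_dvd_of_pow_eq_one hk'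
  have hd2 : orderOf (QuotientGroup.mk' (pPrimeCore p G) g) ∣ orderOf g := orderOf_map_dvd _ g
  have hcop : Nat.Coprime (p ^ k) (orderOf g) :=
    Nat.Coprime.pow_left k ((Nat.Prime.coprime_iff_not_dvd Fact.out).2 hg)
  have h1' : orderOf (QuotientGroup.mk' (pPrimeCore p G) g) = 1 :=
    Nat.eq_one_of_dvd_coprimes hcop hd1 hd2
  rw [orderOf_eq_one_iff] at h1'
  exact (QuotientGroup.eq_one_iff g).1 h1'

/-- **Fong**: in a `p`-solvable group the characters over a `G`-invariant irreducible character
of `O_{p'}(G)` form one block, whose idempotent is supported on `O_{p'}(G)`. -/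
theorem exists_block_over_pPrimeCore (hM : IsPModular p M) [Fact p.Prime]
    (hsolv : IsPSolvable p G) [Fintype (pPrimeCore p G)]
    (θ : pPrimeCore p G → ℂ) (hθ : IsIrrCharacter (pPrimeCore p G) θ)
    (hθinv : haveI := Helper22.pPrimeCore_normal (G := G) p
      ∀ x : G, Cfsg.Agent.Helper5.conjFun (pPrimeCore p G) x θ = θ) :
    ∃ B : Set (IrrCharacter G), IsPBlock M B ∧
      (∀ χ : IrrCharacter G, χ ∈ B ↔
        classInner (fun n : pPrimeCore p G => (χ : G → ℂ) n) θ ≠ 0) ∧
      (∀ g : G, g ∉ pPrimeCore p G → blockCoeff B g = 0) ∧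
      blockCoeff B 1 = θ 1 ^ 2 / (Nat.card (pPrimeCore p G) : ℂ) := by
  haveI hNn := Helper22.pPrimeCore_normal (G := G) p
  haveI : (pCore p (G ⧸ pPrimeCore p G)).Normal := Helper10.pCore_normal p
  haveI hKn : (pPrimePCore p G).Normal := Subgroup.Normal.comap inferInstance _
  have hNK : pPrimeCore p G ≤ pPrimePCore p G := by
    intro x hx
    change QuotientGroup.mk' (pPrimeCore p G) x ∈ pCore p (G ⧸ pPrimeCore p G)
    have : QuotientGroup.mk' (pPrimeCore p G) x = 1 := (QuotientGroup.eq_one_iff x).mpr hx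
    rw [this]; exact one_mem _
  have hpg : IsPGroup p (pCore p (G ⧸ pPrimeCore p G)) := Helper10.pCore_isPGroup p
  obtain ⟨a, ha⟩ := IsPGroup.iff_card.1 hpg
  have hidx : (pPrimeCore p G).relIndex (pPrimePCore p G) = p ^ a := by
    have hmap : (pPrimePCore p G).map (QuotientGroup.mk' (pPrimeCore p G)) =
        pCore p (G ⧸ pPrimeCore p G) :=
      Subgroup.map_comap_eq_self_of_surjective (QuotientGroup.mk'_surjective _) _
    have := Subgroup.relIndex_ker (QuotientGroup.mk' (pPrimeCore p G)) (K := pPrimePCore p G)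
    rw [QuotientGroup.ker_mk', hmap] at this
    rw [this, ha]
  exact exists_block_over hM (pPrimeCore p G) (pPrimePCore p G) hNK
    (Helper22.card_pPrimeCore_coprime p) a hidx
    (fun g hg hgN => exists_comm_not_mem hsolv g hg hgN) θ hθ hθinv

/-- the defect groups of a block whose idempotent has a `p`-unit coefficient at `1` are the
Sylow subgroups -/
theorem isDefectClass_one (hM : IsPModular p M) [Fact p.Prime] {B : Set (IrrCharacter G)}
    (hB : IsPBlock M B) (h1 : ¬ MemLocalIdeal M (blockCoeff B 1)) : IsDefectClass M B 1 := by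
  haveI hMp : M.IsPrime := hM.2.1.isPrime
  refine ⟨memLocalRing_blockCoeff hMp hB 1, h1, ?_⟩
  intro χ _
  have hc : centralChar (χ : G → ℂ) 1 = 1 := by
    unfold centralChar
    have h2 : Subgroup.centralizer ({1} : Set G) = ⊤ := by
      rw [eq_top_iff]
      intro x _
      rw [Subgroup.mem_centralizer_iff]
      intro h hh
      rw [Set.mem_singleton_iff.1 hh]; simp
    rw [h2, Subgroup.index_top]
    have := irr_one_ne_zero χ.2
    field_simp
    simp
  rw [hc]
  exact not_memLocalIdeal_one

theorem isDefectGroup_sylow_of_isDefectClass_one (hM : IsPModular p M) [Fact p.Prime]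
    {B : Set (IrrCharacter G)} (h1 : IsDefectClass M B 1) (S : Sylow p G) :
    IsDefectGroup p M B (S : Subgroup G) := by
  refine ⟨1, h1, ?_⟩
  have hS : (S : Subgroup G) ≤ Subgroup.centralizer ({1} : Set G) := by
    intro x _
    rw [Subgroup.mem_centralizer_iff]
    intro h hh
    rw [Set.mem_singleton_iff.1 hh]; simp
  have hcard : Nat.card ((S : Subgroup G).subgroupOf
      (Subgroup.centralizer ({1} : Set G))) =
      p ^ (Nat.card (Subgroup.centralizer ({1} : Set G))).factorization p := by
    rw [Nat.card_congr (Subgroup.subgroupOfEquivOfLe hS).toEquiv, S.card_eq_multiplicity]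
    congr 1
    apply le_antisymm
    · have hdvd : p ^ (Nat.card G).factorization p ∣
          Nat.card (Subgroup.centralizer ({1} : Set G)) := by
        rw [← S.card_eq_multiplicity]
        exact Subgroup.card_dvd_of_le hS
      exact ((Fact.out : p.Prime).pow_dvd_iff_le_factorization Nat.card_pos.ne').1 hdvd
    · have hdvd : Nat.card (Subgroup.centralizer ({1} : Set G)) ∣ Nat.card G :=
        Subgroup.card_subgroup_dvd_card _
      exact (Nat.factorization_le_iff_dvd Nat.card_pos.ne' Nat.card_pos.ne').2 hdvd p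
  refine ⟨Sylow.ofCard _ hcard, ?_⟩
  rw [Sylow.coe_ofCard, Subgroup.map_subgroupOf_eq_of_le hS]

theorem exists_sylow_eq_of_isDefectClass_one (hM : IsPModular p M) [Fact p.Prime]
    {B : Set (IrrCharacter G)} (hB : IsPBlock M B) (h1 : IsDefectClass M B 1)
    {D : Subgroup G} (hD : IsDefectGroup p M B D) : ∃ S : Sylow p G, D = (S : Subgroup G) := by
  obtain ⟨S⟩ : Nonempty (Sylow p G) := inferInstance
  have hS := isDefectGroup_sylow_of_isDefectClass_one hM h1 S
  have c1 := card_defectGroup hM hB hS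
  have c2 := card_defectGroup hM hB hD
  have c3 : Nat.card D = p ^ (Nat.card G).factorization p := by
    rw [c2, ← c1]
    exact S.card_eq_multiplicity
  exact ⟨Sylow.ofCard D c3, (Sylow.coe_ofCard D c3).symm⟩

end Cfsg.Agent.Helper18.FongBlock
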