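import Mathlib
import Cfsg.Prelude.Def_Blocks
import Cfsg.Agent.S4444
import Cfsg.Agent.Lib.Helper23.BlockBrauer
import Cfsg.Agent.Lib.Helper23.BlockLocal
import Cfsg.Agent.Lib.Helper24.CharLinear
import Cfsg.Agent.Lib.Helper24.CharHom

/-!
# The Glauberman correspondent of a character modulo `p` (helper18's library)

For a `p`-group `R` acting on a normal `p'`-subgroup `K`, the restriction of an `R`-invariant
`θ ∈ Irr(K)` to `C_K(R)` is `± β` modulo `p`, and the central idempotents agree modulo `p`.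
-/

set_option autoImplicit false
set_option linter.style.haveILetI false
set_option linter.unusedSectionVars false

namespace Cfsg.Agent.Helper18.GlaubBlock

open Cfsg Cfsg.Agent.Helper24 Cfsg.Agent.Helper23.Blk
open scoped ComplexConjugate

universe u

variable {G : Type u} [Group G] [Fintype G] {M : Ideal AlgInt} {p : ℕ}

/-- the fixed points of a `p`-group `R` on a normal subgroup `K`: `|K| ≡ |C_K(R)|` mod `p` -/
theorem card_modEq [Fact p.Prime] (K R : Subgroup G) [hKn : K.Normal] (hR : IsPGroup p R) :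
    Nat.card K ≡ Nat.card (K ⊓ Subgroup.centralizer (R : Set G) : Subgroup G) [MOD p] := by
  classical
  letI act : MulAction R K :=
    { smul := fun r k => ⟨(r : G) * (k : G) * (r : G)⁻¹, hKn.conj_mem k k.2 r⟩
      one_smul := by
        intro k
        apply Subtype.ext
        show ((1 : R) : G) * (k : G) * ((1 : R) : G)⁻¹ = k
        rw [Subgroup.coe_one]
        group
      mul_smul := by
        intro r s k
        apply Subtype.ext
        show ((r * s : R) : G) * (k : G) * ((r * s : R) : G)⁻¹ =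
          (r : G) * ((s : G) * (k : G) * (s : G)⁻¹) * (r : G)⁻¹
        rw [Subgroup.coe_mul]
        group }
  have h1 := hR.card_modEq_card_fixedPoints K
  have h2 : Nat.card (MulAction.fixedPoints R K) =
      Nat.card (K ⊓ Subgroup.centralizer (R : Set G) : Subgroup G) := by
    apply Nat.card_congr
    refine ⟨fun x => ⟨((x : K) : G), (x : K).2, ?_⟩, fun c => ⟨⟨(c : G), c.2.1⟩, ?_⟩, ?_, ?_⟩
    · show ((x : K) : G) ∈ Subgroup.centralizer (R : Set G)
      rw [Subgroup.mem_centralizer_iff]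
      intro r hr
      have h3 := x.2 ⟨r, hr⟩
      have h4 : r * ((x : K) : G) * r⁻¹ = ((x : K) : G) := congrArg Subtype.val h3
      calc r * ((x : K) : G) = (r * ((x : K) : G) * r⁻¹) * r := by group
        _ = ((x : K) : G) * r := by rw [h4]
    · intro r
      apply Subtype.ext
      show (r : G) * (c : G) * (r : G)⁻¹ = (c : G)
      have h3 := (Subgroup.mem_centralizer_iff.1 c.2.2) (r : G) r.2
      rw [h3]
      group
    · intro x
      rfl
    · intro c
      rfl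
  rw [← h2]
  exact h1

section Glauberman

variable (K R C' : Subgroup G) [hKn : K.Normal] [Fintype K] [Fintype C']

/-- **The Glauberman correspondent** (from S4444): the unique irreducible constituent of the
restriction of `θ` to `C_K(R)` of multiplicity prime to `p`. -/
theorem exists_glauberman (hp : p.Prime) (hK : (Nat.card K).Coprime p) (hR : IsPGroup p R)
    (hC' : C' = K ⊓ Subgroup.centralizer (R : Set G)) (hCK : C' ≤ K) (θ : IrrCharacter K)
    (hθR : ∀ s ∈ R, ∀ g g' : K, (g' : G) = s * g * s⁻¹ → (θ : K → ℂ) g' = (θ : K → ℂ) g) :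
    ∃ (β : IrrCharacter C') (m : ℕ),
      classInner (fun c : C' => (θ : K → ℂ) ⟨c, hCK c.2⟩) (β : C' → ℂ) = (m : ℂ) ∧ ¬ p ∣ m ∧
      ((m : ℤ) ≡ 1 [ZMOD p] ∨ (m : ℤ) ≡ -1 [ZMOD p]) ∧
      ∀ (β' : IrrCharacter C') (m' : ℕ),
        classInner (fun c : C' => (θ : K → ℂ) ⟨c, hCK c.2⟩) (β' : C' → ℂ) = (m' : ℂ) →
          ¬ p ∣ m' → β' = β := by
  haveI : Fact p.Prime := ⟨hp⟩
  have hnorm : ∀ s ∈ R, ∀ g ∈ K, s * g * s⁻¹ ∈ K := fun s _ g hg => hKn.conj_mem g hg s
  have hcop : (Nat.card K).Coprime (Nat.card R) := by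
    obtain ⟨n, hn⟩ := IsPGroup.iff_card.mp hR
    rw [hn]
    exact Nat.Coprime.pow_right n hK
  obtain ⟨h1, h2, -, -⟩ := Cfsg.Agent.S4444.result K R hnorm hcop p hp hR C' hC' hCK
  obtain ⟨β, ⟨m, hm, hpm⟩, huniq⟩ := h1 θ hθR
  refine ⟨β, m, hm, hpm, h2 θ hθR β m hm hpm, ?_⟩
  intro β' m' hm' hpm'
  exact huniq β' ⟨m', hm', hpm'⟩

/-- `θ ≡ m β` on `C_K(R)` modulo the local ideal -/
theorem restrict_cong (hM : IsPModular p M) (hCK : C' ≤ K) (θ : IrrCharacter K)
    (β : IrrCharacter C') (m : ℕ)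
    (hm : classInner (fun c : C' => (θ : K → ℂ) ⟨c, hCK c.2⟩) (β : C' → ℂ) = (m : ℂ))
    (huniq : ∀ (β' : IrrCharacter C') (m' : ℕ),
        classInner (fun c : C' => (θ : K → ℂ) ⟨c, hCK c.2⟩) (β' : C' → ℂ) = (m' : ℂ) →
          ¬ p ∣ m' → β' = β) (c : C') :
    MemLocalIdeal M ((θ : K → ℂ) ⟨c, hCK c.2⟩ - (m : ℂ) * (β : C' → ℂ) c) := by
  classical
  haveI hMp : M.IsPrime := hM.2.1.isPrime
  letI : Fintype (IrrCharacter C') := irrFintype
  have hres : IsCharacter C' (fun c : C' => (θ : K → ℂ) ⟨c, hCK c.2⟩) :=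
    isCharacter_comp (Subgroup.inclusion hCK) (isCharacter_of_isIrrCharacter θ.2)
  obtain ⟨hnat, hdec⟩ := isCharacter_decomp hres
  have h1 : (θ : K → ℂ) ⟨c, hCK c.2⟩ = ∑ β' : IrrCharacter C',
      classInner (fun c : C' => (θ : K → ℂ) ⟨c, hCK c.2⟩) (β' : C' → ℂ) * (β' : C' → ℂ) c := by
    have := congrFun hdec c
    simpa using this
  rw [h1, ← Finset.add_sum_erase Finset.univ _ (Finset.mem_univ β), hm, add_sub_cancel_left]
  apply memLocalIdeal_sum
  intro β' hβ'
  have hne : β' ≠ β := (Finset.mem_erase.1 hβ').1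
  obtain ⟨m', hm'⟩ := hnat β'
  have hdvd : p ∣ m' := by
    by_contra hcon
    exact hne (huniq β' m' hm' hcon)
  rw [hm']
  apply memLocalIdeal_mul_right ((memLocalIdeal_natCast_iff hM m').2 hdvd)
  exact memLocalRing_of_isIntegral
    (isIntegral_of_isCharacter (isCharacter_of_isIrrCharacter β'.2) c) ne_top

/-- the central idempotents of `θ` and of its Glauberman correspondent agree on `C_K(R)` modulo
the local ideal -/
theorem idem_cong [Fact p.Prime] (hM : IsPModular p M) (hK : (Nat.card K).Coprime p)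
    (hR : IsPGroup p R)
    (hC' : C' = K ⊓ Subgroup.centralizer (R : Set G)) (hCK : C' ≤ K) (θ : IrrCharacter K)
    (β : IrrCharacter C') (m : ℕ)
    (hmod : (m : ℤ) ≡ 1 [ZMOD p] ∨ (m : ℤ) ≡ -1 [ZMOD p])
    (hcong : ∀ c : C',
      MemLocalIdeal M ((θ : K → ℂ) ⟨c, hCK c.2⟩ - (m : ℂ) * (β : C' → ℂ) c)) (c : C') :
    MemLocalIdeal M ((θ : K → ℂ) 1 * conj ((θ : K → ℂ) ⟨c, hCK c.2⟩) / (Nat.card K : ℂ) -
      (β : C' → ℂ) 1 * conj ((β : C' → ℂ) c) / (Nat.card C' : ℂ)) := by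
  classical
  haveI hMp : M.IsPrime := hM.2.1.isPrime
  have hp : p.Prime := Fact.out
  have hβR : ∀ c : C', MemLocalRing M ((β : C' → ℂ) c) := fun c =>
    memLocalRing_of_isIntegral
      (isIntegral_of_isCharacter (isCharacter_of_isIrrCharacter β.2) c) ne_top
  have hθc := isCharacter_of_isIrrCharacter θ.2
  have hβc := isCharacter_of_isIrrCharacter β.2
  -- the conjugate values
  have hconjθ : conj ((θ : K → ℂ) ⟨c, hCK c.2⟩) = (θ : K → ℂ) ⟨c⁻¹, hCK (c⁻¹).2⟩ := by
    rw [← irr_inv hθc]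
    rfl
  have hconjβ : conj ((β : C' → ℂ) c) = (β : C' → ℂ) c⁻¹ := (irr_inv hβc c).symm
  have h1 := hcong 1
  have h1' : ((θ : K → ℂ) ⟨((1 : C') : G), hCK (1 : C').2⟩) = (θ : K → ℂ) 1 := rfl
  rw [h1'] at h1
  have h2 := hcong c⁻¹
  -- the product
  have h3 : MemLocalIdeal M ((θ : K → ℂ) 1 * conj ((θ : K → ℂ) ⟨c, hCK c.2⟩) -
      ((m : ℂ) * (β : C' → ℂ) 1) * ((m : ℂ) * conj ((β : C' → ℂ) c))) := by
    rw [hconjθ, hconjβ]
    refine cong_mul h1 h2 (memLocalRing_mul (memLocalRing_natCast m) (hβR 1)) ?_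
    exact memLocalRing_of_isIntegral (isIntegral_of_isCharacter hθc _) ne_top
  -- `m ^ 2 ≡ 1`
  have hm2 : MemLocalIdeal M ((m : ℂ) * (m : ℂ) - 1) := by
    have hz : (p : ℤ) ∣ (m : ℤ) * (m : ℤ) - 1 := by
      rcases hmod with h | h
      · have := (h.mul h)
        simpa using (Int.modEq_iff_dvd.1 this.symm)
      · have := (h.mul h)
        simpa using (Int.modEq_iff_dvd.1 this.symm)
    obtain ⟨t, ht⟩ := hz
    have : (m : ℂ) * (m : ℂ) - 1 = (p : ℂ) * (t : ℂ) := by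
      have := congrArg (fun z : ℤ => (z : ℂ)) ht
      push_cast at this
      exact this
    rw [this]
    exact memLocalIdeal_mul_right (memLocalIdeal_prime hM) (memLocalRing_intCast t)
  set y : ℂ := (β : C' → ℂ) 1 * conj ((β : C' → ℂ) c) with hy
  have hyR : MemLocalRing M y := by
    rw [hy, hconjβ]
    exact memLocalRing_mul (hβR 1) (hβR _)
  have h4 : MemLocalIdeal M ((θ : K → ℂ) 1 * conj ((θ : K → ℂ) ⟨c, hCK c.2⟩) - y) := by
    have e : ((m : ℂ) * (β : C' → ℂ) 1) * ((m : ℂ) * conj ((β : C' → ℂ) c)) - y =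
        ((m : ℂ) * (m : ℂ) - 1) * y := by rw [hy]; ring
    have h5 : MemLocalIdeal M (((m : ℂ) * (β : C' → ℂ) 1) * ((m : ℂ) * conj ((β : C' → ℂ) c)) - y) := by
      rw [e]
      exact memLocalIdeal_mul_right hm2 hyR
    exact cong_trans h3 h5
  -- the cardinalities
  have hcard := card_modEq K R hR
  rw [← hC'] at hcard
  have hKnd : ¬ p ∣ Nat.card K := by
    have := Nat.Coprime.symm hK
    rwa [Nat.Prime.coprime_iff_not_dvd hp] at this
  have hCnd : ¬ p ∣ Nat.card C' := by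
    intro hd
    apply hKnd
    have := (Nat.modEq_zero_iff_dvd.2 hd)
    exact Nat.modEq_zero_iff_dvd.1 (hcard.trans this)
  have hKu : ¬ MemLocalIdeal M (Nat.card K : ℂ) := fun h =>
    hKnd ((memLocalIdeal_natCast_iff hM _).1 h)
  have hCu : ¬ MemLocalIdeal M (Nat.card C' : ℂ) := fun h =>
    hCnd ((memLocalIdeal_natCast_iff hM _).1 h)
  have hKi : MemLocalRing M ((Nat.card K : ℂ)⁻¹) := memLocalRing_inv (memLocalRing_natCast _) hKu
  have hCi : MemLocalRing M ((Nat.card C' : ℂ)⁻¹) := memLocalRing_inv (memLocalRing_natCast _) hCu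
  have hK0 : (Nat.card K : ℂ) ≠ 0 := by
    rw [Nat.cast_ne_zero]; exact Nat.card_pos.ne'
  have hC0 : (Nat.card C' : ℂ) ≠ 0 := by
    rw [Nat.cast_ne_zero]; exact Nat.card_pos.ne'
  have hdiff : MemLocalIdeal M ((Nat.card C' : ℂ) - (Nat.card K : ℂ)) := by
    have hz : (p : ℤ) ∣ (Nat.card C' : ℤ) - (Nat.card K : ℤ) :=
      (Int.modEq_iff_dvd.1 ((Int.natCast_modEq_iff.2 hcard)))
    obtain ⟨t, ht⟩ := hz
    have : (Nat.card C' : ℂ) - (Nat.card K : ℂ) = (p : ℂ) * (t : ℂ) := by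
      have := congrArg (fun z : ℤ => (z : ℂ)) ht
      push_cast at this
      exact this
    rw [this]
    exact memLocalIdeal_mul_right (memLocalIdeal_prime hM) (memLocalRing_intCast t)
  have hinv : MemLocalIdeal M ((Nat.card K : ℂ)⁻¹ - (Nat.card C' : ℂ)⁻¹) := by
    have e : (Nat.card K : ℂ)⁻¹ - (Nat.card C' : ℂ)⁻¹ =
        ((Nat.card C' : ℂ) - (Nat.card K : ℂ)) * ((Nat.card K : ℂ)⁻¹ * (Nat.card C' : ℂ)⁻¹) := by
      field_simp
    rw [e]
    exact memLocalIdeal_mul_right hdiff (memLocalRing_mul hKi hCi)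
  rw [div_eq_mul_inv, div_eq_mul_inv]
  exact cong_mul h4 hinv hyR hKi

end Glauberman

end Cfsg.Agent.Helper18.GlaubBlock
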