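import Mathlib
import Cfsg.Agent.Lib.Helper18.PairAct

/-!
# Induced blocks and stabilizers read inside `C_G(Q)` (helper18)
-/

set_option autoImplicit false
set_option linter.unusedSectionVars false

namespace Cfsg.Agent.Helper18.PairRel

open Cfsg Cfsg.Agent.Helper24 Cfsg.Agent.Helper23.Blk

universe u

section General

variable {G : Type u} [Group G] [Fintype G] {M : Ideal AlgInt} {p : ℕ}

/-- a block of `C_G(P)` inducing `B` gives a Brauer pair of `B` -/
theorem isBrauerPairOf_of_isInducedBlock (hM : IsPModular p M) {P : Subgroup G}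
    (hP : IsPGroup p P) {c : Set (IrrCharacter (Subgroup.centralizer (P : Set G)))}
    {B : Set (IrrCharacter G)}
    (hc : IsInducedBlock M (Subgroup.centralizer (P : Set G)) c B) :
    IsBrauerPairOf p M B P c := by
  classical
  haveI hMp : M.IsPrime := hM.2.1.isPrime
  haveI : Fintype (Subgroup.centralizer (P : Set G)) := Fintype.ofFinite _
  letI : Fintype (IrrCharacter G) := irrFintype
  letI : Fintype (IrrCharacter (Subgroup.centralizer (P : Set G))) := irrFintype
  have hB : IsPBlock M B := hc.2.1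
  refine ⟨⟨hP, hc.1⟩, hB, ?_⟩
  intro ξ hξ
  obtain ⟨χ, hχ⟩ := block_nonempty hM hB
  have h1 := IsInducedBlock.omega_cong _ hc hξ hχ (isClassFunction_blockCoeff B)
    (memLocalRing_blockCoeff hMp hB)
  rw [omega_blockCoeff, if_pos hχ] at h1
  rw [brauerOmega_eq_omega]
  have h2 : resC P (Subgroup.centralizer (P : Set G)) (blockCoeff B) =
      fun h : Subgroup.centralizer (P : Set G) => blockCoeff B (h : G) :=
    resC_self_eq _ _
  rw [h2]
  exact h1

/-- a pair `(P, c)` of `B` on a defect group, normally above `(Q, f)` with `P ≤ C_G(Q)`, is a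
maximal Brauer pair of the block `f` of the group `C_G(Q)` -/
theorem isMaximalBrauerPair_rel (hM : IsPModular p M) [Fact p.Prime] {B : Set (IrrCharacter G)}
    {P Q : Subgroup G}
    {c : Set (IrrCharacter (Subgroup.centralizer (P : Set G)))}
    {f : Set (IrrCharacter (Subgroup.centralizer (Q : Set G)))}
    (hBe : IsBrauerPairOf p M B P c) (hPD : IsDefectGroup p M B P)
    (hsub : IsNormalSubpair p M Q f P c) (hPH : P ≤ Subgroup.centralizer (Q : Set G)) :
    IsMaximalBrauerPair p M f (P.subgroupOf (Subgroup.centralizer (Q : Set G)))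
      (irrComp (relCentEquiv (Subgroup.centralizer (Q : Set G)) P hPH
        (Subgroup.centralizer_le hsub.2.2.1)) '' c) := by
  classical
  haveI : Fintype (Subgroup.centralizer (Q : Set G)) := Fintype.ofFinite _
  refine ⟨isBrauerPairOf_rel hsub hPH, ?_⟩
  intro R g hRg hle
  have hD := isDefectGroup_rel hM hBe hPD (Relation.ReflTransGen.single hsub) hPH
  have hcard := card_le_of_subConj (subConj_of_isBrauerPairOf hM hRg hD)
  exact (Subgroup.eq_of_le_of_card_ge (chain_le hle) hcard).symm

end General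

section Rel

variable {G : Type u} [Group G]

/-- the induced central character computed inside `H`, in the two formalisms -/
theorem inducedCentralChar_rel (H P : Subgroup G) (hPH : P ≤ H)
    (hCH : Subgroup.centralizer (P : Set G) ≤ H)
    (ξ : Subgroup.centralizer (P : Set G) → ℂ) (h : H) :
    inducedCentralChar (Subgroup.centralizer ((P.subgroupOf H : Subgroup H) : Set H))
      (fun c => ξ (relCentEquiv H P hPH hCH c)) h =
      inducedCentralCharIn H (Subgroup.centralizer (P : Set G)) ξ (h : G) := by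
  unfold inducedCentralChar inducedCentralCharIn
  rw [finsum_mem_def, finsum_mem_def, ← finsum_comp_equiv (relCentEquiv H P hPH hCH).toEquiv]
  apply finsum_congr
  intro k
  have hiff : k ∈ {k : Subgroup.centralizer ((P.subgroupOf H : Subgroup H) : Set H) |
      IsConj h (k : H)} ↔
      (relCentEquiv H P hPH hCH).toEquiv k ∈ {k : Subgroup.centralizer (P : Set G) |
        ∃ x : H, (x : G) * (k : G) * (x : G)⁻¹ = (h : G)} := by
    simp only [Set.mem_setOf_eq, MulEquiv.toEquiv_eq_coe, MulEquiv.coe_toEquiv, relCentEquiv_coe]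
    rw [isConj_iff]
    constructor
    · rintro ⟨c, hc⟩
      refine ⟨c⁻¹, ?_⟩
      rw [← hc]
      push_cast
      group
    · rintro ⟨x, hx⟩
      refine ⟨x⁻¹, ?_⟩
      apply Subtype.ext
      push_cast
      rw [← hx]
      group
  by_cases hk : k ∈ {k : Subgroup.centralizer ((P.subgroupOf H : Subgroup H) : Set H) |
      IsConj h (k : H)}
  · rw [Set.indicator_of_mem hk, Set.indicator_of_mem (hiff.1 hk)]
    simp only [MulEquiv.toEquiv_eq_coe, MulEquiv.coe_toEquiv, map_one]
  · rw [Set.indicator_of_notMem hk, Set.indicator_of_notMem (fun h' => hk (hiff.2 h'))]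

variable {M : Ideal AlgInt}

/-- induced blocks inside `H`: the two formalisms agree -/
theorem isInducedBlock_rel_iff (H P : Subgroup G) (hPH : P ≤ H)
    (hCH : Subgroup.centralizer (P : Set G) ≤ H)
    {c : Set (IrrCharacter (Subgroup.centralizer (P : Set G)))} (hc : IsPBlock M c)
    (f : Set (IrrCharacter H)) :
    IsInducedBlock M (Subgroup.centralizer ((P.subgroupOf H : Subgroup H) : Set H))
      (irrComp (relCentEquiv H P hPH hCH) '' c) f ↔
      IsInducedBlockIn M H (Subgroup.centralizer (P : Set G)) c f := by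
  constructor
  · rintro ⟨-, hf, h⟩
    refine ⟨hc, hf, ?_⟩
    intro ξ hξ χ hχ y
    have h1 := h _ ⟨ξ, hξ, rfl⟩ χ hχ y
    rw [← inducedCentralChar_rel H P hPH hCH]
    exact h1
  · rintro ⟨-, hf, h⟩
    refine ⟨isPBlock_image_irrComp _ hc, hf, ?_⟩
    rintro _ ⟨ξ, hξ, rfl⟩ χ hχ y
    have h1 := h ξ hξ χ hχ y
    rw [← inducedCentralChar_rel H P hPH hCH] at h1
    exact h1

theorem mem_normalizer_subgroupOf_iff (H P : Subgroup G) (hPH : P ≤ H) (x : H) :
    x ∈ Subgroup.normalizer ((P.subgroupOf H : Subgroup H) : Set H) ↔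
      (x : G) ∈ Subgroup.normalizer (P : Set G) := by
  rw [Subgroup.mem_normalizer_iff, Subgroup.mem_normalizer_iff]
  constructor
  · intro hn g
    constructor
    · intro hg
      have h1 := (hn ⟨g, hPH hg⟩).1 (by
        rw [Subgroup.mem_subgroupOf]
        exact hg)
      rw [Subgroup.mem_subgroupOf] at h1
      exact h1
    · intro hg
      have hgH : g ∈ H := by
        have h2 := hPH hg
        have h3 : g = (x : G)⁻¹ * ((x : G) * g * (x : G)⁻¹) * (x : G) := by group
        rw [h3]
        exact Subgroup.mul_mem _ (Subgroup.mul_mem _ (Subgroup.inv_mem _ x.2) h2) x.2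
      have h1 := (hn ⟨g, hgH⟩).2 (by
        rw [Subgroup.mem_subgroupOf]
        exact hg)
      rw [Subgroup.mem_subgroupOf] at h1
      exact h1
  · intro hn y
    rw [Subgroup.mem_subgroupOf, Subgroup.mem_subgroupOf]
    exact hn (y : G)

theorem mem_centralizer_subgroupOf_iff (H P : Subgroup G) (hPH : P ≤ H) (x : H) :
    x ∈ Subgroup.centralizer ((P.subgroupOf H : Subgroup H) : Set H) ↔
      (x : G) ∈ Subgroup.centralizer (P : Set G) := by
  rw [Subgroup.mem_centralizer_iff, Subgroup.mem_centralizer_iff]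
  constructor
  · intro hn g hg
    have h1 := hn ⟨g, hPH hg⟩ (by
      show (⟨g, hPH hg⟩ : H) ∈ P.subgroupOf H
      rw [Subgroup.mem_subgroupOf]
      exact hg)
    have h2 := congrArg Subtype.val h1
    push_cast at h2
    exact h2
  · intro hn y hy
    have hy' : (y : G) ∈ P := by
      have : y ∈ P.subgroupOf H := hy
      rwa [Subgroup.mem_subgroupOf] at this
    apply Subtype.ext
    push_cast
    exact hn (y : G) hy'

/-- stabilizers of blocks of `C_G(P)`, inside `H` and inside `G` -/
theorem isConjCharOf_rel_iff (H P : Subgroup G) (hPH : P ≤ H)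
    (hCH : Subgroup.centralizer (P : Set G) ≤ H) (x : H)
    (χ χ' : IrrCharacter (Subgroup.centralizer (P : Set G))) :
    IsConjCharOf (Subgroup.centralizer ((P.subgroupOf H : Subgroup H) : Set H)) x
      (irrComp (relCentEquiv H P hPH hCH) χ : _ → ℂ)
      (irrComp (relCentEquiv H P hPH hCH) χ' : _ → ℂ) ↔
    IsConjCharOf (Subgroup.centralizer (P : Set G)) (x : G)
      (χ : Subgroup.centralizer (P : Set G) → ℂ) (χ' : Subgroup.centralizer (P : Set G) → ℂ) := by
  constructor
  · intro h k k' hk
    have h1 := h ((relCentEquiv H P hPH hCH).symm k) ((relCentEquiv H P hPH hCH).symm k') (by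
      apply Subtype.ext
      push_cast
      rw [relCentEquiv_symm_coe, relCentEquiv_symm_coe]
      exact hk)
    rw [irrComp_apply, irrComp_apply, MulEquiv.apply_symm_apply, MulEquiv.apply_symm_apply] at h1
    exact h1
  · intro h k k' hk
    rw [irrComp_apply, irrComp_apply]
    apply h
    rw [relCentEquiv_coe, relCentEquiv_coe, hk]
    push_cast
    rfl

theorem stabilizesBlock_rel_iff (H P : Subgroup G) (hPH : P ≤ H)
    (hCH : Subgroup.centralizer (P : Set G) ≤ H) (x : H)
    (hxH : x ∈ Subgroup.normalizer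
      ((Subgroup.centralizer ((P.subgroupOf H : Subgroup H) : Set H) : Subgroup H) : Set H))
    (hxG : (x : G) ∈ Subgroup.normalizer
      ((Subgroup.centralizer (P : Set G) : Subgroup G) : Set G))
    (c : Set (IrrCharacter (Subgroup.centralizer (P : Set G)))) :
    StabilizesBlock (Subgroup.centralizer ((P.subgroupOf H : Subgroup H) : Set H))
      (irrComp (relCentEquiv H P hPH hCH) '' c) x ↔
    StabilizesBlock (Subgroup.centralizer (P : Set G)) c (x : G) := by
  constructor
  · rintro ⟨-, h⟩
    refine ⟨hxG, ?_⟩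
    intro χ hχ
    obtain ⟨_, ⟨χ', hχ', rfl⟩, hconj⟩ := h _ ⟨χ, hχ, rfl⟩
    exact ⟨χ', hχ', (isConjCharOf_rel_iff H P hPH hCH x χ χ').1 hconj⟩
  · rintro ⟨-, h⟩
    refine ⟨hxH, ?_⟩
    rintro _ ⟨χ, hχ, rfl⟩
    obtain ⟨χ', hχ', hconj⟩ := h χ hχ
    exact ⟨_, ⟨χ', hχ', rfl⟩, (isConjCharOf_rel_iff H P hPH hCH x χ χ').2 hconj⟩

end Rel

end Cfsg.Agent.Helper18.PairRel
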