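import Mathlib
import Cfsg.Prelude.Def_Blocks
import Cfsg.Prelude.Def_BrauerPairs
import Cfsg.Agent.Lib.Helper23.BlockBrauer3
import Cfsg.Agent.Lib.Helper23.BlockBrauer2
import Cfsg.Agent.Lib.Helper23.BlockPairs5
import Cfsg.Agent.Lib.Helper23.BlockFirstMain
import Cfsg.Agent.Lib.Helper23.BlockCount
import Cfsg.Agent.Lib.Helper23.BlockMinMax
import Cfsg.Agent.Lib.Helper18.PairRel2
import Cfsg.Agent.Lib.Helper18.PrincipalPairs

/-!
# Blocks of `C_G(R)` inducing a block whose idempotent truncates to a block idempotent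
(helper18's library)
-/

set_option autoImplicit false
set_option linter.style.haveILetI false
set_option linter.unusedSectionVars false

namespace Cfsg.Agent.Helper18.InducedCent

open Cfsg Cfsg.Agent.Helper24 Cfsg.Agent.Helper23.Blk Cfsg.Agent.Helper18
open scoped ComplexConjugate

universe u

variable {G : Type u} [Group G] [Fintype G] {M : Ideal AlgInt} {p : ℕ}

/-- If the idempotent of the block `B` of `G`, truncated to the centralizer of the `p`-subgroup
`R`, is congruent to the idempotent of a block `f₀` of `C_G(R)`, then `f₀` is the unique block of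
`C_G(R)` inducing `B`. -/
theorem existsUnique_isInducedBlock_of_cong (hM : IsPModular p M) (R : Subgroup G)
    (hR : IsPGroup p R) {B : Set (IrrCharacter G)} (hB : IsPBlock M B)
    {f₀ : Set (IrrCharacter (Subgroup.centralizer (R : Set G)))} (hf₀ : IsPBlock M f₀)
    (hU : ∀ c : Subgroup.centralizer (R : Set G),
      MemLocalIdeal M (blockCoeff B (c : G) - blockCoeff f₀ c)) :
    ∃! f : Set (IrrCharacter (Subgroup.centralizer (R : Set G))),
      IsInducedBlock M (Subgroup.centralizer (R : Set G)) f B := by
  classical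
  haveI hMp : M.IsPrime := hM.2.1.isPrime
  haveI : Fintype (Subgroup.centralizer (R : Set G)) := Fintype.ofFinite _
  letI : Fintype (IrrCharacter G) := irrFintype
  letI : Fintype (IrrCharacter (Subgroup.centralizer (R : Set G))) := irrFintype
  have hcfB : IsClassFunction (Subgroup.centralizer (R : Set G))
      (fun c : Subgroup.centralizer (R : Set G) => blockCoeff B (c : G)) :=
    isClassFunction_comp_subtype _ (isClassFunction_blockCoeff B)
  have key : ∀ ξ : IrrCharacter (Subgroup.centralizer (R : Set G)),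
      MemLocalIdeal M (omega (ξ : Subgroup.centralizer (R : Set G) → ℂ)
        (fun c : Subgroup.centralizer (R : Set G) => blockCoeff B (c : G)) -
          (if ξ ∈ f₀ then 1 else 0)) := by
    intro ξ
    rw [← omega_blockCoeff ξ f₀, ← omega_sub]
    apply memLocalIdeal_omega ξ
    · intro c x
      rw [Pi.sub_apply, Pi.sub_apply]
      have h1 := hcfB c x
      beta_reduce at h1
      rw [h1, isClassFunction_blockCoeff f₀ c x]
    · intro c
      exact hU c
  have h10 : ¬ MemLocalIdeal M ((1 : ℂ) - 0) := by
    rw [sub_zero]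
    exact not_memLocalIdeal_one
  have hex : IsInducedBlock M (Subgroup.centralizer (R : Set G)) f₀ B := by
    obtain ⟨ξ₀, hξ₀⟩ := block_nonempty hM hf₀
    obtain ⟨χ, hχ⟩ := (isCentralHom_brauer R (Subgroup.centralizer (R : Set G)) hM hR le_rfl
      (Subgroup.centralizer_le_normalizer (R : Set G)) ξ₀).exists_irr hM
    simp only [resC_self_eq] at hχ
    have hχB : χ ∈ B := by
      by_contra hcon
      have h1 := hχ _ (isClassFunction_blockCoeff B) (memLocalRing_blockCoeff hMp hB)
      rw [omega_blockCoeff, if_neg hcon] at h1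
      have h2 := key ξ₀
      rw [if_pos hξ₀] at h2
      exact h10 (cong_trans (cong_symm h2) h1)
    have h3 := isInducedBlock_of_forall (M := M) (H := Subgroup.centralizer (R : Set G))
      (ξ₀ := ξ₀) (χ₀ := χ)
      (fun g => hχ _ (isClassFunction_classInd g) (fun x => memLocalRing_classInd g x))
    obtain ⟨ζ, rfl⟩ := hf₀
    obtain ⟨ψ, rfl⟩ := hB
    rwa [blockOf_eq_of_mem hξ₀, blockOf_eq_of_mem hχB] at h3
  refine ⟨f₀, hex, ?_⟩
  intro f hf
  obtain ⟨ξ, hξ⟩ := block_nonempty hM hf.1
  have h1 := (PairRel.isBrauerPairOf_of_isInducedBlock hM hR hf).2.2 ξ hξ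
  rw [brauerOmega_eq_omega_restrict] at h1
  have hξ₀ : ξ ∈ f₀ := by
    by_contra hcon
    have h2 := key ξ
    rw [if_neg hcon] at h2
    exact h10 (cong_trans (cong_symm h1) h2)
  exact isPBlock_eq_of_mem hf.1 hf₀ hξ hξ₀

end Cfsg.Agent.Helper18.InducedCent
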