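import Mathlib
import Cfsg.Prelude.Def_Blocks
import Cfsg.Prelude.Def_BlockLocal
import Cfsg.Prelude.Def_Local
import Cfsg.Agent.Lib.Helper18.FongSylow
import Cfsg.Agent.Lib.Helper18.FongConstrained
import Cfsg.Agent.Lib.Helper18.GlaubBlock
import Cfsg.Agent.Lib.Helper18.InducedCent

/-!
# Fong's theorem in `p`-constrained groups: the block over an invariant character of `O_{p'}(G)`
is of principal type (helper18's library)
-/

set_option autoImplicit false
set_option linter.style.haveILetI false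
set_option linter.unusedSectionVars false

namespace Cfsg.Agent.Helper18.FongBlock

open Cfsg Cfsg.Agent.Helper24 Cfsg.Agent.Helper23.Blk Cfsg.Agent.Helper18
open scoped ComplexConjugate

universe u

variable {G : Type u} [Group G] [Fintype G] {M : Ideal AlgInt} {p : ℕ}

/-- the values on `N` of the idempotent of the set of characters over an invariant `θ` -/
theorem blockCoeff_eq_of_over (N : Subgroup G) [hN : N.Normal] [Fintype N] {θ : N → ℂ}
    (hθ : IsIrrCharacter N θ)
    (hθinv : ∀ x : G, Cfsg.Agent.Helper5.conjFun N x θ = θ) {B : Set (IrrCharacter G)}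
    (hmem : ∀ χ : IrrCharacter G, χ ∈ B → classInner (fun n : N => (χ : G → ℂ) n) θ ≠ 0)
    (h1 : blockCoeff B 1 = θ 1 ^ 2 / (Nat.card N : ℂ)) (n : N) :
    blockCoeff B (n : G) = θ 1 * conj (θ n) / (Nat.card N : ℂ) := by
  classical
  letI : Fintype (IrrCharacter G) := irrFintype
  set C : ℂ := (Nat.card G : ℂ)⁻¹ * ∑ χ : IrrCharacter G,
    (if χ ∈ B then (χ : G → ℂ) 1 * classInner (fun n : N => (χ : G → ℂ) n) θ else 0) with hC'
  have hres : ∀ χ : IrrCharacter G, classInner (fun n : N => (χ : G → ℂ) n) θ ≠ 0 →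
      ∃ e : ℕ, classInner (fun n : N => (χ : G → ℂ) n) θ = e ∧
        ∀ n : N, (χ : G → ℂ) n = (e : ℂ) * θ n := by
    intro χ hχ
    obtain ⟨e, -, hee, heq⟩ :=
      Cfsg.Agent.Helper5.restrict_eq_smul_of_invariant N χ.2 hθ hθinv hχ
    refine ⟨e, hee, ?_⟩
    intro n
    have := congrFun heq n
    simpa using this
  have hval : ∀ n : N, blockCoeff B (n : G) = C * conj (θ n) := by
    intro n
    unfold blockCoeff
    rw [finsum_mem_def, finsum_eq_sum_of_fintype, hC', mul_assoc, Finset.sum_mul]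
    congr 1
    apply Finset.sum_congr rfl
    intro χ _
    rw [Set.indicator_apply]
    by_cases hχ : χ ∈ B
    · rw [if_pos hχ, if_pos hχ]
      obtain ⟨e, hee, heq⟩ := hres χ (hmem χ hχ)
      rw [heq n, hee, map_mul, Complex.conj_natCast]
      ring
    · rw [if_neg hχ, if_neg hχ, zero_mul]
  obtain ⟨d, hdpos, hd⟩ := irr_one_eq hθ
  have hd0 : (d : ℂ) ≠ 0 := by exact_mod_cast hdpos.ne'
  have hN0 : (Nat.card N : ℂ) ≠ 0 := by
    rw [Nat.cast_ne_zero]; exact Nat.card_pos.ne'
  have h2 := hval 1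
  have h3 : (((1 : N) : G)) = 1 := rfl
  rw [h3, h1, hd, Complex.conj_natCast] at h2
  have hC : C = (d : ℂ) / (Nat.card N : ℂ) := by
    field_simp at h2 ⊢
    rw [h2]
  rw [hval n, hC, hd]
  ring

/-- the idempotent of the block over `θ` is not in the local ideal at `1` -/
theorem not_memLocalIdeal_blockCoeff_one (hM : IsPModular p M) [Fact p.Prime] (N : Subgroup G)
    [Fintype N] (hNp : ¬ p ∣ Nat.card N) {θ : N → ℂ} (hθ : IsIrrCharacter N θ)
    {B : Set (IrrCharacter G)} (hone : blockCoeff B 1 = θ 1 ^ 2 / (Nat.card N : ℂ)) :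
    ¬ MemLocalIdeal M (blockCoeff B 1) := by
  haveI hMp : M.IsPrime := hM.2.1.isPrime
  intro hcon
  obtain ⟨d, hd0, hd⟩ := irr_one_eq hθ
  have hdvd : d ∣ Nat.card N := by
    have := charDegree_dvd_card hθ
    rwa [charDegree_natCast d hd] at this
  have h2 : MemLocalIdeal M (blockCoeff B 1 * ((Nat.card N : ℕ) : ℂ)) :=
    memLocalIdeal_mul_right hcon (memLocalRing_natCast _)
  rw [hone, hd] at h2
  have h3 : ((d : ℂ)) ^ 2 / (Nat.card N : ℂ) * (Nat.card N : ℂ) = ((d ^ 2 : ℕ) : ℂ) := by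
    have hne : (Nat.card N : ℂ) ≠ 0 := by
      exact_mod_cast (Nat.card_pos (α := N)).ne'
    field_simp
    push_cast
    ring
  rw [h3] at h2
  have h4 := (memLocalIdeal_natCast_iff hM _).1 h2
  have h5 : p ∣ d := (Fact.out : p.Prime).dvd_of_dvd_pow h4
  exact hNp (h5.trans hdvd)

open Classical in
/-- **The Brauer map on the Fong block**: in a `p`-constrained group, with `θ` an invariant
irreducible character of `K = O_{p'}(G)`, the central idempotent of `θ` truncated to the
centralizer of a `p`-subgroup `R` is congruent to a block idempotent of `C_G(R)`. -/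
theorem exists_block_centralizer_cong (hM : IsPModular p M) [Fact p.Prime]
    [Fintype (pPrimeCore p G)]
    (Q : Subgroup G) (hQL : Q ≤ pPrimePCore p G) (hQ : IsPGroup p Q)
    (hCQ : Subgroup.centralizer (Q : Set G) ≤ pPrimePCore p G)
    (θ : IrrCharacter (pPrimeCore p G))
    (hθinv : haveI := Helper22.pPrimeCore_normal (G := G) p
      ∀ x : G, Cfsg.Agent.Helper5.conjFun (pPrimeCore p G) x (θ : pPrimeCore p G → ℂ) =
        (θ : pPrimeCore p G → ℂ))
    (R : Subgroup G) (hR : IsPGroup p R) :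
    ∃ f₀ : Set (IrrCharacter (Subgroup.centralizer (R : Set G))), IsPBlock M f₀ ∧
      ∀ c : Subgroup.centralizer (R : Set G),
        MemLocalIdeal M ((if h : (c : G) ∈ pPrimeCore p G then
          (θ : pPrimeCore p G → ℂ) 1 * conj ((θ : pPrimeCore p G → ℂ) ⟨c, h⟩) /
            (Nat.card (pPrimeCore p G) : ℂ) else 0) - blockCoeff f₀ c) := by
  classical
  have hp : p.Prime := Fact.out
  haveI hMp : M.IsPrime := hM.2.1.isPrime
  haveI hKn := Helper22.pPrimeCore_normal (G := G) p
  haveI : (pCore p (G ⧸ pPrimeCore p G)).Normal := Helper10.pCore_normal p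
  haveI hLn : (pPrimePCore p G).Normal := Subgroup.Normal.comap inferInstance _
  have hK : (Nat.card (pPrimeCore p G)).Coprime p := Helper22.card_pPrimeCore_coprime p
  have hKL : pPrimeCore p G ≤ pPrimePCore p G := by
    intro x hx
    change QuotientGroup.mk' (pPrimeCore p G) x ∈ pCore p (G ⧸ pPrimeCore p G)
    have : QuotientGroup.mk' (pPrimeCore p G) x = 1 := (QuotientGroup.eq_one_iff x).mpr hx
    rw [this]; exact one_mem _
  haveI : Fintype (Subgroup.centralizer (R : Set G)) := Fintype.ofFinite _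
  set C' : Subgroup G := pPrimeCore p G ⊓ Subgroup.centralizer (R : Set G) with hC'def
  haveI : Fintype C' := Fintype.ofFinite _
  have hCK : C' ≤ pPrimeCore p G := inf_le_left
  have hinvθ : ∀ (x : G) (k : pPrimeCore p G) (h : x * (k : G) * x⁻¹ ∈ pPrimeCore p G),
      (θ : pPrimeCore p G → ℂ) ⟨x * (k : G) * x⁻¹, h⟩ = (θ : pPrimeCore p G → ℂ) k := by
    intro x k h
    have := congrFun (hθinv x) k
    rw [Cfsg.Agent.Helper5.conjFun_apply] at this
    exact this
  have hθR : ∀ s ∈ R, ∀ g g' : pPrimeCore p G, (g' : G) = s * g * s⁻¹ →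
      (θ : pPrimeCore p G → ℂ) g' = (θ : pPrimeCore p G → ℂ) g := by
    intro s _ g g' hgg'
    have h1 : g' = ⟨s * (g : G) * s⁻¹, hgg' ▸ g'.2⟩ := Subtype.ext hgg'
    rw [h1]
    exact hinvθ s g _
  obtain ⟨β, m, hm, hpm, hmod, huniq⟩ :=
    GlaubBlock.exists_glauberman (pPrimeCore p G) R C' hp hK hR rfl hCK θ hθR
  have hcong := GlaubBlock.restrict_cong (pPrimeCore p G) C' hM hCK θ β m hm huniq
  have hidem := GlaubBlock.idem_cong (pPrimeCore p G) R C' hM hK hR rfl hCK θ β m hmod hcong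
  -- the subgroups of the centralizer
  set N' : Subgroup (Subgroup.centralizer (R : Set G)) :=
    (pPrimeCore p G).subgroupOf (Subgroup.centralizer (R : Set G)) with hN'def
  set K' : Subgroup (Subgroup.centralizer (R : Set G)) :=
    (pPrimePCore p G).subgroupOf (Subgroup.centralizer (R : Set G)) with hK'def
  haveI hN'n : N'.Normal := by rw [hN'def]; infer_instance
  haveI hK'n : K'.Normal := by rw [hK'def]; infer_instance
  haveI : Fintype N' := Fintype.ofFinite _
  have hN'K' : N' ≤ K' := by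
    intro x hx
    rw [hK'def, Subgroup.mem_subgroupOf]
    rw [hN'def, Subgroup.mem_subgroupOf] at hx
    exact hKL hx
  let e : N' ≃* C' :=
    { toFun := fun n => ⟨((n : Subgroup.centralizer (R : Set G)) : G),
        ⟨Subgroup.mem_subgroupOf.1 n.2, (n : Subgroup.centralizer (R : Set G)).2⟩⟩
      invFun := fun c => ⟨⟨(c : G), c.2.2⟩, Subgroup.mem_subgroupOf.2 c.2.1⟩
      left_inv := fun n => rfl
      right_inv := fun c => rfl
      map_mul' := fun a b => rfl }
  set β' : N' → ℂ := (β : C' → ℂ) ∘ e with hβ'def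
  have hβ' : IsIrrCharacter N' β' := Cfsg.Agent.Helper5.isIrrCharacter_comp_equiv e β.2
  -- invariance of the correspondent
  have hβinv : ∀ (x : G) (hx : x ∈ Subgroup.centralizer (R : Set G)) (c : C')
      (h : x * (c : G) * x⁻¹ ∈ C'),
      (β : C' → ℂ) ⟨x * (c : G) * x⁻¹, h⟩ = (β : C' → ℂ) c := by
    intro x hx c h
    have hconj : ∀ (y : G), y ∈ Subgroup.centralizer (R : Set G) → ∀ c : C',
        y * (c : G) * y⁻¹ ∈ C' := by
      intro y hy c
      exact ⟨hKn.conj_mem c c.2.1 y,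
        (Subgroup.centralizer (R : Set G)).mul_mem
          ((Subgroup.centralizer (R : Set G)).mul_mem hy c.2.2)
          ((Subgroup.centralizer (R : Set G)).inv_mem hy)⟩
    have hxi : x⁻¹ ∈ Subgroup.centralizer (R : Set G) :=
      (Subgroup.centralizer (R : Set G)).inv_mem hx
    let σ : C' ≃* C' :=
      { toFun := fun c => ⟨x * (c : G) * x⁻¹, hconj x hx c⟩
        invFun := fun c => ⟨x⁻¹ * (c : G) * x⁻¹⁻¹, hconj x⁻¹ hxi c⟩
        left_inv := fun c => by
          apply Subtype.ext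
          show x⁻¹ * (x * (c : G) * x⁻¹) * x⁻¹⁻¹ = c
          group
        right_inv := fun c => by
          apply Subtype.ext
          show x * (x⁻¹ * (c : G) * x⁻¹⁻¹) * x⁻¹ = c
          group
        map_mul' := fun a b => by
          apply Subtype.ext
          show x * ((a : G) * (b : G)) * x⁻¹ = (x * (a : G) * x⁻¹) * (x * (b : G) * x⁻¹)
          group }
    have hσirr : IsIrrCharacter C' ((β : C' → ℂ) ∘ σ) :=
      Cfsg.Agent.Helper5.isIrrCharacter_comp_equiv σ β.2
    have hθσ : (fun c : C' => (θ : pPrimeCore p G → ℂ) ⟨c, hCK c.2⟩) ∘ σ =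
        fun c : C' => (θ : pPrimeCore p G → ℂ) ⟨c, hCK c.2⟩ := by
      funext c
      exact hinvθ x ⟨c, hCK c.2⟩ _
    have hinner : classInner (fun c : C' => (θ : pPrimeCore p G → ℂ) ⟨c, hCK c.2⟩)
        ((β : C' → ℂ) ∘ σ) = (m : ℂ) := by
      rw [← hm, ← Cfsg.Agent.Helper5.classInner_comp_equiv σ
        (fun c : C' => (θ : pPrimeCore p G → ℂ) ⟨c, hCK c.2⟩) (β : C' → ℂ), hθσ]
    have h1 := huniq ⟨(β : C' → ℂ) ∘ σ, hσirr⟩ m hinner hpm
    have h2 := congrFun (congrArg Subtype.val h1) c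
    exact h2
  have hβ'inv : ∀ x : Subgroup.centralizer (R : Set G),
      Cfsg.Agent.Helper5.conjFun N' x β' = β' := by
    intro x
    funext n
    rw [Cfsg.Agent.Helper5.conjFun_apply]
    have hmemC' : (x : G) * ((e n : C') : G) * (x : G)⁻¹ ∈ C' :=
      ⟨hKn.conj_mem _ (e n).2.1 x,
        (Subgroup.centralizer (R : Set G)).mul_mem
          ((Subgroup.centralizer (R : Set G)).mul_mem x.2 (e n).2.2)
          ((Subgroup.centralizer (R : Set G)).inv_mem x.2)⟩
    have h1 := hβinv (x : G) x.2 (e n) hmemC'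
    exact h1
  -- the arithmetic hypotheses
  have hNp : (Nat.card N').Coprime p := by
    rw [Nat.card_congr e.toEquiv]
    exact Nat.Coprime.coprime_dvd_left (Subgroup.card_dvd_of_le hCK) hK
  have hpg : IsPGroup p (pCore p (G ⧸ pPrimeCore p G)) := Helper10.pCore_isPGroup p
  obtain ⟨a₀, ha₀⟩ := IsPGroup.iff_card.1 hpg
  have hidx₀ : (pPrimeCore p G).relIndex (pPrimePCore p G) = p ^ a₀ := by
    have hmap : (pPrimePCore p G).map (QuotientGroup.mk' (pPrimeCore p G)) =
        pCore p (G ⧸ pPrimeCore p G) :=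
      Subgroup.map_comap_eq_self_of_surjective (QuotientGroup.mk'_surjective _) _
    have := Subgroup.relIndex_ker (QuotientGroup.mk' (pPrimeCore p G)) (K := pPrimePCore p G)
    rw [QuotientGroup.ker_mk', hmap] at this
    rw [this, ha₀]
  obtain ⟨a, -, hidx⟩ := (Nat.dvd_prime_pow hp).1
    (hidx₀ ▸ Helper23.PSolv.relIndex_subgroupOf_dvd (pPrimeCore p G) (pPrimePCore p G)
      (Subgroup.centralizer (R : Set G)) hKL)
  have hC : ∀ g : Subgroup.centralizer (R : Set G), ¬ p ∣ orderOf g → g ∉ N' →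
      ∃ k₀ ∈ K', k₀⁻¹ * g * k₀ * g⁻¹ ∉ N' := by
    intro g hg hgN
    have hg' : ¬ p ∣ orderOf (g : G) := by rwa [Subgroup.orderOf_coe]
    obtain ⟨k₀, hk₀, hk₀g⟩ := FongConstrained.exists_comm_not_mem Q hQL hQ hCQ R hR (g : G) g.2
      hg' (fun h => hgN (Subgroup.mem_subgroupOf.2 h))
    refine ⟨⟨k₀, hk₀.2⟩, Subgroup.mem_subgroupOf.2 hk₀.1, ?_⟩
    intro hcon
    exact hk₀g (Subgroup.mem_subgroupOf.1 hcon)
  obtain ⟨f₀, hf₀, hf₀mem, hf₀supp, hf₀one⟩ :=
    exists_block_over hM N' K' hN'K' hNp a hidx hC β' hβ' hβ'inv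
  refine ⟨f₀, hf₀, ?_⟩
  intro c
  by_cases h : (c : G) ∈ pPrimeCore p G
  · rw [dif_pos h]
    have h1 := blockCoeff_eq_of_over N' hβ' hβ'inv (fun χ hχ => (hf₀mem χ).1 hχ) hf₀one
      ⟨c, Subgroup.mem_subgroupOf.2 h⟩
    have h2 : ((⟨c, Subgroup.mem_subgroupOf.2 h⟩ : N') : Subgroup.centralizer (R : Set G)) = c :=
      rfl
    rw [h2] at h1
    rw [h1, Nat.card_congr e.toEquiv]
    exact hidem ⟨(c : G), ⟨h, c.2⟩⟩
  · rw [dif_neg h, hf₀supp c (fun hc => h (Subgroup.mem_subgroupOf.1 hc)), sub_zero]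
    exact memLocalIdeal_zero ne_top

/-- **Fong's theorem for `p`-constrained groups**: if `C_G(Q) ≤ O_{p',p}(G)` for a `p`-subgroup
`Q ≤ O_{p',p}(G)` and `θ` is a `G`-invariant irreducible character of `O_{p'}(G)`, then the
characters over `θ` form a block with the Sylow subgroups as defect groups, of principal type:
for every `p`-subgroup `R` exactly one block of `C_G(R)` induces it. -/
theorem fong_constrained (hM : IsPModular p M) [Fact p.Prime]
    [Fintype (pPrimeCore p G)]
    (Q : Subgroup G) (hQL : Q ≤ pPrimePCore p G) (hQ : IsPGroup p Q)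
    (hCQ : Subgroup.centralizer (Q : Set G) ≤ pPrimePCore p G)
    (θ : IrrCharacter (pPrimeCore p G))
    (hθinv : haveI := Helper22.pPrimeCore_normal (G := G) p
      ∀ x : G, Cfsg.Agent.Helper5.conjFun (pPrimeCore p G) x (θ : pPrimeCore p G → ℂ) =
        (θ : pPrimeCore p G → ℂ))
    (B : Set (IrrCharacter G))
    (hBdef : ∀ χ : IrrCharacter G, χ ∈ B ↔
      classInner (fun k : pPrimeCore p G => (χ : G → ℂ) k) (θ : pPrimeCore p G → ℂ) ≠ 0) :
    IsPBlock M B ∧ (∀ S : Sylow p G, IsDefectGroup p M B (S : Subgroup G)) ∧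
      ∀ R : Subgroup G, IsPGroup p R →
        ∃! f : Set (IrrCharacter (Subgroup.centralizer (R : Set G))),
          IsInducedBlock M (Subgroup.centralizer (R : Set G)) f B := by
  classical
  have hp : p.Prime := Fact.out
  haveI hMp : M.IsPrime := hM.2.1.isPrime
  haveI hKn := Helper22.pPrimeCore_normal (G := G) p
  haveI : (pCore p (G ⧸ pPrimeCore p G)).Normal := Helper10.pCore_normal p
  haveI hLn : (pPrimePCore p G).Normal := Subgroup.Normal.comap inferInstance _
  have hK : (Nat.card (pPrimeCore p G)).Coprime p := Helper22.card_pPrimeCore_coprime p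
  have hKL : pPrimeCore p G ≤ pPrimePCore p G := by
    intro x hx
    change QuotientGroup.mk' (pPrimeCore p G) x ∈ pCore p (G ⧸ pPrimeCore p G)
    have : QuotientGroup.mk' (pPrimeCore p G) x = 1 := (QuotientGroup.eq_one_iff x).mpr hx
    rw [this]; exact one_mem _
  have hpg : IsPGroup p (pCore p (G ⧸ pPrimeCore p G)) := Helper10.pCore_isPGroup p
  obtain ⟨a, ha⟩ := IsPGroup.iff_card.1 hpg
  have hidx : (pPrimeCore p G).relIndex (pPrimePCore p G) = p ^ a := by
    have hmap : (pPrimePCore p G).map (QuotientGroup.mk' (pPrimeCore p G)) =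
        pCore p (G ⧸ pPrimeCore p G) :=
      Subgroup.map_comap_eq_self_of_surjective (QuotientGroup.mk'_surjective _) _
    have := Subgroup.relIndex_ker (QuotientGroup.mk' (pPrimeCore p G)) (K := pPrimePCore p G)
    rw [QuotientGroup.ker_mk', hmap] at this
    rw [this, ha]
  have hC : ∀ g : G, ¬ p ∣ orderOf g → g ∉ pPrimeCore p G →
      ∃ k₀ ∈ pPrimePCore p G, k₀⁻¹ * g * k₀ * g⁻¹ ∉ pPrimeCore p G := by
    intro g hg hgK
    have hgb : g ∈ Subgroup.centralizer (((⊥ : Subgroup G) : Subgroup G) : Set G) := by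
      rw [Subgroup.mem_centralizer_iff]
      intro h hh
      have : h = 1 := hh
      rw [this, one_mul, mul_one]
    obtain ⟨k₀, hk₀, h⟩ := FongConstrained.exists_comm_not_mem Q hQL hQ hCQ ⊥
      IsPGroup.of_bot g hgb hg hgK
    exact ⟨k₀, hk₀.1, h⟩
  obtain ⟨B₀, hB₀, hmem, hsupp, hone⟩ := exists_block_over hM (pPrimeCore p G)
    (pPrimePCore p G) hKL hK a hidx hC (θ : pPrimeCore p G → ℂ) θ.2 hθinv
  have hBB₀ : B = B₀ := Set.ext (fun χ => by rw [hBdef, hmem])
  rw [hBB₀]
  have hKnd : ¬ p ∣ Nat.card (pPrimeCore p G) := Helper22.not_dvd_card_pPrimeCore p hp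
  have hdc := isDefectClass_one hM hB₀
    (not_memLocalIdeal_blockCoeff_one hM (pPrimeCore p G) hKnd θ.2 hone)
  refine ⟨hB₀, fun S => isDefectGroup_sylow_of_isDefectClass_one hM hdc S, ?_⟩
  intro R hR
  obtain ⟨f₀, hf₀, hU⟩ := exists_block_centralizer_cong (M := M) hM Q hQL hQ hCQ θ hθinv R hR
  apply InducedCent.existsUnique_isInducedBlock_of_cong hM R hR hB₀ hf₀
  intro c
  have h1 := hU c
  by_cases h : (c : G) ∈ pPrimeCore p G
  · rw [dif_pos h] at h1
    have h2 := blockCoeff_eq_of_over (pPrimeCore p G) θ.2 hθinv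
      (fun χ hχ => (hmem χ).1 hχ) hone ⟨(c : G), h⟩
    rw [h2]
    exact h1
  · rw [dif_neg h] at h1
    rw [hsupp _ h]
    exact h1

end Cfsg.Agent.Helper18.FongBlock
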