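import Mathlib

/-!
# Four-subgroups of groups with a cyclic subgroup of index two (helper18's library)

In a group with a cyclic subgroup `C` of index two such that an element of `C` commuting with an
element outside `C` has square one, every subgroup of order four and exponent two is its own
centralizer.  This applies to dihedral and quasi-dihedral groups.
-/

set_option autoImplicit false

namespace Cfsg.Agent.Helper18

theorem four_group_self_centralizing {S : Type*} [Group S] [Finite S] (C : Subgroup S)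
    [hCcyc : IsCyclic C] (hidx : C.index = 2)
    (hcent : ∀ v : S, v ∉ C → ∀ c ∈ C, c * v = v * c → c * c = 1) (V : Subgroup S)
    (hV4 : Nat.card V = 4) (hV2 : ∀ v ∈ V, v * v = 1) :
    Subgroup.centralizer (V : Set S) = V := by
  classical
  haveI : Fintype C := Fintype.ofFinite C
  haveI hCn : C.Normal := Subgroup.normal_of_index_eq_two hidx
  -- elements of `C` of square one
  have hC2 : Nat.card {c : C // c * c = 1} ≤ 2 := by
    have h1 := IsCyclic.card_pow_eq_one_le (α := C) (n := 2) (by norm_num)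
    have h2 : Nat.card {c : C // c * c = 1} =
        (Finset.univ.filter (fun a : C => a ^ 2 = 1)).card := by
      rw [Nat.card_eq_fintype_card, Fintype.card_subtype]
      congr 1
      ext a
      simp [pow_two]
    rw [h2]
    exact h1
  -- `V` is abelian
  have hVinv : ∀ v ∈ V, v⁻¹ = v := by
    intro v hv
    exact inv_eq_of_mul_eq_one_left (hV2 v hv)
  have hVcomm : ∀ a ∈ V, ∀ b ∈ V, a * b = b * a := by
    intro a ha b hb
    have h1 := hVinv (a * b) (V.mul_mem ha hb)
    rw [mul_inv_rev, hVinv a ha, hVinv b hb] at h1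
    exact h1.symm
  -- `V` is not contained in `C`
  have hVC : ∃ v ∈ V, v ∉ C := by
    by_contra hcon
    push Not at hcon
    have hinj : Function.Injective (fun v : V => (⟨⟨v, hcon v v.2⟩, by
        apply Subtype.ext
        exact hV2 v v.2⟩ : {c : C // c * c = 1})) := by
      intro a b hab
      apply Subtype.ext
      have := congrArg (fun x : {c : C // c * c = 1} => ((x : C) : S)) hab
      exact this
    have := Nat.card_le_card_of_injective _ hinj
    omega
  obtain ⟨v, hvV, hvC⟩ := hVC
  -- the centralizer of `v`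
  obtain ⟨H, hH⟩ : ∃ H : Subgroup S, H = Subgroup.centralizer ({v} : Set S) := ⟨_, rfl⟩
  have hHmem : ∀ x, x ∈ H ↔ v * x = x * v := by
    intro x
    rw [hH, Subgroup.mem_centralizer_iff]
    simp
  have hHC : Nat.card (C ⊓ H : Subgroup S) ≤ 2 := by
    have hinj : Function.Injective (fun x : (C ⊓ H : Subgroup S) =>
        (⟨⟨x, x.2.1⟩, by
          apply Subtype.ext
          exact hcent v hvC x x.2.1 ((hHmem x).mp x.2.2).symm⟩ : {c : C // c * c = 1})) := by
      intro a b hab
      apply Subtype.ext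
      have := congrArg (fun x : {c : C // c * c = 1} => ((x : C) : S)) hab
      exact this
    exact le_trans (Nat.card_le_card_of_injective _ hinj) hC2
  have hHcard : Nat.card H ≤ 4 := by
    have h1 := Subgroup.card_mul_index (C.subgroupOf H)
    have h2 : (C.subgroupOf H).index ∣ 2 := by
      have := Subgroup.relIndex_dvd_index_of_normal C H
      rwa [hidx] at this
    have h3 : Nat.card (C.subgroupOf H) = Nat.card (C ⊓ H : Subgroup S) := by
      rw [← Subgroup.inf_subgroupOf_right]
      exact Nat.card_congr (Subgroup.subgroupOfEquivOfLe inf_le_right).toEquiv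
    have h4 : (C.subgroupOf H).index ≤ 2 := Nat.le_of_dvd (by norm_num) h2
    rw [h3] at h1
    calc Nat.card H = Nat.card (C ⊓ H : Subgroup S) * (C.subgroupOf H).index := h1.symm
      _ ≤ 2 * 2 := Nat.mul_le_mul hHC h4
  have hVH : V ≤ H := by
    intro w hw
    rw [hHmem]
    exact hVcomm v hvV w hw
  have hVeq : V = H := Subgroup.eq_of_le_of_card_ge hVH (by rw [hV4]; exact hHcard)
  apply le_antisymm
  · intro x hx
    rw [hVeq, hHmem]
    rw [Subgroup.mem_centralizer_iff] at hx
    exact hx v hvV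
  · intro x hx
    rw [Subgroup.mem_centralizer_iff]
    intro w hw
    exact hVcomm w hw x hx

end Cfsg.Agent.Helper18

namespace Cfsg.Agent.Helper18

/-- The structure used by `four_group_self_centralizing`: a cyclic subgroup of index two such that
an element of it commuting with an element outside has square one. -/
def HasCyclicIndexTwo (S : Type*) [Group S] : Prop :=
  ∃ C : Subgroup S, IsCyclic C ∧ C.index = 2 ∧
    ∀ v : S, v ∉ C → ∀ c ∈ C, c * v = v * c → c * c = 1

theorem HasCyclicIndexTwo.self_centralizing {S : Type*} [Group S] [Finite S]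
    (h : HasCyclicIndexTwo S) (V : Subgroup S) (hV4 : Nat.card V = 4)
    (hV2 : ∀ v ∈ V, v * v = 1) : Subgroup.centralizer (V : Set S) = V := by
  obtain ⟨C, hC, hidx, hcent⟩ := h
  exact four_group_self_centralizing C hidx hcent V hV4 hV2

theorem HasCyclicIndexTwo.of_mulEquiv {S S' : Type*} [Group S] [Group S'] (e : S ≃* S')
    (h : HasCyclicIndexTwo S') : HasCyclicIndexTwo S := by
  obtain ⟨C', hC', hidx, hcent⟩ := h
  refine ⟨C'.comap e.toMonoidHom, ?_, ?_, ?_⟩
  · let f : (C'.comap e.toMonoidHom) →* C' :=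
      { toFun := fun x => ⟨e x, x.2⟩
        map_one' := by
          apply Subtype.ext
          simp
        map_mul' := by
          intro a b
          apply Subtype.ext
          show e ((a * b : (C'.comap e.toMonoidHom)) : S) = e (a : S) * e (b : S)
          rw [Subgroup.coe_mul, map_mul] }
    apply isCyclic_of_injective f
    intro a b hab
    apply Subtype.ext
    apply e.injective
    exact congrArg Subtype.val hab
  · rw [Subgroup.index_comap_of_surjective _ e.surjective, hidx]
  · intro v hv c hc hcv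
    have h1 : e c * e c = 1 := by
      apply hcent (e v) hv (e c) hc
      rw [← map_mul, ← map_mul, hcv]
    apply e.injective
    rw [map_mul, h1, map_one]

theorem hasCyclicIndexTwo_dihedral (m : ℕ) (hm : 2 ≤ m) :
    HasCyclicIndexTwo (DihedralGroup m) := by
  haveI : NeZero m := ⟨by omega⟩
  have hmem : ∀ x : DihedralGroup m,
      x ∈ Subgroup.zpowers (DihedralGroup.r (1 : ZMod m)) ↔ ∃ i : ZMod m, x = DihedralGroup.r i := by
    intro x
    constructor
    · intro hx
      obtain ⟨k, rfl⟩ := Subgroup.mem_zpowers_iff.mp hx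
      obtain ⟨j, hj⟩ : ∃ j : ℕ, (DihedralGroup.r (1 : ZMod m)) ^ k = (DihedralGroup.r 1) ^ j := by
        have ho : (orderOf (DihedralGroup.r (1 : ZMod m)) : ℤ) ≠ 0 := by
          rw [DihedralGroup.orderOf_r_one]
          exact_mod_cast (NeZero.ne m)
        refine ⟨(k % (orderOf (DihedralGroup.r (1 : ZMod m)) : ℤ)).toNat, ?_⟩
        rw [← zpow_natCast, Int.toNat_of_nonneg (Int.emod_nonneg _ ho), zpow_mod_orderOf]
      rw [hj, DihedralGroup.r_one_pow]
      exact ⟨_, rfl⟩
    · rintro ⟨i, rfl⟩
      have : DihedralGroup.r i = (DihedralGroup.r (1 : ZMod m)) ^ (i.val) := by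
        rw [DihedralGroup.r_one_pow, ZMod.natCast_zmod_val]
      rw [this]
      exact Subgroup.pow_mem _ (Subgroup.mem_zpowers _) _
  refine ⟨Subgroup.zpowers (DihedralGroup.r (1 : ZMod m)), inferInstance, ?_, ?_⟩
  · have h1 := Subgroup.card_mul_index (Subgroup.zpowers (DihedralGroup.r (1 : ZMod m)))
    rw [Nat.card_zpowers, DihedralGroup.orderOf_r_one, DihedralGroup.nat_card] at h1
    have hm0 : 0 < m := by omega
    have : m * (Subgroup.zpowers (DihedralGroup.r (1 : ZMod m))).index = m * 2 := by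
      rw [h1]
      ring
    exact Nat.eq_of_mul_eq_mul_left hm0 this
  · intro v hv c hc hcv
    obtain ⟨k, rfl⟩ := (hmem c).mp hc
    cases v with
    | r j => exact absurd ((hmem _).mpr ⟨j, rfl⟩) hv
    | sr a =>
      rw [DihedralGroup.r_mul_sr, DihedralGroup.sr_mul_r] at hcv
      have h1 : a - k = a + k := by
        injection hcv
      have h2 : k + k = 0 := by
        have : a + (k + k) = a + 0 := by
          rw [add_zero]
          calc a + (k + k) = (a + k) + k := by ring
            _ = (a - k) + k := by rw [h1]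
            _ = a := by ring
        exact add_left_cancel this
      rw [DihedralGroup.r_mul_r, h2]
      rfl

theorem hasCyclicIndexTwo_quasiDihedral {S : Type*} [Group S] [Finite S] (n : ℕ) (hn : 3 ≤ n)
    (hcard : Nat.card S = 2 ^ (n + 1)) (x y : S) (hx : orderOf x = 2 ^ n) (hy : orderOf y = 2)
    (hxy : y * x * y⁻¹ = x ^ (2 ^ (n - 1) - 1)) : HasCyclicIndexTwo S := by
  obtain ⟨k, rfl⟩ : ∃ k, n = k + 3 := ⟨n - 3, by omega⟩
  have he : 2 ^ (k + 3 - 1) - 1 = 2 * (2 ^ (k + 1) - 1) + 1 := by
    have h1 : k + 3 - 1 = (k + 1) + 1 := by omega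
    rw [h1, pow_succ]
    have : 1 ≤ 2 ^ (k + 1) := Nat.one_le_two_pow
    omega
  have hidx : (Subgroup.zpowers x).index = 2 := by
    have h1 := Subgroup.card_mul_index (Subgroup.zpowers x)
    rw [Nat.card_zpowers, hx, hcard, pow_succ] at h1
    exact Nat.eq_of_mul_eq_mul_left (by positivity) h1
  -- an element of `⟨x⟩` commuting with `y` has square one
  have hkey : ∀ c ∈ Subgroup.zpowers x, y * c * y⁻¹ = c → c * c = 1 := by
    intro c hc hyc
    obtain ⟨j, rfl⟩ := Subgroup.mem_zpowers_iff.mp hc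
    have h1 : y * x ^ j * y⁻¹ = (x ^ j) ^ (2 ^ (k + 3 - 1) - 1) := by
      rw [← conj_zpow, hxy, ← zpow_natCast, ← zpow_natCast, ← zpow_mul, ← zpow_mul, mul_comm]
    rw [hyc, he, pow_succ] at h1
    have h2 : (x ^ j) ^ (2 * (2 ^ (k + 1) - 1)) = 1 := mul_eq_right.mp h1.symm
    have h3 : (x ^ j) ^ (2 ^ (k + 3)) = 1 := by
      rw [← zpow_natCast, ← zpow_mul, mul_comm, zpow_mul, zpow_natCast, ← hx, pow_orderOf_eq_one,
        one_zpow]
    have hd1 : orderOf (x ^ j) ∣ 2 * (2 ^ (k + 1) - 1) := orderOf_dvd_of_pow_eq_one h2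
    have hd2 : orderOf (x ^ j) ∣ 2 ^ (k + 3) := orderOf_dvd_of_pow_eq_one h3
    obtain ⟨i, -, hi⟩ := (Nat.dvd_prime_pow Nat.prime_two).mp hd2
    have hi1 : i ≤ 1 := by
      by_contra hlt
      push Not at hlt
      have h4 : 4 ∣ orderOf (x ^ j) := by
        rw [hi]
        exact (pow_dvd_pow 2 hlt : 2 ^ 2 ∣ 2 ^ i)
      have h5 : 4 ∣ 2 * (2 ^ (k + 1) - 1) := dvd_trans h4 hd1
      have h6 : 2 ^ (k + 1) = 2 * 2 ^ k := by ring
      have h7 : 1 ≤ 2 ^ k := Nat.one_le_two_pow
      omega
    have h6 : orderOf (x ^ j) ∣ 2 := by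
      rw [hi]
      exact (pow_dvd_pow 2 hi1 : 2 ^ i ∣ 2 ^ 1)
    have h7 := orderOf_dvd_iff_pow_eq_one.mp h6
    rwa [pow_two] at h7
  have hyC : y ∉ Subgroup.zpowers x := by
    intro hy'
    obtain ⟨j, hj⟩ := Subgroup.mem_zpowers_iff.mp hy'
    have hcomm : y * x * y⁻¹ = x := by
      rw [← hj]
      have : x ^ j * x = x * x ^ j := by
        rw [← zpow_add_one, ← zpow_one_add, add_comm]
      rw [this, mul_assoc, mul_inv_cancel, mul_one]
    have h1 := hkey x (Subgroup.mem_zpowers x) hcomm
    have h2 : orderOf x ∣ 2 := orderOf_dvd_of_pow_eq_one (by rwa [pow_two])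
    rw [hx] at h2
    have h3 := Nat.le_of_dvd (by norm_num) h2
    have h4 : 2 ^ (k + 3) = 2 ^ k * 8 := by ring
    have h5 : 1 ≤ 2 ^ k := Nat.one_le_two_pow
    omega
  refine ⟨Subgroup.zpowers x, inferInstance, hidx, ?_⟩
  intro v hv c hc hcv
  have hyinv : y⁻¹ ∉ Subgroup.zpowers x := fun h => hyC (by simpa using Subgroup.inv_mem _ h)
  have hc₀ : v * y⁻¹ ∈ Subgroup.zpowers x :=
    (Subgroup.mul_mem_iff_of_index_two hidx).mpr (iff_of_false hv hyinv)
  have hcomm : c * (v * y⁻¹) = (v * y⁻¹) * c := by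
    obtain ⟨a, rfl⟩ := Subgroup.mem_zpowers_iff.mp hc
    obtain ⟨b, hb⟩ := Subgroup.mem_zpowers_iff.mp hc₀
    rw [← hb, ← zpow_add, ← zpow_add, add_comm]
  apply hkey c hc
  have h1 : c * v * y⁻¹ = v * y⁻¹ * c := by
    rw [mul_assoc]
    exact hcomm
  rw [hcv] at h1
  -- `v * c * y⁻¹ = v * y⁻¹ * c`
  have h2 : c * y⁻¹ = y⁻¹ * c := by
    have := h1
    rw [mul_assoc, mul_assoc] at this
    exact mul_left_cancel this
  calc y * c * y⁻¹ = y * (c * y⁻¹) := by rw [mul_assoc]
    _ = y * (y⁻¹ * c) := by rw [h2]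
    _ = c := by rw [← mul_assoc, mul_inv_cancel, one_mul]

end Cfsg.Agent.Helper18
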