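import Mathlib
import Cfsg.Agent.Lib.Helper8.GRDefs

/-!
# S3085 piece GR-ALPHA (helper18): the product of three commuting lifted transvections.
Self-contained: `alpha_rhosq`, `alpha_rhocomm` re-prove what is needed of RHOSQ / RHOCOMM.
-/

set_option autoImplicit false
set_option linter.unusedVariables false

namespace Cfsg.Agent.Helper8.GR

open Cfsg.Agent.Helper8.XS

/-- `tw v e` is `1` or `v`. -/
theorem alpha_tw_cases {Q : Type*} [Group Q] (v e : Q) : tw v e = 1 ∨ tw v e = v := by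
  by_cases h : e * v = v * e
  · exact Or.inl (tw_comm h)
  · exact Or.inr (tw_anti h)

/-- multiplying by something commuting with `v` does not change the twist -/
theorem alpha_tw_mul {Q : Type*} [Group Q] (v e t : Q) (ht : t * v = v * t) :
    tw v (e * t) = tw v e := by
  by_cases h : e * v = v * e
  · have h' : (e * t) * v = v * (e * t) := by
      calc (e * t) * v = e * (t * v) := by group
        _ = e * (v * t) := by rw [ht]
        _ = (e * v) * t := by group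
        _ = (v * e) * t := by rw [h]
        _ = v * (e * t) := by group
    rw [tw_comm h, tw_comm h']
  · have h' : (e * t) * v ≠ v * (e * t) := by
      intro h2
      apply h
      calc e * v = e * (v * t) * t⁻¹ := by group
        _ = e * (t * v) * t⁻¹ := by rw [ht]
        _ = ((e * t) * v) * t⁻¹ := by group
        _ = (v * (e * t)) * t⁻¹ := by rw [h2]
        _ = v * e := by group
    rw [tw_anti h, tw_anti h']

/-- the twist by `v` of a twist by `w` commutes with everything `w` commutes with -/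
theorem alpha_tw_comm_of_comm {Q : Type*} [Group Q] (v w e : Q) (hvw : v * w = w * v) :
    tw v e * w = w * tw v e := by
  rcases alpha_tw_cases v e with h | h
  · rw [h, one_mul, mul_one]
  · rw [h, hvw]

/-- lifted transvections of commuting elements commute (no hypothesis on squares needed) -/
theorem alpha_rhocomm {Q : Type*} [Group Q] (w w' : Q) (hc : w * w' = w' * w)
    (ρ ρ' : MulAut Q) (hρ : IsRho w ρ) (hρ' : IsRho w' ρ') : ρ * ρ' = ρ' * ρ := by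
  ext x
  rw [MulAut.mul_apply, MulAut.mul_apply, hρ' x, hρ (x * tw w' x), hρ x, hρ' (x * tw w x)]
  rw [alpha_tw_mul w x (tw w' x) (alpha_tw_comm_of_comm w' w x hc.symm),
    alpha_tw_mul w' x (tw w x) (alpha_tw_comm_of_comm w w' x hc)]
  -- `tw w' x * tw w x = tw w x * tw w' x`
  have h1 : tw w' x * tw w x = tw w x * tw w' x := by
    rcases alpha_tw_cases w x with h | h
    · rw [h, one_mul, mul_one]
    · rw [h]; exact alpha_tw_comm_of_comm w' w x hc.symm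
  rw [mul_assoc, h1, ← mul_assoc]

/-- the square of a lifted transvection is conjugation by `w` -/
theorem alpha_rhosq {Q : Type*} [Group Q] {z : Q} (h : XQ z) (w : Q) (hw : w * w = z)
    (ρ : MulAut Q) (hρ : IsRho w ρ) : ρ * ρ = MulAut.conj w := by
  ext x
  rw [MulAut.mul_apply, MulAut.conj_apply, hρ x, hρ (x * tw w x)]
  by_cases hx : x * w = w * x
  · rw [tw_comm hx, mul_one, tw_comm hx, mul_one]
    calc x = (x * w) * w⁻¹ := by group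
      _ = (w * x) * w⁻¹ := by rw [hx]
  · rw [tw_anti hx]
    have hxw : (x * w) * w ≠ w * (x * w) := by
      intro h2
      apply hx
      calc x * w = ((x * w) * w) * w⁻¹ := by group
        _ = (w * (x * w)) * w⁻¹ := by rw [h2]
        _ = w * x := by group
    rw [tw_anti hxw]
    have e1 : x * w = z * (w * x) := (h.hcomm x w).resolve_left hx
    have e2 : w * x = z * (x * w) := by
      rw [e1, ← mul_assoc, h.hzz, one_mul]
    calc x * w * w = x * (w * w) := by group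
      _ = x * z := by rw [hw]
      _ = z * x := h.hcen x
      _ = (z * (x * w)) * w⁻¹ := by group
      _ = (w * x) * w⁻¹ := by rw [← e2]

/-- the elementwise formula for a product of three lifted transvections (only commutation needed) -/
theorem alpha_apply3 {Q : Type*} [Group Q] (v₁ v₂ v₃ : Q) (c12 : v₁ * v₂ = v₂ * v₁)
    (c13 : v₁ * v₃ = v₃ * v₁) (c23 : v₂ * v₃ = v₃ * v₂)
    (ρ₁ ρ₂ ρ₃ : MulAut Q) (h1 : IsRho v₁ ρ₁) (h2 : IsRho v₂ ρ₂) (h3 : IsRho v₃ ρ₃) (e : Q) :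
    (ρ₁ * ρ₂ * ρ₃) e = e * tw v₃ e * tw v₂ e * tw v₁ e := by
  rw [MulAut.mul_apply, MulAut.mul_apply, h3 e, h2 (e * tw v₃ e),
    h1 (e * tw v₃ e * tw v₂ (e * tw v₃ e))]
  have e2 : tw v₂ (e * tw v₃ e) = tw v₂ e :=
    alpha_tw_mul v₂ e (tw v₃ e) (alpha_tw_comm_of_comm v₃ v₂ e c23.symm)
  rw [e2]
  have e1 : tw v₁ (e * tw v₃ e * tw v₂ e) = tw v₁ e := by
    rw [alpha_tw_mul v₁ (e * tw v₃ e) (tw v₂ e) (alpha_tw_comm_of_comm v₂ v₁ e c12.symm),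
      alpha_tw_mul v₁ e (tw v₃ e) (alpha_tw_comm_of_comm v₃ v₁ e c13.symm)]
  rw [e1]

/-- the square of a product of three pairwise commuting automorphisms with given squares -/
theorem alpha_sq3 {Q : Type*} [Group Q] (v₁ v₂ v₃ : Q) (ρ₁ ρ₂ ρ₃ : MulAut Q)
    (c12 : ρ₁ * ρ₂ = ρ₂ * ρ₁) (c13 : ρ₁ * ρ₃ = ρ₃ * ρ₁) (c23 : ρ₂ * ρ₃ = ρ₃ * ρ₂)
    (s1 : ρ₁ * ρ₁ = MulAut.conj v₁) (s2 : ρ₂ * ρ₂ = MulAut.conj v₂)
    (s3 : ρ₃ * ρ₃ = MulAut.conj v₃) :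
    (ρ₁ * ρ₂ * ρ₃) * (ρ₁ * ρ₂ * ρ₃) = MulAut.conj (v₁ * v₂ * v₃) := by
  calc (ρ₁ * ρ₂ * ρ₃) * (ρ₁ * ρ₂ * ρ₃) = ρ₁ * (ρ₂ * (ρ₃ * ρ₁) * ρ₂) * ρ₃ := by group
    _ = ρ₁ * (ρ₂ * (ρ₁ * ρ₃) * ρ₂) * ρ₃ := by rw [c13]
    _ = ρ₁ * ((ρ₂ * ρ₁) * (ρ₃ * ρ₂)) * ρ₃ := by group
    _ = ρ₁ * ((ρ₁ * ρ₂) * (ρ₂ * ρ₃)) * ρ₃ := by rw [← c12, ← c23]
    _ = (ρ₁ * ρ₁) * (ρ₂ * ρ₂) * (ρ₃ * ρ₃) := by group
    _ = MulAut.conj v₁ * MulAut.conj v₂ * MulAut.conj v₃ := by rw [s1, s2, s3]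
    _ = MulAut.conj (v₁ * v₂ * v₃) := by rw [map_mul, map_mul]

/-! ### PIECE GR-ALPHA : the product of three commuting lifted transvections -/
theorem alpha {Q : Type*} [Group Q] {z v₁ v₂ v₃ : Q} (h : XQ z) (t : Trip z v₁ v₂ v₃)
    (ρ₁ ρ₂ ρ₃ : MulAut Q) (h1 : IsRho v₁ ρ₁) (h2 : IsRho v₂ ρ₂) (h3 : IsRho v₃ ρ₃) :
    (ρ₁ * ρ₂ * ρ₃) * (ρ₁ * ρ₂ * ρ₃) = MulAut.conj (v₁ * v₂ * v₃) ∧
    ∀ e : Q, (ρ₁ * ρ₂ * ρ₃) e = e * tw v₃ e * tw v₂ e * tw v₁ e := by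
  refine ⟨?_, fun e => alpha_apply3 v₁ v₂ v₃ t.c12 t.c13 t.c23 ρ₁ ρ₂ ρ₃ h1 h2 h3 e⟩
  exact alpha_sq3 v₁ v₂ v₃ ρ₁ ρ₂ ρ₃
    (alpha_rhocomm v₁ v₂ t.c12 ρ₁ ρ₂ h1 h2) (alpha_rhocomm v₁ v₃ t.c13 ρ₁ ρ₃ h1 h3)
    (alpha_rhocomm v₂ v₃ t.c23 ρ₂ ρ₃ h2 h3)
    (alpha_rhosq h v₁ t.s1 ρ₁ h1) (alpha_rhosq h v₂ t.s2 ρ₂ h2) (alpha_rhosq h v₃ t.s3 ρ₃ h3)

end Cfsg.Agent.Helper8.GR
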