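import Mathlib
import Cfsg.Agent.Lib.Helper8.GRDefs
import Cfsg.Agent.Lib.Helper18.GRALPHA

/-!
# S3085 piece GR-COMMF (helper18): the two involutive lifts cannot commute.
Tool: the anticommutation character `commf_chi f : Q → ZMod 2`, additive by the extraspecial data.
-/

set_option autoImplicit false
set_option linter.unusedVariables false

namespace Cfsg.Agent.Helper8.GR

open Cfsg.Agent.Helper8.XS

/-- anticommutation character: `0` if `x` commutes with `f`, `1` otherwise -/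
noncomputable def commf_chi {Q : Type*} [Group Q] (f x : Q) : ZMod 2 :=
  open Classical in if x * f = f * x then 0 else 1

theorem commf_chi_zero {Q : Type*} [Group Q] {f x : Q} (hx : x * f = f * x) : commf_chi f x = 0 := by
  unfold commf_chi; rw [if_pos hx]

theorem commf_chi_one {Q : Type*} [Group Q] {f x : Q} (hx : x * f ≠ f * x) : commf_chi f x = 1 := by
  unfold commf_chi; rw [if_neg hx]

theorem commf_chi_cases {Q : Type*} [Group Q] (f x : Q) :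
    (x * f = f * x ∧ commf_chi f x = 0) ∨ (x * f ≠ f * x ∧ commf_chi f x = 1) := by
  by_cases h : x * f = f * x
  · exact Or.inl ⟨h, commf_chi_zero h⟩
  · exact Or.inr ⟨h, commf_chi_one h⟩

theorem commf_ne_of_chi_one {Q : Type*} [Group Q] {f x : Q} (h : commf_chi f x = 1) :
    x * f ≠ f * x := by
  intro hx
  rw [commf_chi_zero hx] at h
  exact absurd h (by decide)

theorem commf_chi_mul {Q : Type*} [Group Q] {z : Q} (h : XQ z) (f x y : Q) :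
    commf_chi f (x * y) = commf_chi f x + commf_chi f y := by
  rcases commf_chi_cases f x with ⟨hx, ex⟩ | ⟨hx, ex⟩ <;>
    rcases commf_chi_cases f y with ⟨hy, ey⟩ | ⟨hy, ey⟩
  · have : (x * y) * f = f * (x * y) := by
      calc (x * y) * f = x * (y * f) := by group
        _ = x * (f * y) := by rw [hy]
        _ = (x * f) * y := by group
        _ = (f * x) * y := by rw [hx]
        _ = f * (x * y) := by group
    rw [commf_chi_zero this, ex, ey, add_zero]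
  · have : (x * y) * f ≠ f * (x * y) := by
      intro h2
      apply hy
      calc y * f = x⁻¹ * ((x * y) * f) := by group
        _ = x⁻¹ * (f * (x * y)) := by rw [h2]
        _ = x⁻¹ * (f * x) * y := by group
        _ = x⁻¹ * (x * f) * y := by rw [hx]
        _ = f * y := by group
    rw [commf_chi_one this, ex, ey, zero_add]
  · have : (x * y) * f ≠ f * (x * y) := by
      intro h2
      apply hx
      calc x * f = x * (f * y) * y⁻¹ := by group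
        _ = x * (y * f) * y⁻¹ := by rw [hy]
        _ = ((x * y) * f) * y⁻¹ := by group
        _ = (f * (x * y)) * y⁻¹ := by rw [h2]
        _ = f * x := by group
    rw [commf_chi_one this, ex, ey, add_zero]
  · have e1 : x * f = z * (f * x) := (h.hcomm x f).resolve_left hx
    have e2 : y * f = z * (f * y) := (h.hcomm y f).resolve_left hy
    have c1 : x * z = z * x := h.hcen x
    have : (x * y) * f = f * (x * y) := by
      calc (x * y) * f = x * (y * f) := by group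
        _ = x * (z * (f * y)) := by rw [e2]
        _ = (x * z) * (f * y) := by group
        _ = (z * x) * (f * y) := by rw [c1]
        _ = z * (x * f) * y := by group
        _ = z * (z * (f * x)) * y := by rw [e1]
        _ = (z * z) * (f * (x * y)) := by group
        _ = f * (x * y) := by rw [h.hzz, one_mul]
    rw [commf_chi_zero this, ex, ey]
    decide

/-- conjugating `f` by `p`: `f` or `z * f` according to the character -/
theorem commf_conj {Q : Type*} [Group Q] {z : Q} (h : XQ z) (f p : Q) :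
    (commf_chi f p = 0 ∧ p * f * p⁻¹ = f) ∨ (commf_chi f p = 1 ∧ p * f * p⁻¹ = z * f) := by
  rcases commf_chi_cases f p with ⟨hp, ep⟩ | ⟨hp, ep⟩
  · left
    refine ⟨ep, ?_⟩
    rw [hp]; group
  · right
    refine ⟨ep, ?_⟩
    have e1 : p * f = z * (f * p) := (h.hcomm p f).resolve_left hp
    rw [e1]; group

theorem commf_chi_eq_of_conj {Q : Type*} [Group Q] {z : Q} (h : XQ z) (f p r : Q)
    (hpr : p * f * p⁻¹ = r * f * r⁻¹) : commf_chi f p = commf_chi f r := by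
  have hzf : z * f ≠ f := by
    intro e
    apply h.hz1
    calc z = (z * f) * f⁻¹ := by group
      _ = f * f⁻¹ := by rw [e]
      _ = 1 := by group
  rcases commf_conj h f p with ⟨e1, c1⟩ | ⟨e1, c1⟩ <;>
    rcases commf_conj h f r with ⟨e2, c2⟩ | ⟨e2, c2⟩
  · rw [e1, e2]
  · exfalso; rw [c1, c2] at hpr; exact hzf hpr.symm
  · exfalso; rw [c1, c2] at hpr; exact hzf hpr
  · rw [e1, e2]

/-- evaluating the commutation of the two lifts at the preimage of `f` -/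
theorem commf_eval {Q : Type*} [Group Q] (α₁ α₂ : MulAut Q) (HC : α₁ * α₂ = α₂ * α₁) (e₁ e₂ f : Q)
    (hc : (MulAut.conj e₁ * α₁) * (MulAut.conj e₂ * α₂) =
      (MulAut.conj e₂ * α₂) * (MulAut.conj e₁ * α₁)) :
    (e₁ * α₁ e₂) * f * (e₁ * α₁ e₂)⁻¹ = (e₂ * α₂ e₁) * f * (e₂ * α₂ e₁)⁻¹ := by
  have k1 : α₁ (α₂ ((α₁ * α₂)⁻¹ f)) = f := by
    rw [← MulAut.mul_apply, MulAut.apply_inv_self]
  have k2 : α₂ (α₁ ((α₁ * α₂)⁻¹ f)) = f := by
    rw [← MulAut.mul_apply, ← HC, MulAut.apply_inv_self]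
  have hev := DFunLike.congr_fun hc ((α₁ * α₂)⁻¹ f)
  rw [MulAut.mul_apply, MulAut.mul_apply, MulAut.mul_apply, MulAut.mul_apply, MulAut.mul_apply,
    MulAut.mul_apply, MulAut.conj_apply, MulAut.conj_apply, MulAut.conj_apply, MulAut.conj_apply,
    map_mul, map_mul, map_inv, k1, map_mul, map_mul, map_inv, k2] at hev
  calc (e₁ * α₁ e₂) * f * (e₁ * α₁ e₂)⁻¹ = e₁ * (α₁ e₂ * f * (α₁ e₂)⁻¹) * e₁⁻¹ := by group
    _ = e₂ * (α₂ e₁ * f * (α₂ e₁)⁻¹) * e₂⁻¹ := hev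
    _ = (e₂ * α₂ e₁) * f * (e₂ * α₂ e₁)⁻¹ := by group

/-! ### PIECE GR-COMMF : the two involutive lifts cannot commute -/
theorem commf {Q : Type*} [Group Q] {z w₁ w₂ w₃ : Q} (h : XQ z) (t : Trip z w₁ w₂ w₃)
    (ρ₁ ρ₂ ρ₃ ρ₄ : MulAut Q) (h1 : IsRho w₁ ρ₁) (h2 : IsRho w₂ ρ₂) (h3 : IsRho w₃ ρ₃)
    (h4 : IsRho (w₁ * w₂ * w₃) ρ₄) (e₁ e₂ : Q)
    (a1 : e₁ * w₁ ≠ w₁ * e₁ ∧ e₁ * w₂ ≠ w₂ * e₁ ∧ e₁ * w₃ ≠ w₃ * e₁)
    (a2 : e₂ * w₁ ≠ w₁ * e₂ ∧ e₂ * w₂ ≠ w₂ * e₂ ∧ e₂ * (w₁ * w₂ * w₃) ≠ (w₁ * w₂ * w₃) * e₂)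
    (hc : (MulAut.conj e₁ * (ρ₁ * ρ₂ * ρ₃)) * (MulAut.conj e₂ * (ρ₁ * ρ₂ * ρ₄)) =
      (MulAut.conj e₂ * (ρ₁ * ρ₂ * ρ₄)) * (MulAut.conj e₁ * (ρ₁ * ρ₂ * ρ₃))) : False := by
  -- commutation of `w₄ = w₁ w₂ w₃` with the others
  have w14 : w₁ * (w₁ * w₂ * w₃) = (w₁ * w₂ * w₃) * w₁ := by
    calc w₁ * (w₁ * w₂ * w₃) = w₁ * (w₁ * w₂) * w₃ := by group
      _ = w₁ * (w₂ * w₁) * w₃ := by rw [t.c12]
      _ = w₁ * w₂ * (w₁ * w₃) := by group
      _ = w₁ * w₂ * (w₃ * w₁) := by rw [t.c13]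
      _ = (w₁ * w₂ * w₃) * w₁ := by group
  have w24 : w₂ * (w₁ * w₂ * w₃) = (w₁ * w₂ * w₃) * w₂ := by
    calc w₂ * (w₁ * w₂ * w₃) = (w₂ * w₁) * w₂ * w₃ := by group
      _ = (w₁ * w₂) * w₂ * w₃ := by rw [← t.c12]
      _ = w₁ * w₂ * (w₂ * w₃) := by group
      _ = w₁ * w₂ * (w₃ * w₂) := by rw [t.c23]
      _ = (w₁ * w₂ * w₃) * w₂ := by group
  have w34 : w₃ * (w₁ * w₂ * w₃) = (w₁ * w₂ * w₃) * w₃ := by
    calc w₃ * (w₁ * w₂ * w₃) = (w₃ * w₁) * w₂ * w₃ := by group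
      _ = (w₁ * w₃) * w₂ * w₃ := by rw [← t.c13]
      _ = w₁ * (w₃ * w₂) * w₃ := by group
      _ = w₁ * (w₂ * w₃) * w₃ := by rw [← t.c23]
      _ = (w₁ * w₂ * w₃) * w₃ := by group
  -- the automorphisms commute
  have C12 : Commute ρ₁ ρ₂ := alpha_rhocomm w₁ w₂ t.c12 ρ₁ ρ₂ h1 h2
  have C13 : Commute ρ₁ ρ₃ := alpha_rhocomm w₁ w₃ t.c13 ρ₁ ρ₃ h1 h3
  have C14 : Commute ρ₁ ρ₄ := alpha_rhocomm w₁ _ w14 ρ₁ ρ₄ h1 h4
  have C23 : Commute ρ₂ ρ₃ := alpha_rhocomm w₂ w₃ t.c23 ρ₂ ρ₃ h2 h3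
  have C24 : Commute ρ₂ ρ₄ := alpha_rhocomm w₂ _ w24 ρ₂ ρ₄ h2 h4
  have C34 : Commute ρ₃ ρ₄ := alpha_rhocomm w₃ _ w34 ρ₃ ρ₄ h3 h4
  have H1 : Commute ρ₁ (ρ₁ * ρ₂ * ρ₄) := ((Commute.refl ρ₁).mul_right C12).mul_right C14
  have H2 : Commute ρ₂ (ρ₁ * ρ₂ * ρ₄) := (C12.symm.mul_right (Commute.refl ρ₂)).mul_right C24
  have H3 : Commute ρ₃ (ρ₁ * ρ₂ * ρ₄) := (C13.symm.mul_right C23.symm).mul_right C34
  have HC : (ρ₁ * ρ₂ * ρ₃) * (ρ₁ * ρ₂ * ρ₄) = (ρ₁ * ρ₂ * ρ₄) * (ρ₁ * ρ₂ * ρ₃) :=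
    (H1.mul_left H2).mul_left H3
  -- the witness
  obtain ⟨f, hf1, hf2, hf3⟩ := t.i1
  have x1 : commf_chi f w₁ = 1 := commf_chi_one (fun e => hf1 e.symm)
  have x2 : commf_chi f w₂ = 0 := commf_chi_zero hf2.symm
  have x3 : commf_chi f w₃ = 0 := commf_chi_zero hf3.symm
  -- `e₂` anticommutes with `w₃`, `e₁` anticommutes with `w₄`
  have a23 : e₂ * w₃ ≠ w₃ * e₂ := by
    have y1 : commf_chi e₂ w₁ = 1 := commf_chi_one (fun e => a2.1 e.symm)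
    have y2 : commf_chi e₂ w₂ = 1 := commf_chi_one (fun e => a2.2.1 e.symm)
    have y4 : commf_chi e₂ (w₁ * w₂ * w₃) = 1 := commf_chi_one (fun e => a2.2.2 e.symm)
    rw [commf_chi_mul h, commf_chi_mul h, y1, y2] at y4
    have y3 : commf_chi e₂ w₃ = 1 := by
      have e : (1 : ZMod 2) + 1 = 0 := by decide
      rw [e, zero_add] at y4
      exact y4
    exact fun e => commf_ne_of_chi_one y3 e.symm
  have a14 : e₁ * (w₁ * w₂ * w₃) ≠ (w₁ * w₂ * w₃) * e₁ := by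
    have y1 : commf_chi e₁ w₁ = 1 := commf_chi_one (fun e => a1.1 e.symm)
    have y2 : commf_chi e₁ w₂ = 1 := commf_chi_one (fun e => a1.2.1 e.symm)
    have y3 : commf_chi e₁ w₃ = 1 := commf_chi_one (fun e => a1.2.2 e.symm)
    have y4 : commf_chi e₁ (w₁ * w₂ * w₃) = 1 := by
      rw [commf_chi_mul h, commf_chi_mul h, y1, y2, y3]
      decide
    exact fun e => commf_ne_of_chi_one y4 e.symm
  -- the values of the `α`'s
  have A1 : (ρ₁ * ρ₂ * ρ₃) e₂ = e₂ * w₃ * w₂ * w₁ := by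
    rw [alpha_apply3 w₁ w₂ w₃ t.c12 t.c13 t.c23 ρ₁ ρ₂ ρ₃ h1 h2 h3 e₂, tw_anti a23, tw_anti a2.2.1,
      tw_anti a2.1]
  have A2 : (ρ₁ * ρ₂ * ρ₄) e₁ = e₁ * (w₁ * w₂ * w₃) * w₂ * w₁ := by
    rw [alpha_apply3 w₁ w₂ (w₁ * w₂ * w₃) t.c12 w14 w24 ρ₁ ρ₂ ρ₄ h1 h2 h4 e₁, tw_anti a14,
      tw_anti a1.2.1, tw_anti a1.1]
  -- evaluate `hc` at the preimage of `f`
  have hev := commf_eval (ρ₁ * ρ₂ * ρ₃) (ρ₁ * ρ₂ * ρ₄) HC e₁ e₂ f hc
  rw [A1, A2] at hev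
  have hχ := commf_chi_eq_of_conj h f _ _ hev
  simp only [commf_chi_mul h, x1, x2, x3] at hχ
  -- `a + (b + 0 + 0 + 1) = b + (a + (1 + 0 + 0) + 0 + 1)` in `ZMod 2`
  have e2 : (2 : ZMod 2) = 0 := by decide
  have : (1 : ZMod 2) = 0 := by
    linear_combination hχ + e2
  exact absurd this (by decide)

end Cfsg.Agent.Helper8.GR
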