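import Mathlib

/-!
# Conjugates of rational combinations of roots of unity (helper18's shared library)
-/

set_option autoImplicit false

namespace Cfsg.Agent.Helper18

open Polynomial

/-- A rational combination of `n`-th roots of unity comes from an element `x` of the cyclotomic
field whose conjugates are exactly the combinations of the `k`-th powers, `k` coprime to `n`. -/
theorem exists_cyclotomic_element_weighted {n : ℕ} {ι : Type*} [Fintype ι] (hn : 0 < n)
    (c : ι → ℚ) (μ : ι → ℂ) (hμ : ∀ i, μ i ^ n = 1) :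
    ∃ x : CyclotomicField n ℚ,
      (∀ k : ℕ, Nat.Coprime k n →
        ∃ σ : CyclotomicField n ℚ →ₐ[ℚ] ℂ, σ x = ∑ i, (c i : ℂ) * μ i ^ k) ∧
      (∀ σ : CyclotomicField n ℚ →ₐ[ℚ] ℂ,
        ∃ k : ℕ, Nat.Coprime k n ∧ σ x = ∑ i, (c i : ℂ) * μ i ^ k) := by
  classical
  haveI : NeZero n := ⟨hn.ne'⟩
  obtain ⟨ζ, hζ⟩ : ∃ ζ : ℂ, IsPrimitiveRoot ζ n := ⟨_, Complex.isPrimitiveRoot_exp n hn.ne'⟩
  have hex : ∀ i, ∃ a < n, ζ ^ a = μ i := fun i => hζ.eq_pow_of_pow_eq_one (hμ i)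
  choose a han ha using hex
  haveI : IsCyclotomicExtension {n} ℚ (CyclotomicField n ℚ) :=
    CyclotomicField.isCyclotomicExtension n ℚ
  have hζK : IsPrimitiveRoot (IsCyclotomicExtension.zeta n ℚ (CyclotomicField n ℚ)) n :=
    IsCyclotomicExtension.zeta_spec n ℚ (CyclotomicField n ℚ)
  obtain ⟨ζK, hζKdef⟩ : ∃ ζK : CyclotomicField n ℚ,
      ζK = IsCyclotomicExtension.zeta n ℚ (CyclotomicField n ℚ) := ⟨_, rfl⟩
  rw [← hζKdef] at hζK
  have hirr : Irreducible (cyclotomic n ℚ) := cyclotomic.irreducible_rat hn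
  obtain ⟨x, hxdef⟩ : ∃ x : CyclotomicField n ℚ,
      x = ∑ i, algebraMap ℚ (CyclotomicField n ℚ) (c i) * ζK ^ a i := ⟨_, rfl⟩
  have hσx : ∀ σ : CyclotomicField n ℚ →ₐ[ℚ] ℂ, σ x = ∑ i, (c i : ℂ) * (σ ζK) ^ a i := by
    intro σ
    rw [hxdef, map_sum]
    refine Finset.sum_congr rfl fun i _ => ?_
    rw [map_mul, map_pow, AlgHom.commutes]
    rfl
  let e := hζK.embeddingsEquivPrimitiveRoots ℂ hirr
  have he : ∀ σ : CyclotomicField n ℚ →ₐ[ℚ] ℂ, ((e σ : primitiveRoots n ℂ) : ℂ) = σ ζK :=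
    fun σ => rfl
  have hemb : ∀ η : ℂ, IsPrimitiveRoot η n →
      ∃ σ : CyclotomicField n ℚ →ₐ[ℚ] ℂ, σ ζK = η := by
    intro η hη
    refine ⟨e.symm ⟨η, (mem_primitiveRoots hn).2 hη⟩, ?_⟩
    rw [← he, Equiv.apply_symm_apply]
  refine ⟨x, ?_, ?_⟩
  · intro k hk
    obtain ⟨σ, hσ⟩ := hemb (ζ ^ k) (hζ.pow_of_coprime k hk)
    refine ⟨σ, ?_⟩
    rw [hσx, hσ]
    refine Finset.sum_congr rfl fun i _ => ?_
    rw [← ha i, ← pow_mul, ← pow_mul, mul_comm k]
  · intro σ
    have hη : IsPrimitiveRoot (σ ζK) n := by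
      have := (e σ).2
      rw [mem_primitiveRoots hn] at this
      rw [← he]
      exact this
    obtain ⟨k, hkn, hk⟩ := hζ.eq_pow_of_pow_eq_one hη.pow_eq_one
    refine ⟨k, ?_, ?_⟩
    · rw [← hζ.pow_iff_coprime hn, hk]
      exact hη
    · rw [hσx, ← hk]
      refine Finset.sum_congr rfl fun i _ => ?_
      rw [← ha i, ← pow_mul, ← pow_mul, mul_comm k]

/-- The complex roots of the minimal polynomial of a rational combination of `n`-th roots of unity
are the combinations of the `k`-th powers, `k` coprime to `n`. -/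
theorem exists_coprime_of_root_minpoly {n : ℕ} {ι : Type*} [Fintype ι] (hn : 0 < n)
    (c : ι → ℚ) (μ : ι → ℂ) (hμ : ∀ i, μ i ^ n = 1) (r : ℂ)
    (hr : aeval r (minpoly ℚ (∑ i, (c i : ℂ) * μ i)) = 0) :
    ∃ k : ℕ, Nat.Coprime k n ∧ r = ∑ i, (c i : ℂ) * μ i ^ k := by
  classical
  haveI : NeZero n := ⟨hn.ne'⟩
  haveI : IsCyclotomicExtension {n} ℚ (CyclotomicField n ℚ) :=
    CyclotomicField.isCyclotomicExtension n ℚ
  haveI : FiniteDimensional ℚ (CyclotomicField n ℚ) :=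
    IsCyclotomicExtension.finiteDimensional {n} ℚ (CyclotomicField n ℚ)
  obtain ⟨x, hx1, hx2⟩ := exists_cyclotomic_element_weighted hn c μ hμ
  obtain ⟨σ₁, hσ₁⟩ := hx1 1 (Nat.coprime_one_left n)
  simp only [pow_one] at hσ₁
  rw [← hσ₁, minpoly.algHom_eq σ₁ σ₁.injective x] at hr
  have hK' : ∀ s : CyclotomicField n ℚ,
      IsIntegral ℚ s ∧ ((minpoly ℚ s).map (algebraMap ℚ ℂ)).Splits :=
    fun s => ⟨Algebra.IsIntegral.isIntegral s, IsAlgClosed.splits _⟩
  obtain ⟨φ, hφ⟩ := IntermediateField.exists_algHom_of_splits_of_aeval hK' hr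
  obtain ⟨k, hk, hkx⟩ := hx2 φ
  exact ⟨k, hk, by rw [← hφ, hkx]⟩

/-- An integer lying in a proper ideal of the algebraic integers that contains the prime `p` is
divisible by `p`. -/
theorem int_dvd_of_mem_ideal {M : Ideal (integralClosure ℤ ℂ)} (hM : M ≠ ⊤) {p : ℕ}
    (hp : p.Prime) (hpM : (p : integralClosure ℤ ℂ) ∈ M) (c : ℤ)
    (hc : (c : integralClosure ℤ ℂ) ∈ M) : (p : ℤ) ∣ c := by
  by_contra hnd
  have hp' : Prime (p : ℤ) := Nat.prime_iff_prime_int.1 hp
  have hcop : IsCoprime (p : ℤ) c := (Prime.coprime_iff_not_dvd hp').2 hnd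
  obtain ⟨a, b, hab⟩ := hcop
  apply hM
  rw [Ideal.eq_top_iff_one]
  have h1 : ((a * (p : ℤ) + b * c : ℤ) : integralClosure ℤ ℂ) = 1 := by
    rw [hab]
    simp
  rw [← h1]
  push_cast
  exact M.add_mem (M.mul_mem_left _ hpM) (M.mul_mem_left _ hc)

theorem exists_lift_prod_roots {M : Ideal (integralClosure ℤ ℂ)} (t : Multiset ℂ)
    (ht : ∀ r ∈ t, ∃ r' : integralClosure ℤ ℂ, r' ∈ M ∧ (r' : ℂ) = r) :
    ∃ g : (integralClosure ℤ ℂ)[X],
      g.map (algebraMap (integralClosure ℤ ℂ) ℂ) = (t.map (fun r => X - C r)).prod ∧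
      g.map (Ideal.Quotient.mk M) = X ^ (Multiset.card t) := by
  induction t using Multiset.induction_on with
  | empty => exact ⟨1, by simp, by simp⟩
  | cons r t ih =>
    obtain ⟨g, hg1, hg2⟩ := ih (fun r' hr' => ht r' (Multiset.mem_cons_of_mem hr'))
    obtain ⟨r', hr'M, hr'⟩ := ht r (Multiset.mem_cons_self r t)
    refine ⟨(X - C r') * g, ?_, ?_⟩
    · rw [Polynomial.map_mul, hg1, Multiset.map_cons, Multiset.prod_cons, Polynomial.map_sub,
        map_X, map_C]
      congr 2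
      rw [← hr']
      rfl
    · rw [Polynomial.map_mul, hg2, Polynomial.map_sub, map_X, map_C,
        Ideal.Quotient.eq_zero_iff_mem.2 hr'M, C_0, sub_zero, Multiset.card_cons, pow_succ']

/-- If all complex roots of the minimal polynomial of the algebraic integer `d` lie in the proper
ideal `M` over `p`, then `d` lies in every prime ideal over `p`. -/
theorem mem_of_roots_mem {M M' : Ideal (integralClosure ℤ ℂ)} (hM : M ≠ ⊤) [hM' : M'.IsPrime]
    {p : ℕ} (hp : p.Prime)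
    (hpM : (p : integralClosure ℤ ℂ) ∈ M) (hpM' : (p : integralClosure ℤ ℂ) ∈ M')
    (d : integralClosure ℤ ℂ)
    (hroots : ∀ r : ℂ, aeval r (minpoly ℤ (d : ℂ)) = 0 →
      ∃ r' : integralClosure ℤ ℂ, r' ∈ M ∧ (r' : ℂ) = r) :
    d ∈ M' := by
  have hd : IsIntegral ℤ (d : ℂ) := d.2
  set f := minpoly ℤ (d : ℂ) with hf
  have hmonic : f.Monic := minpoly.monic hd
  have hsp : (f.map (algebraMap ℤ ℂ)).Splits := IsAlgClosed.splits _
  have hsplit := hsp.eq_prod_roots_of_monic (hmonic.map _)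
  obtain ⟨g, hg1, hg2⟩ := exists_lift_prod_roots (M := M) (f.map (algebraMap ℤ ℂ)).roots (by
    intro r hr
    apply hroots
    rw [Polynomial.mem_roots (hmonic.map _).ne_zero] at hr
    rw [← Polynomial.eval_map_algebraMap]
    exact hr)
  have hfg : f.map (algebraMap ℤ (integralClosure ℤ ℂ)) = g := by
    apply Polynomial.map_injective (algebraMap (integralClosure ℤ ℂ) ℂ) Subtype.val_injective
    rw [Polynomial.map_map, hg1, ← hsplit]
    rfl
  have hN : Multiset.card (f.map (algebraMap ℤ ℂ)).roots = f.natDegree := by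
    rw [← hsp.natDegree_eq_card_roots, hmonic.natDegree_map]
  have hcoeff : ∀ j < f.natDegree, (p : ℤ) ∣ f.coeff j := by
    intro j hj
    apply int_dvd_of_mem_ideal hM hp hpM
    have := congrArg (fun q => q.coeff j) hg2
    simp only [coeff_map, coeff_X_pow] at this
    rw [← hfg, coeff_map, hN, if_neg hj.ne] at this
    have h2 := Ideal.Quotient.eq_zero_iff_mem.1 this
    rwa [eq_intCast] at h2
  have heval : aeval d f = 0 := by
    apply Subtype.val_injective
    have h1 := minpoly.aeval ℤ (d : ℂ)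
    rw [← hf] at h1
    show ((aeval d f : integralClosure ℤ ℂ) : ℂ) = ((0 : integralClosure ℤ ℂ) : ℂ)
    rw [ZeroMemClass.coe_zero, ← h1]
    exact (Polynomial.aeval_algebraMap_apply ℂ d f).symm
  rw [aeval_eq_sum_range, Finset.sum_range_succ, hmonic.coeff_natDegree, one_smul] at heval
  have hsum : ∑ j ∈ Finset.range f.natDegree, f.coeff j • d ^ j ∈ M' := by
    apply Ideal.sum_mem
    intro j hj
    obtain ⟨c, hc⟩ := hcoeff j (Finset.mem_range.1 hj)
    rw [hc, zsmul_eq_mul]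
    push_cast
    apply Ideal.mul_mem_right
    apply Ideal.mul_mem_right
    exact hpM'
  have hdN : d ^ f.natDegree ∈ M' := by
    have h3 : d ^ f.natDegree = - ∑ j ∈ Finset.range f.natDegree, f.coeff j • d ^ j :=
      eq_neg_of_add_eq_zero_right heval
    rw [h3]
    exact neg_mem hsum
  exact hM'.mem_of_pow_mem _ hdN

end Cfsg.Agent.Helper18
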