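import Mathlib
import Cfsg.Agent.Lib.Helper23.HKKGrp

/-!
# S3779 piece HKK-GCC (helper18), core: commutator calculus modulo `γ_{i+j+1}`.
The statements `Gam_comm_mem`, `Gam_comm_top` of piece GLC are hypotheses (`hCM`, `hCT`) here.
-/

set_option autoImplicit false
set_option linter.unusedSectionVars false
set_option linter.unusedVariables false

namespace Cfsg.Agent.Helper23.HKK

open scoped DirectSum commutatorElement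

variable (G : Type*) [Group G]

/-- membership of `x⁻¹ * y` in a normal subgroup as an equality in the quotient -/
theorem gcc_mk_eq (N : Subgroup G) [N.Normal] (x y : G) :
    ((x : G ⧸ N) = (y : G ⧸ N)) ↔ x⁻¹ * y ∈ N := QuotientGroup.eq

theorem gcc_mk_one (N : Subgroup G) [N.Normal] (x : G) : ((x : G ⧸ N) = 1) ↔ x ∈ N :=
  QuotientGroup.eq_one_iff x

/-- `Gam G (w+1) ≤ Gam G w` iterated -/
theorem gcc_antitone {i j : ℕ} (h : i ≤ j) : Gam G j ≤ Gam G i := by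
  induction j with
  | zero =>
    have : i = 0 := by omega
    subst this
    exact le_refl _
  | succ j ih =>
    rcases Nat.lt_or_ge i (j + 1) with h1 | h1
    · exact le_trans (Gam_succ_le G j) (ih (by omega))
    · have : i = j + 1 := by omega
      subst this
      exact le_refl _

theorem gcc_comm_mul_left_mod
    (hCM : ∀ (i j : ℕ) (a b : G), a ∈ Gam G i → b ∈ Gam G j → ⁅a, b⁆ ∈ Gam G (i + j))
    (hCT : ∀ (j : ℕ) (a b : G), b ∈ Gam G j → ⁅a, b⁆ ∈ Gam G (j + 1) ∧ ⁅b, a⁆ ∈ Gam G (j + 1))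
    (i j : ℕ) (a a' b : G) (ha : a ∈ Gam G i) (ha' : a' ∈ Gam G i) (hb : b ∈ Gam G j) :
    (⁅a * a', b⁆)⁻¹ * (⁅a, b⁆ * ⁅a', b⁆) ∈ Gam G (i + j + 1) := by
  have hc : ⁅a', b⁆ ∈ Gam G (i + j) := hCM i j a' b ha' hb
  have hd : ⁅a, b⁆ ∈ Gam G (i + j) := hCM i j a b ha hb
  have h1 : ⁅a, ⁅a', b⁆⁆ ∈ Gam G (i + j + 1) := (hCT (i + j) a _ hc).1
  have h2 : ⁅(⁅a, b⁆)⁻¹, (⁅a', b⁆)⁻¹⁆ ∈ Gam G (i + j + 1) :=
    Gam_comm_self G (i + j) _ _ (inv_mem hd) (inv_mem hc)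
  have e : (⁅a * a', b⁆)⁻¹ * (⁅a, b⁆ * ⁅a', b⁆) =
      ((⁅a', b⁆ * ⁅a, b⁆)⁻¹ * (⁅a, ⁅a', b⁆⁆)⁻¹ * (⁅a', b⁆ * ⁅a, b⁆)) *
        ⁅(⁅a, b⁆)⁻¹, (⁅a', b⁆)⁻¹⁆ := by
    simp only [commutatorElement_def]
    group
  rw [e]
  refine mul_mem ?_ h2
  have := (Gam_normal G (i + j + 1)).conj_mem _ (inv_mem h1) (⁅a', b⁆ * ⁅a, b⁆)⁻¹
  simpa using this

theorem gcc_comm_mul_right_mod
    (hCM : ∀ (i j : ℕ) (a b : G), a ∈ Gam G i → b ∈ Gam G j → ⁅a, b⁆ ∈ Gam G (i + j))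
    (hCT : ∀ (j : ℕ) (a b : G), b ∈ Gam G j → ⁅a, b⁆ ∈ Gam G (j + 1) ∧ ⁅b, a⁆ ∈ Gam G (j + 1))
    (i j : ℕ) (a b b' : G) (ha : a ∈ Gam G i) (hb : b ∈ Gam G j) (hb' : b' ∈ Gam G j) :
    (⁅a, b * b'⁆)⁻¹ * (⁅a, b⁆ * ⁅a, b'⁆) ∈ Gam G (i + j + 1) := by
  have hc : ⁅a, b'⁆ ∈ Gam G (i + j) := hCM i j a b' ha hb'
  have h1 : ⁅b, ⁅a, b'⁆⁆ ∈ Gam G (i + j + 1) := (hCT (i + j) b _ hc).1
  have e : (⁅a, b * b'⁆)⁻¹ * (⁅a, b⁆ * ⁅a, b'⁆) =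
      (⁅a, b'⁆)⁻¹ * (⁅b, ⁅a, b'⁆⁆)⁻¹ * (⁅a, b'⁆) := by
    simp only [commutatorElement_def]
    group
  rw [e]
  have := (Gam_normal G (i + j + 1)).conj_mem _ (inv_mem h1) (⁅a, b'⁆)⁻¹
  simpa using this

theorem gcc_comm_congr_mod
    (hCM : ∀ (i j : ℕ) (a b : G), a ∈ Gam G i → b ∈ Gam G j → ⁅a, b⁆ ∈ Gam G (i + j))
    (hCT : ∀ (j : ℕ) (a b : G), b ∈ Gam G j → ⁅a, b⁆ ∈ Gam G (j + 1) ∧ ⁅b, a⁆ ∈ Gam G (j + 1))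
    (i j : ℕ) (a a' b b' : G) (ha : a ∈ Gam G i) (ha' : a' ∈ Gam G i) (hb : b ∈ Gam G j)
    (hb' : b' ∈ Gam G j) (haa : a⁻¹ * a' ∈ Gam G (i + 1)) (hbb : b⁻¹ * b' ∈ Gam G (j + 1)) :
    (⁅a, b⁆)⁻¹ * ⁅a', b'⁆ ∈ Gam G (i + j + 1) := by
  -- `a' = a u`, `b' = b v`
  obtain ⟨u, hu, rfl⟩ : ∃ u, u ∈ Gam G (i + 1) ∧ a' = a * u := ⟨a⁻¹ * a', haa, by group⟩
  obtain ⟨v, hv, rfl⟩ : ∃ v, v ∈ Gam G (j + 1) ∧ b' = b * v := ⟨b⁻¹ * b', hbb, by group⟩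
  have hui : u ∈ Gam G i := Gam_succ_le G i hu
  have hvj : v ∈ Gam G j := Gam_succ_le G j hv
  have e1 := gcc_comm_mul_left_mod G hCM hCT i j a u (b * v) ha hui hb'
  have e2 : ⁅u, b * v⁆ ∈ Gam G (i + j + 1) := by
    have := hCM (i + 1) j u (b * v) hu hb'
    have e : i + 1 + j = i + j + 1 := by omega
    rwa [e] at this
  have e3 := gcc_comm_mul_right_mod G hCM hCT i j a b v ha hb hvj
  have e4 : ⁅a, v⁆ ∈ Gam G (i + j + 1) := hCM i (j + 1) a v ha hv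
  rw [← gcc_mk_eq] at e1 e3 ⊢
  rw [← gcc_mk_one] at e2 e4
  rw [e1, QuotientGroup.mk_mul, e2, mul_one, e3, QuotientGroup.mk_mul, e4, mul_one]

/-- the Hall–Witt identity for `⁅x, y⁆ = x y x⁻¹ y⁻¹` -/
theorem gcc_hall_witt (a b c : G) :
    ⁅⁅a, b⁆, b * c * b⁻¹⁆ * ⁅⁅b, c⁆, c * a * c⁻¹⁆ * ⁅⁅c, a⁆, a * b * a⁻¹⁆ = 1 := by
  simp only [commutatorElement_def]
  group

/-- `⁅x, b c b⁻¹⁆ ≡ ⁅x, c⁆` -/
theorem gcc_conj_right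
    (hCM : ∀ (i j : ℕ) (a b : G), a ∈ Gam G i → b ∈ Gam G j → ⁅a, b⁆ ∈ Gam G (i + j))
    (hCT : ∀ (j : ℕ) (a b : G), b ∈ Gam G j → ⁅a, b⁆ ∈ Gam G (j + 1) ∧ ⁅b, a⁆ ∈ Gam G (j + 1))
    (m k : ℕ) (x b c : G) (hx : x ∈ Gam G m) (hc : c ∈ Gam G k) :
    (⁅x, c⁆)⁻¹ * ⁅x, b * c * b⁻¹⁆ ∈ Gam G (m + k + 1) := by
  apply gcc_comm_congr_mod G hCM hCT m k x x c (b * c * b⁻¹) hx hx hc
    ((Gam_normal G k).conj_mem c hc b)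
  · rw [inv_mul_cancel]; exact one_mem _
  · have h := (hCT k b c⁻¹ (inv_mem hc)).2
    have e : c⁻¹ * (b * c * b⁻¹) = ⁅c⁻¹, b⁆ := by
      simp only [commutatorElement_def]; group
    rw [e]; exact h

theorem gcc_hall_witt_mod
    (hCM : ∀ (i j : ℕ) (a b : G), a ∈ Gam G i → b ∈ Gam G j → ⁅a, b⁆ ∈ Gam G (i + j))
    (hCT : ∀ (j : ℕ) (a b : G), b ∈ Gam G j → ⁅a, b⁆ ∈ Gam G (j + 1) ∧ ⁅b, a⁆ ∈ Gam G (j + 1))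
    (i j k : ℕ) (a b c : G) (ha : a ∈ Gam G i) (hb : b ∈ Gam G j) (hc : c ∈ Gam G k) :
    ⁅⁅a, b⁆, c⁆ * ⁅⁅b, c⁆, a⁆ * ⁅⁅c, a⁆, b⁆ ∈ Gam G (i + j + k + 1) := by
  have h1 := gcc_conj_right G hCM hCT (i + j) k ⁅a, b⁆ b c (hCM i j a b ha hb) hc
  have h2 := gcc_conj_right G hCM hCT (j + k) i ⁅b, c⁆ c a (hCM j k b c hb hc) ha
  have h3 := gcc_conj_right G hCM hCT (k + i) j ⁅c, a⁆ a b (hCM k i c a hc ha) hb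
  have e2 : j + k + i + 1 = i + j + k + 1 := by omega
  have e3 : k + i + j + 1 = i + j + k + 1 := by omega
  rw [e2] at h2
  rw [e3] at h3
  rw [← gcc_mk_eq] at h1 h2 h3
  rw [← gcc_mk_one, QuotientGroup.mk_mul, QuotientGroup.mk_mul, h1, h2, h3,
    ← QuotientGroup.mk_mul, ← QuotientGroup.mk_mul, gcc_hall_witt]
  rfl

end Cfsg.Agent.Helper23.HKK
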