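import Mathlib
import Cfsg.Agent.Lib.Helper23.HKKGrp
import Cfsg.Agent.Lib.Helper11.HKKGLC
import Cfsg.Agent.Lib.Helper18.HKKGCCCore

/-!
# S3779 piece HKK-GCC (helper18): commutator calculus modulo `γ_{i+j+1}`, exact skeleton names.
-/

set_option autoImplicit false
set_option linter.unusedSectionVars false
set_option linter.unusedVariables false

namespace Cfsg.Agent.Helper23.HKK

open scoped DirectSum commutatorElement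

variable (G : Type*) [Group G]

theorem comm_mul_left_mod (i j : ℕ) (a a' b : G) (ha : a ∈ Gam G i) (ha' : a' ∈ Gam G i) (hb : b ∈ Gam G j) :
    (⁅a * a', b⁆)⁻¹ * (⁅a, b⁆ * ⁅a', b⁆) ∈ Gam G (i + j + 1) :=
  gcc_comm_mul_left_mod G (Gam_comm_mem G) (Gam_comm_top G) i j a a' b ha ha' hb

theorem comm_mul_right_mod (i j : ℕ) (a b b' : G) (ha : a ∈ Gam G i) (hb : b ∈ Gam G j) (hb' : b' ∈ Gam G j) :
    (⁅a, b * b'⁆)⁻¹ * (⁅a, b⁆ * ⁅a, b'⁆) ∈ Gam G (i + j + 1) :=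
  gcc_comm_mul_right_mod G (Gam_comm_mem G) (Gam_comm_top G) i j a b b' ha hb hb'

theorem comm_congr_mod (i j : ℕ) (a a' b b' : G) (ha : a ∈ Gam G i) (ha' : a' ∈ Gam G i) (hb : b ∈ Gam G j)
    (hb' : b' ∈ Gam G j) (haa : a⁻¹ * a' ∈ Gam G (i + 1)) (hbb : b⁻¹ * b' ∈ Gam G (j + 1)) :
    (⁅a, b⁆)⁻¹ * ⁅a', b'⁆ ∈ Gam G (i + j + 1) :=
  gcc_comm_congr_mod G (Gam_comm_mem G) (Gam_comm_top G) i j a a' b b' ha ha' hb hb' haa hbb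

/-- the Hall–Witt identity for `⁅x, y⁆ = x y x⁻¹ y⁻¹` -/
theorem hall_witt (a b c : G) :
    ⁅⁅a, b⁆, b * c * b⁻¹⁆ * ⁅⁅b, c⁆, c * a * c⁻¹⁆ * ⁅⁅c, a⁆, a * b * a⁻¹⁆ = 1 :=
  gcc_hall_witt G a b c

theorem hall_witt_mod (i j k : ℕ) (a b c : G) (ha : a ∈ Gam G i) (hb : b ∈ Gam G j) (hc : c ∈ Gam G k) :
    ⁅⁅a, b⁆, c⁆ * ⁅⁅b, c⁆, a⁆ * ⁅⁅c, a⁆, b⁆ ∈ Gam G (i + j + k + 1) :=
  gcc_hall_witt_mod G (Gam_comm_mem G) (Gam_comm_top G) i j k a b c ha hb hc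

end Cfsg.Agent.Helper23.HKK
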