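import Mathlib
import Cfsg.Agent.Lib.Helper24.IPDefs

/-!
Isaacs–Passman, Lemma V: an irreducible character of a subgroup `H` whose degree is the largest character degree
of `G` vanishes off the normal core of `H` (piece V of helper24's farm-out of S4463).
-/

set_option autoImplicit false
set_option linter.style.haveILetI false

namespace Cfsg.Agent.Helper18.IPV

open Cfsg Cfsg.Agent.Helper24 Cfsg.Agent.Helper24.IP Cfsg.Agent.Helper5 Cfsg.Agent.Helper18

universe u

variable {G : Type u} [Group G] [Finite G]

/-- the induced character of `η` restricts to `|G : H| η` -/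
theorem indFun_restrict {b : ℕ} (hb : Bdd G b) (H : Subgroup G) {η : H → ℂ}
    (hη : IsIrrCharacter H η) (hdeg : charDegree η = b) [Fintype G] (k : H) :
    indFun H η (k : G) = (H.index : ℂ) * η k := by
  classical
  letI : Fintype H := Fintype.ofFinite H
  letI : Fintype (IrrCharacter G) := irrFintype
  letI : Fintype (IrrCharacter H) := irrFintype
  have hηc := isCharacter_of_isIrrCharacter hη
  have hexp := classFunction_expansion (isClassFunction_indFun H η)
  have hterm : ∀ ξ : IrrCharacter G, ∀ k : H,
      classInner (indFun H η) (ξ : G → ℂ) * (ξ : G → ℂ) k =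
        classInner (indFun H η) (ξ : G → ℂ) * η k := by
    intro ξ k
    by_cases h0 : classInner (indFun H η) (ξ : G → ℂ) = 0
    · rw [h0, zero_mul, zero_mul]
    · congr 1
      have hξc := isCharacter_of_isIrrCharacter ξ.2
      have hfr := frobenius_reciprocity H η (isClassFunction_of_isCharacter hξc)
      have hξH : IsCharacter H (fun k : H => (ξ : G → ℂ) k) := isCharacter_restrict H hξc
      have hcon : classInner (fun k : H => (ξ : G → ℂ) k) η ≠ 0 := by
        rw [classInner_char_comm hξH hηc, ← hfr]
        exact h0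
      obtain ⟨ρ, hρ, hsum⟩ := exists_add_of_constituent hξH hη hcon
      have h1 := congrFun hsum 1
      simp only [Pi.add_apply, Subgroup.coe_one] at h1
      rw [irr_one_eq_charDegree ξ.2, irr_one_eq_charDegree hη, char_one_eq_charDegree hρ, hdeg] at h1
      have h2 : charDegree (ξ : G → ℂ) = b + charDegree ρ := by exact_mod_cast h1
      have h3 := hb _ ξ.2
      have h4 : charDegree ρ = 0 := by omega
      have hρ1 : ρ 1 = 0 := by rw [char_one_eq_charDegree hρ, h4, Nat.cast_zero]
      have hρ0 := char_eq_zero_of_one_eq_zero hρ hρ1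
      have h5 := congrFun hsum k
      rw [hρ0] at h5
      simpa using h5
  have hval : ∀ k : H, indFun H η (k : G) =
      (∑ ξ : IrrCharacter G, classInner (indFun H η) (ξ : G → ℂ)) * η k := by
    intro k
    have e := congrFun hexp (k : G)
    rw [Finset.sum_apply] at e
    rw [e, Finset.sum_mul]
    refine Finset.sum_congr rfl fun ξ _ => ?_
    rw [Pi.smul_apply, smul_eq_mul]
    exact hterm ξ k
  have h1 := hval 1
  rw [Subgroup.coe_one, indFun_one] at h1
  have hη1 : η 1 ≠ 0 := by
    rw [irr_one_eq_charDegree hη, hdeg]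
    have := hb.one_le
    exact_mod_cast (by omega : b ≠ 0)
  have hc := mul_right_cancel₀ hη1 h1
  rw [hval k, ← hc]

/-- **Lemma V.** -/
theorem conj_mem_of_ne_zero {b : ℕ} (hb : Bdd G b) (H : Subgroup G) {η : H → ℂ}
    (hη : IsIrrCharacter H η) (hdeg : charDegree η = b) (h : H) (hne : η h ≠ 0) (g : G) :
    g * (h : G) * g⁻¹ ∈ H := by
  classical
  letI : Fintype G := Fintype.ofFinite G
  letI : Fintype H := Fintype.ofFinite H
  obtain ⟨χ, hχ, hχdeg, hχη⟩ := exists_ext hb H hη hdeg
  have hχcf := isClassFunction_of_isIrrCharacter hχ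
  have hres := indFun_restrict hb H hη hdeg h
  rw [indFun_apply] at hres
  -- evaluate the sum
  have hterm : ∀ x : G, extendByZero H η (x⁻¹ * (h : G) * x) =
      if x⁻¹ * (h : G) * x ∈ H then η h else 0 := by
    intro x
    split_ifs with hx
    · rw [extendByZero_of_mem H η hx, ← hχη]
      show χ (x⁻¹ * (h : G) * x) = χ h
      have := hχcf (h : G) x⁻¹
      rwa [inv_inv] at this
    · exact extendByZero_of_not_mem H η hx
  rw [Finset.sum_congr rfl (fun x _ => hterm x), ← Finset.sum_filter, Finset.sum_const,
    nsmul_eq_mul, ← mul_assoc] at hres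
  have hcard := mul_right_cancel₀ hne hres
  have hH : (Nat.card H : ℂ) ≠ 0 := by
    have : Nat.card H ≠ 0 := Nat.card_pos.ne'
    exact_mod_cast this
  have hcard2 : ((Finset.univ.filter fun x : G => x⁻¹ * (h : G) * x ∈ H).card : ℂ) =
      (Nat.card H : ℂ) * (H.index : ℂ) := by
    rw [← hcard]
    field_simp
  have hcard3 : (Finset.univ.filter fun x : G => x⁻¹ * (h : G) * x ∈ H).card = Fintype.card G := by
    rw [← Nat.card_eq_fintype_card, ← H.card_mul_index]
    exact_mod_cast hcard2
  have huniv := (Finset.card_eq_iff_eq_univ _).1 hcard3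
  have hmem : g⁻¹ ∈ (Finset.univ.filter fun x : G => x⁻¹ * (h : G) * x ∈ H) := by
    rw [huniv]
    exact Finset.mem_univ _
  rw [Finset.mem_filter, inv_inv] at hmem
  exact hmem.2

end Cfsg.Agent.Helper18.IPV
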