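import Mathlib
import Cfsg.Agent.Lib.Helper18.InvC2Defs
import Cfsg.Agent.Lib.Helper13.InvNTabE6

/-! GENERATED (helper18, /tmp/c2/final.py): INVN Part C2 data for type E6: the fusion datum of the standard `D₄`
subsystem, the representatives, and for every frame of `tabE6` a chain leading to a representative. -/

set_option autoImplicit false
set_option maxRecDepth 100000

namespace Cfsg.Agent.Helper13.InvN

open Cfsg Cfsg.Lie Cfsg.Agent.Lead.Chev

/-- the fusion datum of type E6 -/
def fdE6 : FuseData := ⟨[24, 28, 40, 50, 42, 46, 53, 32, 44, 48, 37, 51], [2, 1, 5, 0], [5, 6, 4], [5, 6, 4, 10]⟩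

theorem fuseChk_E6 : fuseChk chevE6 fdE6 = true := by decide +kernel

/-- the representatives of type E6 -/
def repsE6 : List (List ℕ) := [[71], [68, 66], [55, 65, 67]]

/-- the chains of type E6 -/
def c2TabE6 : List (List C2Step × ℕ) := [
  ([.move [0, 2, 3, 1, 5, 4, 3, 1, 2, 0, 3, 2], .perm [46, 53, 42, 37], .down, .move [3, 1, 2, 3, 4, 3, 2, 0, 5, 4, 3], .perm [55, 65, 67]], 2),
  ([.move [0, 2, 0]], 2),
  ([.move [0, 2, 0, 3, 1]], 2),
  ([.move [2, 3, 1], .perm [68, 66]], 1),
  ([], 0),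
  ([], 0)]

theorem c2TabChk_E6 : c2TabChk chevE6 commWs_E6 fdE6 tabE6.frames repsE6 c2TabE6 = true := by
  decide +kernel

end Cfsg.Agent.Helper13.InvN
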