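import Mathlib
import Cfsg.Agent.Lib.Helper18.InvC2Defs
import Cfsg.Agent.Lib.Helper13.InvNTabE7

/-! GENERATED (helper18, /tmp/c2/final.py): INVN Part C2 data for type E7: the fusion datum of the standard `D₄`
subsystem, the representatives, and for every frame of `tabE7` a chain leading to a representative. -/

set_option autoImplicit false
set_option maxRecDepth 100000

namespace Cfsg.Agent.Helper13.InvN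

open Cfsg Cfsg.Lie Cfsg.Agent.Lead.Chev

/-- the fusion datum of type E7 -/
def fdE7 : FuseData := ⟨[46, 51, 70, 83, 73, 78, 87, 56, 75, 80, 66, 84], [2, 1, 5, 0], [5, 6, 4], [5, 6, 4, 10]⟩

theorem fuseChk_E7 : fuseChk chevE7 fdE7 = true := by decide +kernel

/-- the representatives of type E7 -/
def repsE7 : List (List ℕ) := [[63], [63, 66], [63, 66, 78], [78, 73, 66], [63, 66, 78, 73]]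

/-- the chains of type E7 -/
def c2TabE7 : List (List C2Step × ℕ) := [
  ([.move [0, 2, 3, 1, 5, 4, 3, 1, 2, 0, 3, 2, 6, 5, 4, 3, 1, 2, 0, 3, 2, 4, 3, 5], .perm [78, 87, 73, 66, 63, 92, 125], .down, .move [0, 2, 5, 4, 3, 1, 2, 0, 6, 5, 4, 3, 1, 2, 0, 3], .perm [78, 87, 73, 66, 63, 125], .down, .move [0, 2, 5, 4, 3, 1, 2, 0, 6, 5, 4, 3, 1, 2, 0, 3], .perm [78, 87, 73, 66, 63], .down, .move [3, 1, 2, 3], .perm [63, 66, 78, 73]], 4),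
  ([.move [0, 2, 3, 1, 5, 4, 3, 2, 0, 6, 5, 4, 3, 1, 2, 3, 4, 5], .perm [78, 87, 73, 66, 92, 125], .down, .move [0, 2, 3, 1, 5, 4, 3, 1, 2, 0, 3, 2, 6, 5, 4, 3, 1, 2, 0, 3, 2, 4, 3, 5], .perm [78, 87, 73, 66, 63], .down, .move [3, 1, 2, 3], .perm [63, 66, 78, 73]], 4),
  ([.move [0, 2, 3, 1, 5, 4, 3, 1, 2, 0, 3, 2, 6, 5, 4, 3, 1, 2, 0, 3, 2, 4, 3, 5], .perm [78, 87, 73, 66, 92, 125], .down, .move [0, 2, 3, 1, 5, 4, 3, 1, 2, 0, 3, 2, 6, 5, 4, 3, 1, 2, 0, 3, 2, 4, 3, 5], .perm [78, 87, 73, 66, 63], .down, .move [3, 1, 2, 3], .perm [63, 66, 78, 73]], 4),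
  ([.move [0, 5, 4, 3, 1, 6, 5, 4, 3, 2], .perm [78, 87, 73, 66, 125], .down, .move [3, 1, 2, 0, 3, 2, 5, 4, 3, 1, 2, 0, 6, 5, 4, 3, 1, 2, 0, 3], .perm [63, 66, 78, 73]], 4),
  ([.move [0, 2, 3, 1, 5, 4, 3, 1, 2, 0, 6, 5, 4, 3, 1, 2, 0, 3, 4, 5], .perm [78, 87, 73, 66, 92, 125], .down, .move [0, 2, 3, 1, 5, 4, 3, 1, 2, 0, 3, 2, 6, 5, 4, 3, 1, 2, 0, 3, 2, 4, 3, 5], .perm [78, 87, 73, 66, 63], .down, .move [3, 1, 2, 3], .perm [63, 66, 78, 73]], 4),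
  ([.move [5, 4, 3, 1, 6, 5, 4, 3], .perm [78, 87, 73, 66, 125], .down, .move [3, 1, 2, 0, 3, 2, 5, 4, 3, 1, 2, 0, 6, 5, 4, 3, 1, 2, 0, 3], .perm [63, 66, 78, 73]], 4),
  ([.move [0, 2, 3, 1, 5, 4, 3, 1, 2, 0, 3, 6, 5, 4, 3, 1, 2, 0, 3, 2, 4, 5], .perm [78, 87, 73, 66, 92, 125], .down, .move [0, 2, 3, 1, 5, 4, 3, 1, 2, 0, 3, 2, 6, 5, 4, 3, 1, 2, 0, 3, 2, 4, 3, 5], .perm [78, 87, 73, 66, 63], .down, .move [3, 1, 2, 3], .perm [63, 66, 78, 73]], 4),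
  ([.move [0, 5, 4, 3, 1, 2, 6, 5, 4, 3, 1, 2], .perm [78, 87, 73, 66, 125], .down, .move [3, 1, 2, 0, 3, 2, 5, 4, 3, 1, 2, 0, 6, 5, 4, 3, 1, 2, 0, 3], .perm [63, 66, 78, 73]], 4),
  ([.move [0, 2, 3, 1, 5, 4, 3, 1, 2, 0, 3, 2, 6, 5, 4, 3, 1, 2, 0, 3, 2, 4, 3, 5], .perm [78, 87, 73, 66, 63, 125], .down, .move [0, 2, 5, 4, 3, 1, 2, 0, 6, 5, 4, 3, 1, 2, 0, 3], .perm [78, 87, 73, 66, 63], .down, .move [3, 1, 2, 3], .perm [63, 66, 78, 73]], 4),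
  ([.move [0, 2, 5, 4, 3, 2, 0, 6, 5, 4, 3, 1, 2, 3], .perm [78, 87, 73, 66, 125], .down, .move [3, 1, 2, 0, 3, 2, 5, 4, 3, 1, 2, 0, 6, 5, 4, 3, 1, 2, 0, 3], .perm [63, 66, 78, 73]], 4),
  ([.move [0, 2, 3, 1, 5, 4, 3, 1, 2, 0, 3, 2, 6, 5, 4, 3, 1, 2, 0, 3, 2, 4, 3, 5], .perm [78, 87, 73, 66, 125], .down, .move [3, 1, 2, 0, 3, 2, 5, 4, 3, 1, 2, 0, 6, 5, 4, 3, 1, 2, 0, 3], .perm [63, 66, 78, 73]], 4),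
  ([.move [0, 3, 1, 2, 0, 3, 2, 4, 5, 4, 3, 1, 2, 0, 3, 2, 4, 3, 1, 5, 4, 3, 2, 6, 5, 4, 3, 2], .perm [63, 66, 78, 73]], 4),
  ([.move [0, 2, 5, 4, 3, 1, 2, 0, 6, 5, 4, 3, 1, 2, 0, 3], .perm [78, 87, 73, 66, 125], .down, .move [3, 1, 2, 0, 3, 2, 5, 4, 3, 1, 2, 0, 6, 5, 4, 3, 1, 2, 0, 3], .perm [63, 66, 78, 73]], 4),
  ([.move [0, 3, 1, 2, 0, 3, 2, 4, 5, 4, 3, 1, 2, 0, 3, 2, 4, 3, 1, 5, 4, 3, 2, 0, 6, 5, 4, 3], .perm [63, 66, 78, 73]], 4),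
  ([.move [3, 1, 2, 0, 3, 2, 5, 4, 3, 1, 2, 0, 3, 2, 4, 3, 1, 5, 4, 3, 2, 0, 6, 5]], 2),
  ([.move [0, 2, 3, 1, 5, 4, 3, 1, 2, 3, 4, 6, 5, 4, 3, 1, 2, 0, 3, 2, 4, 3], .perm [78, 87, 73, 66, 92, 125], .down, .move [0, 2, 3, 1, 5, 4, 3, 1, 2, 0, 3, 2, 6, 5, 4, 3, 1, 2, 0, 3, 2, 4, 3, 5], .perm [78, 87, 73, 66, 63], .down, .move [3, 1, 2, 3], .perm [63, 66, 78, 73]], 4),
  ([.move [0, 2, 3, 5, 4, 3, 2, 0, 6, 5, 4, 3, 1, 2, 3, 4], .perm [78, 87, 73, 66, 125], .down, .move [3, 1, 2, 0, 3, 2, 5, 4, 3, 1, 2, 0, 6, 5, 4, 3, 1, 2, 0, 3], .perm [63, 66, 78, 73]], 4),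
  ([.move [0, 2, 3, 1, 5, 4, 3, 1, 2, 3, 4, 6, 5, 4, 3, 1, 2, 0, 3, 2, 4, 3], .perm [78, 87, 73, 66, 125], .down, .move [3, 1, 2, 0, 3, 2, 5, 4, 3, 1, 2, 0, 6, 5, 4, 3, 1, 2, 0, 3], .perm [63, 66, 78, 73]], 4),
  ([.move [0, 3, 1, 2, 0, 3, 2, 4, 5, 4, 3, 1, 2, 0, 3, 2, 4, 3, 1, 5, 6, 5, 4, 3, 1, 2, 3, 4], .perm [63, 66, 78, 73]], 4),
  ([.move [0, 2, 3, 5, 4, 3, 1, 2, 0, 6, 5, 4, 3, 1, 2, 0, 3, 4], .perm [78, 87, 73, 66, 125], .down, .move [3, 1, 2, 0, 3, 2, 5, 4, 3, 1, 2, 0, 6, 5, 4, 3, 1, 2, 0, 3], .perm [63, 66, 78, 73]], 4),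
  ([.move [0, 3, 1, 2, 0, 3, 2, 4, 5, 4, 3, 1, 2, 0, 3, 2, 4, 3, 5, 6, 5, 4, 3, 1, 2, 0, 3, 4], .perm [63, 66, 78, 73]], 4),
  ([.move [0, 2, 3, 5, 4, 3, 1, 2, 0, 3, 6, 5, 4, 3, 1, 2, 0, 3, 2, 4], .perm [78, 87, 73, 66, 125], .down, .move [3, 1, 2, 0, 3, 2, 5, 4, 3, 1, 2, 0, 6, 5, 4, 3, 1, 2, 0, 3], .perm [63, 66, 78, 73]], 4),
  ([.move [0, 3, 1, 2, 0, 3, 4, 3, 5, 4, 3, 1, 2, 0, 3, 2, 4, 3, 1, 5, 4, 3, 6, 5, 4, 3, 1, 2], .perm [63, 66, 78, 73]], 4),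
  ([.move [0, 2, 3, 1, 5, 4, 3, 1, 2, 0, 3, 2, 6, 5, 4, 3, 1, 2, 0, 3, 2, 4, 3, 5], .perm [78, 87, 73, 66, 63, 92], .down, .move [5, 4, 6, 5], .perm [78, 87, 73, 66, 92], .down, .move [3, 1, 2, 3, 5, 4, 3, 1, 2, 3, 4, 5], .perm [63, 66, 78, 73]], 4),
  ([.move [0, 2, 3, 1, 5, 4, 3, 2, 0, 6, 5, 4, 3, 1, 2, 3, 4, 5], .perm [78, 87, 73, 66, 92], .down, .move [3, 1, 2, 3, 5, 4, 3, 1, 2, 3, 4, 5], .perm [63, 66, 78, 73]], 4),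
  ([.move [0, 2, 3, 1, 5, 4, 3, 1, 2, 0, 3, 2, 6, 5, 4, 3, 1, 2, 0, 3, 2, 4, 3, 5], .perm [78, 87, 73, 66, 92], .down, .move [3, 1, 2, 3, 5, 4, 3, 1, 2, 3, 4, 5], .perm [63, 66, 78, 73]], 4),
  ([.move [0, 3, 1, 2, 0, 3, 2, 4, 5, 4, 3, 1, 2, 0, 3, 2, 4, 3, 1, 6, 5, 4, 3, 1, 2, 3, 4, 5], .perm [63, 66, 78, 73]], 4),
  ([.move [0, 2, 3, 1, 5, 4, 3, 1, 2, 0, 6, 5, 4, 3, 1, 2, 0, 3, 4, 5], .perm [78, 87, 73, 66, 92], .down, .move [3, 1, 2, 3, 5, 4, 3, 1, 2, 3, 4, 5], .perm [63, 66, 78, 73]], 4),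
  ([.move [0, 3, 1, 2, 0, 3, 2, 4, 5, 4, 3, 1, 2, 0, 3, 2, 4, 3, 6, 5, 4, 3, 1, 2, 0, 3, 4, 5], .perm [63, 66, 78, 73]], 4),
  ([.move [0, 2, 3, 1, 5, 4, 3, 1, 2, 0, 3, 6, 5, 4, 3, 1, 2, 0, 3, 2, 4, 5], .perm [78, 87, 73, 66, 92], .down, .move [3, 1, 2, 3, 5, 4, 3, 1, 2, 3, 4, 5], .perm [63, 66, 78, 73]], 4),
  ([.move [0, 3, 1, 2, 0, 3, 4, 3, 5, 4, 3, 1, 2, 0, 3, 2, 4, 3, 1, 6, 5, 4, 3, 1, 2, 3, 4, 5], .perm [63, 66, 78, 73]], 4),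
  ([.move [0, 2, 3, 1, 5, 4, 3, 1, 2, 0, 3, 2, 6, 5, 4, 3, 1, 2, 0, 3, 2, 4, 3, 5], .perm [78, 87, 73, 66, 63], .down, .move [3, 1, 2, 3], .perm [63, 66, 78, 73]], 4),
  ([.move [0, 3, 1, 2, 0, 3, 4, 3, 5, 4, 3, 1, 2, 0, 3, 2, 6, 5, 4, 3, 1, 2, 0, 3, 2, 4, 3, 5], .perm [63, 66, 78, 73]], 4),
  ([.move [0, 2, 3, 1, 5, 4, 3, 1, 2, 0, 3, 2, 6, 5, 4, 3, 1, 2, 0, 3, 2, 4, 3, 5], .perm [78, 87, 73, 66], .down, .move [3, 1, 2, 3], .perm [78, 73, 66]], 3),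
  ([.move [0, 3, 1, 2, 0, 3, 4, 3, 5, 4, 3, 1, 2, 0, 3, 2, 6, 5, 4, 3, 1, 2, 0, 3, 2, 4, 3, 5], .perm [78, 73, 66]], 3),
  ([.move [0, 3, 1, 2, 3, 4, 3, 2, 5, 4, 3, 1, 2, 0, 3, 2, 4, 3, 5, 4, 6, 5, 4, 3, 1, 2, 0, 3], .perm [63, 66, 78, 73]], 4),
  ([.move [0, 3, 1, 2, 0, 3, 2, 4, 5, 4, 3, 1, 2, 0, 3, 4, 6, 5, 4, 3, 1, 2, 0, 3, 2, 4, 3, 5], .perm [78, 73, 66]], 3),
  ([.move [3, 1, 2, 0, 3, 2, 5, 4, 3, 1, 2, 0, 3, 2, 4, 3, 1, 5, 4, 3, 2, 0, 6, 5]], 1),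
  ([.move [5, 4, 3, 1, 2, 0, 3, 2, 4, 3, 1, 5, 4, 3, 2, 0]], 0),
  ([], 0)]

theorem c2TabChk_E7 : c2TabChk chevE7 commWs_E7 fdE7 tabE7.frames repsE7 c2TabE7 = true := by
  decide +kernel

end Cfsg.Agent.Helper13.InvN
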