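import Mathlib
import Cfsg.Agent.Lib.Helper18.InvC2Defs
import Cfsg.Agent.Lib.Helper13.InvNTabE8

/-! GENERATED (helper18, /tmp/c2/final.py): INVN Part C2 data for type E8: the fusion datum of the standard `D₄`
subsystem, the representatives, and for every frame of `tabE8` a chain leading to a representative. -/

set_option autoImplicit false
set_option maxRecDepth 100000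

namespace Cfsg.Agent.Helper13.InvN

open Cfsg Cfsg.Lie Cfsg.Agent.Lead.Chev

/-- the fusion datum of type E8 -/
def fdE8 : FuseData := ⟨[97, 103, 131, 147, 135, 141, 152, 109, 137, 143, 126, 148], [2, 1, 5, 0], [5, 6, 4], [5, 6, 4, 10]⟩

theorem fuseChk_E8 : fuseChk chevE8 fdE8 = true := by decide +kernel

/-- the representatives of type E8 -/
def repsE8 : List (List ℕ) := [[239], [232, 233], [228, 222, 218], [226, 220, 213, 216]]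

/-- the chains of type E8 -/
def c2TabE8 : List (List C2Step × ℕ) := [
  ([.move [0, 2, 3, 1, 5, 4, 3, 1, 2, 0, 3, 2, 6, 5, 4, 3, 1, 2, 0, 3, 2, 4, 3, 5, 7, 6, 5, 4, 3, 1, 2, 0, 3, 2, 4, 3, 1, 5, 4, 3, 2, 0, 6, 5, 4, 7, 6, 5], .perm [141, 152, 135, 126, 239, 159, 121, 226], .down, .move [0, 2, 3, 1, 5, 4, 3, 1, 2, 0, 3, 2, 6, 5, 4, 3, 1, 2, 0, 3, 2, 4, 3, 5, 7, 6, 5, 4, 3, 1, 2, 3, 4, 5, 6, 7], .perm [141, 152, 135, 126, 121, 226, 239], .down, .move [0, 2, 5, 4, 3, 1, 2, 0, 6, 5, 4, 3, 1, 2, 0, 3], .perm [141, 152, 135, 126, 121, 239], .down, .move [0, 2, 5, 4, 3, 1, 2, 0, 6, 5, 4, 3, 1, 2, 0, 3, 7, 6, 5, 4, 3, 1, 2, 3, 4, 5, 6, 7], .perm [141, 152, 135, 126, 121], .down, .move [1, 3, 2, 0, 4, 3, 1, 2, 3, 4,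 5, 4, 3, 1, 2, 0, 3, 2, 4, 3, 6, 5, 4, 3, 1, 2, 0, 3, 4, 5, 6, 7, 6, 5, 4, 3, 1, 2, 0, 3, 4, 5], .perm [226, 220, 213, 216]], 3),
  ([.move [0, 2, 3, 1, 5, 4, 3, 1, 2, 0, 3, 2, 6, 5, 4, 3, 1, 2, 0, 3, 2, 4, 3, 5, 7, 6, 5, 4, 3, 1, 2, 0, 3, 2, 4, 3, 1, 5, 4, 3, 6, 5, 4, 7, 6, 5], .perm [141, 152, 135, 126, 239, 159, 226], .down, .move [0, 2, 3, 1, 5, 4, 3, 1, 2, 0, 3, 2, 6, 5, 4, 3, 1, 2, 0, 3, 2, 4, 3, 5, 7, 6, 5, 4, 3, 1, 2, 3, 4, 5, 6, 7], .perm [141, 152, 135, 126, 121, 239], .down, .move [0, 2, 5, 4, 3, 1, 2, 0, 6, 5, 4, 3, 1, 2, 0, 3, 7, 6, 5, 4, 3, 1, 2, 3, 4, 5, 6, 7], .perm [141, 152, 135, 126, 121], .down, .move [1, 3, 2, 0, 4, 3, 1, 2, 3, 4, 5, 4, 3, 1, 2, 0, 3, 2, 4, 3, 6, 5, 4, 3, 1, 2, 0, 3, 4,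 5, 6, 7, 6, 5, 4, 3, 1, 2, 0, 3, 4, 5], .perm [226, 220, 213, 216]], 3),
  ([.move [0, 2, 3, 1, 5, 4, 3, 1, 2, 0, 3, 2, 6, 5, 4, 3, 1, 2, 0, 3, 2, 4, 3, 5, 7, 6, 5, 4, 3, 1, 2, 0, 3, 2, 4, 3, 1, 5, 4, 3, 2, 0, 6, 5, 4, 7, 6, 5], .perm [141, 152, 135, 126, 239, 121, 226], .down, .move [0, 2, 5, 4, 3, 1, 2, 0, 6, 5, 4, 3, 1, 2, 0, 3], .perm [141, 152, 135, 126, 121, 239], .down, .move [0, 2, 5, 4, 3, 1, 2, 0, 6, 5, 4, 3, 1, 2, 0, 3, 7, 6, 5, 4, 3, 1, 2, 3, 4, 5, 6, 7], .perm [141, 152, 135, 126, 121], .down, .move [1, 3, 2, 0, 4, 3, 1, 2, 3, 4, 5, 4, 3, 1, 2, 0, 3, 2, 4, 3, 6, 5, 4, 3, 1, 2, 0, 3, 4, 5, 6, 7, 6, 5, 4, 3, 1, 2, 0, 3, 4, 5], .perm [226, 220, 213, 216]], 3),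
  ([.move [0, 2, 3, 1, 5, 4, 3, 1, 2, 0, 3, 2, 6, 5, 4, 3, 1, 2, 0, 3, 2, 4, 3, 5, 7, 6, 5, 4, 3, 1, 2, 0, 3, 2, 4, 3, 1, 5, 4, 3, 6, 5, 4, 7, 6, 5], .perm [141, 152, 135, 126, 239, 226], .down, .move [0, 2, 3, 1, 5, 4, 3, 1, 2, 0, 6, 5, 4, 3, 1, 2, 0, 3, 4, 5, 7, 6, 5, 4, 3, 1, 2, 0, 3, 2, 4, 3, 1, 5, 4, 3, 2, 0, 6, 7], .perm [141, 152, 135, 126, 159], .down, .move [1, 3, 1, 2, 0, 4, 3, 1, 2, 0, 3, 4, 5, 4, 3, 1, 2, 0, 3, 2, 4, 3, 1, 6, 5, 4, 3, 1, 2, 3, 4, 5, 6, 7, 6, 5, 4, 3, 2, 0], .perm [226, 220, 213, 216]], 3),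
  ([.move [0, 2, 3, 1, 5, 4, 3, 1, 2, 0, 3, 2, 6, 5, 4, 3, 1, 2, 0, 3, 2, 4, 3, 5, 7, 6, 5, 4, 3, 1, 2, 0, 3, 2, 4, 3, 1, 5, 4, 3, 2, 0, 6, 5, 4, 7, 6, 5], .perm [141, 152, 135, 126, 239, 159, 226], .down, .move [0, 2, 3, 1, 5, 4, 3, 1, 2, 0, 3, 2, 6, 5, 4, 3, 1, 2, 0, 3, 2, 4, 3, 5, 7, 6, 5, 4, 3, 1, 2, 3, 4, 5, 6, 7], .perm [141, 152, 135, 126, 121, 239], .down, .move [0, 2, 5, 4, 3, 1, 2, 0, 6, 5, 4, 3, 1, 2, 0, 3, 7, 6, 5, 4, 3, 1, 2, 3, 4, 5, 6, 7], .perm [141, 152, 135, 126, 121], .down, .move [1, 3, 2, 0, 4, 3, 1, 2, 3, 4, 5, 4, 3, 1, 2, 0, 3, 2, 4, 3, 6, 5, 4, 3, 1, 2, 0, 3, 4, 5, 6, 7, 6, 5, 4, 3, 1, 2, 0, 3, 4, 5], .perm [226, 220, 213, 216]], 3),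
  ([.move [0, 2, 3, 1, 5, 4, 3, 1, 2, 0, 3, 2, 6, 5, 4, 3, 1, 2, 0, 3, 2, 4, 3, 5, 7, 6, 5, 4, 3, 1, 2, 0, 3, 2, 4, 3, 1, 5, 4, 3, 2, 0, 6, 5, 4, 7, 6, 5], .perm [141, 152, 135, 126, 239, 226], .down, .move [0, 2, 3, 1, 5, 4, 3, 1, 2, 0, 6, 5, 4, 3, 1, 2, 0, 3, 4, 5, 7, 6, 5, 4, 3, 1, 2, 0, 3, 2, 4, 3, 1, 5, 4, 3, 2, 0, 6, 7], .perm [141, 152, 135, 126, 159], .down, .move [1, 3, 1, 2, 0, 4, 3, 1, 2, 0, 3, 4, 5, 4, 3, 1, 2, 0, 3, 2, 4, 3, 1, 6, 5, 4, 3, 1, 2, 3, 4, 5, 6, 7, 6, 5, 4, 3, 2, 0], .perm [226, 220, 213, 216]], 3),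
  ([.move [0, 2, 3, 1, 5, 4, 3, 1, 2, 0, 3, 2, 6, 5, 4, 3, 1, 2, 0, 3, 2, 4, 3, 5, 7, 6, 5, 4, 3, 1, 2, 0, 3, 2, 4, 3, 1, 5, 4, 3, 2, 0, 6, 5, 4, 7, 6, 5], .perm [141, 152, 135, 126, 161, 237, 228], .down, .move [0, 2, 3, 1, 5, 4, 3, 1, 2, 0, 3, 2, 6, 5, 4, 3, 1, 2, 0, 3, 2, 4, 3, 5, 7, 6, 5, 4, 3, 1, 2, 3, 4, 5], .perm [141, 152, 135, 126, 121, 239], .down, .move [0, 2, 5, 4, 3, 1, 2, 0, 6, 5, 4, 3, 1, 2, 0, 3, 7, 6, 5, 4, 3, 1, 2, 3, 4, 5, 6, 7], .perm [141, 152, 135, 126, 121], .down, .move [1, 3, 2, 0, 4, 3, 1, 2, 3, 4, 5, 4, 3, 1, 2, 0, 3, 2, 4, 3, 6, 5, 4, 3, 1, 2, 0, 3, 4, 5, 6, 7, 6, 5, 4, 3, 1, 2, 0, 3, 4, 5], .perm [226, 220, 213, 216]], 3),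
  ([.move [0, 2, 3, 1, 5, 4, 3, 1, 2, 3, 4, 6, 5, 4, 3, 1, 2, 0, 3, 2, 4, 3, 7, 6, 5, 4, 3, 1, 2, 0, 3, 2, 4, 3, 1, 5, 4, 3, 6, 5, 4, 7, 6, 5], .perm [141, 152, 135, 126, 239, 226], .down, .move [0, 2, 3, 1, 5, 4, 3, 1, 2, 0, 6, 5, 4, 3, 1, 2, 0, 3, 4, 5, 7, 6, 5, 4, 3, 1, 2, 0, 3, 2, 4, 3, 1, 5, 4, 3, 2, 0, 6, 7], .perm [141, 152, 135, 126, 159], .down, .move [1, 3, 1, 2, 0, 4, 3, 1, 2, 0, 3, 4, 5, 4, 3, 1, 2, 0, 3, 2, 4, 3, 1, 6, 5, 4, 3, 1, 2, 3, 4, 5, 6, 7, 6, 5, 4, 3, 2, 0], .perm [226, 220, 213, 216]], 3),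
  ([.move [0, 2, 3, 1, 5, 4, 3, 1, 2, 0, 3, 2, 6, 5, 4, 3, 1, 2, 0, 3, 2, 4, 3, 5, 7, 6, 5, 4, 3, 1, 2, 0, 3, 2, 4, 3, 1, 5, 4, 3, 2, 0, 6, 5, 4, 7, 6, 5], .perm [141, 152, 135, 126, 239, 159, 121], .down, .move [0, 2, 3, 1, 5, 4, 3, 1, 2, 0, 3, 2, 6, 5, 4, 3, 1, 2, 0, 3, 2, 4, 3, 5, 7, 6, 5, 4, 3, 1, 2, 3, 4, 5, 6, 7], .perm [141, 152, 135, 126, 121, 226], .down, .move [0, 2, 5, 4, 3, 1, 2, 0, 6, 5, 4, 3, 1, 2, 0, 3], .perm [141, 152, 135, 126, 121], .down, .move [1, 3, 2, 0, 4, 3, 1, 2, 3, 4, 5, 4, 3, 1, 2, 0, 3, 2, 4, 3, 6, 5, 4, 3, 1, 2, 0, 3, 4, 5, 6, 7, 6, 5, 4, 3, 1, 2, 0, 3, 4, 5], .perm [226, 220, 213, 216]], 3),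
  ([.move [0, 2, 3, 1, 5, 4, 3, 1, 2, 0, 3, 2, 6, 5, 4, 3, 1, 2, 0, 3, 2, 4, 3, 5, 7, 6, 5, 4, 3, 1, 2, 0, 3, 2, 4, 3, 1, 5, 4, 3, 6, 5, 4, 7, 6, 5], .perm [141, 152, 135, 126, 239, 159], .down, .move [0, 2, 3, 1, 5, 4, 3, 1, 2, 0, 3, 2, 6, 5, 4, 3, 1, 2, 0, 3, 2, 4, 3, 5, 7, 6, 5, 4, 3, 1, 2, 3, 4, 5, 6, 7], .perm [141, 152, 135, 126, 121], .down, .move [1, 3, 2, 0, 4, 3, 1, 2, 3, 4, 5, 4, 3, 1, 2, 0, 3, 2, 4, 3, 6, 5, 4, 3, 1, 2, 0, 3, 4, 5, 6, 7, 6, 5, 4, 3, 1, 2, 0, 3, 4, 5], .perm [226, 220, 213, 216]], 3),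
  ([.move [0, 2, 3, 1, 5, 4, 3, 1, 2, 0, 3, 2, 6, 5, 4, 3, 1, 2, 0, 3, 2, 4, 3, 5, 7, 6, 5, 4, 3, 1, 2, 0, 3, 2, 4, 3, 1, 5, 4, 3, 2, 0, 6, 5, 4, 7, 6, 5], .perm [141, 152, 135, 126, 239, 121], .down, .move [0, 2, 5, 4, 3, 1, 2, 0, 6, 5, 4, 3, 1, 2, 0, 3, 7, 6, 5, 4, 3, 1, 2, 3, 4, 5, 6, 7], .perm [141, 152, 135, 126, 121], .down, .move [1, 3, 2, 0, 4, 3, 1, 2, 3, 4, 5, 4, 3, 1, 2, 0, 3, 2, 4, 3, 6, 5, 4, 3, 1, 2, 0, 3, 4, 5, 6, 7, 6, 5, 4, 3, 1, 2, 0, 3, 4, 5], .perm [226, 220, 213, 216]], 3),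
  ([.move [0, 2, 3, 1, 5, 4, 3, 1, 2, 0, 3, 2, 6, 5, 4, 3, 1, 2, 0, 3, 2, 4, 3, 5, 7, 6, 5, 4, 3, 1, 2, 0, 3, 2, 4, 3, 1, 5, 4, 3, 6, 5, 4, 7, 6, 5], .perm [141, 152, 135, 126, 239], .down, .move [0, 1, 3, 2, 4, 3, 5, 6, 5, 4, 3, 1, 2, 0, 3, 2, 4, 3, 1, 5, 4, 3, 2, 0, 6, 5, 4, 7, 6, 5, 4, 3], .perm [226, 220, 213, 216]], 3),
  ([.move [0, 2, 3, 1, 5, 4, 3, 1, 2, 0, 3, 2, 6, 5, 4, 3, 1, 2, 0, 3, 2, 4, 3, 5, 7, 6, 5, 4, 3, 1, 2, 0, 3, 2, 4, 3, 1, 5, 4, 3, 2, 0, 6, 5, 4, 7, 6, 5], .perm [141, 152, 135, 126, 239, 159], .down, .move [0, 2, 3, 1, 5, 4, 3, 1, 2, 0, 3, 2, 6, 5, 4, 3, 1, 2, 0, 3, 2, 4, 3, 5, 7, 6, 5, 4, 3, 1, 2, 3, 4, 5, 6, 7], .perm [141, 152, 135, 126, 121], .down, .move [1, 3, 2, 0, 4, 3, 1, 2, 3,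 4, 5, 4, 3, 1, 2, 0, 3, 2, 4, 3, 6, 5, 4, 3, 1, 2, 0, 3, 4, 5, 6, 7, 6, 5, 4, 3, 1, 2, 0, 3, 4, 5], .perm [226, 220, 213, 216]], 3),
  ([.move [0, 2, 3, 1, 5, 4, 3, 1, 2, 0, 3, 2, 6, 5, 4, 3, 1, 2, 0, 3, 2, 4, 3, 5, 7, 6, 5, 4, 3, 1, 2, 0, 3, 2, 4, 3, 1, 5, 4, 3, 2, 0, 6, 5, 4, 7, 6, 5], .perm [141, 152, 135, 126, 239], .down, .move [0, 1, 3, 2, 4, 3, 5, 6, 5, 4, 3, 1, 2, 0, 3, 2, 4, 3, 1, 5, 4, 3, 2, 0, 6, 5, 4, 7, 6, 5, 4, 3], .perm [226, 220, 213, 216]], 3),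
  ([.move [0, 2, 3, 1, 5, 4, 3, 1, 2, 0, 3, 2, 6, 5, 4, 3, 1, 2, 0, 3, 2, 4, 3, 5, 7, 6, 5, 4, 3, 1, 2, 0, 3, 2, 4, 3, 1, 5, 4, 3, 2, 0, 6, 5, 4, 7, 6, 5], .perm [141, 152, 135, 126], .down, .move [6, 5, 4, 3, 1, 2, 0, 3, 2, 4, 3, 5, 6, 7, 6, 5, 4, 3, 1, 2, 0, 3, 2, 4, 3, 1, 5, 4, 3, 2, 0, 6, 5, 4, 3, 7, 6, 5], .perm [228, 222, 218]], 2),
  ([.move [0, 2, 3, 1, 5, 4, 3, 1, 2, 0, 3, 2, 6, 5, 4, 3, 1, 2, 0, 3, 2, 4, 3, 5, 7, 6, 5, 4, 3, 1, 2, 0, 3, 2, 4, 3, 1, 5, 4, 3, 2, 0, 6, 5, 7, 6], .perm [141, 152, 135, 126, 239, 159, 121], .down, .move [0, 2, 3, 1, 5, 4, 3, 1, 2, 0, 3, 2, 6, 5, 4, 3, 1, 2, 0, 3, 2, 4, 3, 5, 7, 6, 5, 4, 3, 1, 2, 3, 4, 5, 6, 7], .perm [141, 152, 135, 126, 121, 226], .down, .move [0, 2, 5,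 4, 3, 1, 2, 0, 6, 5, 4, 3, 1, 2, 0, 3], .perm [141, 152, 135, 126, 121], .down, .move [1, 3, 2, 0, 4, 3, 1, 2, 3, 4, 5, 4, 3, 1, 2, 0, 3, 2, 4, 3, 6, 5, 4, 3, 1, 2, 0, 3, 4, 5, 6, 7, 6, 5, 4, 3, 1, 2, 0, 3, 4, 5], .perm [226, 220, 213, 216]], 3),
  ([.move [0, 2, 3, 1, 5, 4, 3, 1, 2, 0, 3, 2, 6, 5, 4, 3, 1, 2, 0, 3, 2, 4, 3, 5, 7, 6, 5, 4, 3, 1, 2, 0, 3, 2, 4, 3, 1, 5, 4, 3, 6, 5, 7, 6], .perm [141, 152, 135, 126, 239, 159], .down, .move [0, 2, 3, 1, 5, 4, 3, 1, 2, 0, 3, 2, 6, 5, 4, 3, 1, 2, 0, 3, 2, 4, 3, 5, 7, 6, 5, 4, 3, 1, 2, 3, 4, 5, 6, 7], .perm [141, 152, 135, 126, 121], .down, .move [1, 3, 2, 0, 4, 3, 1, 2, 3, 4, 5, 4, 3, 1, 2, 0, 3, 2, 4, 3, 6, 5, 4, 3, 1, 2, 0, 3, 4, 5, 6, 7, 6, 5, 4, 3, 1, 2, 0, 3,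 4, 5], .perm [226, 220, 213, 216]], 3),
  ([.move [0, 2, 3, 1, 5, 4, 3, 1, 2, 0, 3, 2, 6, 5, 4, 3, 1, 2, 0, 3, 2, 4, 3, 5, 7, 6, 5, 4, 3, 1, 2, 0, 3, 2, 4, 3, 1, 5, 4, 3, 2, 0, 6, 5, 7, 6], .perm [141, 152, 135, 126, 239, 121], .down, .move [0, 2, 5, 4, 3, 1, 2, 0, 6, 5, 4, 3, 1, 2, 0, 3, 7, 6, 5, 4, 3, 1, 2, 3, 4, 5, 6, 7], .perm [141, 152, 135, 126, 121], .down, .move [1, 3, 2, 0, 4, 3, 1, 2, 3, 4, 5, 4, 3, 1, 2, 0, 3, 2, 4, 3, 6, 5, 4, 3, 1, 2, 0, 3, 4, 5, 6, 7, 6, 5, 4, 3, 1, 2, 0, 3, 4, 5], .perm [226, 220, 213, 216]], 3),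
  ([.move [0, 2, 3, 1, 5, 4, 3, 1, 2, 0, 3, 2, 6, 5, 4, 3, 1, 2, 0, 3, 2, 4, 3, 5, 7, 6, 5, 4, 3, 1, 2, 0, 3, 2, 4, 3, 1, 5, 4, 3, 6, 5, 7, 6], .perm [141, 152, 135, 126, 239], .down, .move [0, 1, 3, 2, 4, 3, 5, 6, 5, 4, 3, 1, 2, 0, 3, 2, 4, 3, 1, 5, 4, 3, 2, 0, 6, 5, 4, 7, 6, 5, 4, 3], .perm [226, 220, 213, 216]], 3),
  ([.move [0, 2, 3, 1, 5, 4, 3, 1, 2, 0, 3, 2, 6, 5, 4, 3, 1, 2, 0, 3, 2, 4, 3, 5, 7, 6, 5, 4, 3, 1, 2, 0, 3, 2, 4, 3, 1, 5, 4, 3, 2, 0, 6, 5, 7, 6], .perm [141, 152, 135, 126, 239, 159], .down, .move [0, 2, 3, 1, 5, 4, 3, 1, 2, 0, 3, 2, 6, 5, 4, 3, 1, 2, 0, 3, 2, 4, 3, 5, 7, 6, 5, 4, 3, 1, 2, 3, 4, 5, 6, 7], .perm [141, 152, 135, 126, 121], .down, .move [1, 3, 2, 0, 4, 3, 1, 2, 3, 4, 5, 4, 3,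 1, 2, 0, 3, 2, 4, 3, 6, 5, 4, 3, 1, 2, 0, 3, 4, 5, 6, 7, 6, 5, 4, 3, 1, 2, 0, 3, 4, 5], .perm [226, 220, 213, 216]], 3),
  ([.move [0, 2, 3, 1, 5, 4, 3, 1, 2, 0, 3, 2, 6, 5, 4, 3, 1, 2, 0, 3, 2, 4, 3, 5, 7, 6, 5, 4, 3, 1, 2, 0, 3, 2, 4, 3, 1, 5, 4, 3, 2, 0, 6, 5, 7, 6], .perm [141, 152, 135, 126, 239], .down, .move [0, 1, 3, 2, 4, 3, 5, 6, 5, 4, 3, 1, 2, 0, 3, 2, 4, 3, 1, 5, 4, 3, 2, 0, 6, 5, 4, 7, 6, 5, 4, 3], .perm [226, 220, 213, 216]], 3),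
  ([.move [0, 2, 3, 1, 5, 4, 3, 1, 2, 0, 3, 6, 5, 4, 3, 1, 2, 0, 3, 2, 4, 5, 7, 6, 5, 4, 3, 1, 2, 0, 3, 2, 4, 3, 1, 5, 4, 3, 2, 0, 6, 5, 7, 6], .perm [141, 152, 135, 126, 239, 159], .down, .move [0, 2, 3, 1, 5, 4, 3, 1, 2, 0, 3, 2, 6, 5, 4, 3, 1, 2, 0, 3, 2, 4, 3, 5, 7, 6, 5, 4, 3, 1, 2, 3, 4, 5, 6, 7], .perm [141, 152, 135, 126, 121], .down, .move [1, 3, 2, 0, 4, 3, 1, 2, 3, 4, 5, 4, 3, 1, 2, 0, 3, 2, 4, 3, 6, 5, 4, 3, 1, 2, 0, 3, 4, 5, 6, 7, 6, 5, 4, 3, 1, 2, 0, 3, 4, 5], .perm [226, 220, 213, 216]], 3),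
  ([.move [0, 2, 3, 1, 5, 4, 3, 1, 2, 0, 3, 2, 6, 5, 4, 3, 1, 2, 0, 3, 2, 4, 3, 5, 7, 6, 5, 4, 3, 1, 2, 0, 3, 2, 4, 3, 5, 4, 6, 5, 7, 6], .perm [141, 152, 135, 126, 239], .down, .move [0, 1, 3, 2, 4, 3, 5, 6, 5, 4, 3, 1, 2, 0, 3, 2, 4, 3, 1, 5, 4, 3, 2, 0, 6, 5, 4, 7, 6, 5, 4, 3], .perm [226, 220, 213, 216]], 3),
  ([.move [0, 2, 3, 1, 5, 4, 3, 1, 2, 0, 3, 2, 6, 5, 4, 3, 1, 2, 0, 3, 2, 4, 3, 5, 7, 6, 5, 4, 3, 1, 2, 0, 3, 2, 4, 3, 1, 5, 4, 3, 2, 0, 6, 7], .perm [141, 152, 135, 126, 239, 159, 121], .down, .move [0, 2, 3, 1, 5, 4, 3, 1, 2, 0, 3, 2, 6, 5, 4, 3, 1, 2, 0, 3, 2, 4, 3, 5, 7, 6, 5, 4, 3, 1, 2, 3, 4, 5, 6, 7], .perm [141, 152, 135, 126, 121, 226], .down, .move [0, 2, 5, 4, 3, 1, 2, 0, 6, 5, 4, 3, 1, 2,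 0, 3], .perm [141, 152, 135, 126, 121], .down, .move [1, 3, 2, 0, 4, 3, 1, 2, 3, 4, 5, 4, 3, 1, 2, 0, 3, 2, 4, 3, 6, 5, 4, 3, 1, 2, 0, 3, 4, 5, 6, 7, 6, 5, 4, 3, 1, 2, 0, 3, 4, 5], .perm [226, 220, 213, 216]], 3),
  ([.move [0, 2, 3, 1, 5, 4, 3, 1, 2, 0, 3, 2, 6, 5, 4, 3, 1, 2, 0, 3, 2, 4, 3, 5, 7, 6, 5, 4, 3, 1, 2, 0, 3, 2, 4, 3, 1, 5, 4, 3, 6, 7], .perm [141, 152, 135, 126, 239, 159], .down, .move [0, 2, 3, 1, 5, 4, 3, 1, 2, 0, 3, 2, 6, 5, 4, 3, 1, 2, 0, 3, 2, 4, 3, 5, 7, 6, 5, 4, 3, 1, 2, 3, 4, 5, 6, 7], .perm [141, 152, 135, 126, 121], .down, .move [1, 3, 2, 0, 4, 3, 1, 2, 3, 4, 5, 4, 3, 1, 2, 0, 3, 2, 4, 3, 6, 5, 4, 3, 1, 2, 0, 3, 4, 5, 6, 7, 6, 5, 4, 3, 1, 2, 0, 3, 4, 5], .perm [226, 220, 213, 216]], 3),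
  ([.move [0, 2, 3, 1, 5, 4, 3, 1, 2, 0, 3, 2, 6, 5, 4, 3, 1, 2, 0, 3, 2, 4, 3, 5, 7, 6, 5, 4, 3, 1, 2, 0, 3, 2, 4, 3, 1, 5, 4, 3, 2, 0, 6, 7], .perm [141, 152, 135, 126, 239, 121], .down, .move [0, 2, 5, 4, 3, 1, 2, 0, 6, 5, 4, 3, 1, 2, 0, 3, 7, 6, 5, 4, 3, 1, 2, 3, 4, 5, 6, 7], .perm [141, 152, 135, 126, 121], .down, .move [1, 3, 2, 0, 4, 3, 1, 2, 3, 4, 5, 4, 3, 1, 2, 0, 3, 2, 4, 3, 6, 5, 4, 3, 1, 2, 0, 3, 4, 5, 6, 7, 6, 5, 4, 3, 1, 2, 0, 3, 4, 5], .perm [226, 220, 213, 216]], 3),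
  ([.move [0, 2, 3, 1, 5, 4, 3, 1, 2, 0, 3, 2, 6, 5, 4, 3, 1, 2, 0, 3, 2, 4, 3, 5, 7, 6, 5, 4, 3, 1, 2, 0, 3, 2, 4, 3, 1, 5, 4, 3, 6, 7], .perm [141, 152, 135, 126, 239], .down, .move [0, 1, 3, 2, 4, 3, 5, 6, 5, 4, 3, 1, 2, 0, 3, 2, 4, 3, 1, 5, 4, 3, 2, 0, 6, 5, 4, 7, 6, 5, 4, 3], .perm [226, 220, 213, 216]], 3),
  ([.move [0, 2, 3, 1, 5, 4, 3, 1, 2, 0, 3, 2, 6, 5, 4, 3, 1, 2, 0, 3, 2, 4, 3, 5, 7, 6, 5, 4, 3, 1, 2, 0, 3, 2, 4, 3, 1, 5, 4, 3, 2, 0, 6, 7], .perm [141, 152, 135, 126, 239, 159], .down, .move [0, 2, 3, 1, 5, 4, 3, 1, 2, 0, 3, 2, 6, 5, 4, 3, 1, 2, 0, 3, 2, 4, 3, 5, 7, 6, 5, 4, 3, 1, 2, 3, 4, 5, 6, 7], .perm [141, 152, 135, 126, 121], .down, .move [1, 3, 2, 0, 4, 3, 1, 2, 3, 4, 5, 4, 3, 1, 2, 0, 3,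 2, 4, 3, 6, 5, 4, 3, 1, 2, 0, 3, 4, 5, 6, 7, 6, 5, 4, 3, 1, 2, 0, 3, 4, 5], .perm [226, 220, 213, 216]], 3),
  ([.move [0, 2, 3, 1, 5, 4, 3, 1, 2, 0, 3, 2, 6, 5, 4, 3, 1, 2, 0, 3, 2, 4, 3, 5, 7, 6, 5, 4, 3, 1, 2, 0, 3, 2, 4, 3, 1, 5, 4, 3, 2, 0, 6, 7], .perm [141, 152, 135, 126, 239], .down, .move [0, 1, 3, 2, 4, 3, 5, 6, 5, 4, 3, 1, 2, 0, 3, 2, 4, 3, 1, 5, 4, 3, 2, 0, 6, 5, 4, 7, 6, 5, 4, 3], .perm [226, 220, 213, 216]], 3),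
  ([.move [0, 2, 3, 1, 5, 4, 3, 1, 2, 0, 3, 6, 5, 4, 3, 1, 2, 0, 3, 2, 4, 5, 7, 6, 5, 4, 3, 1, 2, 0, 3, 2, 4, 3, 1, 5, 4, 3, 2, 0, 6, 7], .perm [141, 152, 135, 126, 239, 159], .down, .move [0, 2, 3, 1, 5, 4, 3, 1, 2, 0, 3, 2, 6, 5, 4, 3, 1, 2, 0, 3, 2, 4, 3, 5, 7, 6, 5, 4, 3, 1, 2, 3, 4, 5, 6, 7], .perm [141, 152, 135, 126, 121], .down, .move [1, 3, 2, 0, 4, 3, 1, 2, 3, 4, 5, 4, 3, 1, 2, 0, 3, 2, 4, 3, 6, 5, 4, 3, 1, 2, 0, 3, 4, 5, 6, 7, 6, 5, 4, 3, 1, 2, 0, 3, 4, 5], .perm [226, 220, 213, 216]], 3),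
  ([.move [0, 2, 3, 1, 5, 4, 3, 1, 2, 0, 3, 2, 6, 5, 4, 3, 1, 2, 0, 3, 2, 4, 3, 5, 7, 6, 5, 4, 3, 1, 2, 0, 3, 2, 4, 3, 5, 4, 6, 7], .perm [141, 152, 135, 126, 239], .down, .move [0, 1, 3, 2, 4, 3, 5, 6, 5, 4, 3, 1, 2, 0, 3, 2, 4, 3, 1, 5, 4, 3, 2, 0, 6, 5, 4, 7, 6, 5, 4, 3], .perm [226, 220, 213, 216]], 3),
  ([.move [0, 2, 3, 1, 5, 4, 3, 1, 2, 0, 6, 5, 4, 3, 1, 2, 0, 3, 4, 5, 7, 6, 5, 4, 3, 1, 2, 0, 3, 2, 4, 3, 1, 5, 4, 3, 2, 0, 6, 7], .perm [141, 152, 135, 126, 239, 159], .down, .move [0, 2, 3, 1, 5, 4, 3, 1, 2, 0, 3, 2, 6, 5, 4, 3, 1, 2, 0, 3, 2, 4, 3, 5, 7, 6, 5, 4, 3, 1, 2, 3, 4, 5, 6, 7], .perm [141, 152, 135, 126, 121], .down, .move [1, 3, 2, 0, 4, 3, 1, 2, 3, 4, 5, 4, 3, 1, 2, 0, 3, 2, 4, 3, 6, 5, 4,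 3, 1, 2, 0, 3, 4, 5, 6, 7, 6, 5, 4, 3, 1, 2, 0, 3, 4, 5], .perm [226, 220, 213, 216]], 3),
  ([.move [0, 2, 3, 1, 5, 4, 3, 1, 2, 0, 3, 2, 6, 5, 4, 3, 1, 2, 0, 3, 2, 4, 3, 5, 7, 6, 5, 4, 3, 1, 2, 0, 3, 2, 4, 5, 6, 7], .perm [141, 152, 135, 126, 239], .down, .move [0, 1, 3, 2, 4, 3, 5, 6, 5, 4, 3, 1, 2, 0, 3, 2, 4, 3, 1, 5, 4, 3, 2, 0, 6, 5, 4, 7, 6, 5, 4, 3], .perm [226, 220, 213, 216]], 3),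
  ([.move [0, 2, 3, 1, 5, 4, 3, 1, 2, 0, 3, 2, 6, 5, 4, 3, 1, 2, 0, 3, 2, 4, 3, 5], .perm [141, 152, 135, 126, 239], .down, .move [0, 1, 3, 2, 4, 3, 5, 6, 5, 4, 3, 1, 2, 0, 3, 2, 4, 3, 1, 5, 4, 3, 2, 0, 6, 5, 4, 7, 6, 5, 4, 3], .perm [226, 220, 213, 216]], 3),
  ([.move [0, 2, 0, 3, 2, 0, 4, 3, 1, 2, 3, 4, 5, 4, 3, 6, 5, 7], .perm [226, 220, 213, 216]], 3),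
  ([.move [0, 2, 3, 1, 5, 4, 3, 1, 2, 0, 3, 2, 6, 5, 4, 3, 1, 2, 0, 3, 2, 4, 3, 5, 7, 6, 5, 4, 3, 1, 2, 3, 4, 5, 6, 7], .perm [141, 152, 135, 126, 239], .down, .move [0, 1, 3, 2, 4, 3, 5, 6, 5, 4, 3, 1, 2, 0, 3, 2, 4, 3, 1, 5, 4, 3, 2, 0, 6, 5, 4, 7, 6, 5, 4, 3], .perm [226, 220, 213, 216]], 3),
  ([.move [0, 2, 0, 3, 2, 0, 4, 3, 1, 2, 3, 4, 5, 4, 3, 2, 0, 6, 5, 7], .perm [226, 220, 213, 216]], 3),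
  ([.move [0, 2, 0, 3, 1, 2, 3, 4, 3, 2, 0, 5, 6, 7], .perm [228, 222, 218]], 2),
  ([.move [1, 3, 4, 5, 6, 7]], 1),
  ([], 0),
  ([.move [0, 2, 3, 1, 5, 4, 3, 1, 2, 0, 3, 2, 6, 5, 4, 3, 1, 2, 0, 3, 2, 4, 3, 5, 7, 6, 5, 4, 3, 1, 2, 0, 3, 2, 4, 3, 1, 5, 4, 3, 2, 0], .perm [141, 152, 135, 126, 239, 159, 121], .down, .move [0, 2, 3, 1, 5, 4, 3, 1, 2, 0, 3, 2, 6, 5, 4, 3, 1, 2, 0, 3, 2, 4, 3, 5, 7, 6, 5, 4, 3, 1, 2, 3, 4, 5, 6, 7], .perm [141, 152, 135, 126, 121, 226], .down, .move [0, 2, 5, 4, 3, 1, 2, 0, 6, 5, 4, 3, 1, 2, 0, 3], .perm [141, 152, 135, 126, 121], .down, .move [1, 3, 2, 0, 4, 3, 1, 2, 3, 4, 5, 4, 3, 1, 2, 0, 3, 2, 4, 3, 6, 5, 4, 3, 1, 2, 0, 3, 4, 5, 6, 7, 6, 5, 4, 3, 1, 2, 0, 3, 4, 5], .perm [226,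 220, 213, 216]], 3),
  ([.move [0, 2, 3, 1, 5, 4, 3, 1, 2, 0, 3, 2, 6, 5, 4, 3, 1, 2, 0, 3, 2, 4, 3, 5, 7, 6, 5, 4, 3, 1, 2, 0, 3, 2, 4, 3, 1, 5, 4, 3], .perm [141, 152, 135, 126, 239, 159], .down, .move [0, 2, 3, 1, 5, 4, 3, 1, 2, 0, 3, 2, 6, 5, 4, 3, 1, 2, 0, 3, 2, 4, 3, 5, 7, 6, 5, 4, 3, 1, 2, 3, 4, 5, 6, 7], .perm [141, 152, 135, 126, 121], .down, .move [1, 3, 2, 0, 4, 3, 1, 2, 3, 4, 5, 4, 3, 1, 2, 0, 3, 2, 4, 3, 6, 5, 4, 3, 1, 2, 0, 3, 4, 5, 6, 7, 6, 5, 4, 3, 1, 2, 0, 3, 4, 5], .perm [226, 220, 213, 216]], 3),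
  ([.move [0, 2, 3, 1, 5, 4, 3, 1, 2, 0, 3, 2, 6, 5, 4, 3, 1, 2, 0, 3, 2, 4, 3, 5, 7, 6, 5, 4, 3, 1, 2, 0, 3, 2, 4, 3, 1, 5, 4, 3, 2, 0], .perm [141, 152, 135, 126, 239, 121], .down, .move [0, 2, 5, 4, 3, 1, 2, 0, 6, 5, 4, 3, 1, 2, 0, 3, 7, 6, 5, 4, 3, 1, 2, 3, 4, 5, 6, 7], .perm [141, 152, 135, 126, 121], .down, .move [1, 3, 2, 0, 4, 3, 1, 2, 3, 4, 5, 4, 3, 1, 2, 0, 3, 2, 4, 3, 6, 5, 4, 3, 1, 2, 0, 3, 4, 5, 6, 7, 6, 5, 4, 3, 1, 2, 0, 3, 4, 5], .perm [226, 220, 213, 216]], 3),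
  ([.move [0, 2, 3, 1, 5, 4, 3, 1, 2, 0, 3, 2, 6, 5, 4, 3, 1, 2, 0, 3, 2, 4, 3, 5, 7, 6, 5, 4, 3, 1, 2, 0, 3, 2, 4, 3, 1, 5, 4, 3], .perm [141, 152, 135, 126, 239], .down, .move [0, 1, 3, 2, 4, 3, 5, 6, 5, 4, 3, 1, 2, 0, 3, 2, 4, 3, 1, 5, 4, 3, 2, 0, 6, 5, 4, 7, 6, 5, 4, 3], .perm [226, 220, 213, 216]], 3),
  ([.move [0, 2, 3, 1, 5, 4, 3, 1, 2, 0, 3, 2, 6, 5, 4, 3, 1, 2, 0, 3, 2, 4, 3, 5, 7, 6, 5, 4, 3, 1, 2, 0, 3, 2, 4, 3, 1, 5, 4, 3, 2, 0], .perm [141, 152, 135, 126, 239, 159], .down, .move [0, 2, 3, 1, 5, 4, 3, 1, 2, 0, 3, 2, 6, 5, 4, 3, 1, 2, 0, 3, 2, 4, 3, 5, 7, 6, 5, 4, 3, 1, 2, 3, 4, 5, 6, 7], .perm [141, 152, 135, 126, 121], .down, .move [1, 3, 2, 0, 4, 3, 1, 2, 3, 4, 5, 4, 3, 1, 2, 0, 3, 2, 4, 3, 6,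 5, 4, 3, 1, 2, 0, 3, 4, 5, 6, 7, 6, 5, 4, 3, 1, 2, 0, 3, 4, 5], .perm [226, 220, 213, 216]], 3),
  ([.move [0, 2, 3, 1, 5, 4, 3, 1, 2, 0, 3, 2, 6, 5, 4, 3, 1, 2, 0, 3, 2, 4, 3, 5, 7, 6, 5, 4, 3, 1, 2, 0, 3, 2, 4, 3, 1, 5, 4, 3, 2, 0], .perm [141, 152, 135, 126, 239], .down, .move [0, 1, 3, 2, 4, 3, 5, 6, 5, 4, 3, 1, 2, 0, 3, 2, 4, 3, 1, 5, 4, 3, 2, 0, 6, 5, 4, 7, 6, 5, 4, 3], .perm [226, 220, 213, 216]], 3),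
  ([.move [0, 2, 3, 1, 5, 4, 3, 1, 2, 0, 3, 6, 5, 4, 3, 1, 2, 0, 3, 2, 4, 5, 7, 6, 5, 4, 3, 1, 2, 0, 3, 2, 4, 3, 1, 5, 4, 3, 2, 0], .perm [141, 152, 135, 126, 239, 159], .down, .move [0, 2, 3, 1, 5, 4, 3, 1, 2, 0, 3, 2, 6, 5, 4, 3, 1, 2, 0, 3, 2, 4, 3, 5, 7, 6, 5, 4, 3, 1, 2, 3, 4, 5, 6, 7], .perm [141, 152, 135, 126, 121], .down, .move [1, 3, 2, 0, 4, 3, 1, 2, 3, 4, 5, 4, 3, 1, 2, 0, 3, 2, 4, 3, 6, 5, 4, 3, 1, 2, 0, 3, 4, 5, 6, 7, 6, 5, 4, 3, 1, 2, 0, 3, 4, 5], .perm [226, 220, 213, 216]], 3),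
  ([.move [0, 2, 3, 1, 5, 4, 3, 1, 2, 0, 3, 2, 6, 5, 4, 3, 1, 2, 0, 3, 2, 4, 3, 5, 7, 6, 5, 4, 3, 1, 2, 0, 3, 2, 4, 3, 5, 4], .perm [141, 152, 135, 126, 239], .down, .move [0, 1, 3, 2, 4, 3, 5, 6, 5, 4, 3, 1, 2, 0, 3, 2, 4, 3, 1, 5, 4, 3, 2, 0, 6, 5, 4, 7, 6, 5, 4, 3], .perm [226, 220, 213, 216]], 3),
  ([.move [0, 2, 3, 1, 5, 4, 3, 1, 2, 0, 6, 5, 4, 3, 1, 2, 0, 3, 4, 5, 7, 6, 5, 4, 3, 1, 2, 0, 3, 2, 4, 3, 1, 5, 4, 3, 2, 0], .perm [141, 152, 135, 126, 239, 159], .down, .move [0, 2, 3, 1, 5, 4, 3, 1, 2, 0, 3, 2, 6, 5, 4, 3, 1, 2, 0, 3, 2, 4, 3, 5, 7, 6, 5, 4, 3, 1, 2, 3, 4, 5, 6, 7], .perm [141, 152, 135, 126, 121], .down, .move [1, 3, 2, 0, 4, 3, 1, 2, 3, 4, 5, 4, 3, 1, 2, 0, 3, 2, 4, 3, 6, 5, 4, 3, 1, 2, 0,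 3, 4, 5, 6, 7, 6, 5, 4, 3, 1, 2, 0, 3, 4, 5], .perm [226, 220, 213, 216]], 3),
  ([.move [0, 2, 3, 1, 5, 4, 3, 1, 2, 0, 3, 2, 6, 5, 4, 3, 1, 2, 0, 3, 2, 4, 3, 5, 7, 6, 5, 4, 3, 1, 2, 0, 3, 2, 4, 5], .perm [141, 152, 135, 126, 239], .down, .move [0, 1, 3, 2, 4, 3, 5, 6, 5, 4, 3, 1, 2, 0, 3, 2, 4, 3, 1, 5, 4, 3, 2, 0, 6, 5, 4, 7, 6, 5, 4, 3], .perm [226, 220, 213, 216]], 3),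
  ([.move [0, 2, 3, 1, 5, 4, 3, 1, 2, 0, 3, 2, 6, 5, 4, 3, 1, 2, 0, 3, 2, 4, 3, 5, 7, 6], .perm [141, 152, 135, 126, 239], .down, .move [0, 1, 3, 2, 4, 3, 5, 6, 5, 4, 3, 1, 2, 0, 3, 2, 4, 3, 1, 5, 4, 3, 2, 0, 6, 5, 4, 7, 6, 5, 4, 3], .perm [226, 220, 213, 216]], 3),
  ([.move [0, 2, 0, 3, 2, 0, 4, 3, 1, 2, 3, 5, 4, 3, 6, 5], .perm [226, 220, 213, 216]], 3),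
  ([.move [0, 2, 3, 1, 5, 4, 3, 1, 2, 0, 3, 2, 6, 5, 4, 3, 1, 2, 0, 3, 2, 4, 3, 5, 7, 6, 5, 4, 3, 1, 2, 3, 4, 5], .perm [141, 152, 135, 126, 239], .down, .move [0, 1, 3, 2, 4, 3, 5, 6, 5, 4, 3, 1, 2, 0, 3, 2, 4, 3, 1, 5, 4, 3, 2, 0, 6, 5, 4, 7, 6, 5, 4, 3], .perm [226, 220, 213, 216]], 3),
  ([.move [0, 2, 0, 3, 2, 0, 4, 3, 1, 2, 3, 5, 4, 3, 2, 0, 6, 5], .perm [226, 220, 213, 216]], 3),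
  ([.move [0, 2, 0, 3, 1, 2, 3, 4, 3, 2, 0, 5], .perm [228, 222, 218]], 2),
  ([.move [0, 2, 3, 1, 5, 4, 3, 2, 0, 6, 5, 4, 3, 1, 2, 3, 4, 5, 7, 6, 5, 4, 3, 1, 2, 0, 3, 2, 4, 3, 1, 5, 4, 3, 2, 0], .perm [141, 152, 135, 126, 239, 159], .down, .move [0, 2, 3, 1, 5, 4, 3, 1, 2, 0, 3, 2, 6, 5, 4, 3, 1, 2, 0, 3, 2, 4, 3, 5, 7, 6, 5, 4, 3, 1, 2, 3, 4, 5, 6, 7], .perm [141, 152, 135, 126, 121], .down, .move [1, 3, 2, 0, 4, 3, 1, 2, 3, 4, 5, 4, 3, 1, 2, 0, 3, 2, 4, 3, 6, 5, 4, 3, 1, 2, 0, 3, 4, 5, 6, 7, 6, 5, 4, 3, 1, 2, 0, 3, 4, 5], .perm [226, 220, 213, 216]], 3),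
  ([.move [0, 2, 3, 1, 5, 4, 3, 1, 2, 0, 3, 2, 6, 5, 4, 3, 1, 2, 0, 3, 2, 4, 3, 5, 7, 6, 5, 4, 3, 1, 2, 0, 3, 2], .perm [141, 152, 135, 126, 239], .down, .move [0, 1, 3, 2, 4, 3, 5, 6, 5, 4, 3, 1, 2, 0, 3, 2, 4, 3, 1, 5, 4, 3, 2, 0, 6, 5, 4, 7, 6, 5, 4, 3], .perm [226, 220, 213, 216]], 3),
  ([.move [0, 2, 3, 1, 5, 4, 3, 1, 2, 0, 3, 2, 6, 5, 4, 3, 1, 2, 0, 3, 2, 4, 3, 5, 7, 6, 5, 4], .perm [141, 152, 135, 126, 239], .down, .move [0, 1, 3, 2, 4, 3, 5, 6, 5, 4, 3, 1, 2, 0, 3, 2, 4, 3, 1, 5, 4, 3, 2, 0, 6, 5, 4, 7, 6, 5, 4, 3], .perm [226, 220, 213, 216]], 3),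
  ([.move [0, 2, 0, 3, 2, 0, 4, 3, 1, 2, 5, 4, 3, 6], .perm [226, 220, 213, 216]], 3),
  ([.move [0, 2, 3, 1, 5, 4, 3, 1, 2, 0, 3, 2, 6, 5, 4, 3, 1, 2, 0, 3, 2, 4, 3, 5, 7, 6, 5, 4, 3, 1, 2, 3], .perm [141, 152, 135, 126, 239], .down, .move [0, 1, 3, 2, 4, 3, 5, 6, 5, 4, 3, 1, 2, 0, 3, 2, 4, 3, 1, 5, 4, 3, 2, 0, 6, 5, 4, 7, 6, 5, 4, 3], .perm [226, 220, 213, 216]], 3),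
  ([.move [0, 2, 0, 3, 2, 0, 4, 3, 1, 2, 5, 4, 3, 2, 0, 6], .perm [226, 220, 213, 216]], 3),
  ([.move [0, 2, 3, 1, 5, 4, 3, 1, 2, 0, 3, 2, 6, 5, 4, 3, 1, 2, 0, 3, 2, 4, 3, 5, 7, 6, 5, 4, 3, 1], .perm [141, 152, 135, 126, 239], .down, .move [0, 1, 3, 2, 4, 3, 5, 6, 5, 4, 3, 1, 2, 0, 3, 2, 4, 3, 1, 5, 4, 3, 2, 0, 6, 5, 4, 7, 6, 5, 4, 3], .perm [226, 220, 213, 216]], 3),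
  ([.move [0, 2, 0, 3, 2, 0, 4, 3, 2, 5, 4, 6], .perm [226, 220, 213, 216]], 3),
  ([], 0)]

theorem c2TabChk_E8 : c2TabChk chevE8 commWs_E8 fdE8 tabE8.frames repsE8 c2TabE8 = true := by
  decide +kernel

end Cfsg.Agent.Helper13.InvN
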