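import Mathlib
import Cfsg.Agent.Lib.Helper22.InvC2CHAIN
import Cfsg.Agent.Lib.Helper18.InvC2DataE6
import Cfsg.Agent.Lib.Helper18.InvC2DataE7
import Cfsg.Agent.Lib.Helper18.InvC2DataE8

/-!
INVN Part C2, final theorems: for the types `E₆`, `E₇`, `E₈` in characteristic 2, the product of the root elements
`x_r(1)` over every non-empty frame of the table is conjugate in the Chevalley group to one of the representatives.
-/

set_option autoImplicit false

namespace Cfsg.Agent.Helper13.InvN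

open Cfsg Cfsg.Lie Cfsg.Agent.Lead.Chev

theorem c2_E6 {F : Type*} [Field F] [CharP F 2] (hF : ChevFacts chevE6 F) :
    ∀ S ∈ tabE6.frames, S = [] ∨
      ∃ rep ∈ repsE6, CJ chevE6 F (xprod hF (frameRoots chevE6 S)) (xprod hF rep) :=
  c2Tab_sound hF commWs_E6 wsTab_E6 fdE6 fuseChk_E6 tabE6.frames repsE6 c2TabE6 c2TabChk_E6

theorem c2_E7 {F : Type*} [Field F] [CharP F 2] (hF : ChevFacts chevE7 F) :
    ∀ S ∈ tabE7.frames, S = [] ∨
      ∃ rep ∈ repsE7, CJ chevE7 F (xprod hF (frameRoots chevE7 S)) (xprod hF rep) :=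
  c2Tab_sound hF commWs_E7 wsTab_E7 fdE7 fuseChk_E7 tabE7.frames repsE7 c2TabE7 c2TabChk_E7

theorem c2_E8 {F : Type*} [Field F] [CharP F 2] (hF : ChevFacts chevE8 F) :
    ∀ S ∈ tabE8.frames, S = [] ∨
      ∃ rep ∈ repsE8, CJ chevE8 F (xprod hF (frameRoots chevE8 S)) (xprod hF rep) :=
  c2Tab_sound hF commWs_E8 wsTab_E8 fdE8 fuseChk_E8 tabE8.frames repsE8 c2TabE8 c2TabChk_E8

end Cfsg.Agent.Helper13.InvN
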