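import Mathlib
import Cfsg.Prelude.Def_Blocks
import Cfsg.Prelude.Def_BlockLocal
import Cfsg.Agent.Lib.Helper18.BlockFong
import Cfsg.Agent.Lib.Helper18.Reynolds
import Cfsg.Agent.Lib.Helper18.CliffordCorr
import Cfsg.Agent.S0966
import Cfsg.Agent.S4672

/-!
# An invariant height-zero character in a stable block of a normal subgroup of `p`-power index
(helper18's library)
-/

set_option autoImplicit false
set_option linter.style.haveILetI false
set_option linter.unusedSectionVars false

namespace Cfsg.Agent.Helper18.InvHZ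

open Cfsg Cfsg.Agent.Helper24 Cfsg.Agent.Helper5 Cfsg.Agent.Helper23.Blk Cfsg.Agent.Helper18
  Cfsg.Agent.Helper18.Reynolds
open scoped ComplexConjugate

universe u

variable {G : Type u} [Group G] [Fintype G] {M : Ideal AlgInt} {p : ℕ}

/-- index of a subgroup in its product with a normal subgroup -/
theorem relIndex_sup_eq (S A : Subgroup G) [A.Normal] :
    S.relIndex (S ⊔ A) = (S ⊓ A).relIndex A := by
  have h1 : (S ⊓ A).relIndex S * S.relIndex (S ⊔ A) = (S ⊓ A).relIndex (S ⊔ A) :=
    Subgroup.relIndex_mul_relIndex _ _ _ inf_le_left le_sup_left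
  have h2 : (S ⊓ A).relIndex A * A.relIndex (S ⊔ A) = (S ⊓ A).relIndex (S ⊔ A) :=
    Subgroup.relIndex_mul_relIndex _ _ _ inf_le_right le_sup_right
  have h3 : A.relIndex (S ⊔ A) = (S ⊓ A).relIndex S := by
    rw [Subgroup.relIndex_sup_right, inf_comm, Subgroup.inf_relIndex_right]
  have h0 : (S ⊓ A).relIndex S ≠ 0 := by
    unfold Subgroup.relIndex
    exact Subgroup.index_ne_zero_of_finite
  rw [h3, ← h1, mul_comm] at h2
  exact (Nat.eq_of_mul_eq_mul_left (Nat.pos_of_ne_zero h0) h2).symm

/-- **An invariant height-zero character**: if `N` is normal of `p`-power index and `c` is a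
`G`-stable block of `N`, then `c` contains a `G`-invariant character of height zero. -/
theorem exists_invariant_heightZero (hM : IsPModular p M) [Fact p.Prime] (N : Subgroup G)
    [hN : N.Normal] [Fintype N] (hidx : ∃ k : ℕ, N.index = p ^ k)
    (c : Set (IrrCharacter N)) (hc : IsPBlock M c)
    (hst : ∀ x : G, StabilizesBlock N c x) :
    ∃ θ ∈ c, (charDegree (θ : N → ℂ)).factorization p =
        sInf ((fun χ : IrrCharacter N => (charDegree (χ : N → ℂ)).factorization p) '' c) ∧
      inertia N (θ : N → ℂ) = ⊤ := by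
  classical
  haveI hMp : M.IsPrime := hM.2.1.isPrime
  have hp : p.Prime := hM.1
  letI : Fintype (IrrCharacter G) := irrFintype
  letI : Fintype (IrrCharacter N) := irrFintype
  have hstable : ∀ g : G, ∀ θ ∈ c, conjIrr N g θ ∈ c :=
    fun g θ hθ => conjIrr_mem_of_stabilizes N hst g hθ
  obtain ⟨B, ⟨hB, χ, hχ, θ₀, hθ₀, hcon⟩, huniq⟩ := Cfsg.Agent.S0966.result p M hM N hidx c hc
  have hBover : B = overSet N c := by
    ext χ'
    constructor
    · intro hχ'
      have hres : IsCharacter N (fun n : N => (χ' : G → ℂ) n) :=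
        isCharacter_restrict N (isCharacter_of_isIrrCharacter χ'.2)
      have hres0 : (fun n : N => (χ' : G → ℂ) n) ≠ 0 := by
        intro h
        have h1 := congrFun h 1
        exact irr_one_ne_zero χ'.2 h1
      obtain ⟨ψf, hψirr, hψcon⟩ := Cfsg.Agent.Helper5.exists_constituent hres hres0
      have hsame : SameBlock M (χ : G → ℂ) (χ' : G → ℂ) := by
        obtain ⟨χ₀, rfl⟩ := hB
        exact sameBlock_trans (sameBlock_symm hχ) hχ'
      have horb := cover_orbit N hMp hc hsame hθ₀ hcon (ψ := ⟨ψf, hψirr⟩) hψcon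
      obtain ⟨g, θ', hθ', hψeq⟩ := horb
      refine ⟨⟨ψf, hψirr⟩, ?_, hψcon⟩
      rw [hψeq]
      exact hstable g θ' hθ'
    · rintro ⟨θ', hθ', hcon'⟩
      have := huniq (blockOf M (χ' : G → ℂ))
        ⟨⟨χ', rfl⟩, χ', mem_blockOf_self χ', θ', hθ', hcon'⟩
      rw [← this]
      exact mem_blockOf_self χ'
  have hBc : ∀ g : G, blockCoeff B g = subgroupBlockCoeff N c g := by
    intro g
    rw [hBover, blockCoeff_overSet N hstable g]
    unfold subgroupBlockCoeff
    congr
  obtain ⟨P, hP⟩ := exists_isDefectGroup hM hB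
  obtain ⟨hNP, hQ⟩ := (Cfsg.Agent.S4672.result p M hM N hidx c hc hst).2 B hB hBc P hP
  have h1 := sInf_eq_factorization_index hM hB hP
  have h2 := sInf_eq_factorization_index hM hc hQ
  have h3 : ((P ⊓ N).subgroupOf N).index = P.index := by
    have h4 := relIndex_sup_eq P N
    rw [sup_comm, hNP, Subgroup.relIndex_top_right] at h4
    rw [h4]
    rfl
  rw [h3] at h2
  -- a character of `B` of least degree
  have hne : ((fun χ : IrrCharacter G => (charDegree (χ : G → ℂ)).factorization p) '' B).Nonempty :=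
    ⟨_, χ, hχ, rfl⟩
  obtain ⟨ψ, hψB, hψmin⟩ := Nat.sInf_mem hne
  rw [hBover] at hψB
  obtain ⟨θ, hθc, hconθ⟩ := hψB
  have hdeg := degree_eq_of_constituent N ψ.2 θ.2 hconθ
  obtain ⟨e, he⟩ := classInner_char_nat
    (isCharacter_restrict N (isCharacter_of_isIrrCharacter ψ.2))
    (isCharacter_of_isIrrCharacter θ.2)
  have he0 : e ≠ 0 := by
    rintro rfl
    rw [he] at hconθ
    exact hconθ (by simp)
  rw [he, irr_one_eq_charDegree ψ.2, irr_one_eq_charDegree θ.2] at hdeg
  have hdegN : charDegree (ψ : G → ℂ) =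
      e * (inertia N (θ : N → ℂ)).index * charDegree (θ : N → ℂ) := by
    exact_mod_cast hdeg
  have ht0 : (inertia N (θ : N → ℂ)).index ≠ 0 := Subgroup.index_ne_zero_of_finite
  have hd0 : charDegree (θ : N → ℂ) ≠ 0 := (charDegree_pos θ.2).ne'
  have hfac : (charDegree (ψ : G → ℂ)).factorization p =
      e.factorization p + ((inertia N (θ : N → ℂ)).index).factorization p +
        (charDegree (θ : N → ℂ)).factorization p := by
    rw [hdegN, Nat.factorization_mul (Nat.mul_ne_zero he0 ht0) hd0,
      Nat.factorization_mul he0 ht0]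
    rfl
  have hge : sInf ((fun χ : IrrCharacter N => (charDegree (χ : N → ℂ)).factorization p) '' c) ≤
      (charDegree (θ : N → ℂ)).factorization p := Nat.sInf_le ⟨θ, hθc, rfl⟩
  have hψmin' : (charDegree (ψ : G → ℂ)).factorization p =
      sInf ((fun χ : IrrCharacter G => (charDegree (χ : G → ℂ)).factorization p) '' B) := hψmin
  have hle : N ≤ inertia N (θ : N → ℂ) :=
    le_inertia N (isClassFunction_of_isIrrCharacter θ.2)
  obtain ⟨k, hk⟩ := hidx
  have hdvd : (inertia N (θ : N → ℂ)).index ∣ p ^ k := hk ▸ Subgroup.index_dvd_of_le hle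
  obtain ⟨j, -, hj⟩ := (Nat.dvd_prime_pow hp).1 hdvd
  have hjfac : ((inertia N (θ : N → ℂ)).index).factorization p = j := by
    rw [hj, Nat.Prime.factorization_pow hp]
    simp
  refine ⟨θ, hθc, ?_, ?_⟩
  · omega
  · have hj0 : j = 0 := by omega
    rw [hj0, pow_zero] at hj
    exact Subgroup.index_eq_one.1 hj

end Cfsg.Agent.Helper18.InvHZ
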