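import Mathlib
import Cfsg.Agent.Lib.Helper22.Sharp3

/-!
# Groups with no element of order `2p` (helper18)

Group theory for involutions inverting `p`-elements in a finite group with no element of
order `2p`, `p` an odd prime.
-/

set_option autoImplicit false

namespace Cfsg.Agent.Helper18.InvTwoP

open Cfsg.Agent.Helper22.Sharp3
open scoped Pointwise

section Basic

variable {G : Type*} [Group G] [Finite G] {p : ℕ} [hp : Fact p.Prime]

/-- an involution commutes with no nontrivial `p`-element -/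
theorem not_commute (hp2 : p ≠ 2) (h2p : ∀ g : G, orderOf g ≠ 2 * p) {t x : G}
    (ht : orderOf t = 2) (hx1 : x ≠ 1) (hx : ∃ k : ℕ, x ^ p ^ k = 1) : t * x ≠ x * t := by
  intro hc
  obtain ⟨k, hk⟩ := hx
  obtain ⟨j, hj, hjo⟩ := (Nat.dvd_prime_pow hp.out).1 (orderOf_dvd_of_pow_eq_one hk)
  have hj0 : j ≠ 0 := by
    intro h
    rw [h, pow_zero, orderOf_eq_one_iff] at hjo
    exact hx1 hjo
  obtain ⟨i, rfl⟩ := Nat.exists_eq_succ_of_ne_zero hj0
  have ho : orderOf (x ^ p ^ i) = p := by
    rw [orderOf_pow' x (pow_ne_zero _ hp.out.ne_zero), hjo, pow_succ,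
      Nat.gcd_eq_right (Dvd.intro _ rfl), Nat.mul_div_cancel_left _ (pow_pos hp.out.pos _)]
  have hcomm : Commute t (x ^ p ^ i) := (show Commute t x from hc).pow_right _
  have hcop : (orderOf t).Coprime (orderOf (x ^ p ^ i)) := by
    rw [ht, ho]
    exact (Nat.coprime_primes Nat.prime_two hp.out).2 (Ne.symm hp2)
  have := hcomm.orderOf_mul_eq_mul_orderOf_of_coprime hcop
  rw [ht, ho] at this
  exact h2p _ this

/-- the centralizer of a nontrivial `p`-element has odd order -/
theorem odd_card_centralizer (hp2 : p ≠ 2) (h2p : ∀ g : G, orderOf g ≠ 2 * p) {x : G}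
    (hx1 : x ≠ 1) (hx : ∃ k : ℕ, x ^ p ^ k = 1) :
    Odd (Nat.card (Subgroup.centralizer ({x} : Set G))) := by
  rw [← Nat.not_even_iff_odd]
  intro he
  obtain ⟨t, ht⟩ := exists_prime_orderOf_dvd_card' (G := Subgroup.centralizer ({x} : Set G)) 2
    (even_iff_two_dvd.1 he)
  have ht2 : orderOf (t : G) = 2 := by
    rw [Subgroup.orderOf_coe]
    exact ht
  exact not_commute hp2 h2p ht2 hx1 hx (Subgroup.mem_centralizer_singleton_iff.1 t.2)

/-- the centralizer of an involution has order prime to `p` -/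
theorem not_dvd_card_centralizer (hp2 : p ≠ 2) (h2p : ∀ g : G, orderOf g ≠ 2 * p) {t : G}
    (ht : orderOf t = 2) : ¬ p ∣ Nat.card (Subgroup.centralizer ({t} : Set G)) := by
  intro hd
  obtain ⟨c, hc⟩ := exists_prime_orderOf_dvd_card' (G := Subgroup.centralizer ({t} : Set G)) p hd
  have hc2 : orderOf (c : G) = p := by
    rw [Subgroup.orderOf_coe]
    exact hc
  have hc1 : (c : G) ≠ 1 := by
    intro h
    rw [h, orderOf_one] at hc2
    exact hp.out.one_lt.ne hc2
  have hcp : ∃ k : ℕ, (c : G) ^ p ^ k = 1 := ⟨1, by rw [pow_one, ← hc2, pow_orderOf_eq_one]⟩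
  exact not_commute hp2 h2p ht hc1 hcp (Subgroup.mem_centralizer_singleton_iff.1 c.2).symm

end Basic

section Invariant

variable {G : Type*} [Group G] [Finite G] {p : ℕ} [hp : Fact p.Prime]

/-- conjugation by an involution normalizing `C`, as an automorphism of `C` -/
def conjAut (C : Subgroup G) (t : G) (ht : t * t = 1) (hn : ∀ c ∈ C, t * c * t⁻¹ ∈ C) :
    MulAut C where
  toFun c := ⟨t * c * t⁻¹, hn c c.2⟩
  invFun c := ⟨t * c * t⁻¹, hn c c.2⟩
  left_inv c := by
    apply Subtype.ext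
    have htinv : t⁻¹ = t := inv_eq_of_mul_eq_one_left ht
    show t * (t * (c : G) * t⁻¹) * t⁻¹ = c
    rw [htinv]
    calc t * (t * (c : G) * t) * t = (t * t) * c * (t * t) := by group
      _ = c := by rw [ht, one_mul, mul_one]
  right_inv c := by
    apply Subtype.ext
    have htinv : t⁻¹ = t := inv_eq_of_mul_eq_one_left ht
    show t * (t * (c : G) * t⁻¹) * t⁻¹ = c
    rw [htinv]
    calc t * (t * (c : G) * t) * t = (t * t) * c * (t * t) := by group
      _ = c := by rw [ht, one_mul, mul_one]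
  map_mul' a b := by
    apply Subtype.ext
    show t * ((a : G) * b) * t⁻¹ = (t * a * t⁻¹) * (t * b * t⁻¹)
    group

theorem conjAut_sq (C : Subgroup G) (t : G) (ht : t * t = 1) (hn : ∀ c ∈ C, t * c * t⁻¹ ∈ C) :
    conjAut C t ht hn ^ 2 = 1 := by
  ext c
  have htinv : t⁻¹ = t := inv_eq_of_mul_eq_one_left ht
  rw [pow_two]
  show t * (t * (c : G) * t⁻¹) * t⁻¹ = c
  rw [htinv]
  calc t * (t * (c : G) * t) * t = (t * t) * c * (t * t) := by group
    _ = c := by rw [ht, one_mul, mul_one]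

/-- an involution normalizing a subgroup of odd order normalizes one of its Sylow subgroups -/
theorem exists_invariant_sylow (C : Subgroup G) (hodd : Odd (Nat.card C)) (t : G)
    (ht : t * t = 1) (hn : ∀ c ∈ C, t * c * t⁻¹ ∈ C) :
    ∃ Q : Sylow p C, ∀ q : C, q ∈ Q → (⟨t * q * t⁻¹, hn q q.2⟩ : C) ∈ Q := by
  classical
  haveI : Fintype (Sylow p C) := Fintype.ofFinite _
  let φ := conjAut C t ht hn
  let σ : Equiv.Perm (Sylow p C) := MulAction.toPerm φ
  have hσ : σ ^ 2 ^ 1 = 1 := by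
    rw [pow_one]
    ext Q : 1
    show φ • φ • Q = Q
    rw [← mul_smul, ← pow_two, conjAut_sq, one_smul]
  have hcard : ¬ 2 ∣ Fintype.card (Sylow p C) := by
    intro h2
    obtain ⟨Q⟩ : Nonempty (Sylow p C) := inferInstance
    have h1 : Nat.card (Sylow p C) ∣ Nat.card C :=
      (Q.card_dvd_index).trans (Subgroup.index_dvd_card _)
    rw [Nat.card_eq_fintype_card] at h1
    exact (Nat.not_even_iff_odd.2 hodd) (even_iff_two_dvd.2 (h2.trans h1))
  haveI : Fact (Nat.Prime 2) := ⟨Nat.prime_two⟩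
  obtain ⟨Q, hQ⟩ := Equiv.Perm.exists_fixed_point_of_prime hcard hσ
  refine ⟨Q, fun q hq => ?_⟩
  have h1 : φ • Q = Q := hQ
  have h2 : φ • q ∈ φ • (Q : Subgroup C) := Subgroup.smul_mem_pointwise_smul q φ _ hq
  rw [← Sylow.pointwise_smul_def, h1] at h2
  exact h2

end Invariant

end Cfsg.Agent.Helper18.InvTwoP
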