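import Mathlib
import Cfsg.Agent.Lib.Helper18.InvTwoP1

/-!
# Involutions inverting `p`-elements (helper18)
-/

set_option autoImplicit false

namespace Cfsg.Agent.Helper18.InvTwoP

open Cfsg.Agent.Helper22.Sharp3
open scoped Pointwise

section Inv

variable {G : Type*} [Group G] [Finite G] {p : ℕ} [hp : Fact p.Prime]

theorem conj_mem_centralizer_of_inverts {x g : G} (hg : g * g = 1) (hinv : g * x * g⁻¹ = x⁻¹)
    {c : G} (hc : c ∈ Subgroup.centralizer ({x} : Set G)) :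
    g * c * g⁻¹ ∈ Subgroup.centralizer ({x} : Set G) := by
  have htinv : g⁻¹ = g := inv_eq_of_mul_eq_one_left hg
  rw [Subgroup.mem_centralizer_singleton_iff] at hc ⊢
  have h1 : g * x⁻¹ * g⁻¹ = x := by
    have := congrArg (·⁻¹) hinv
    simp only [mul_inv_rev, inv_inv] at this
    rw [← mul_assoc] at this
    exact this
  have h2 : c * x⁻¹ = x⁻¹ * c := by
    have : x⁻¹ * (c * x) * x⁻¹ = x⁻¹ * (x * c) * x⁻¹ := by rw [hc]
    simpa [mul_assoc] using this.symm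
  calc g * c * g⁻¹ * x = g * c * g⁻¹ * (g * x⁻¹ * g⁻¹) := by rw [h1]
    _ = g * (c * x⁻¹) * g⁻¹ := by group
    _ = g * (x⁻¹ * c) * g⁻¹ := by rw [h2]
    _ = (g * x⁻¹ * g⁻¹) * (g * c * g⁻¹) := by group
    _ = x * (g * c * g⁻¹) := by rw [h1]

/-- **the key lemma**: if the involution `g` inverts the nontrivial `p`-element `x`, then every
Sylow `p`-subgroup of `C_G(x)` is inverted elementwise by a `C_G(x)`-conjugate of `g` -/
theorem exists_conj_inverting (hp2 : p ≠ 2) (h2p : ∀ g : G, orderOf g ≠ 2 * p) {x g : G}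
    (hx1 : x ≠ 1) (hx : ∃ k : ℕ, x ^ p ^ k = 1) (hg : g * g = 1) (hg1 : g ≠ 1)
    (hinv : g * x * g⁻¹ = x⁻¹) (R : Sylow p (Subgroup.centralizer ({x} : Set G))) :
    ∃ c ∈ Subgroup.centralizer ({x} : Set G),
      ∀ r : Subgroup.centralizer ({x} : Set G), r ∈ R →
        (c * g * c⁻¹) * r * (c * g * c⁻¹)⁻¹ = (r : G)⁻¹ := by
  have hg2 : orderOf g = 2 := orderOf_eq_prime (by rw [pow_two]; exact hg) hg1
  have hn : ∀ c ∈ Subgroup.centralizer ({x} : Set G), g * c * g⁻¹ ∈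
      Subgroup.centralizer ({x} : Set G) := fun c hc => conj_mem_centralizer_of_inverts hg hinv hc
  obtain ⟨Q, hQ⟩ := exists_invariant_sylow (p := p) _ (odd_card_centralizer hp2 h2p hx1 hx) g hg hn
  have hQinv : ∀ h ∈ (Q : Subgroup (Subgroup.centralizer ({x} : Set G))).map
      (Subgroup.centralizer ({x} : Set G)).subtype, g * h * g⁻¹ = h⁻¹ := by
    apply inverts_of_fpf _ g hg
    · rintro h ⟨q, hq, rfl⟩
      exact ⟨_, hQ q hq, rfl⟩
    · rintro h ⟨q, hq, rfl⟩ hfix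
      by_contra h1
      obtain ⟨k, hk⟩ := Q.2 ⟨q, hq⟩
      have hk' : ((Subgroup.centralizer ({x} : Set G)).subtype q) ^ p ^ k = 1 := by
        have := congrArg (fun z : Q => ((z : Subgroup.centralizer ({x} : Set G)) : G)) hk
        simpa using this
      apply not_commute hp2 h2p hg2 h1 ⟨k, hk'⟩
      have := congrArg (· * g) hfix
      simpa [mul_assoc] using this
  obtain ⟨c, hc⟩ := MulAction.exists_smul_eq (Subgroup.centralizer ({x} : Set G)) Q R
  refine ⟨c, c.2, fun r hr => ?_⟩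
  rw [← hc, Sylow.smul_def] at hr
  have hr' : r ∈ MulAut.conj c • (Q : Subgroup (Subgroup.centralizer ({x} : Set G))) := hr
  obtain ⟨q, hq, rfl⟩ := (Subgroup.mem_smul_pointwise_iff_exists _ _ _).1 hr'
  have h1 := hQinv q ⟨q, hq, rfl⟩
  have h2 : ((MulAut.conj c • q : Subgroup.centralizer ({x} : Set G)) : G) =
      (c : G) * q * (c : G)⁻¹ := by
    simp [MulAut.smul_def]
  rw [h2]
  have h1' : g * (q : G) * g⁻¹ = (q : G)⁻¹ := h1
  calc (c : G) * g * (c : G)⁻¹ * ((c : G) * q * (c : G)⁻¹) * ((c : G) * g * (c : G)⁻¹)⁻¹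
      = (c : G) * (g * q * g⁻¹) * (c : G)⁻¹ := by group
    _ = (c : G) * (q : G)⁻¹ * (c : G)⁻¹ := by rw [h1']
    _ = ((c : G) * q * (c : G)⁻¹)⁻¹ := by group

theorem conj_invol {g c : G} (hg : g * g = 1) (hg1 : g ≠ 1) :
    (c * g * c⁻¹) * (c * g * c⁻¹) = 1 ∧ c * g * c⁻¹ ≠ 1 := by
  constructor
  · calc c * g * c⁻¹ * (c * g * c⁻¹) = c * (g * g) * c⁻¹ := by group
      _ = 1 := by rw [hg, mul_one, mul_inv_cancel]
  · intro h
    apply hg1
    have : g = c⁻¹ * (c * g * c⁻¹) * c := by group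
    rw [this, h, mul_one, inv_mul_cancel]

/-- a `p`-subgroup all of whose elements commute with `x` lies in a Sylow subgroup of `C_G(x)`
which is inverted by a conjugate of `g` -/
theorem exists_conj_inverting_of_le (hp2 : p ≠ 2) (h2p : ∀ g : G, orderOf g ≠ 2 * p) {x g : G}
    (hx1 : x ≠ 1) (hx : ∃ k : ℕ, x ^ p ^ k = 1) (hg : g * g = 1) (hg1 : g ≠ 1)
    (hinv : g * x * g⁻¹ = x⁻¹) (A : Subgroup G) (hA : IsPGroup p A)
    (hAx : A ≤ Subgroup.centralizer ({x} : Set G)) :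
    ∃ c ∈ Subgroup.centralizer ({x} : Set G), (∀ a ∈ A,
        (c * g * c⁻¹) * a * (c * g * c⁻¹)⁻¹ = a⁻¹) ∧ ∀ a ∈ A, ∀ b ∈ A, a * b = b * a := by
  obtain ⟨R, hR⟩ := (hA.comap_subtype (K := Subgroup.centralizer ({x} : Set G))).exists_le_sylow
  obtain ⟨c, hc, hcR⟩ := exists_conj_inverting hp2 h2p hx1 hx hg hg1 hinv R
  have hinvA : ∀ a ∈ A, (c * g * c⁻¹) * a * (c * g * c⁻¹)⁻¹ = a⁻¹ := by
    intro a ha
    exact hcR ⟨a, hAx ha⟩ (hR (show (⟨a, hAx ha⟩ : Subgroup.centralizer ({x} : Set G)) ∈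
      A.subgroupOf _ from Subgroup.mem_subgroupOf.2 ha))
  exact ⟨c, hc, hinvA, fun a ha b hb => comm_of_inverts A (c * g * c⁻¹) hinvA ha hb⟩

/-- if an involution inverts a nontrivial element of the Sylow `p`-subgroup `P`, then `P` is
abelian -/
theorem sylow_comm_of_inverts (hp2 : p ≠ 2) (h2p : ∀ g : G, orderOf g ≠ 2 * p) (P : Sylow p G)
    {s g : G} (hsP : s ∈ P) (hs1 : s ≠ 1) (hg : g * g = 1) (hg1 : g ≠ 1)
    (hinv : g * s * g⁻¹ = s⁻¹) : ∀ a ∈ P, ∀ b ∈ P, a * b = b * a := by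
  have hpelt : ∀ a ∈ P, ∃ k : ℕ, a ^ p ^ k = 1 := by
    intro a ha
    obtain ⟨k, hk⟩ := P.2 ⟨a, ha⟩
    exact ⟨k, by simpa using congrArg (fun z : P => (z : G)) hk⟩
  haveI : Nontrivial (P : Subgroup G) := ⟨⟨⟨s, hsP⟩, 1, fun h => hs1 (congrArg Subtype.val h)⟩⟩
  haveI := P.2.center_nontrivial
  obtain ⟨z, hz1⟩ := exists_ne (1 : Subgroup.center (P : Subgroup G))
  have hzc : ∀ a ∈ P, (z : P) * a = a * (z : P) := by
    intro a ha
    have := Subgroup.mem_center_iff.1 z.2 ⟨a, ha⟩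
    have h2 := congrArg (fun w : P => (w : G)) this
    simpa using h2.symm
  have hzG1 : ((z : P) : G) ≠ 1 := by
    intro h
    apply hz1
    apply Subtype.ext
    apply Subtype.ext
    exact h
  have hzP : ((z : P) : G) ∈ P := (z : P).2
  -- a conjugate of `g` inverts `z`
  obtain ⟨c, hc, hcA, -⟩ := exists_conj_inverting_of_le hp2 h2p hs1 (hpelt s hsP) hg hg1 hinv
    ((P : Subgroup G) ⊓ Subgroup.centralizer ({s} : Set G)) (P.2.to_le inf_le_left) inf_le_right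
  have hzinv := hcA ((z : P) : G) ⟨hzP, Subgroup.mem_centralizer_singleton_iff.2 (hzc s hsP)⟩
  obtain ⟨hg', hg1'⟩ := conj_invol (c := c) hg hg1
  -- now `P` centralizes `z`
  have hPz : (P : Subgroup G) ≤ Subgroup.centralizer ({((z : P) : G)} : Set G) := by
    intro a ha
    exact Subgroup.mem_centralizer_singleton_iff.2 (hzc a ha).symm
  obtain ⟨c', -, -, hcomm⟩ := exists_conj_inverting_of_le hp2 h2p hzG1 (hpelt _ hzP) hg' hg1'
    hzinv (P : Subgroup G) P.2 hPz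
  exact hcomm

end Inv

end Cfsg.Agent.Helper18.InvTwoP
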