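import Mathlib
import Cfsg.Agent.Lib.Helper18.InvTwoP2

/-!
# One class of involutions (helper18)
-/

set_option autoImplicit false

namespace Cfsg.Agent.Helper18.InvTwoP

open Cfsg.Agent.Helper22.Sharp3
open scoped Pointwise

section Conj

variable {G : Type*} [Group G] [Finite G] {p : ℕ} [hp : Fact p.Prime]

theorem isPGroup_zpowers {x : G} (hx : ∃ k : ℕ, x ^ p ^ k = 1) :
    IsPGroup p (Subgroup.zpowers x) := by
  obtain ⟨k, hk⟩ := hx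
  rintro ⟨y, hy⟩
  obtain ⟨n, rfl⟩ := Subgroup.mem_zpowers_iff.1 hy
  refine ⟨k, Subtype.ext ?_⟩
  show (x ^ n) ^ p ^ k = 1
  rw [← zpow_natCast, ← zpow_mul, mul_comm, zpow_mul, zpow_natCast, hk, one_zpow]

/-- an involution inverting an element of odd order is conjugate to its product with it -/
theorem isConj_of_inverts_odd {g x : G} (hg : g * g = 1) (hinv : g * x * g⁻¹ = x⁻¹)
    (hodd : Odd (orderOf x)) : IsConj g (x * g) := by
  obtain ⟨m, hm⟩ := hodd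
  have hw : x ^ (m + 1) * x ^ (m + 1) = x := by
    rw [← pow_add]
    have : m + 1 + (m + 1) = orderOf x + 1 := by omega
    rw [this, pow_succ, pow_orderOf_eq_one, one_mul]
  have hgw : g * x ^ (m + 1) * g⁻¹ = (x ^ (m + 1))⁻¹ := by
    rw [← conj_pow, hinv, inv_pow]
  rw [isConj_iff]
  refine ⟨x ^ (m + 1), ?_⟩
  have h1 : g * (x ^ (m + 1))⁻¹ * g⁻¹ = x ^ (m + 1) := by
    have := congrArg (·⁻¹) hgw
    simp only [mul_inv_rev, inv_inv] at this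
    rw [← mul_assoc] at this
    exact this
  calc x ^ (m + 1) * g * (x ^ (m + 1))⁻¹
      = x ^ (m + 1) * (g * (x ^ (m + 1))⁻¹ * g⁻¹) * g := by group
    _ = x ^ (m + 1) * x ^ (m + 1) * g := by rw [h1]
    _ = x * g := by rw [hw]

/-- an involution inverting a nontrivial `p`-element has a conjugate inverting a given Sylow
`p`-subgroup elementwise -/
theorem exists_conj_inverting_sylow (hp2 : p ≠ 2) (h2p : ∀ g : G, orderOf g ≠ 2 * p)
    (P : Sylow p G) {t x : G} (ht : t * t = 1) (ht1 : t ≠ 1) (hx1 : x ≠ 1)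
    (hx : ∃ k : ℕ, x ^ p ^ k = 1) (hinv : t * x * t⁻¹ = x⁻¹) :
    ∃ t' : G, IsConj t t' ∧ (∀ a ∈ P, t' * a * t'⁻¹ = a⁻¹) ∧ ∃ a ∈ P, a ≠ 1 := by
  obtain ⟨P₁, hP₁⟩ := (isPGroup_zpowers hx).exists_le_sylow
  have hxP₁ : x ∈ P₁ := hP₁ (Subgroup.mem_zpowers x)
  have hcomm := sylow_comm_of_inverts hp2 h2p P₁ hxP₁ hx1 ht ht1 hinv
  have hle : (P₁ : Subgroup G) ≤ Subgroup.centralizer ({x} : Set G) := by
    intro a ha
    exact Subgroup.mem_centralizer_singleton_iff.2 (hcomm a ha x hxP₁)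
  obtain ⟨c, -, hc, -⟩ := exists_conj_inverting_of_le hp2 h2p hx1 hx ht ht1 hinv
    (P₁ : Subgroup G) P₁.2 hle
  obtain ⟨k, hk⟩ := MulAction.exists_smul_eq G P₁ P
  have hmem : ∀ a ∈ P, ∃ b ∈ P₁, a = k * b * k⁻¹ := by
    intro a ha
    rw [← hk, Sylow.smul_def] at ha
    have ha' : a ∈ MulAut.conj k • (P₁ : Subgroup G) := ha
    obtain ⟨b, hb, rfl⟩ := (Subgroup.mem_smul_pointwise_iff_exists _ _ _).1 ha'
    exact ⟨b, hb, by simp [MulAut.smul_def]⟩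
  refine ⟨k * (c * t * c⁻¹) * k⁻¹, ?_, ?_, ?_⟩
  · rw [isConj_iff]
    exact ⟨k * c, by group⟩
  · intro a ha
    obtain ⟨b, hb, rfl⟩ := hmem a ha
    have h1 := hc b hb
    calc k * (c * t * c⁻¹) * k⁻¹ * (k * b * k⁻¹) * (k * (c * t * c⁻¹) * k⁻¹)⁻¹
        = k * ((c * t * c⁻¹) * b * (c * t * c⁻¹)⁻¹) * k⁻¹ := by group
      _ = k * b⁻¹ * k⁻¹ := by rw [h1]
      _ = (k * b * k⁻¹)⁻¹ := by group
  · refine ⟨k * x * k⁻¹, ?_, ?_⟩
    · rw [← hk, Sylow.smul_def]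
      show k * x * k⁻¹ ∈ MulAut.conj k • (P₁ : Subgroup G)
      exact (Subgroup.mem_smul_pointwise_iff_exists _ _ _).2 ⟨x, hxP₁, by simp [MulAut.smul_def]⟩
    · intro h
      apply hx1
      have : x = k⁻¹ * (k * x * k⁻¹) * k := by group
      rw [this, h, mul_one, inv_mul_cancel]

/-- two involutions inverting the same nontrivial Sylow `p`-subgroup elementwise are conjugate -/
theorem isConj_of_invert_sylow (hp2 : p ≠ 2) (h2p : ∀ g : G, orderOf g ≠ 2 * p)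
    (P : Sylow p G) {s₁ s₂ : G} (h₁ : s₁ * s₁ = 1) (h₂ : s₂ * s₂ = 1)
    (hi₁ : ∀ a ∈ P, s₁ * a * s₁⁻¹ = a⁻¹) (hi₂ : ∀ a ∈ P, s₂ * a * s₂⁻¹ = a⁻¹)
    (hP : ∃ a ∈ P, a ≠ 1) : IsConj s₁ s₂ := by
  obtain ⟨x, hxP, hx1⟩ := hP
  have hx : ∃ k : ℕ, x ^ p ^ k = 1 := by
    obtain ⟨k, hk⟩ := P.2 ⟨x, hxP⟩
    exact ⟨k, by simpa using congrArg (fun z : P => (z : G)) hk⟩
  have hs₁ : s₁⁻¹ = s₁ := inv_eq_of_mul_eq_one_left h₁
  have hs₂ : s₂⁻¹ = s₂ := inv_eq_of_mul_eq_one_left h₂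
  -- `c = s₂ * s₁` centralizes `x`
  have hcx : s₂ * s₁ ∈ Subgroup.centralizer ({x} : Set G) := by
    rw [Subgroup.mem_centralizer_singleton_iff]
    have e1 := hi₁ x hxP
    have e2 := hi₂ x⁻¹ (P.inv_mem hxP)
    rw [inv_inv] at e2
    have e3 : s₂ * s₁ * x * (s₂ * s₁)⁻¹ = x := by
      calc s₂ * s₁ * x * (s₂ * s₁)⁻¹ = s₂ * (s₁ * x * s₁⁻¹) * s₂⁻¹ := by group
        _ = x := by rw [e1, e2]
    calc s₂ * s₁ * x = s₂ * s₁ * x * (s₂ * s₁)⁻¹ * (s₂ * s₁) := by group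
      _ = x * (s₂ * s₁) := by rw [e3]
  have hodd : Odd (orderOf (s₂ * s₁)) := by
    have h1 := odd_card_centralizer hp2 h2p hx1 hx
    have h2 : orderOf (s₂ * s₁) ∣ Nat.card (Subgroup.centralizer ({x} : Set G)) :=
      Subgroup.orderOf_dvd_natCard _ hcx
    exact Odd.of_dvd_nat h1 h2
  have hinv : s₁ * (s₂ * s₁) * s₁⁻¹ = (s₂ * s₁)⁻¹ := by
    rw [mul_inv_rev, hs₁, hs₂]
    calc s₁ * (s₂ * s₁) * s₁ = s₁ * s₂ * (s₁ * s₁) := by group
      _ = s₁ * s₂ := by rw [h₁, mul_one]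
  have := isConj_of_inverts_odd h₁ hinv hodd
  rw [mul_assoc, h₁, mul_one] at this
  exact this

end Conj

end Cfsg.Agent.Helper18.InvTwoP
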