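import Mathlib
import Cfsg.Agent.Lib.Helper3.J1Defs
import Cfsg.Prelude.Def_SporadicB
import Cfsg.Agent.S0111

/-!
# S0448 piece FUS (helper18), core: all involutions of `C_G(t) = f(H0)` are conjugate to `t`
(Thompson transfer twice), with the statement of `h0_invol` as a hypothesis.
-/

set_option autoImplicit false
set_option linter.unusedSectionVars false
set_option linter.unusedVariables false

namespace Cfsg.Agent.Helper3.J1

open Cfsg

universe u

theorem fus_order_two {G : Type*} [Group G] (x : G) : orderOf x = 2 ↔ x * x = 1 ∧ x ≠ 1 := by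
  have : Fact (Nat.Prime 2) := ⟨Nat.prime_two⟩
  rw [orderOf_eq_prime_iff, pow_two]

theorem fus_z0_comm (h : H0) : h * z0 = z0 * h := by
  apply Prod.ext
  · show h.1 * z0.1 = z0.1 * h.1
    exact mul_comm _ _
  · show h.2 * z0.2 = z0.2 * h.2
    show h.2 * 1 = 1 * h.2
    rw [mul_one, one_mul]

theorem fus_z0_sq : z0 * z0 = 1 := by decide

theorem fus_z0_fst : z0.1 ≠ 1 := by decide

theorem fus_fst_cases (a : Multiplicative (ZMod 2)) : a = 1 ∨ a = z0.1 := by
  revert a; decide

set_option maxRecDepth 100000 in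
theorem fus_card_H0 : Fintype.card H0 = 120 := by decide +kernel

variable {G : Type u} [Group G]

/-- a simple group with at least 3 elements has no normal subgroup of index 2 -/
theorem fus_no_index_two [Finite G] [IsSimpleGroup G] (hcard : 2 < Nat.card G) (M : Subgroup G)
    (hM : M.Normal) (hi : M.index = 2) : False := by
  rcases hM.eq_bot_or_eq_top with h | h
  · rw [h, Subgroup.index_bot] at hi
    omega
  · rw [h, Subgroup.index_top] at hi
    omega

/-- PIECE FUS, core -/
theorem fuse_cent_core [Finite G] [IsSimpleGroup G] (t : G) (ht : Cfsg.IsTwoCentralInvolution t)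
    (f : H0 →* G) (hf : Function.Injective f)
    (hr : f.range = Subgroup.centralizer ({t} : Set G)) (hz : f z0 = t)
    (hinv : ∀ h k : H0, orderOf h = 2 → orderOf k = 2 → h ≠ z0 → k ≠ z0 → h.1 = k.1 → IsConj h k) :
    ∀ h : H0, orderOf h = 2 → IsConj t (f h) := by
  classical
  obtain ⟨hot, P, htP, hPc⟩ := ht
  -- the size of `G`
  have hcard : 2 < Nat.card G := by
    have h1 : Nat.card H0 ≤ Nat.card G := Nat.card_le_card_of_injective f hf
    rw [Nat.card_eq_fintype_card, fus_card_H0] at h1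
    omega
  -- `P` lies in the range of `f`
  have hPr : ∀ b ∈ (P : Subgroup G), ∃ hb : H0, f hb = b := by
    intro b hb
    have : b ∈ f.range := by
      rw [hr, Subgroup.mem_centralizer_singleton_iff]
      exact hPc b hb
    exact this
  -- the subgroups
  let L0 : Subgroup H0 := (MonoidHom.fst (Multiplicative (ZMod 2)) (alternatingGroup (Fin 5))).ker
  have hL0 : ∀ h : H0, h ∈ L0 ↔ h.1 = 1 := fun h => MonoidHom.mem_ker
  let M : Subgroup G := L0.map f
  have hM : ∀ h : H0, f h ∈ M ↔ h.1 = 1 := by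
    intro h
    rw [← hL0]
    constructor
    · rintro ⟨h', hh', he⟩
      rw [← hf he]
      exact hh'
    · intro hh
      exact ⟨h, hh, rfl⟩
  let Q : Subgroup G := (P : Subgroup G) ⊓ M
  have hQP : Q ≤ (P : Subgroup G) := inf_le_left
  -- the index of `Q` in `P`
  have hQi : Q.relIndex (P : Subgroup G) = 2 := by
    show (Q.subgroupOf (P : Subgroup G)).index = 2
    rw [Subgroup.index_eq_two_iff]
    refine ⟨⟨t, htP⟩, ?_⟩
    intro b
    obtain ⟨hb, hbe⟩ := hPr b.1 b.2
    have e1 : (b * ⟨t, htP⟩ ∈ Q.subgroupOf (P : Subgroup G)) ↔ (hb * z0).1 = 1 := by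
      rw [Subgroup.mem_subgroupOf]
      show (b.1 * t ∈ (P : Subgroup G) ⊓ M) ↔ _
      rw [Subgroup.mem_inf, ← hM, map_mul, hbe, hz]
      constructor
      · exact fun h => h.2
      · exact fun h => ⟨(P : Subgroup G).mul_mem b.2 htP, h⟩
    have e2 : (b ∈ Q.subgroupOf (P : Subgroup G)) ↔ hb.1 = 1 := by
      rw [Subgroup.mem_subgroupOf]
      show (b.1 ∈ (P : Subgroup G) ⊓ M) ↔ _
      rw [Subgroup.mem_inf, ← hM, hbe]
      constructor
      · exact fun h => h.2
      · exact fun h => ⟨b.2, h⟩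
    rw [e1, e2]
    show Xor (hb.1 * z0.1 = 1) (hb.1 = 1)
    rcases fus_fst_cases hb.1 with h | h
    · rw [h]
      right
      refine ⟨rfl, ?_⟩
      rw [one_mul]
      exact fus_z0_fst
    · rw [h]
      left
      refine ⟨by decide, fus_z0_fst⟩
  -- first transfer: `t` is conjugate into `Q`
  have htQ : t ∉ Q := by
    intro h
    have : f z0 ∈ M := by rw [hz]; exact h.2
    exact fus_z0_fst ((hM z0).1 this)
  obtain ⟨g1, hg1⟩ : ∃ g : G, g * t * g⁻¹ ∈ Q := by
    rcases Cfsg.Agent.S0111.result P Q hQP hQi t hot htP htQ with ⟨M', hM'n, hM'i, _⟩ | h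
    · exact (fus_no_index_two hcard M' hM'n hM'i).elim
    · exact h
  obtain ⟨h1, hh1⟩ := hPr _ (hQP hg1)
  have h1fst : h1.1 = 1 := by
    rw [← hM, hh1]; exact hg1.2
  have h1ord : orderOf h1 = 2 := by
    rw [← orderOf_injective f hf h1, hh1]
    have : g1 * t * g1⁻¹ = MulAut.conj g1 t := rfl
    rw [this, MulEquiv.orderOf_eq]
    exact hot
  have hc1 : IsConj t (f h1) := by
    rw [hh1, isConj_iff]
    exact ⟨g1, rfl⟩
  have h1ne : h1 ≠ z0 := by
    intro h
    rw [h] at h1fst
    exact fus_z0_fst h1fst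
  -- second transfer for `u2 = f (z0 * h1)`
  have h1sq : h1 * h1 = 1 := ((fus_order_two h1).1 h1ord).1
  have h2ord : orderOf (z0 * h1) = 2 := by
    rw [fus_order_two]
    constructor
    · calc z0 * h1 * (z0 * h1) = z0 * (h1 * z0) * h1 := by group
        _ = z0 * (z0 * h1) * h1 := by rw [fus_z0_comm]
        _ = (z0 * z0) * (h1 * h1) := by group
        _ = 1 := by rw [fus_z0_sq, h1sq, one_mul]
    · intro h
      have := congrArg Prod.fst h
      have e : (z0 * h1).1 = z0.1 * h1.1 := rfl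
      rw [e, h1fst, mul_one] at this
      exact fus_z0_fst this
  have hu2ord : orderOf (f (z0 * h1)) = 2 := by
    rw [orderOf_injective f hf]; exact h2ord
  have hu2P : f (z0 * h1) ∈ (P : Subgroup G) := by
    rw [map_mul, hz, hh1]
    exact (P : Subgroup G).mul_mem htP (hQP hg1)
  have hu2Q : f (z0 * h1) ∉ Q := by
    intro h
    have := (hM _).1 h.2
    have e : (z0 * h1).1 = z0.1 * h1.1 := rfl
    rw [e, h1fst, mul_one] at this
    exact fus_z0_fst this
  obtain ⟨g2, hg2⟩ : ∃ g : G, g * f (z0 * h1) * g⁻¹ ∈ Q := by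
    rcases Cfsg.Agent.S0111.result P Q hQP hQi _ hu2ord hu2P hu2Q with ⟨M', hM'n, hM'i, _⟩ | h
    · exact (fus_no_index_two hcard M' hM'n hM'i).elim
    · exact h
  obtain ⟨h2, hh2⟩ := hPr _ (hQP hg2)
  have h2fst : h2.1 = 1 := by
    rw [← hM, hh2]; exact hg2.2
  have h2ord' : orderOf h2 = 2 := by
    rw [← orderOf_injective f hf h2, hh2]
    have : g2 * f (z0 * h1) * g2⁻¹ = MulAut.conj g2 (f (z0 * h1)) := rfl
    rw [this, MulEquiv.orderOf_eq]
    exact hu2ord
  have hc2 : IsConj (f (z0 * h1)) (f h2) := by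
    rw [hh2, isConj_iff]
    exact ⟨g2, rfl⟩
  have h2ne : h2 ≠ z0 := by
    intro h
    rw [h] at h2fst
    exact fus_z0_fst h2fst
  have hzh1ne : z0 * h1 ≠ z0 := by
    intro h
    have : h1 = 1 := by
      have := congrArg (fun x => z0⁻¹ * x) h
      simpa using this
    rw [this, orderOf_one] at h1ord
    omega
  -- the three kinds of involutions
  intro h hh
  by_cases hz0 : h = z0
  · rw [hz0, hz]
  · rcases fus_fst_cases h.1 with hf1 | hf1
    · have hc : IsConj h h1 := hinv h h1 hh h1ord hz0 h1ne (by rw [hf1, h1fst])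
      exact hc1.trans (f.map_isConj hc).symm
    · have hc : IsConj h (z0 * h1) := by
        apply hinv h (z0 * h1) hh h2ord hz0 hzh1ne
        have e : (z0 * h1).1 = z0.1 * h1.1 := rfl
        rw [hf1, e, h1fst, mul_one]
      have hc3 : IsConj h2 h1 := hinv h2 h1 h2ord' h1ord h2ne h1ne (by rw [h2fst, h1fst])
      exact hc1.trans ((f.map_isConj hc3).symm.trans (hc2.symm.trans (f.map_isConj hc).symm))

end Cfsg.Agent.Helper3.J1
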