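import Mathlib
import Cfsg.Agent.Lib.Helper18.J1FUSCore

/-!
# S0448 piece FUS (helper18): all involutions of `C_G(t) = f(H0)` are conjugate to `t`
-/

set_option autoImplicit false
set_option linter.unusedSectionVars false
set_option linter.unusedVariables false

namespace Cfsg.Agent.Helper3.J1

open Cfsg

universe u

set_option synthInstance.maxHeartbeats 2000000 in
set_option synthInstance.maxSize 4096 in
set_option maxRecDepth 100000 in
/-- the involutions `≠ z0` with the same first coordinate are conjugate (enumeration) -/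
theorem fus_invol_model : ∀ h k : H0, h * h = 1 → h ≠ 1 → k * k = 1 → k ≠ 1 → h ≠ z0 → k ≠ z0 →
    h.1 = k.1 → ∃ c : H0, c * h * c⁻¹ = k := by
  decide +kernel

theorem fus_invol (h k : H0) (hh : orderOf h = 2) (hk : orderOf k = 2) (h1 : h ≠ z0) (k1 : k ≠ z0)
    (hk' : h.1 = k.1) : IsConj h k := by
  obtain ⟨a1, a2⟩ := (fus_order_two h).1 hh
  obtain ⟨b1, b2⟩ := (fus_order_two k).1 hk
  rw [isConj_iff]
  exact fus_invol_model h k a1 a2 b1 b2 h1 k1 hk'

variable {G : Type u} [Group G]

/-- PIECE FUS -/
theorem fuse_cent [Finite G] [IsSimpleGroup G] (t : G) (ht : Cfsg.IsTwoCentralInvolution t)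
    (f : H0 →* G) (hf : Function.Injective f)
    (hr : f.range = Subgroup.centralizer ({t} : Set G)) (hz : f z0 = t) :
    ∀ h : H0, orderOf h = 2 → IsConj t (f h) :=
  fuse_cent_core t ht f hf hr hz fus_invol

end Cfsg.Agent.Helper3.J1
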