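import Mathlib
import Cfsg.Agent.Lib.Helper15.GL23Defs
import Cfsg.Agent.Lib.Helper3.J1Defs

/-!
# S0448 piece H0C (helper18): the numbers of factorizations into two involutions in `H0 = Z2 × A5`
-/

set_option autoImplicit false
set_option linter.unusedSectionVars false
set_option linter.unusedVariables false

namespace Cfsg.Agent.Helper3.J1

open Cfsg Cfsg.Agent.Helper15.GL23

theorem h0c_order_two {G : Type*} [Group G] (x : G) : orderOf x = 2 ↔ x * x = 1 ∧ x ≠ 1 := by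
  haveI : Fact (Nat.Prime 2) := ⟨Nat.prime_two⟩
  rw [orderOf_eq_prime_iff, pow_two]

/-- the number of factorizations into two involutions as a count of single elements -/
theorem h0c_ninv_eq {G : Type*} [Group G] [Fintype G] [DecidableEq G] (z : G) :
    nInv z = Fintype.card {X : G // X * X = 1 ∧ X ≠ 1 ∧ (X * z) * (X * z) = 1 ∧ X * z ≠ 1} := by
  unfold nInv
  rw [← Nat.card_eq_fintype_card]
  apply Nat.card_congr
  have key : ∀ p : G × G, orderOf p.1 = 2 → p.1 * p.2 = z → p.2 = p.1 * z := by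
    intro p h1 h2
    have h11 : p.1 * p.1 = 1 := ((h0c_order_two p.1).mp h1).1
    rw [← h2, ← mul_assoc, h11, one_mul]
  refine
    { toFun := fun p => ⟨p.1.1, ?_, ?_, ?_, ?_⟩
      invFun := fun X => ⟨(X.1, X.1 * z), ?_, ?_, ?_⟩
      left_inv := ?_
      right_inv := fun X => Subtype.ext rfl }
  · exact ((h0c_order_two _).mp p.2.1).1
  · exact ((h0c_order_two _).mp p.2.1).2
  · have h2 := (h0c_order_two _).mp p.2.2.1
    rw [key p.1 p.2.1 p.2.2.2] at h2
    exact h2.1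
  · have h2 := (h0c_order_two _).mp p.2.2.1
    rw [key p.1 p.2.1 p.2.2.2] at h2
    exact h2.2
  · exact (h0c_order_two _).mpr ⟨X.2.1, X.2.2.1⟩
  · exact (h0c_order_two _).mpr ⟨X.2.2.2.1, X.2.2.2.2⟩
  · show X.1 * (X.1 * z) = z
    rw [← mul_assoc, X.2.1, one_mul]
  · intro p
    apply Subtype.ext
    apply Prod.ext
    · rfl
    · show p.1.1 * z = p.1.2
      rw [← key p.1 p.2.1 p.2.2.2]

set_option maxRecDepth 100000 in
theorem h0c_z : Fintype.card {X : H0 // X * X = 1 ∧ X ≠ 1 ∧ (X * z0) * (X * z0) = 1 ∧ X * z0 ≠ 1} = 30 := by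
  decide +kernel

set_option maxRecDepth 100000 in
theorem h0c_w : Fintype.card {X : H0 // X * X = 1 ∧ X ≠ 1 ∧ (X * w0) * (X * w0) = 1 ∧ X * w0 ≠ 1} = 6 := by
  decide +kernel

set_option maxRecDepth 100000 in
theorem h0c_v : Fintype.card {X : H0 // X * X = 1 ∧ X ≠ 1 ∧ (X * v0) * (X * v0) = 1 ∧ X * v0 ≠ 1} = 10 := by
  decide +kernel

set_option maxRecDepth 100000 in
theorem h0c_v3 : Fintype.card {X : H0 // X * X = 1 ∧ X ≠ 1 ∧ (X * v0 ^ 3) * (X * v0 ^ 3) = 1 ∧
    X * v0 ^ 3 ≠ 1} = 10 := by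
  decide +kernel

/-- PIECE H0C: the numbers of factorizations into two involutions -/
theorem h0_ninv : nInv z0 = 30 ∧ nInv w0 = 6 ∧ nInv v0 = 10 ∧ nInv (v0 ^ 3) = 10 := by
  refine ⟨?_, ?_, ?_, ?_⟩
  · rw [h0c_ninv_eq]; exact h0c_z
  · rw [h0c_ninv_eq]; exact h0c_w
  · rw [h0c_ninv_eq]; exact h0c_v
  · rw [h0c_ninv_eq]; exact h0c_v3

end Cfsg.Agent.Helper3.J1
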