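import Mathlib
import Cfsg.Agent.Lib.Helper3.J1ArithDefs

/-!
# S0448 piece NATPH (helper18): the phantom solution `g = 189000` gives the phantom table
-/

set_option autoImplicit false
set_option linter.unusedSectionVars false
set_option linter.unusedVariables false

namespace Cfsg.Agent.Helper3.J1A

variable {ι : Type*} [Fintype ι]

/-- the normalized case: rows `1, 3, 5` have `Y = 35`, rows `2, 4, 6` have `Y = -21`, `e 7 = 1`, `e 8 = -1` -/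
theorem natph_core {o : ι} {u a b c D : ι → ℤ} {y : Fin 9 → ι}
    (hinj : Function.Injective y) (hne : ∀ i, y i ≠ o)
    (hzero : ∀ X, X ≠ o → (∀ i, X ≠ y i) → u X = 0 ∧ a X = 0 ∧ b X = 0 ∧ c X = 0)
    (σ : Fin 9 → Fin 9) (hσ : Function.Bijective σ)
    (r0 : u (y (σ 0)) = 0 ∧ a (y (σ 0)) = -1 ∧ b (y (σ 0)) = -1 ∧ c (y (σ 0)) = -1 ∧ D (y (σ 0)) = 15)
    (r1 : u (y (σ 1)) = 0 ∧ a (y (σ 1)) = 0 ∧ b (y (σ 1)) = 0 ∧ c (y (σ 1)) = 1 ∧ D (y (σ 1)) = 35)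
    (r2 : u (y (σ 2)) = 0 ∧ a (y (σ 2)) = 0 ∧ b (y (σ 2)) = 0 ∧ c (y (σ 2)) = -1 ∧ D (y (σ 2)) = 21)
    (r3 : u (y (σ 3)) = 0 ∧ a (y (σ 3)) = 1 ∧ b (y (σ 3)) = 0 ∧ c (y (σ 3)) = 0)
    (r4 : u (y (σ 4)) = 0 ∧ a (y (σ 4)) = 0 ∧ b (y (σ 4)) = 1 ∧ c (y (σ 4)) = 0)
    (r5 : u (y (σ 5)) = 0 ∧ a (y (σ 5)) = -1 ∧ b (y (σ 5)) = 0 ∧ c (y (σ 5)) = 0)
    (r6 : u (y (σ 6)) = 0 ∧ a (y (σ 6)) = 0 ∧ b (y (σ 6)) = -1 ∧ c (y (σ 6)) = 0)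
    (r7 : u (y (σ 7)) = 1 ∧ a (y (σ 7)) = 0 ∧ b (y (σ 7)) = 0 ∧ c (y (σ 7)) = 0)
    (r8 : u (y (σ 8)) = -1 ∧ a (y (σ 8)) = 0 ∧ b (y (σ 8)) = 0 ∧ c (y (σ 8)) = 0)
    {T U M : ι → ℤ} (hT : ∀ X, T X = tau u a b c X) (hU : ∀ X, U X = u X + c X)
    (hM : ∀ X, M X = -2 * u X + a X + b X) : Phantom o T U M D (y ∘ σ) := by
  refine
    { inj := hinj.comp hσ.1
      ne := fun i => hne (σ i)
      zero := ?_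
      r0 := ?_, r1 := ?_, r2 := ?_, r3 := ?_, r4 := ?_, r5 := ?_, r6 := ?_, r7 := ?_, r8 := ?_ }
  · intro X hXo hX
    have hX' : ∀ i, X ≠ y i := by
      intro i
      obtain ⟨j, rfl⟩ := hσ.2 i
      exact hX j
    obtain ⟨h1, h2, h3, h4⟩ := hzero X hXo hX'
    rw [hT, hU, hM, tau, h1, h2, h3, h4]
    norm_num
  · obtain ⟨h1, h2, h3, h4, h5⟩ := r0
    simp only [Function.comp_apply, hT, hU, hM, tau, h1, h2, h3, h4, h5]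
    norm_num
  · obtain ⟨h1, h2, h3, h4, h5⟩ := r1
    simp only [Function.comp_apply, hT, hU, hM, tau, h1, h2, h3, h4, h5]
    norm_num
  · obtain ⟨h1, h2, h3, h4, h5⟩ := r2
    simp only [Function.comp_apply, hT, hU, hM, tau, h1, h2, h3, h4, h5]
    norm_num
  · obtain ⟨h1, h2, h3, h4⟩ := r3
    simp only [Function.comp_apply, hT, hU, hM, tau, h1, h2, h3, h4]
    norm_num
  · obtain ⟨h1, h2, h3, h4⟩ := r4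
    simp only [Function.comp_apply, hT, hU, hM, tau, h1, h2, h3, h4]
    norm_num
  · obtain ⟨h1, h2, h3, h4⟩ := r5
    simp only [Function.comp_apply, hT, hU, hM, tau, h1, h2, h3, h4]
    norm_num
  · obtain ⟨h1, h2, h3, h4⟩ := r6
    simp only [Function.comp_apply, hT, hU, hM, tau, h1, h2, h3, h4]
    norm_num
  · obtain ⟨h1, h2, h3, h4⟩ := r7
    simp only [Function.comp_apply, hT, hU, hM, tau, h1, h2, h3, h4]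
    norm_num
  · obtain ⟨h1, h2, h3, h4⟩ := r8
    simp only [Function.comp_apply, hT, hU, hM, tau, h1, h2, h3, h4]
    norm_num

/-- the permutation of the rows determined by four choices -/
def natphPerm (p1 q1 p3 q3 p5 q5 p7 q7 : Fin 9) : Fin 9 → Fin 9 :=
  ![0, p5, q5, p1, p3, q1, q3, p7, q7]

theorem natph_perm_bij (p1 q1 p3 q3 p5 q5 p7 q7 : Fin 9)
    (h1 : (p1 = 1 ∧ q1 = 2) ∨ (p1 = 2 ∧ q1 = 1)) (h3 : (p3 = 3 ∧ q3 = 4) ∨ (p3 = 4 ∧ q3 = 3))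
    (h5 : (p5 = 5 ∧ q5 = 6) ∨ (p5 = 6 ∧ q5 = 5)) (h7 : (p7 = 7 ∧ q7 = 8) ∨ (p7 = 8 ∧ q7 = 7)) :
    Function.Bijective (natphPerm p1 q1 p3 q3 p5 q5 p7 q7) := by
  rcases h1 with ⟨rfl, rfl⟩ | ⟨rfl, rfl⟩ <;> rcases h3 with ⟨rfl, rfl⟩ | ⟨rfl, rfl⟩ <;>
    rcases h5 with ⟨rfl, rfl⟩ | ⟨rfl, rfl⟩ <;> rcases h7 with ⟨rfl, rfl⟩ | ⟨rfl, rfl⟩ <;>
    (rw [Fintype.bijective_iff_injective_and_card]; exact ⟨by decide, rfl⟩)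

/-- PIECE NATPH -/
theorem nat_phantom {o : ι} {u a b c D : ι → ℤ} {g : ℕ} (h : Lat o u a b c D g) {y : Fin 9 → ι}
    {e : Fin 9 → ℤ} (hN : NatCfg o u a b c y e) (hP : PhSol g (fun i => e i * D (y i)))
    (hsu : e 7 * D (y 7) + e 8 * D (y 8) = 0)
    {T U M : ι → ℤ} (hT : ∀ X, T X = tau u a b c X) (hU : ∀ X, U X = u X + c X)
    (hM : ∀ X, M X = -2 * u X + a X + b X) : ∃ y', Phantom o T U M D y' := by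
  obtain ⟨hg, hy0, hy12, hy34, hy56⟩ := hP
  have hy0 : e 0 * D (y 0) = -15 := hy0
  have hDpos := h.Dpos
  have hsign := hN.sign
  have pos35 : ∀ i, e i * D (y i) = 35 → e i = 1 ∧ D (y i) = 35 := by
    intro i hi
    have := hDpos (y i)
    rcases hsign i with h1 | h1
    · rw [h1] at hi; exact ⟨h1, by linarith⟩
    · rw [h1] at hi; exfalso; linarith
  have neg21 : ∀ i, e i * D (y i) = -21 → e i = -1 ∧ D (y i) = 21 := by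
    intro i hi
    have := hDpos (y i)
    rcases hsign i with h1 | h1
    · rw [h1] at hi; exfalso; linarith
    · rw [h1] at hi; exact ⟨h1, by linarith⟩
  have neg15 : e 0 = -1 ∧ D (y 0) = 15 := by
    have := hDpos (y 0)
    rcases hsign 0 with h1 | h1
    · rw [h1] at hy0; exfalso; linarith
    · rw [h1] at hy0; exact ⟨h1, by linarith⟩
  obtain ⟨p1, q1, hpq1, hp1, hq1⟩ : ∃ p q : Fin 9, ((p = 1 ∧ q = 2) ∨ (p = 2 ∧ q = 1)) ∧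
      e p * D (y p) = 35 ∧ e q * D (y q) = -21 := by
    rcases hy12 with ⟨h1, h2⟩ | ⟨h1, h2⟩
    · exact ⟨1, 2, Or.inl ⟨rfl, rfl⟩, h1, h2⟩
    · exact ⟨2, 1, Or.inr ⟨rfl, rfl⟩, h2, h1⟩
  obtain ⟨p3, q3, hpq3, hp3, hq3⟩ : ∃ p q : Fin 9, ((p = 3 ∧ q = 4) ∨ (p = 4 ∧ q = 3)) ∧
      e p * D (y p) = 35 ∧ e q * D (y q) = -21 := by
    rcases hy34 with ⟨h1, h2⟩ | ⟨h1, h2⟩
    · exact ⟨3, 4, Or.inl ⟨rfl, rfl⟩, h1, h2⟩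
    · exact ⟨4, 3, Or.inr ⟨rfl, rfl⟩, h2, h1⟩
  obtain ⟨p5, q5, hpq5, hp5, hq5⟩ : ∃ p q : Fin 9, ((p = 5 ∧ q = 6) ∨ (p = 6 ∧ q = 5)) ∧
      e p * D (y p) = 35 ∧ e q * D (y q) = -21 := by
    rcases hy56 with ⟨h1, h2⟩ | ⟨h1, h2⟩
    · exact ⟨5, 6, Or.inl ⟨rfl, rfl⟩, h1, h2⟩
    · exact ⟨6, 5, Or.inr ⟨rfl, rfl⟩, h2, h1⟩
  obtain ⟨p7, q7, hpq7, hp7, hq7⟩ : ∃ p q : Fin 9, ((p = 7 ∧ q = 8) ∨ (p = 8 ∧ q = 7)) ∧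
      e p = 1 ∧ e q = -1 := by
    have h7 := hDpos (y 7)
    have h8 := hDpos (y 8)
    rcases hsign 7 with h1 | h1 <;> rcases hsign 8 with h2 | h2
    · rw [h1, h2] at hsu; exfalso; linarith
    · exact ⟨7, 8, Or.inl ⟨rfl, rfl⟩, h1, h2⟩
    · exact ⟨8, 7, Or.inr ⟨rfl, rfl⟩, h2, h1⟩
    · rw [h1, h2] at hsu; exfalso; linarith
  have rowA : ∀ p : Fin 9, (p = 1 ∨ p = 2) →
      u (y p) = 0 ∧ a (y p) = e p ∧ b (y p) = 0 ∧ c (y p) = 0 := by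
    rintro p (rfl | rfl)
    · exact hN.v1
    · exact hN.v2
  have rowB : ∀ p : Fin 9, (p = 3 ∨ p = 4) →
      u (y p) = 0 ∧ a (y p) = 0 ∧ b (y p) = e p ∧ c (y p) = 0 := by
    rintro p (rfl | rfl)
    · exact hN.v3
    · exact hN.v4
  have rowC : ∀ p : Fin 9, (p = 5 ∨ p = 6) →
      u (y p) = 0 ∧ a (y p) = 0 ∧ b (y p) = 0 ∧ c (y p) = e p := by
    rintro p (rfl | rfl)
    · exact hN.v5
    · exact hN.v6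
  have rowU : ∀ p : Fin 9, (p = 7 ∨ p = 8) →
      u (y p) = e p ∧ a (y p) = 0 ∧ b (y p) = 0 ∧ c (y p) = 0 := by
    rintro p (rfl | rfl)
    · exact hN.v7
    · exact hN.v8
  have m1 : (p1 = 1 ∨ p1 = 2) ∧ (q1 = 1 ∨ q1 = 2) := by
    rcases hpq1 with ⟨h1, h2⟩ | ⟨h1, h2⟩
    · exact ⟨Or.inl h1, Or.inr h2⟩
    · exact ⟨Or.inr h1, Or.inl h2⟩
  have m3 : (p3 = 3 ∨ p3 = 4) ∧ (q3 = 3 ∨ q3 = 4) := by
    rcases hpq3 with ⟨h1, h2⟩ | ⟨h1, h2⟩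
    · exact ⟨Or.inl h1, Or.inr h2⟩
    · exact ⟨Or.inr h1, Or.inl h2⟩
  have m5 : (p5 = 5 ∨ p5 = 6) ∧ (q5 = 5 ∨ q5 = 6) := by
    rcases hpq5 with ⟨h1, h2⟩ | ⟨h1, h2⟩
    · exact ⟨Or.inl h1, Or.inr h2⟩
    · exact ⟨Or.inr h1, Or.inl h2⟩
  have m7 : (p7 = 7 ∨ p7 = 8) ∧ (q7 = 7 ∨ q7 = 8) := by
    rcases hpq7 with ⟨h1, h2⟩ | ⟨h1, h2⟩
    · exact ⟨Or.inl h1, Or.inr h2⟩
    · exact ⟨Or.inr h1, Or.inl h2⟩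
  refine ⟨y ∘ natphPerm p1 q1 p3 q3 p5 q5 p7 q7, ?_⟩
  refine natph_core hN.inj hN.ne hN.zero _ (natph_perm_bij _ _ _ _ _ _ _ _ hpq1 hpq3 hpq5 hpq7)
    ?_ ?_ ?_ ?_ ?_ ?_ ?_ ?_ ?_ hT hU hM
  · show u (y 0) = 0 ∧ a (y 0) = -1 ∧ b (y 0) = -1 ∧ c (y 0) = -1 ∧ D (y 0) = 15
    obtain ⟨h1, h2, h3, h4⟩ := hN.v0
    rw [neg15.1] at h2 h3 h4
    exact ⟨h1, h2, h3, h4, neg15.2⟩
  · show u (y p5) = 0 ∧ a (y p5) = 0 ∧ b (y p5) = 0 ∧ c (y p5) = 1 ∧ D (y p5) = 35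
    obtain ⟨h1, h2, h3, h4⟩ := rowC p5 m5.1
    obtain ⟨h5, h6⟩ := pos35 p5 hp5
    rw [h5] at h4
    exact ⟨h1, h2, h3, h4, h6⟩
  · show u (y q5) = 0 ∧ a (y q5) = 0 ∧ b (y q5) = 0 ∧ c (y q5) = -1 ∧ D (y q5) = 21
    obtain ⟨h1, h2, h3, h4⟩ := rowC q5 m5.2
    obtain ⟨h5, h6⟩ := neg21 q5 hq5
    rw [h5] at h4
    exact ⟨h1, h2, h3, h4, h6⟩
  · show u (y p1) = 0 ∧ a (y p1) = 1 ∧ b (y p1) = 0 ∧ c (y p1) = 0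
    obtain ⟨h1, h2, h3, h4⟩ := rowA p1 m1.1
    rw [(pos35 p1 hp1).1] at h2
    exact ⟨h1, h2, h3, h4⟩
  · show u (y p3) = 0 ∧ a (y p3) = 0 ∧ b (y p3) = 1 ∧ c (y p3) = 0
    obtain ⟨h1, h2, h3, h4⟩ := rowB p3 m3.1
    rw [(pos35 p3 hp3).1] at h3
    exact ⟨h1, h2, h3, h4⟩
  · show u (y q1) = 0 ∧ a (y q1) = -1 ∧ b (y q1) = 0 ∧ c (y q1) = 0
    obtain ⟨h1, h2, h3, h4⟩ := rowA q1 m1.2
    rw [(neg21 q1 hq1).1] at h2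
    exact ⟨h1, h2, h3, h4⟩
  · show u (y q3) = 0 ∧ a (y q3) = 0 ∧ b (y q3) = -1 ∧ c (y q3) = 0
    obtain ⟨h1, h2, h3, h4⟩ := rowB q3 m3.2
    rw [(neg21 q3 hq3).1] at h3
    exact ⟨h1, h2, h3, h4⟩
  · show u (y p7) = 1 ∧ a (y p7) = 0 ∧ b (y p7) = 0 ∧ c (y p7) = 0
    obtain ⟨h1, h2, h3, h4⟩ := rowU p7 m7.1
    rw [hp7] at h1
    exact ⟨h1, h2, h3, h4⟩
  · show u (y q7) = -1 ∧ a (y q7) = 0 ∧ b (y q7) = 0 ∧ c (y q7) = 0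
    obtain ⟨h1, h2, h3, h4⟩ := rowU q7 m7.2
    rw [hq7] at h1
    exact ⟨h1, h2, h3, h4⟩

end Cfsg.Agent.Helper3.J1A
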