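import Mathlib
import Cfsg.Agent.Lib.Helper3.J1ArithDefs

/-!
# S0448 piece PAIR (helper18): two norm-4 vectors with inner product 2 meet off `o` in exactly one point
-/

set_option autoImplicit false
set_option linter.unusedSectionVars false
set_option linter.unusedVariables false

namespace Cfsg.Agent.Helper3.J1A

variable {ι : Type*} [Fintype ι]

/-- off `o`, the entries of a norm-4 vector with entry 1 at `o` are `0, ±1` -/
theorem pair_entry (o : ι) (a : ι → ℤ) (hao : a o = 1) (haa : ∑ X, a X * a X = 4) (X : ι)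
    (hX : X ≠ o) : a X = 0 ∨ a X = 1 ∨ a X = -1 := by
  classical
  have hsub : ({o, X} : Finset ι) ⊆ Finset.univ := Finset.subset_univ _
  have h1 : ∑ Y ∈ ({o, X} : Finset ι), a Y * a Y ≤ ∑ Y, a Y * a Y :=
    Finset.sum_le_sum_of_subset_of_nonneg hsub (fun Y _ _ => mul_self_nonneg _)
  rw [Finset.sum_pair (Ne.symm hX), hao, haa] at h1
  have h2 : a X * a X ≤ 3 := by linarith
  have h3 : a X ≤ 1 := by nlinarith
  have h4 : -1 ≤ a X := by nlinarith
  omega

/-- a vector with `∑ d² = 4` which is orthogonal to a positive vector has no entry `±2` -/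
theorem pair_no_two (d D : ι → ℤ) (hdd : ∑ X, d X * d X = 4) (hDd : ∑ X, D X * d X = 0)
    (hD : ∀ X, 0 < D X) (X0 : ι) : d X0 * d X0 ≠ 4 := by
  classical
  intro h4
  have h1 := Finset.add_sum_erase Finset.univ (fun X => d X * d X) (Finset.mem_univ X0)
  rw [hdd, h4] at h1
  have h2 : ∑ X ∈ Finset.univ.erase X0, d X * d X = 0 := by linarith
  have h3 : ∀ X ∈ Finset.univ.erase X0, d X * d X = 0 :=
    (Finset.sum_eq_zero_iff_of_nonneg (fun X _ => mul_self_nonneg _)).1 h2
  have h5 := Finset.add_sum_erase Finset.univ (fun X => D X * d X) (Finset.mem_univ X0)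
  rw [hDd] at h5
  have h6 : ∑ X ∈ Finset.univ.erase X0, D X * d X = 0 := by
    apply Finset.sum_eq_zero
    intro X hX
    have := h3 X hX
    have : d X = 0 := by
      rcases mul_self_eq_zero.1 this with h
      exact h
    rw [this, mul_zero]
  rw [h6, add_zero] at h5
  have h7 : d X0 ≠ 0 := by
    intro h; rw [h] at h4; norm_num at h4
  have := hD X0
  rcases mul_eq_zero.1 h5 with h | h
  · omega
  · exact h7 h

/-- PIECE PAIR -/
theorem pair_inter (o : ι) (a b D : ι → ℤ) (hao : a o = 1) (hbo : b o = 1)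
    (haa : ∑ X, a X * a X = 4) (hbb : ∑ X, b X * b X = 4) (hab : ∑ X, a X * b X = 2)
    (hDa : ∑ X, D X * a X = 0) (hDb : ∑ X, D X * b X = 0) (hD : ∀ X, 0 < D X) :
    ∃ Z, Z ≠ o ∧ a Z ≠ 0 ∧ a Z = b Z ∧ ∀ X, X ≠ o → X ≠ Z → a X = 0 ∨ b X = 0 := by
  classical
  -- the difference vector
  have hdd : ∑ X, (a X - b X) * (a X - b X) = 4 := by
    have : ∀ X, (a X - b X) * (a X - b X) = a X * a X + b X * b X - 2 * (a X * b X) := by
      intro X; ring
    simp only [this, Finset.sum_sub_distrib, Finset.sum_add_distrib, ← Finset.mul_sum]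
    rw [haa, hbb, hab]; norm_num
  have hDd : ∑ X, D X * (a X - b X) = 0 := by
    simp only [mul_sub, Finset.sum_sub_distrib]
    rw [hDa, hDb]; norm_num
  have hno := pair_no_two (fun X => a X - b X) D hdd hDd hD
  have ha := pair_entry o a hao haa
  have hb := pair_entry o b hbo hbb
  -- products off `o` are `0` or `1`
  have hp : ∀ X, X ≠ o → a X * b X = 0 ∨ a X * b X = 1 := by
    intro X hX
    have h1 := hno X
    rcases ha X hX with h | h | h <;> rcases hb X hX with h' | h' | h' <;> rw [h, h'] at h1 ⊢ <;>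
      first | (exfalso; revert h1; norm_num; done) | norm_num
  -- the sum of the products off `o` is `1`
  have hs := Finset.add_sum_erase Finset.univ (fun X => a X * b X) (Finset.mem_univ o)
  rw [hab, hao, hbo] at hs
  have hs1 : ∑ X ∈ Finset.univ.erase o, a X * b X = 1 := by linarith
  have hnn : ∀ X ∈ Finset.univ.erase o, 0 ≤ a X * b X := by
    intro X hX
    rcases hp X (Finset.ne_of_mem_erase hX) with h | h <;> rw [h] <;> norm_num
  -- existence of `Z`
  have hex : ∃ Z ∈ Finset.univ.erase o, a Z * b Z ≠ 0 := by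
    by_contra hcon
    have hcon' : ∀ Z ∈ Finset.univ.erase o, a Z * b Z = 0 := by
      intro Z hZ
      by_contra h
      exact hcon ⟨Z, hZ, h⟩
    rw [Finset.sum_eq_zero hcon'] at hs1
    norm_num at hs1
  obtain ⟨Z, hZm, hZ⟩ := hex
  have hZo : Z ≠ o := Finset.ne_of_mem_erase hZm
  have hZ1 : a Z * b Z = 1 := by
    rcases hp Z hZo with h | h
    · exact absurd h hZ
    · exact h
  refine ⟨Z, hZo, ?_, ?_, ?_⟩
  · intro h; rw [h] at hZ1; norm_num at hZ1
  · rcases ha Z hZo with h | h | h <;> rcases hb Z hZo with h' | h' | h' <;> rw [h, h'] at hZ1 ⊢ <;>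
      first | (exfalso; revert hZ1; norm_num; done) | norm_num
  · intro X hXo hXZ
    have hXm : X ∈ Finset.univ.erase o := Finset.mem_erase.2 ⟨hXo, Finset.mem_univ X⟩
    have hsub : ({Z, X} : Finset ι) ⊆ Finset.univ.erase o := by
      intro Y hY
      rcases Finset.mem_insert.1 hY with h | h
      · rw [h]; exact hZm
      · rw [Finset.mem_singleton.1 h]; exact hXm
    have h1 : ∑ Y ∈ ({Z, X} : Finset ι), a Y * b Y ≤ ∑ Y ∈ Finset.univ.erase o, a Y * b Y :=
      Finset.sum_le_sum_of_subset_of_nonneg hsub (fun Y hY _ => hnn Y hY)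
    rw [Finset.sum_pair (Ne.symm hXZ), hZ1, hs1] at h1
    have h2 : a X * b X = 0 := by
      rcases hp X hXo with h | h
      · exact h
      · rw [h] at h1; norm_num at h1
    exact mul_eq_zero.1 h2

end Cfsg.Agent.Helper3.J1A
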