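import Mathlib
import Cfsg.Prelude.Def_Blocks
import Cfsg.Agent.Lib.Helper5.Clifford2
import Cfsg.Agent.Lib.Helper24.CharAbelian
import Cfsg.Agent.Lib.Helper23.PRegularClass
import Cfsg.Agent.Lib.Helper23.ClassConst
import Cfsg.Agent.Lib.Helper23.GaloisChar
import Cfsg.Agent.Lib.Helper23.PrincipalQuot

/-!
# The class number of a semidirect product with an abelian normal Sylow subgroup (helper18)
-/

set_option autoImplicit false
set_option linter.style.haveILetI false
set_option linter.unusedVariables false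
set_option linter.unusedSectionVars false

namespace Cfsg.Agent.Helper18.KGV

open Cfsg Cfsg.Agent.Helper24 Cfsg.Agent.Helper5 Cfsg.Agent.Helper23
open scoped ComplexConjugate

universe u

/-- An irreducible character does not vanish on an abelian normal Sylow subgroup. -/
theorem char_ne_zero {X : Type u} [Group X] [Fintype X] (p : ℕ) [hp : Fact p.Prime]
    (V : Subgroup X) [hVn : V.Normal]
    (hVp : IsPGroup p V) (hidx : ¬ p ∣ V.index) (hab : ∀ a ∈ V, ∀ b ∈ V, a * b = b * a)
    {χ : X → ℂ} (hχ : IsIrrCharacter X χ) (v : X) (hv : v ∈ V) : χ v ≠ 0 := by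
  classical
  letI : Fintype V := Fintype.ofFinite V
  letI := irrFintype (G := V)
  letI : Fintype (X ⧸ V) := Fintype.ofFinite _
  have hχc := isCharacter_of_isIrrCharacter hχ
  have hres : IsCharacter V (fun n : V => χ n) := isCharacter_restrict V hχc
  have h0 : (fun n : V => χ n) ≠ 0 := by
    intro h
    have h1 := congrFun h 1
    obtain ⟨n, hn, h2⟩ := irr_one_eq hχ
    simp only [OneMemClass.coe_one, Pi.zero_apply] at h1
    rw [h2] at h1
    exact hn.ne' (by exact_mod_cast h1)
  obtain ⟨lam, hlam, hcon⟩ := exists_constituent hres h0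
  have hcl := clifford_orbit_sum V hχ hlam hcon
  -- the orbit-sum character
  set ψ : V → ℂ := ∑ q : X ⧸ V, Helper5.conjFun V q.out lam with hψ
  have hψc : IsCharacter V ψ := by
    apply isCharacter_sum
    intro q _
    exact Helper5.isCharacter_conjFun V q.out (isCharacter_of_isIrrCharacter hlam)
  have hsum : ∀ w : V, (∑ x : X, Helper5.conjFun V x lam) w = (Nat.card V : ℂ) * ψ w := by
    intro w
    rw [Finset.sum_apply, hψ, Finset.sum_apply]
    apply sum_eq_card_mul_sum_quotient V (fun x => Helper5.conjFun V x lam w)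
    intro x h hh
    rw [Helper5.conjFun_apply, Helper5.conjFun_apply]
    congr 1
    apply Subtype.ext
    show x * h * w * (x * h)⁻¹ = x * w * x⁻¹
    have := hab h hh w w.2
    calc x * h * w * (x * h)⁻¹ = x * (h * w) * h⁻¹ * x⁻¹ := by group
      _ = x * (w * h) * h⁻¹ * x⁻¹ := by rw [this]
      _ = x * w * x⁻¹ := by group
  intro hzero
  have hev := congrFun hcl ⟨v, hv⟩
  simp only [Pi.smul_apply, smul_eq_mul] at hev
  rw [hsum, hzero, mul_zero] at hev
  have hVne : (Nat.card V : ℂ) ≠ 0 := by exact_mod_cast (Nat.card_pos (α := V)).ne'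
  have hψ0 : ψ ⟨v, hv⟩ = 0 := by
    rcases mul_eq_zero.1 hev.symm with h | h
    · exact absurd h hcon
    · rcases mul_eq_zero.1 h with h | h
      · exact absurd h hVne
      · exact h
  obtain ⟨a, ha⟩ := hVp.exists_card_eq
  obtain ⟨γ, hγ⟩ := frobenius_congr hp.out a hψc ⟨v, hv⟩
  have hpow : (⟨v, hv⟩ : V) ^ p ^ a = 1 := by
    rw [← ha]
    exact pow_card_eq_one'
  have hpa : p ^ a ≠ 0 := pow_ne_zero _ hp.out.ne_zero
  rw [hψ0, zero_pow hpa, hpow] at hγ
  have hlam1 : lam 1 = 1 := by
    have h1 : charDegree lam = 1 :=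
      charDegree_eq_one_of_comm (fun x y => Subtype.ext (hab x x.2 y y.2)) hlam
    rw [irr_one_eq_charDegree hlam, h1, Nat.cast_one]
  have hψ1 : ψ 1 = (V.index : ℂ) := by
    rw [hψ, Finset.sum_apply]
    have : ∀ q : X ⧸ V, Helper5.conjFun V q.out lam 1 = 1 := by
      intro q
      rw [Helper5.conjFun_apply]
      have : (⟨q.out * ((1 : V) : X) * q.out⁻¹, hVn.conj_mem _ (1 : V).2 q.out⟩ : V) = 1 := by
        apply Subtype.ext
        simp
      rw [this, hlam1]
    rw [Finset.sum_congr rfl (fun q _ => this q)]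
    simp [Subgroup.index, Nat.card_eq_fintype_card]
  rw [hψ1] at hγ
  apply hidx
  have hint : IsIntegral ℤ (-(γ : ℂ)) := (γ.2).neg
  exact dvd_of_isIntegral_mul_eq' hint hp.out.ne_zero (by rw [neg_mul, mul_comm, ← hγ]; ring)

end Cfsg.Agent.Helper18.KGV
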