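import Mathlib
import Cfsg.Agent.Lib.Helper18.KGV

/-!
# The class number of a semidirect product with an abelian normal Sylow subgroup, II (helper18)
-/

set_option autoImplicit false
set_option linter.style.haveILetI false
set_option linter.unusedVariables false
set_option linter.unusedSectionVars false

namespace Cfsg.Agent.Helper18.KGV

open Cfsg Cfsg.Agent.Helper24 Cfsg.Agent.Helper5 Cfsg.Agent.Helper23
open scoped ComplexConjugate

universe u

/-- The Galois-averaged second orthogonality relation. -/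
theorem sum_normSq_pow {X : Type u} [Group X] [Fintype X] [Fintype (IrrCharacter X)] (v : X) (k : ℕ)
    (hk : Nat.Coprime k (Nat.card X)) :
    ∑ χ : IrrCharacter X, ‖(χ : X → ℂ) (v ^ k)‖ ^ 2 =
      (Nat.card (Subgroup.centralizer ({v} : Set X)) : ℝ) := by
  classical
  have h := second_orthogonality' (v ^ k) (v ^ k)
  rw [if_pos (IsConj.refl _), Blk.centralizer_pow_eq_of_coprime hk.symm] at h
  have h2 : ∀ χ : IrrCharacter X, (χ : X → ℂ) (v ^ k) * conj ((χ : X → ℂ) (v ^ k)) =
      ((‖(χ : X → ℂ) (v ^ k)‖ ^ 2 : ℝ) : ℂ) := by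
    intro χ
    rw [Complex.mul_conj, Complex.normSq_eq_norm_sq]
  rw [Finset.sum_congr rfl (fun χ _ => h2 χ)] at h
  exact_mod_cast h

theorem main {X : Type u} [Group X] [Finite X] (p : ℕ) [Fact p.Prime] (V : Subgroup X) [V.Normal]
    (hVp : IsPGroup p V) (hidx : ¬ p ∣ V.index) (hab : ∀ a ∈ V, ∀ b ∈ V, a * b = b * a)
    (G : Subgroup X) (hGV : Subgroup.IsComplement' V G) (v : X) (hv : v ∈ V) :
    Nat.card (ConjClasses X) + Nat.card G ≤
      Nat.card ↥(G ⊓ Subgroup.centralizer ({v} : Set X)) * Nat.card V +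
        Nat.card (ConjClasses G) := by
  classical
  letI : Fintype X := Fintype.ofFinite X
  letI := irrFintype (G := X)
  letI : Fintype (X ⧸ V) := Fintype.ofFinite _
  letI := irrFintype (G := X ⧸ V)
  set n := Nat.card X with hn
  set K := (Finset.range n).filter (fun k => Nat.Coprime k n) with hK
  set C := Subgroup.centralizer ({v} : Set X) with hC
  have hKpos : 0 < K.card := by
    apply Finset.card_pos.2
    by_cases h1 : n = 1
    · refine ⟨0, ?_⟩
      rw [hK, Finset.mem_filter, Finset.mem_range, h1]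
      exact ⟨Nat.one_pos, Nat.coprime_one_right 0⟩
    · refine ⟨1, ?_⟩
      rw [hK, Finset.mem_filter, Finset.mem_range]
      have : 0 < n := Nat.card_pos
      exact ⟨by omega, Nat.coprime_one_left n⟩
  -- the Galois sums
  set S : IrrCharacter X → ℝ := fun χ => ∑ k ∈ K, ‖(χ : X → ℂ) (v ^ k)‖ ^ 2 with hS
  have htotal : ∑ χ : IrrCharacter X, S χ = (K.card : ℝ) * (Nat.card C : ℝ) := by
    rw [hS]
    simp only
    rw [Finset.sum_comm]
    rw [Finset.sum_congr rfl (fun k hk => sum_normSq_pow v k (by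
      rw [hK, Finset.mem_filter] at hk
      exact hk.2))]
    rw [Finset.sum_const, nsmul_eq_mul]
  have hSge : ∀ χ : IrrCharacter X, (K.card : ℝ) ≤ S χ := by
    intro χ
    obtain ⟨m, ρ, hρ, hχρ⟩ := χ.2
    have hne : ρ.character v ≠ 0 := by
      rw [hχρ]
      exact char_ne_zero p V hVp hidx hab χ.2 v hv
    have := card_le_sum_normSq_char_pow ρ v hne
    rw [hS]
    simp only
    rw [← hχρ]
    exact this
  -- inflation
  let infl : IrrCharacter (X ⧸ V) → IrrCharacter X := fun ψ =>
    ⟨(ψ : X ⧸ V → ℂ) ∘ (QuotientGroup.mk : X → X ⧸ V), isIrrCharacter_inflate V ψ.2⟩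
  have hinj : Function.Injective infl := by
    intro ψ₁ ψ₂ h
    apply Subtype.ext
    funext q
    obtain ⟨x, rfl⟩ := QuotientGroup.mk_surjective q
    have := congrArg (fun χ : IrrCharacter X => (χ : X → ℂ) x) h
    exact this
  have hSinfl : ∀ ψ : IrrCharacter (X ⧸ V),
      S (infl ψ) = (K.card : ℝ) * ((charDegree (ψ : X ⧸ V → ℂ) ^ 2 : ℕ) : ℝ) := by
    intro ψ
    rw [hS]
    simp only
    have : ∀ k ∈ K, ‖((infl ψ : IrrCharacter X) : X → ℂ) (v ^ k)‖ ^ 2 =
        ((charDegree (ψ : X ⧸ V → ℂ) ^ 2 : ℕ) : ℝ) := by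
      intro k _
      have h1 : ((infl ψ : IrrCharacter X) : X → ℂ) (v ^ k) = (ψ : X ⧸ V → ℂ) 1 := by
        show (ψ : X ⧸ V → ℂ) ((v ^ k : X) : X ⧸ V) = _
        have h0 : ((v ^ k : X) : X ⧸ V) = 1 := (QuotientGroup.eq_one_iff _).2 (V.pow_mem hv k)
        rw [h0]
      rw [h1, irr_one_eq_charDegree ψ.2]
      push_cast
      rw [Complex.norm_natCast]
    rw [Finset.sum_congr rfl this, Finset.sum_const, nsmul_eq_mul]
  set I : Finset (IrrCharacter X) := Finset.univ.image infl with hI
  have hIcard : I.card = Fintype.card (IrrCharacter (X ⧸ V)) := by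
    rw [hI, Finset.card_image_of_injective _ hinj, Finset.card_univ]
  have hsplit : ∑ χ : IrrCharacter X, S χ = ∑ χ ∈ I, S χ + ∑ χ ∈ Iᶜ, S χ :=
    (Finset.sum_add_sum_compl I S).symm
  have hI1 : ∑ χ ∈ I, S χ = (K.card : ℝ) * (Nat.card (X ⧸ V) : ℝ) := by
    rw [hI, Finset.sum_image (fun a _ b _ h => hinj h)]
    rw [Finset.sum_congr rfl (fun ψ _ => hSinfl ψ), ← Finset.mul_sum]
    congr 1
    rw [← sum_charDegree_sq (G := X ⧸ V)]
    push_cast
    rfl
  have hI2 : (Iᶜ.card : ℝ) * (K.card : ℝ) ≤ ∑ χ ∈ Iᶜ, S χ := by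
    have := Finset.card_nsmul_le_sum Iᶜ S (K.card : ℝ) (fun χ _ => hSge χ)
    rw [nsmul_eq_mul] at this
    exact this
  have hcompl : Iᶜ.card + I.card = Fintype.card (IrrCharacter X) := by
    rw [Finset.card_compl]
    have : I.card ≤ Fintype.card (IrrCharacter X) := Finset.card_le_univ I
    omega
  have hkX : Fintype.card (IrrCharacter X) = Nat.card (ConjClasses X) := by
    rw [← Nat.card_eq_fintype_card]
    exact card_irr_eq_card_conjClasses
  have hkQ : Fintype.card (IrrCharacter (X ⧸ V)) = Nat.card (ConjClasses (X ⧸ V)) := by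
    rw [← Nat.card_eq_fintype_card]
    exact card_irr_eq_card_conjClasses
  -- the inequality in `ℝ`, then in `ℕ`
  have hreal : (K.card : ℝ) * ((Nat.card (X ⧸ V) : ℝ) + (Iᶜ.card : ℝ)) ≤
      (K.card : ℝ) * (Nat.card C : ℝ) := by
    rw [← htotal, hsplit, hI1]
    nlinarith [hI2]
  have hKr : (0 : ℝ) < (K.card : ℝ) := by exact_mod_cast hKpos
  have hnat : Nat.card (X ⧸ V) + Iᶜ.card ≤ Nat.card C := by
    have := le_of_mul_le_mul_left hreal hKr
    exact_mod_cast this
  -- the order of the quotient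
  have hQcard : Nat.card (X ⧸ V) = Nat.card G := by
    have := hGV.symm.index_eq_card
    rw [← this]
    rfl
  -- classes of the quotient
  have hsurj : Function.Surjective ((QuotientGroup.mk' V).comp G.subtype) := by
    intro q
    obtain ⟨x, rfl⟩ := QuotientGroup.mk_surjective q
    obtain ⟨⟨a, g⟩, hag, -⟩ := hGV.existsUnique x
    refine ⟨g, ?_⟩
    show ((g : X) : X ⧸ V) = (x : X ⧸ V)
    rw [QuotientGroup.eq]
    simp only at hag
    rw [← hag]
    have : (g : X)⁻¹ * ((a : X) * (g : X)) = (g : X)⁻¹ * (a : X) * ((g : X)⁻¹)⁻¹ := by group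
    rw [this]
    exact (inferInstance : V.Normal).conj_mem _ a.2 _
  have hclQ : Nat.card (ConjClasses (X ⧸ V)) ≤ Nat.card (ConjClasses G) :=
    Nat.card_le_card_of_surjective _ (ConjClasses.map_surjective hsurj)
  -- the centralizer
  have hCle : Nat.card C ≤ Nat.card ↥(G ⊓ C) * Nat.card V := by
    have hVC : V ≤ C := by
      intro a ha
      rw [hC, Subgroup.mem_centralizer_iff]
      intro y hy
      rw [Set.mem_singleton_iff] at hy
      subst hy
      exact hab y hv a ha
    let f : C → ↥(G ⊓ C) × V := fun x =>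
      let ag := (hGV.existsUnique (x : X)).choose
      have hag : (ag.1 : X) * (ag.2 : X) = x := (hGV.existsUnique (x : X)).choose_spec.1
      (⟨(ag.2 : X), ⟨ag.2.2, by
        have : (ag.2 : X) = (ag.1 : X)⁻¹ * x := by rw [← hag]; group
        rw [this]
        exact C.mul_mem (C.inv_mem (hVC ag.1.2)) x.2⟩⟩, ag.1)
    have hf : Function.Injective f := by
      intro x y hxy
      have hx : (((hGV.existsUnique (x : X)).choose).1 : X) *
          (((hGV.existsUnique (x : X)).choose).2 : X) = x :=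
        (hGV.existsUnique (x : X)).choose_spec.1
      have hy : (((hGV.existsUnique (y : X)).choose).1 : X) *
          (((hGV.existsUnique (y : X)).choose).2 : X) = y :=
        (hGV.existsUnique (y : X)).choose_spec.1
      have h1 : (((hGV.existsUnique (x : X)).choose).2 : X) =
          (((hGV.existsUnique (y : X)).choose).2 : X) := by
        have := congrArg (fun z : ↥(G ⊓ C) × V => ((z.1 : ↥(G ⊓ C)) : X)) hxy
        exact this
      have h2 : (((hGV.existsUnique (x : X)).choose).1 : X) =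
          (((hGV.existsUnique (y : X)).choose).1 : X) := by
        have := congrArg (fun z : ↥(G ⊓ C) × V => ((z.2 : V) : X)) hxy
        exact this
      apply Subtype.ext
      rw [← hx, ← hy, h1, h2]
    have := Nat.card_le_card_of_injective f hf
    rw [Nat.card_prod] at this
    exact this
  omega

end Cfsg.Agent.Helper18.KGV
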