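import Mathlib
import Cfsg.Agent.Lib.Helper18.LevDefs
import Cfsg.Agent.Lib.Helper25.LEVCHILDA

/-!
# S2522 (Lev): dimension 3, at most one functional with a bad child (helper18, core of LEV-BAD3)
-/

set_option autoImplicit false
set_option linter.unusedSectionVars false
set_option linter.unusedVariables false

namespace Cfsg.Agent.Helper18.Lev

open Module

universe u v

section bad3
variable {K : Type u} [Field K] {V : Type v} [AddCommGroup V] [Module K V]

/-- `finrank (ker φ) + 1 = finrank V` when `φ e = 1` -/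
theorem bad3h_finrank_ker [FiniteDimensional K V] (φ : V →ₗ[K] K) (e : V) (he : φ e = 1) :
    finrank K ↥(LinearMap.ker φ) + 1 = finrank K V := by
  have hsurj : LinearMap.range φ = ⊤ := by
    rw [LinearMap.range_eq_top]
    intro c
    exact ⟨c • e, by simp [he]⟩
  have h := LinearMap.finrank_range_add_finrank_ker φ
  rw [hsurj, finrank_top, finrank_self] at h
  omega

/-- a bad child is scalar or has a non-zero fixed vector -/
theorem bad3h_cases [FiniteDimensional K V] (h3 : finrank K V = 3) (g : V →ₗ[K] V) (e : V)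
    (φ : V →ₗ[K] K) (he : φ e = 1) (hge : φ (g e) = 1) (hbad : ¬ HH (child g e φ)) :
    (∃ c : K, child g e φ = c • LinearMap.id) ∨
      (∃ w : V, w ≠ 0 ∧ φ w = 0 ∧ g w - φ (g w) • g e = w) := by
  by_cases hs : ∃ c : K, child g e φ = c • LinearMap.id
  · exact Or.inl hs
  · right
    have hns : ∀ c : K, child g e φ ≠ c • LinearMap.id := fun c hc => hs ⟨c, hc⟩
    have hrk : ¬ 2 ≤ finrank K (LinearMap.range (child g e φ - LinearMap.id)) := fun h =>
      hbad ⟨hns, h⟩
    have hW : finrank K ↥(LinearMap.ker φ) = 2 := by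
      have := bad3h_finrank_ker φ e he
      omega
    have hrn := LinearMap.finrank_range_add_finrank_ker (child g e φ - LinearMap.id)
    have hker : LinearMap.ker (child g e φ - LinearMap.id) ≠ ⊥ := by
      intro hb
      rw [hb, finrank_bot] at hrn
      omega
    obtain ⟨w, hw, hw0⟩ := (Submodule.ne_bot_iff _).mp hker
    refine ⟨(w : V), ?_, w.2, ?_⟩
    · intro h0
      apply hw0
      exact Subtype.ext h0
    · have h1 : child g e φ w = w := by
        have := LinearMap.mem_ker.mp hw
        rw [LinearMap.sub_apply, LinearMap.id_apply, sub_eq_zero] at this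
        exact this
      have h2 := congrArg Subtype.val h1
      rw [child_coe' g e φ hge] at h2
      exact h2

/-- the plane `P = ⟨e, g e - e⟩` does not contain `range (g - 1)` -/
theorem bad3h_not_le [FiniteDimensional K V] (h3 : finrank K V = 3) (g : V →ₗ[K] V) (e : V)
    (hind : LinearIndependent K ![e, g e - e])
    (hr : 2 ≤ finrank K (LinearMap.range (g - LinearMap.id)))
    (hI : finrank K (LinearMap.range (g - LinearMap.id)) < 3 →
      e ∉ LinearMap.range (g - LinearMap.id)) :
    ¬ (LinearMap.range (g - LinearMap.id) ≤ Submodule.span K {e, g e - e}) := by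
  intro hle
  have hP : finrank K ↥(Submodule.span K ({e, g e - e} : Set V)) = 2 := by
    have h := finrank_span_eq_card hind
    have hrange : Set.range ![e, g e - e] = {e, g e - e} := by
      ext x
      simp only [Set.mem_range, Set.mem_insert_iff, Set.mem_singleton_iff]
      constructor
      · rintro ⟨i, rfl⟩
        fin_cases i
        · left; rfl
        · right; rfl
      · rintro (rfl | rfl)
        · exact ⟨0, rfl⟩
        · exact ⟨1, rfl⟩
    rw [hrange] at h
    simpa using h
  have heq : LinearMap.range (g - LinearMap.id) = Submodule.span K {e, g e - e} :=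
    Submodule.eq_of_le_of_finrank_le hle (by rw [hP]; exact hr)
  have hlt : finrank K (LinearMap.range (g - LinearMap.id)) < 3 := by rw [heq, hP]; norm_num
  apply hI hlt
  rw [heq]
  exact Submodule.subset_span (by simp)

/-- an adapted basis `(f, e, g e - e)` -/
theorem bad3h_basis [FiniteDimensional K V] (h3 : finrank K V = 3) (g : V →ₗ[K] V) (e : V)
    (hind : LinearIndependent K ![e, g e - e]) :
    ∃ (f : V) (b : Basis (Fin 3) K V), b 0 = f ∧ b 1 = e ∧ b 2 = g e - e := by
  have hP : finrank K ↥(Submodule.span K (Set.range ![e, g e - e])) = 2 := by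
    have h := finrank_span_eq_card hind
    simpa using h
  have hlt : Submodule.span K (Set.range ![e, g e - e]) < ⊤ := by
    rw [lt_top_iff_ne_top]
    intro htop
    rw [htop, finrank_top, h3] at hP
    omega
  obtain ⟨f, -, hf⟩ := SetLike.exists_of_lt hlt
  have hli : LinearIndependent K (Fin.cons f ![e, g e - e] : Fin 3 → V) :=
    linearIndependent_finCons.mpr ⟨hind, hf⟩
  let b : Basis (Fin 3) K V := basisOfLinearIndependentOfCardEqFinrank hli (by simp [h3])
  refine ⟨f, b, ?_, ?_, ?_⟩
  · simp [b]
  · simp [b]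
  · simp [b]

/-- a functional `θ` with kernel exactly the plane `P = ⟨e, g e - e⟩`, and a vector `f` with
`θ f = 1`; if moreover `g (g e - e) = (g e - e) + t • g e` then `det g = θ (g f)`. -/
theorem bad3h_theta [FiniteDimensional K V] (h3 : finrank K V = 3) (g : V →ₗ[K] V) (e : V)
    (hind : LinearIndependent K ![e, g e - e]) :
    ∃ (f : V) (θ : V →ₗ[K] K), θ f = 1 ∧ θ e = 0 ∧ θ (g e - e) = 0 ∧
      (∀ v : V, θ v = 0 → v ∈ Submodule.span K {e, g e - e}) ∧
      (∀ v : V, v - θ v • f ∈ Submodule.span K {e, g e - e}) ∧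
      (∀ t : K, g (g e - e) = (g e - e) + t • g e → LinearMap.det g = θ (g f)) := by
  obtain ⟨f, b, hb0, hb1, hb2⟩ := bad3h_basis h3 g e hind
  have hθ : ∀ v : V, v = b.coord 0 v • f + (b.coord 1 v • e + b.coord 2 v • (g e - e)) := by
    intro v
    conv_lhs => rw [← b.sum_repr v]
    rw [Fin.sum_univ_three, hb0, hb1, hb2]
    simp only [Basis.coord_apply]
    module
  have hmem : ∀ x y : K, x • e + y • (g e - e) ∈ Submodule.span K ({e, g e - e} : Set V) := by
    intro x y
    apply Submodule.add_mem
    · exact Submodule.smul_mem _ _ (Submodule.subset_span (by simp))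
    · exact Submodule.smul_mem _ _ (Submodule.subset_span (by simp))
  refine ⟨f, b.coord 0, ?_, ?_, ?_, ?_, ?_, ?_⟩
  · rw [← hb0]; simp
  · rw [← hb1]; simp
  · rw [← hb2]; simp
  · intro v hv
    rw [hθ v, hv, zero_smul, zero_add]
    exact hmem _ _
  · intro v
    have h := hθ v
    have : v - b.coord 0 v • f = b.coord 1 v • e + b.coord 2 v • (g e - e) := by
      rw [sub_eq_iff_eq_add]
      rw [add_comm]
      exact h
    rw [this]
    exact hmem _ _
  · intro t ht
    rw [← LinearMap.det_toMatrix b g, Matrix.det_fin_three]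
    have hge' : g (b 1) = b 1 + b 2 := by rw [hb1, hb2]; abel
    have hgu : g (b 2) = t • b 1 + (1 + t) • b 2 := by
      rw [hb1, hb2, ht]
      module
    have e01 : LinearMap.toMatrix b b g 0 1 = 0 := by
      rw [LinearMap.toMatrix_apply, hge']; simp
    have e02 : LinearMap.toMatrix b b g 0 2 = 0 := by
      rw [LinearMap.toMatrix_apply, hgu]; simp
    have e11 : LinearMap.toMatrix b b g 1 1 = 1 := by
      rw [LinearMap.toMatrix_apply, hge']; simp
    have e21 : LinearMap.toMatrix b b g 2 1 = 1 := by
      rw [LinearMap.toMatrix_apply, hge']; simp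
    have e12 : LinearMap.toMatrix b b g 1 2 = t := by
      rw [LinearMap.toMatrix_apply, hgu]; simp
    have e22 : LinearMap.toMatrix b b g 2 2 = 1 + t := by
      rw [LinearMap.toMatrix_apply, hgu]; simp
    have e00 : LinearMap.toMatrix b b g 0 0 = b.coord 0 (g f) := by
      rw [LinearMap.toMatrix_apply, hb0]; rfl
    rw [e01, e02, e11, e21, e12, e22, e00]
    ring

/-- (iii): `u = g e - e` is not in `A = (g-1)⁻¹ (K g e)` -/
theorem bad3h_u_notin [FiniteDimensional K V] (h3 : finrank K V = 3) (g : V →ₗ[K] V)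
    (hdet : LinearMap.det g = 1) (e : V)
    (hind : LinearIndependent K ![e, g e - e])
    (hr : 2 ≤ finrank K (LinearMap.range (g - LinearMap.id)))
    (hI : finrank K (LinearMap.range (g - LinearMap.id)) < 3 →
      e ∉ LinearMap.range (g - LinearMap.id)) :
    g (g e - e) - (g e - e) ∉ Submodule.span K {g e} := by
  intro h
  obtain ⟨t, ht⟩ := Submodule.mem_span_singleton.mp h
  have ht' : g (g e - e) = (g e - e) + t • g e := by rw [ht]; abel
  obtain ⟨f, θ, hf, hθe, hθu, hker, hdec, hdetθ⟩ := bad3h_theta h3 g e hind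
  have hκ : θ (g f) = 1 := by rw [← hdetθ t ht', hdet]
  have hθge : θ (g e) = 0 := by
    have : g e = e + (g e - e) := by abel
    rw [this, map_add, hθe, hθu, add_zero]
  have hP : ∀ p ∈ Submodule.span K ({e, g e - e} : Set V), θ (g p - p) = 0 := by
    intro p hp
    obtain ⟨x, y, rfl⟩ := Submodule.mem_span_pair.mp hp
    have : g (x • e + y • (g e - e)) - (x • e + y • (g e - e)) =
        x • (g e - e) + y • (t • g e) := by
      rw [map_add, map_smul, map_smul, ht']
      module
    rw [this, map_add, map_smul, map_smul, map_smul, hθu, hθge]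
    simp
  have hθN : ∀ v : V, θ (g v - v) = 0 := by
    intro v
    have h1 := hP _ (hdec v)
    have : g v - v = θ v • (g f - f) + (g (v - θ v • f) - (v - θ v • f)) := by
      rw [map_sub, map_smul]
      module
    rw [this, map_add, h1, map_smul, map_sub, hκ, hf]
    simp
  apply bad3h_not_le h3 g e hind hr hI
  rintro _ ⟨v, rfl⟩
  apply hker
  rw [LinearMap.sub_apply, LinearMap.id_apply]
  exact hθN v

/-- (iv): if `P` is `g`-invariant in the form `g u - c u ∈ K g e` then `A ≤ P` -/
theorem bad3h_A_le [FiniteDimensional K V] (h3 : finrank K V = 3) (g : V →ₗ[K] V) (e : V)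
    (hind : LinearIndependent K ![e, g e - e])
    (hr : 2 ≤ finrank K (LinearMap.range (g - LinearMap.id)))
    (hI : finrank K (LinearMap.range (g - LinearMap.id)) < 3 →
      e ∉ LinearMap.range (g - LinearMap.id))
    (c : K) (hc : g (g e - e) - c • (g e - e) ∈ Submodule.span K {g e})
    (a : V) (ha : g a - a ∈ Submodule.span K {g e}) :
    a ∈ Submodule.span K {e, g e - e} := by
  obtain ⟨s, hs⟩ := Submodule.mem_span_singleton.mp hc
  have hs' : g (g e - e) = c • (g e - e) + s • g e := by rw [hs]; abel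
  obtain ⟨r, hr'⟩ := Submodule.mem_span_singleton.mp ha
  obtain ⟨f, θ, hf, hθe, hθu, hker, hdec, -⟩ := bad3h_theta h3 g e hind
  have hθge : θ (g e) = 0 := by
    have : g e = e + (g e - e) := by abel
    rw [this, map_add, hθe, hθu, add_zero]
  have hP : ∀ p ∈ Submodule.span K ({e, g e - e} : Set V), θ (g p) = 0 := by
    intro p hp
    obtain ⟨x, y, rfl⟩ := Submodule.mem_span_pair.mp hp
    simp only [map_add, map_smul, hs', hθu, hθge]
    simp
  have hθg : ∀ v : V, θ (g v) = θ v * θ (g f) := by
    intro v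
    have h1 := hP _ (hdec v)
    rw [map_sub, map_sub, map_smul, map_smul, smul_eq_mul] at h1
    exact sub_eq_zero.mp h1
  apply hker
  have h2 : θ (g a - a) = 0 := by rw [← hr', map_smul, hθge]; simp
  rw [map_sub, hθg a] at h2
  have h3' : θ a * (θ (g f) - 1) = 0 := by rw [mul_sub, mul_one]; exact h2
  rcases mul_eq_zero.mp h3' with h | h
  · exact h
  · exfalso
    have hκ : θ (g f) = 1 := sub_eq_zero.mp h
    apply bad3h_not_le h3 g e hind hr hI
    rintro _ ⟨v, rfl⟩
    apply hker
    rw [LinearMap.sub_apply, LinearMap.id_apply, map_sub, hθg v, hκ, mul_one, sub_self]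

/-- `A` has dimension at most one: any member is a multiple of a non-zero member -/
theorem bad3h_A_span [FiniteDimensional K V] (h3 : finrank K V = 3) (g : V →ₗ[K] V) (e : V)
    (hA : finrank K ↥(Submodule.comap (g - LinearMap.id) (Submodule.span K {g e})) + 2 ≤
      finrank K V)
    (w a : V) (hw0 : w ≠ 0) (hw : g w - w ∈ Submodule.span K {g e})
    (ha : g a - a ∈ Submodule.span K {g e}) : a ∈ Submodule.span K {w} := by
  set A := Submodule.comap (g - LinearMap.id) (Submodule.span K {g e}) with hAdef
  have hle : finrank K ↥A ≤ 1 := by omega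
  have hwA : w ∈ A := by
    rw [hAdef, Submodule.mem_comap, LinearMap.sub_apply, LinearMap.id_apply]; exact hw
  have haA : a ∈ A := by
    rw [hAdef, Submodule.mem_comap, LinearMap.sub_apply, LinearMap.id_apply]; exact ha
  obtain ⟨v, hv⟩ := finrank_le_one_iff.mp hle
  obtain ⟨c1, hc1⟩ := hv ⟨w, hwA⟩
  obtain ⟨c2, hc2⟩ := hv ⟨a, haA⟩
  have hc1' : c1 • (v : V) = w := congrArg Subtype.val hc1
  have hc2' : c2 • (v : V) = a := congrArg Subtype.val hc2
  have hc1ne : c1 ≠ 0 := by
    intro h0
    apply hw0
    rw [← hc1', h0, zero_smul]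
  rw [Submodule.mem_span_singleton]
  refine ⟨c2 * c1⁻¹, ?_⟩
  rw [← hc1', ← hc2', smul_smul, mul_assoc, inv_mul_cancel₀ hc1ne, mul_one]

/-- `ker φ ∩ P = K u` -/
theorem bad3h_ker_inf_P (g : V →ₗ[K] V) (e : V) (φ : V →ₗ[K] K) (he : φ e = 1)
    (hge : φ (g e) = 1) (v : V) (hv : v ∈ Submodule.span K {e, g e - e}) (hφ : φ v = 0) :
    v ∈ Submodule.span K {g e - e} := by
  obtain ⟨x, y, rfl⟩ := Submodule.mem_span_pair.mp hv
  have hu : φ (g e - e) = 0 := by rw [map_sub, he, hge, sub_self]
  rw [map_add, map_smul, map_smul, he, hu] at hφ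
  have hx : x = 0 := by simpa using hφ
  rw [hx, zero_smul, zero_add]
  exact Submodule.smul_mem _ _ (Submodule.subset_span rfl)

/-- for `φ ≠ φ'` in `Φ_e`: `ker φ ∩ ker φ' = K u` -/
theorem bad3h_ker_inf_ker [FiniteDimensional K V] (h3 : finrank K V = 3) (g : V →ₗ[K] V) (e : V)
    (hind : LinearIndependent K ![e, g e - e])
    (φ φ' : V →ₗ[K] K) (he : φ e = 1) (hge : φ (g e) = 1) (he' : φ' e = 1) (hge' : φ' (g e) = 1)
    (hne : φ ≠ φ') (v : V) (hv : φ v = 0) (hv' : φ' v = 0) :
    v ∈ Submodule.span K {g e - e} := by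
  by_contra hvn
  apply hne
  have hu0 : g e - e ≠ 0 := by
    have := hind.ne_zero (1 : Fin 2)
    simpa using this
  have hu : φ (g e - e) = 0 := by rw [map_sub, he, hge, sub_self]
  have hu' : φ' (g e - e) = 0 := by rw [map_sub, he', hge', sub_self]
  have hli : LinearIndependent K ![g e - e, v] := by
    rw [LinearIndependent.pair_iff' hu0]
    intro a ha
    apply hvn
    rw [← ha]
    exact Submodule.smul_mem _ _ (Submodule.subset_span rfl)
  have hS : finrank K ↥(Submodule.span K (Set.range ![g e - e, v])) = 2 := by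
    have h := finrank_span_eq_card hli
    simpa using h
  have hW : finrank K ↥(LinearMap.ker φ) = 2 := by
    have := bad3h_finrank_ker φ e he
    omega
  have hSle : Submodule.span K (Set.range ![g e - e, v]) ≤ LinearMap.ker φ := by
    rw [Submodule.span_le]
    rintro _ ⟨i, rfl⟩
    fin_cases i
    · exact hu
    · exact hv
  have hSle' : Submodule.span K (Set.range ![g e - e, v]) ≤ LinearMap.ker φ' := by
    rw [Submodule.span_le]
    rintro _ ⟨i, rfl⟩
    fin_cases i
    · exact hu'
    · exact hv'
  have hSeq : Submodule.span K (Set.range ![g e - e, v]) = LinearMap.ker φ :=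
    Submodule.eq_of_le_of_finrank_le hSle (by rw [hS, hW])
  have hkk : LinearMap.ker φ ≤ LinearMap.ker φ' := by rw [← hSeq]; exact hSle'
  apply LinearMap.ext
  intro x
  have hx : x - φ x • e ∈ LinearMap.ker φ := by
    rw [LinearMap.mem_ker, map_sub, map_smul, he]; simp
  have hx' := hkk hx
  rw [LinearMap.mem_ker, map_sub, map_smul, he', smul_eq_mul, mul_one, sub_eq_zero] at hx'
  exact hx'.symm

theorem bad3h_fix_sub (g : V →ₗ[K] V) (e : V) (c : K) (w : V) (hw : g w - c • g e = w) :
    g w - w ∈ Submodule.span K {g e} := by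
  have h2 : g w - c • g e - w = 0 := by rw [hw, sub_self]
  have h3 : g w - w - c • g e = 0 := by rw [← h2]; abel
  rw [sub_eq_zero.mp h3]
  exact Submodule.smul_mem _ _ (Submodule.subset_span rfl)

/-- CORE of LEV-BAD3 (the dimension bound of `A` as a hypothesis) -/
theorem child_bad_unique3_core [FiniteDimensional K V] (h3 : finrank K V = 3) (g : V →ₗ[K] V)
    (hdet : LinearMap.det g = 1) (e : V)
    (hind : LinearIndependent K ![e, g e - e])
    (hr : 2 ≤ finrank K (LinearMap.range (g - LinearMap.id)))
    (hI : finrank K (LinearMap.range (g - LinearMap.id)) < 3 →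
      e ∉ LinearMap.range (g - LinearMap.id))
    (hA : finrank K ↥(Submodule.comap (g - LinearMap.id) (Submodule.span K {g e})) + 2 ≤
      finrank K V)
    (φ φ' : V →ₗ[K] K) (he : φ e = 1) (hge : φ (g e) = 1)
    (he' : φ' e = 1) (hge' : φ' (g e) = 1)
    (hbad : ¬ HH (child g e φ)) (hbad' : ¬ HH (child g e φ')) : φ = φ' := by
  have hinj : Function.Injective g := by
    have hunit : IsUnit (LinearMap.det g) := by rw [hdet]; exact isUnit_one
    exact (LinearMap.equivOfDetNeZero g (by rw [hdet]; exact one_ne_zero)).injective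
  have hu : φ (g e - e) = 0 := by rw [map_sub, he, hge, sub_self]
  have hu' : φ' (g e - e) = 0 := by rw [map_sub, he', hge', sub_self]
  have hu0 : g e - e ≠ 0 := by
    have := hind.ne_zero (1 : Fin 2)
    simpa using this
  have hnot := bad3h_u_notin h3 g hdet e hind hr hI
  -- a fixed vector of a child lying in `K u` is impossible
  have key : ∀ w : V, w ≠ 0 → g w - w ∈ Submodule.span K {g e} →
      w ∈ Submodule.span K {g e - e} → False := by
    intro w hw0 hwA hwu
    obtain ⟨s, hs⟩ := Submodule.mem_span_singleton.mp hwu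
    have hs0 : s ≠ 0 := by
      intro h0; apply hw0; rw [← hs, h0, zero_smul]
    apply hnot
    have : g (g e - e) - (g e - e) = s⁻¹ • (g w - w) := by
      rw [← hs, map_smul, ← smul_sub, smul_smul, inv_mul_cancel₀ hs0, one_smul]
    rw [this]
    exact Submodule.smul_mem _ _ hwA
  -- a scalar child makes `A ≤ P`, so a singular child is impossible
  have mixed : ∀ (ψ ψ' : V →ₗ[K] K), ψ e = 1 → ψ (g e) = 1 → ψ' e = 1 → ψ' (g e) = 1 →
      (∃ c : K, child g e ψ = c • LinearMap.id) →
      (∃ w : V, w ≠ 0 ∧ ψ' w = 0 ∧ g w - ψ' (g w) • g e = w) → False := by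
    intro ψ ψ' hψe hψge hψ'e hψ'ge hsc hsing
    obtain ⟨c, hc⟩ := hsc
    obtain ⟨w, hw0, hψ'w, hw⟩ := hsing
    have hψu : ψ (g e - e) = 0 := by rw [map_sub, hψe, hψge, sub_self]
    have h1 := childa_apply g e ψ hψge c hc (g e - e) hψu
    have hcA : g (g e - e) - c • (g e - e) ∈ Submodule.span K {g e} := by
      have : g (g e - e) - c • (g e - e) = ψ (g (g e - e)) • g e := by
        rw [← h1]; abel
      rw [this]
      exact Submodule.smul_mem _ _ (Submodule.subset_span rfl)
    have hwA : g w - w ∈ Submodule.span K {g e} := bad3h_fix_sub g e _ w hw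
    have hwP := bad3h_A_le h3 g e hind hr hI c hcA w hwA
    exact key w hw0 hwA (bad3h_ker_inf_P g e ψ' hψ'e hψ'ge w hwP hψ'w)
  rcases bad3h_cases h3 g e φ he hge hbad with hs | hs
  · rcases bad3h_cases h3 g e φ' he' hge' hbad' with hs' | hs'
    · obtain ⟨c, hc⟩ := hs
      obtain ⟨c', hc'⟩ := hs'
      exact child_scalar_unique (by omega) g hinj e hind φ φ' he hge he' hge' c c' hc hc'
    · exact (mixed φ φ' he hge he' hge' hs hs').elim
  · rcases bad3h_cases h3 g e φ' he' hge' hbad' with hs' | hs'
    · exact (mixed φ' φ he' hge' he hge hs' hs).elim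
    · by_contra hne
      obtain ⟨w, hw0, hφw, hw⟩ := hs
      obtain ⟨w', hw'0, hφ'w', hw'⟩ := hs'
      have hwA : g w - w ∈ Submodule.span K {g e} := bad3h_fix_sub g e _ w hw
      have hw'A : g w' - w' ∈ Submodule.span K {g e} := bad3h_fix_sub g e _ w' hw'
      -- `w ∈ K w'`, so `φ' w = 0`
      have hww' := bad3h_A_span h3 g e hA w' w hw'0 hw'A hwA
      obtain ⟨s, hs⟩ := Submodule.mem_span_singleton.mp hww'
      have hφ'w : φ' w = 0 := by rw [← hs, map_smul, hφ'w', smul_zero]
      exact key w hw0 hwA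
        (bad3h_ker_inf_ker h3 g e hind φ φ' he hge he' hge' hne w hφw hφ'w)

end bad3

end Cfsg.Agent.Helper18.Lev
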