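import Mathlib
import Cfsg.Agent.Lib.Helper18.LevBad3
import Cfsg.Agent.Lib.Helper15.LEVCHILDB

/-!
# S2522 (Lev), piece LEV-BAD3 (helper18): exact-name wrapper
-/

set_option autoImplicit false

namespace Cfsg.Agent.Helper18.Lev

open Module

universe u v

section pieces
variable {K : Type u} [Field K] {V : Type v} [AddCommGroup V] [Module K V]

/-- PIECE LEV-BAD3. -/
theorem child_bad_unique3 [FiniteDimensional K V] (h3 : finrank K V = 3) (g : V →ₗ[K] V)
    (hdet : LinearMap.det g = 1) (e : V)
    (hind : LinearIndependent K ![e, g e - e])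
    (hr : 2 ≤ finrank K (LinearMap.range (g - LinearMap.id)))
    (hI : finrank K (LinearMap.range (g - LinearMap.id)) < 3 →
      e ∉ LinearMap.range (g - LinearMap.id))
    (φ φ' : V →ₗ[K] K) (he : φ e = 1) (hge : φ (g e) = 1)
    (he' : φ' e = 1) (hge' : φ' (g e) = 1)
    (hbad : ¬ HH (child g e φ)) (hbad' : ¬ HH (child g e φ')) : φ = φ' :=
  child_bad_unique3_core h3 g hdet e hind hr hI
    (finrank_A1_le g e hr (fun h2 => hI (by omega))) φ φ' he hge he' hge' hbad hbad'

end pieces

end Cfsg.Agent.Helper18.Lev
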