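import Mathlib
import Cfsg.Agent.Lib.Helper13.SuBN1

/-!
# Landazuri–Seitz bounds for the unitary groups (S2335, S2334): shared definitions (helper18)

`ct φ M` is the conjugate transpose, `Herm φ m` the additive group of hermitian `m × m` matrices,
`hq φ T w = w^* T w` the value of the hermitian form, `uu φ u = u u^*` the rank one matrix.
-/

set_option autoImplicit false

namespace Cfsg.Agent.Helper18.LS

open Matrix

variable {F : Type*} [Field F]

/-- the conjugate transpose -/
def ct {ι : Type*} (φ : F →+* F) (M : Matrix ι ι F) : Matrix ι ι F := (M.map φ)ᵀ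

section ct

variable {ι : Type*} (φ : F →+* F)

theorem ct_apply (M : Matrix ι ι F) (i j : ι) : ct φ M i j = φ (M j i) := rfl

theorem ct_zero : ct φ (0 : Matrix ι ι F) = 0 := by
  ext i j
  rw [ct_apply, Matrix.zero_apply, Matrix.zero_apply, map_zero]

theorem ct_add (A B : Matrix ι ι F) : ct φ (A + B) = ct φ A + ct φ B := by
  ext i j
  rw [ct_apply, Matrix.add_apply, Matrix.add_apply, map_add, ct_apply, ct_apply]

theorem ct_neg (A : Matrix ι ι F) : ct φ (-A) = -ct φ A := by
  ext i j
  rw [ct_apply, Matrix.neg_apply, Matrix.neg_apply, map_neg, ct_apply]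

theorem ct_sub (A B : Matrix ι ι F) : ct φ (A - B) = ct φ A - ct φ B := by
  ext i j
  rw [ct_apply, Matrix.sub_apply, Matrix.sub_apply, map_sub, ct_apply, ct_apply]

theorem ct_smul (c : F) (A : Matrix ι ι F) : ct φ (c • A) = φ c • ct φ A := by
  ext i j
  rw [ct_apply, Matrix.smul_apply, Matrix.smul_apply, smul_eq_mul, smul_eq_mul, map_mul, ct_apply]

theorem ct_ct (hφφ : ∀ x, φ (φ x) = x) (A : Matrix ι ι F) : ct φ (ct φ A) = A := by
  ext i j
  rw [ct_apply, ct_apply, hφφ]

theorem ct_one [DecidableEq ι] : ct φ (1 : Matrix ι ι F) = 1 := by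
  ext i j
  rw [ct_apply, Matrix.one_apply, Matrix.one_apply]
  by_cases h : i = j
  · rw [if_pos h, if_pos h.symm, map_one]
  · rw [if_neg h, if_neg (fun e => h e.symm), map_zero]

theorem ct_mul [Fintype ι] (A B : Matrix ι ι F) : ct φ (A * B) = ct φ B * ct φ A := by
  ext i j
  rw [ct_apply, Matrix.mul_apply, map_sum, Matrix.mul_apply]
  apply Finset.sum_congr rfl
  intro c _
  rw [map_mul, ct_apply, ct_apply, mul_comm]

theorem ct_det [Fintype ι] [DecidableEq ι] (A : Matrix ι ι F) : (ct φ A).det = φ A.det := by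
  unfold ct
  rw [Matrix.det_transpose, ← RingHom.mapMatrix_apply, ← RingHom.map_det]

end ct

/-- the additive group of hermitian matrices -/
def Herm (φ : F →+* F) (m : ℕ) : AddSubgroup (Matrix (Fin m) (Fin m) F) where
  carrier := {S | ct φ S = S}
  zero_mem' := ct_zero φ
  add_mem' := by
    intro A B hA hB
    show ct φ (A + B) = A + B
    rw [ct_add, hA, hB]
  neg_mem' := by
    intro A hA
    show ct φ (-A) = -A
    rw [ct_neg, hA]

theorem mem_Herm (φ : F →+* F) (m : ℕ) (S : Matrix (Fin m) (Fin m) F) :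
    S ∈ Herm φ m ↔ ct φ S = S := Iff.rfl

noncomputable instance hermFintype [Finite F] (φ : F →+* F) (m : ℕ) : Fintype (Herm φ m) :=
  Fintype.ofFinite _

/-- the value `w^* T w` of the hermitian form -/
def hq {ι : Type*} [Fintype ι] (φ : F →+* F) (T : Matrix ι ι F) (w : ι → F) : F :=
  (fun i => φ (w i)) ⬝ᵥ (T *ᵥ w)

/-- the rank one matrix `u u^*` -/
def uu {ι : Type*} (φ : F →+* F) (u : ι → F) : Matrix ι ι F :=
  Matrix.of fun i j => u i * φ (u j)

theorem uu_apply {ι : Type*} (φ : F →+* F) (u : ι → F) (i j : ι) :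
    uu φ u i j = u i * φ (u j) := rfl

end Cfsg.Agent.Helper18.LS
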