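import Mathlib
import Cfsg.Agent.Lib.Helper18.LSDefs
import Cfsg.Agent.Lib.Helper23.LSDUAL

/-!
# S2334 piece DUAL2: the characters of the hermitian matrices with their formula
(copy of helper23's `herm_dual` exposing `Ψ T S = χ (trace (S * T))`)
-/

set_option autoImplicit false
set_option linter.unusedSectionVars false

namespace Cfsg.Agent.Helper18.LS

open Matrix

section

variable {F : Type*} [Field F] [Fintype F] {q : ℕ}

/-- PIECE DUAL2: the characters of the hermitian matrices, with the formula -/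
theorem herm_dual2 (hF : Fintype.card F = q ^ 2) (φ : F →+* F) (hφ : ∀ x, φ x = x ^ q) (m : ℕ) :
    ∃ (χ : AddChar F ℂ) (Ψ : Herm φ m → AddChar (Herm φ m) ℂ), χ 1 ≠ 1 ∧
      (∀ T S : Herm φ m, Ψ T S =
        χ ((S : Matrix (Fin m) (Fin m) F) * (T : Matrix (Fin m) (Fin m) F)).trace) ∧
      Function.Bijective Ψ ∧ Ψ 0 = 1 ∧
      ∀ (a : Matrix (Fin m) (Fin m) F) (T T' S S' : Herm φ m),
        (T' : Matrix (Fin m) (Fin m) F) = ct φ a * (T : Matrix (Fin m) (Fin m) F) * a →
        (S' : Matrix (Fin m) (Fin m) F) = a * (S : Matrix (Fin m) (Fin m) F) * ct φ a →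
        Ψ T' S = Ψ T S' := by
  classical
  obtain ⟨χ, hχ⟩ := (AddChar.exists_apply_ne_zero (α := F) (a := 1)).mpr one_ne_zero
  let Ψ : Herm φ m → AddChar (Herm φ m) ℂ := fun T =>
    { toFun := fun S => χ ((S : Matrix (Fin m) (Fin m) F) * (T : Matrix (Fin m) (Fin m) F)).trace
      map_zero_eq_one' := by
        rw [AddSubgroup.coe_zero, zero_mul, Matrix.trace_zero, AddChar.map_zero_eq_one]
      map_add_eq_mul' := by
        intro S S'
        rw [AddSubgroup.coe_add, add_mul, Matrix.trace_add, AddChar.map_add_eq_mul] }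
  have hΨ : ∀ T S : Herm φ m, Ψ T S =
      χ ((S : Matrix (Fin m) (Fin m) F) * (T : Matrix (Fin m) (Fin m) F)).trace := fun _ _ => rfl
  refine ⟨χ, Ψ, hχ, hΨ, ?_, ?_, ?_⟩
  · have hinj : Function.Injective Ψ := by
      intro T T' hTT
      have hD : ct φ ((T : Matrix (Fin m) (Fin m) F) - (T' : Matrix (Fin m) (Fin m) F)) =
          (T : Matrix (Fin m) (Fin m) F) - (T' : Matrix (Fin m) (Fin m) F) := by
        rw [ct_sub, T.2, T'.2]
      have h0 := dual_nondeg hF φ hφ m χ hχ _ hD (by
        intro S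
        have h1 := DFunLike.congr_fun hTT S
        rw [hΨ, hΨ] at h1
        rw [mul_sub, Matrix.trace_sub, sub_eq_add_neg, AddChar.map_add_eq_mul,
          AddChar.map_neg_eq_inv, h1]
        apply mul_inv_cancel₀
        exact (χ.val_isUnit _).ne_zero)
      exact Subtype.ext (sub_eq_zero.mp h0)
    rw [Fintype.bijective_iff_injective_and_card]
    exact ⟨hinj, (AddChar.card_eq (α := Herm φ m)).symm⟩
  · apply DFunLike.ext
    intro S
    rw [hΨ, AddSubgroup.coe_zero, mul_zero, Matrix.trace_zero, AddChar.map_zero_eq_one]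
    rfl
  · intro a T T' S S' hT' hS'
    rw [hΨ, hΨ, hT', hS']
    congr 1
    calc ((S : Matrix (Fin m) (Fin m) F) * (ct φ a * (T : Matrix (Fin m) (Fin m) F) * a)).trace
        = (((S : Matrix (Fin m) (Fin m) F) * (ct φ a * (T : Matrix (Fin m) (Fin m) F))) * a).trace := by
          rw [← Matrix.mul_assoc (S : Matrix (Fin m) (Fin m) F)]
      _ = (a * ((S : Matrix (Fin m) (Fin m) F) * (ct φ a * (T : Matrix (Fin m) (Fin m) F)))).trace :=
          Matrix.trace_mul_comm _ _
      _ = (a * (S : Matrix (Fin m) (Fin m) F) * ct φ a * (T : Matrix (Fin m) (Fin m) F)).trace := by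
          simp only [Matrix.mul_assoc]

end

end Cfsg.Agent.Helper18.LS
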