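import Mathlib
import Cfsg.Agent.Lib.Helper18.LSDefs

/-!
# Landazuri–Seitz bound for the odd dimensional unitary groups (S2334): shared definitions
(helper18)

`Adm φ u S` says that the pair `(u, S)` parametrizes an element `X u S` of the unipotent radical
of the stabilizer of a maximal totally isotropic subspace: `S + S^* + u u^* = 0`.
-/

set_option autoImplicit false

namespace Cfsg.Agent.Helper18.LS

open Matrix

variable {F : Type*} [Field F]

/-- admissible pairs: `S + S^* + u u^* = 0` -/
def Adm (φ : F →+* F) {m : ℕ} (u : Fin m → F) (S : Matrix (Fin m) (Fin m) F) : Prop :=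
  S + ct φ S + uu φ u = 0

theorem adm_iff (φ : F →+* F) {m : ℕ} (u : Fin m → F) (S : Matrix (Fin m) (Fin m) F) :
    Adm φ u S ↔ S + ct φ S + uu φ u = 0 := Iff.rfl

theorem uu_zero (φ : F →+* F) {ι : Type*} : uu φ (0 : ι → F) = 0 := by
  ext i j
  rw [uu_apply, Pi.zero_apply, zero_mul, Matrix.zero_apply]

theorem ct_uu (φ : F →+* F) (hφφ : ∀ x, φ (φ x) = x) {ι : Type*} (u : ι → F) :
    ct φ (uu φ u) = uu φ u := by
  ext i j
  rw [ct_apply, uu_apply, uu_apply, map_mul, hφφ, mul_comm]

theorem uu_smul (φ : F →+* F) {ι : Type*} (s : F) (u : ι → F) :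
    uu φ (s • u) = (s * φ s) • uu φ u := by
  ext i j
  rw [uu_apply, Matrix.smul_apply, uu_apply, Pi.smul_apply, Pi.smul_apply, smul_eq_mul,
    smul_eq_mul, smul_eq_mul, map_mul]
  ring

theorem uu_eq_vmv (φ : F →+* F) {ι : Type*} (u : ι → F) :
    uu φ u = Matrix.vecMulVec u (fun j => φ (u j)) := by
  ext i j
  rw [uu_apply, Matrix.vecMulVec_apply]

/-- the central elements are parametrized by the skew-hermitian matrices -/
theorem adm_zero_smul (φ : F →+* F) {m : ℕ} (ε : F) (hε : φ ε = -ε)
    (S : Matrix (Fin m) (Fin m) F) (hS : ct φ S = S) : Adm φ (0 : Fin m → F) (ε • S) := by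
  unfold Adm
  rw [ct_smul, hS, hε, uu_zero, add_zero, neg_smul, add_neg_cancel]

theorem trace_uu_mul (φ : F →+* F) {ι : Type*} [Fintype ι] (u : ι → F) (T : Matrix ι ι F) :
    (uu φ u * T).trace = hq φ T u := by
  unfold hq
  simp only [Matrix.trace, Matrix.diag_apply, Matrix.mul_apply, uu_apply, dotProduct, mulVec,
    Finset.mul_sum]
  rw [Finset.sum_comm]
  apply Finset.sum_congr rfl
  intro j _
  apply Finset.sum_congr rfl
  intro i _
  ring

end Cfsg.Agent.Helper18.LS
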