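import Mathlib
import Cfsg.Agent.Lib.Helper18.LSDefs
import Cfsg.Agent.Lib.Helper19.LSO1
import Cfsg.Agent.Lib.Helper19.LSO2
import Cfsg.Agent.Lib.Helper21.LSO4
import Cfsg.Agent.Lib.Helper11.Unitary
import Cfsg.Agent.Lib.Helper11.HermCount

/-!
# S2335 piece O5: the orbit of a hermitian matrix with an isotropic vector outside the radical
(helper18)
-/

set_option autoImplicit false
set_option linter.style.haveILetI false

namespace Cfsg.Agent.Helper18.LS

open Matrix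

section basic

variable {F : Type*} [Field F] {ι : Type*} [Fintype ι] (φ : F →+* F)

/-- the entries of `a^* T a` -/
theorem conj_apply (a T : Matrix ι ι F) (i j : ι) :
    (ct φ a * T * a) i j = bf φ T (fun k => a k i) (fun k => a k j) := by
  unfold bf
  simp only [Matrix.mul_apply, dotProduct, mulVec, ct_apply, Finset.sum_mul, Finset.mul_sum]
  rw [Finset.sum_comm]
  apply Finset.sum_congr rfl
  intro k _
  apply Finset.sum_congr rfl
  intro l _
  ring

theorem bf_eq_phi_dot (hφφ : ∀ x, φ (φ x) = x) (T : Matrix ι ι F) (v w : ι → F) :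
    bf φ T v w = φ ((fun k => φ ((T *ᵥ w) k)) ⬝ᵥ v) := by
  unfold bf
  simp only [dotProduct, map_sum, map_mul, hφφ]
  apply Finset.sum_congr rfl
  intro k _
  ring

end basic

section firstcol

variable {F : Type*} [Field F] (φ : F →+* F)

/-- attaining a prescribed first column -/
theorem exists_first_col (hφφ : ∀ x, φ (φ x) = x) (r : ℕ)
    (T : Matrix (Fin (r + 1)) (Fin (r + 1)) F) (w v : Fin (r + 1) → F) (hTw : T *ᵥ w ≠ 0)
    (hv0 : v 0 = hq φ T w)
    (hcase : (hq φ T w ≠ 0 ∧ 1 ≤ r) ∨ (2 ≤ r ∧ ∃ j, j ≠ 0 ∧ v j ≠ 0)) :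
    ∃ a : Matrix (Fin (r + 1)) (Fin (r + 1)) F, a.det = 1 ∧
      (∀ k, a k 0 = w k) ∧ ∀ j, (ct φ a * T * a) j 0 = v j := by
  have hφinj : Function.Injective φ := φ.injective
  obtain ⟨l, hldef⟩ : ∃ l : Fin (r + 1) → F, l = fun k => φ ((T *ᵥ w) k) := ⟨_, rfl⟩
  obtain ⟨c, hcdef⟩ : ∃ c : Fin (r + 1) → F, c = fun j => φ (v j) := ⟨_, rfl⟩
  have hw : w ≠ 0 := by
    intro h
    apply hTw
    rw [h, mulVec_zero]
  have hl : l ≠ 0 := by
    intro h
    apply hTw
    funext k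
    have h1 := congrFun h k
    rw [hldef] at h1
    have h2 : φ ((T *ᵥ w) k) = φ 0 := by rw [map_zero]; exact h1
    exact hφinj h2
  have hlw : l ⬝ᵥ w = φ (hq φ T w) := by
    rw [hq_eq_bf, bf_eq_phi_dot φ hφφ, hφφ, hldef]
  have hc0 : c 0 = l ⬝ᵥ w := by
    rw [hlw, hcdef]
    show φ (v 0) = _
    rw [hv0]
  have hcase' : (l ⬝ᵥ w ≠ 0 ∧ 1 ≤ r) ∨ (2 ≤ r ∧ ∃ j, j ≠ 0 ∧ c j ≠ 0) := by
    rcases hcase with ⟨h1, h2⟩ | ⟨h1, j, hj, hvj⟩
    · left
      refine ⟨?_, h2⟩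
      rw [hlw]
      intro h
      apply h1
      apply hφinj
      rw [h, map_zero]
    · right
      refine ⟨h1, j, hj, ?_⟩
      rw [hcdef]
      intro h
      apply hvj
      apply hφinj
      rw [map_zero]
      exact h
  obtain ⟨a, ha1, ha2, ha3⟩ := exists_completion r l w c hw hl hc0 hcase'
  have hcol : ∀ k, a k 0 = w k := by
    intro k
    have := congrFun ha2 k
    rw [mulVec_single_one] at this
    exact this
  refine ⟨a, ha1, hcol, ?_⟩
  intro j
  rw [conj_apply]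
  have h1 : (fun k => a k 0) = w := funext hcol
  rw [h1, bf_eq_phi_dot φ hφφ, ← hldef]
  have h2 : l ⬝ᵥ (fun k => a k j) = (l ᵥ* a) j := rfl
  rw [h2, ha3, hcdef]
  exact hφφ _

end firstcol

section finite

variable {F : Type*} [Field F] [Fintype F] {q : ℕ}

/-- every nonzero fixed scalar is a value of a nonzero hermitian form -/
theorem exists_hq_eq (hF : Fintype.card F = q ^ 2) (φ : F →+* F) (hφ : ∀ x, φ x = x ^ q)
    {ι : Type*} [Fintype ι] [DecidableEq ι] (T : Matrix ι ι F) (hT : ct φ T = T) (h0 : T ≠ 0)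
    (κ : F) (hκ0 : κ ≠ 0) (hκ : φ κ = κ) :
    ∃ w : ι → F, hq φ T w = κ := by
  have hφφ := Cfsg.Agent.Helper11.Herm.frob_frob hF φ hφ
  obtain ⟨w₁, hw₁⟩ := exists_hq_ne_zero hF φ hφ T hT h0
  have hfix : φ (hq φ T w₁) = hq φ T w₁ := by
    rw [hq_eq_bf]
    exact bf_conj φ hφφ T hT w₁ w₁
  have hr0 : κ / hq φ T w₁ ≠ 0 := div_ne_zero hκ0 hw₁
  have hr : φ (κ / hq φ T w₁) = κ / hq φ T w₁ := by rw [map_div₀, hκ, hfix]
  obtain ⟨s, hs0, hs⟩ := Cfsg.Agent.Helper11.Herm.frob_norm_surj hF φ hφ _ hr0 hr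
  refine ⟨s • w₁, ?_⟩
  rw [hq_eq_bf, bf_smul_left, bf_smul_right, ← hq_eq_bf]
  have : s * φ s * hq φ T w₁ = κ := by rw [hs, div_mul_cancel₀ _ hw₁]
  linear_combination this

/-- the number of fixed scalars -/
theorem card_fixed (hF : Fintype.card F = q ^ 2) :
    Nat.card {c : F // c ^ q = c} = q := by
  classical
  have hq := Cfsg.Agent.Helper11.Herm.two_le_q hF
  have h1 := Cfsg.Agent.Helper11.Herm.card_fixed_ne_zero hF
  rw [Nat.card_eq_fintype_card, Fintype.card_subtype] at h1 ⊢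
  have h2 : (Finset.univ.filter fun c : F => c ^ q = c)
      = insert 0 (Finset.univ.filter fun c : F => c ≠ 0 ∧ c ^ q = c) := by
    ext c
    simp only [Finset.mem_filter, Finset.mem_univ, true_and, Finset.mem_insert]
    constructor
    · intro h
      by_cases hc : c = 0
      · left; exact hc
      · right; exact ⟨hc, h⟩
    · rintro (h | h)
      · rw [h, zero_pow (by omega)]
      · exact h.2
  rw [h2, Finset.card_insert_of_notMem, h1]
  · omega
  · simp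

/-- the two by two case: orbit members with zero corner and prescribed opposite corner -/
theorem exists_corner (hF : Fintype.card F = q ^ 2) (φ : F →+* F) (hφ : ∀ x, φ x = x ^ q)
    (T : Matrix (Fin 2) (Fin 2) F) (hT : ct φ T = T) (w₀ : Fin 2 → F) (hw₀ : hq φ T w₀ = 0)
    (hTw₀ : T *ᵥ w₀ ≠ 0) (y : F) (hy : φ y = y) :
    ∃ a : Matrix (Fin 2) (Fin 2) F, a.det = 1 ∧ (ct φ a * T * a) 0 0 = 0 ∧
      (ct φ a * T * a) 1 1 = y := by
  have hφφ := Cfsg.Agent.Helper11.Herm.frob_frob hF φ hφ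
  obtain ⟨b, hb⟩ : ∃ b : Fin 2 → F, w₀ 0 * b 1 - b 0 * w₀ 1 = 1 := by
    by_cases h : w₀ 0 = 0
    · have h1 : w₀ 1 ≠ 0 := by
        intro h1
        apply hTw₀
        have : w₀ = 0 := by
          funext k
          fin_cases k
          · exact h
          · exact h1
        rw [this, mulVec_zero]
      refine ⟨![-(w₀ 1)⁻¹, 0], ?_⟩
      simp only [Matrix.cons_val_zero, Matrix.cons_val_one, h]
      field_simp
      ring
    · refine ⟨![0, (w₀ 0)⁻¹], ?_⟩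
      simp only [Matrix.cons_val_zero, Matrix.cons_val_one]
      field_simp
      ring
  obtain ⟨β, hβdef⟩ : ∃ β, β = bf φ T b w₀ := ⟨_, rfl⟩
  have hβ : β ≠ 0 := by
    intro h0
    apply hTw₀
    obtain ⟨g, hgdef⟩ : ∃ g : Matrix (Fin 2) (Fin 2) F,
        g = Matrix.of fun k j => if j = 0 then w₀ k else b k := ⟨_, rfl⟩
    have hg0 : ∀ i, g i 0 = w₀ i := by
      intro i
      rw [hgdef, Matrix.of_apply, if_pos rfl]
    have hg1 : ∀ i, g i 1 = b i := by
      intro i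
      rw [hgdef, Matrix.of_apply, if_neg (by decide)]
    have hg : g.det = 1 := by
      rw [Matrix.det_fin_two, hg0, hg0, hg1, hg1]
      exact hb
    have hz : ct φ g *ᵥ (T *ᵥ w₀) = 0 := by
      funext k
      have hk : (ct φ g *ᵥ (T *ᵥ w₀)) k = bf φ T (fun i => g i k) w₀ := rfl
      rw [hk]
      fin_cases k
      · show bf φ T (fun i => g i 0) w₀ = 0
        rw [funext hg0, ← hq_eq_bf, hw₀]
      · show bf φ T (fun i => g i 1) w₀ = 0
        rw [funext hg1, ← hβdef, h0]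
    apply Matrix.eq_zero_of_mulVec_eq_zero _ hz
    rw [ct_det, hg, map_one]
    exact one_ne_zero
  obtain ⟨μ, hμ⟩ := Cfsg.Agent.Helper11.Herm.frob_trace_ne_zero hF φ hφ
  have hbb : φ (hq φ T b) = hq φ T b := by
    rw [hq_eq_bf]
    exact bf_conj φ hφφ T hT b b
  obtain ⟨x, hxdef⟩ : ∃ x, x = (y - hq φ T b) * μ / (μ + φ μ) := ⟨_, rfl⟩
  have hx : x + φ x = y - hq φ T b := by
    rw [hxdef, map_div₀, map_mul, map_sub, map_add, hφφ, hy, hbb]
    have h2 : φ μ + μ ≠ 0 := by rw [add_comm]; exact hμ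
    field_simp
    ring
  obtain ⟨t, htdef⟩ : ∃ t, t = x / β := ⟨_, rfl⟩
  have htβ : t * β = x := by rw [htdef, div_mul_cancel₀ _ hβ]
  obtain ⟨a, hadef⟩ : ∃ a : Matrix (Fin 2) (Fin 2) F,
      a = Matrix.of fun k j => if j = 0 then w₀ k else b k + t * w₀ k := ⟨_, rfl⟩
  have ha0 : ∀ i, a i 0 = w₀ i := by
    intro i
    rw [hadef, Matrix.of_apply, if_pos rfl]
  have ha1 : ∀ i, a i 1 = b i + t * w₀ i := by
    intro i
    rw [hadef, Matrix.of_apply, if_neg (by decide)]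
  refine ⟨a, ?_, ?_, ?_⟩
  · rw [Matrix.det_fin_two, ha0, ha0, ha1, ha1]
    linear_combination hb
  · rw [conj_apply, funext ha0, ← hq_eq_bf, hw₀]
  · rw [conj_apply]
    have h1 : (fun k => a k 1) = b + t • w₀ := by
      funext k
      rw [ha1]
      rfl
    rw [h1]
    simp only [bf_add_left, bf_add_right, bf_smul_right, bf_smul_left]
    have h2 : bf φ T w₀ b = φ β := by
      rw [hβdef]
      exact (bf_conj φ hφφ T hT b w₀).symm
    have h3 : bf φ T w₀ w₀ = 0 := hw₀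
    have h4 : bf φ T b b = hq φ T b := rfl
    rw [h2, h3, ← hβdef, h4]
    have h5 : φ t * φ β = φ x := by rw [← map_mul, htβ]
    linear_combination hx + htβ + h5

theorem card_ne {α : Type*} [Finite α] (a : α) : Nat.card {z : α // z ≠ a} = Nat.card α - 1 := by
  classical
  haveI := Fintype.ofFinite α
  rw [Nat.card_eq_fintype_card, Nat.card_eq_fintype_card, Fintype.card_subtype_compl,
    Fintype.card_subtype_eq]

/-- the orbit members with nonzero corner -/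
theorem family_one (hF : Fintype.card F = q ^ 2) (φ : F →+* F) (hφ : ∀ x, φ x = x ^ q) (r : ℕ)
    (hr : 1 ≤ r) (T : Matrix (Fin (r + 1)) (Fin (r + 1)) F) (hT : ct φ T = T) (h0 : T ≠ 0) :
    ∃ f : {c : F // c ≠ 0 ∧ c ^ q = c} × (Fin r → F) → Matrix (Fin (r + 1)) (Fin (r + 1)) F,
      (∀ p, ∃ a : Matrix (Fin (r + 1)) (Fin (r + 1)) F, a.det = 1 ∧ f p = ct φ a * T * a) ∧
      ∀ p, f p 0 0 = p.1.1 ∧ ∀ j : Fin r, f p j.succ 0 = p.2 j := by
  have hφφ := Cfsg.Agent.Helper11.Herm.frob_frob hF φ hφ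
  have key : ∀ p : {c : F // c ≠ 0 ∧ c ^ q = c} × (Fin r → F),
      ∃ M : Matrix (Fin (r + 1)) (Fin (r + 1)) F,
        (∃ a : Matrix (Fin (r + 1)) (Fin (r + 1)) F, a.det = 1 ∧ M = ct φ a * T * a) ∧
        M 0 0 = p.1.1 ∧ ∀ j : Fin r, M j.succ 0 = p.2 j := by
    intro p
    obtain ⟨w, hw⟩ := exists_hq_eq hF φ hφ T hT h0 p.1.1 p.1.2.1 (by rw [hφ]; exact p.1.2.2)
    have hTw : T *ᵥ w ≠ 0 := by
      intro h
      apply p.1.2.1
      rw [← hw, hq_eq_bf]
      exact bf_eq_zero_of_mulVec φ T w w h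
    obtain ⟨a, ha1, -, ha3⟩ := exists_first_col φ hφφ r T w (Fin.cons p.1.1 p.2) hTw
      (by rw [Fin.cons_zero, hw]) (Or.inl ⟨by rw [hw]; exact p.1.2.1, hr⟩)
    refine ⟨ct φ a * T * a, ⟨a, ha1, rfl⟩, ?_, ?_⟩
    · rw [ha3, Fin.cons_zero]
    · intro j
      rw [ha3, Fin.cons_succ]
  choose f hf using key
  exact ⟨f, fun p => (hf p).1, fun p => (hf p).2⟩

/-- the orbit members with zero corner, in dimension at least three -/
theorem family_two (hF : Fintype.card F = q ^ 2) (φ : F →+* F) (hφ : ∀ x, φ x = x ^ q) (r : ℕ)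
    (hr : 2 ≤ r) (T : Matrix (Fin (r + 1)) (Fin (r + 1)) F)
    (w₀ : Fin (r + 1) → F) (hw₀ : hq φ T w₀ = 0) (hTw₀ : T *ᵥ w₀ ≠ 0) :
    ∃ f : {z : Fin r → F // z ≠ 0} → Matrix (Fin (r + 1)) (Fin (r + 1)) F,
      (∀ p, ∃ a : Matrix (Fin (r + 1)) (Fin (r + 1)) F, a.det = 1 ∧ f p = ct φ a * T * a) ∧
      ∀ p, f p 0 0 = 0 ∧ ∀ j : Fin r, f p j.succ 0 = p.1 j := by
  have hφφ := Cfsg.Agent.Helper11.Herm.frob_frob hF φ hφ
  have key : ∀ p : {z : Fin r → F // z ≠ 0},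
      ∃ M : Matrix (Fin (r + 1)) (Fin (r + 1)) F,
        (∃ a : Matrix (Fin (r + 1)) (Fin (r + 1)) F, a.det = 1 ∧ M = ct φ a * T * a) ∧
        M 0 0 = 0 ∧ ∀ j : Fin r, M j.succ 0 = p.1 j := by
    intro p
    obtain ⟨i, hi⟩ : ∃ i, p.1 i ≠ 0 := by
      by_contra hcon
      push Not at hcon
      exact p.2 (funext hcon)
    obtain ⟨a, ha1, -, ha3⟩ := exists_first_col φ hφφ r T w₀ (Fin.cons 0 p.1) hTw₀
      (by rw [Fin.cons_zero, hw₀])
      (Or.inr ⟨hr, i.succ, Fin.succ_ne_zero i, by rw [Fin.cons_succ]; exact hi⟩)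
    refine ⟨ct φ a * T * a, ⟨a, ha1, rfl⟩, ?_, ?_⟩
    · rw [ha3, Fin.cons_zero]
    · intro j
      rw [ha3, Fin.cons_succ]
  choose f hf using key
  exact ⟨f, fun p => (hf p).1, fun p => (hf p).2⟩

/-- the orbit members with zero corner, in dimension two -/
theorem family_two' (hF : Fintype.card F = q ^ 2) (φ : F →+* F) (hφ : ∀ x, φ x = x ^ q)
    (T : Matrix (Fin 2) (Fin 2) F) (hT : ct φ T = T) (w₀ : Fin 2 → F) (hw₀ : hq φ T w₀ = 0)
    (hTw₀ : T *ᵥ w₀ ≠ 0) :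
    ∃ f : {c : F // c ^ q = c} → Matrix (Fin 2) (Fin 2) F,
      (∀ p, ∃ a : Matrix (Fin 2) (Fin 2) F, a.det = 1 ∧ f p = ct φ a * T * a) ∧
      ∀ p, f p 0 0 = 0 ∧ f p 1 1 = p.1 := by
  have key : ∀ p : {c : F // c ^ q = c}, ∃ M : Matrix (Fin 2) (Fin 2) F,
      (∃ a : Matrix (Fin 2) (Fin 2) F, a.det = 1 ∧ M = ct φ a * T * a) ∧
        M 0 0 = 0 ∧ M 1 1 = p.1 := by
    intro p
    obtain ⟨a, ha1, ha2, ha3⟩ := exists_corner hF φ hφ T hT w₀ hw₀ hTw₀ p.1
      (by rw [hφ]; exact p.2)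
    exact ⟨ct φ a * T * a, ⟨a, ha1, rfl⟩, ha2, ha3⟩
  choose f hf using key
  exact ⟨f, fun p => (hf p).1, fun p => (hf p).2⟩

theorem arith_two (q r : ℕ) (hq : 2 ≤ q) :
    (q ^ (2 * (r + 1)) - 1) / (q + 1) ≤ (q - 1) * (q ^ 2) ^ r + ((q ^ 2) ^ r - 1) := by
  obtain ⟨k, rfl⟩ : ∃ k, q = k + 2 := ⟨q - 2, by omega⟩
  have hpos : 0 < ((k + 2) ^ 2) ^ r := by positivity
  obtain ⟨Q, hQ⟩ : ∃ Q, ((k + 2) ^ 2) ^ r = Q + 1 := ⟨((k + 2) ^ 2) ^ r - 1, by omega⟩
  apply Nat.div_le_of_le_mul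
  have h1 : (k + 2) ^ (2 * (r + 1)) = (k + 2) ^ 2 * ((k + 2) ^ 2) ^ r := by
    rw [← pow_mul, ← pow_add]
    congr 1
    ring
  rw [h1, hQ]
  have h2 : k + 2 - 1 = k + 1 := by omega
  have h3 : Q + 1 - 1 = Q := by omega
  rw [h2, h3]
  rw [Nat.sub_le_iff_le_add]
  have h5 : (k + 2 + 1) * ((k + 1) * (Q + 1) + Q) + 1 = (k + 2) ^ 2 * (Q + 1) + (k + 2) * Q := by
    ring
  rw [h5]
  exact Nat.le_add_right _ _

theorem arith_one (q : ℕ) (hq : 2 ≤ q) :
    (q ^ (2 * (1 + 1)) - 1) / (q + 1) ≤ (q - 1) * (q ^ 2) ^ 1 + q := by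
  obtain ⟨k, rfl⟩ : ∃ k, q = k + 2 := ⟨q - 2, by omega⟩
  apply Nat.div_le_of_le_mul
  have h2 : k + 2 - 1 = k + 1 := by omega
  rw [h2]
  have h4 : (k + 2) ^ (2 * (1 + 1)) - 1 ≤ (k + 2) ^ (2 * (1 + 1)) := Nat.sub_le _ _
  refine le_trans h4 ?_
  ring_nf
  nlinarith

/-- O5: the orbit of a hermitian matrix having an isotropic vector outside the radical -/
theorem orbit_of_isotropic [DecidableEq F] (hF : Fintype.card F = q ^ 2) (φ : F →+* F)
    (hφ : ∀ x, φ x = x ^ q) (r : ℕ) (hr : 1 ≤ r) (T : Matrix (Fin (r + 1)) (Fin (r + 1)) F)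
    (hT : ct φ T = T) (w₀ : Fin (r + 1) → F) (hw₀ : hq φ T w₀ = 0) (hTw₀ : T *ᵥ w₀ ≠ 0) :
    ∃ t : Finset (Matrix (Fin (r + 1)) (Fin (r + 1)) F),
      (q ^ (2 * (r + 1)) - 1) / (q + 1) ≤ t.card ∧
      ∀ T' ∈ t, ∃ a : Matrix (Fin (r + 1)) (Fin (r + 1)) F, a.det = 1 ∧ T' = ct φ a * T * a := by
  classical
  have hq2 := Cfsg.Agent.Helper11.Herm.two_le_q hF
  have h0 : T ≠ 0 := by
    intro h
    apply hTw₀
    rw [h, zero_mulVec]
  obtain ⟨f₁, hf₁a, hf₁b⟩ := family_one hF φ hφ r hr T hT h0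
  have hK₀ := Cfsg.Agent.Helper11.Herm.card_fixed_ne_zero hF
  have hcF : Nat.card F = q ^ 2 := by rw [Nat.card_eq_fintype_card, hF]
  rcases Nat.lt_or_ge r 2 with hr2 | hr2
  · obtain rfl : r = 1 := by omega
    obtain ⟨f₂, hf₂a, hf₂b⟩ := family_two' hF φ hφ T hT w₀ hw₀ hTw₀
    haveI : Fintype ({c : F // c ≠ 0 ∧ c ^ q = c} × (Fin 1 → F) ⊕ {c : F // c ^ q = c}) :=
      Fintype.ofFinite _
    refine ⟨Finset.univ.image (Sum.elim f₁ f₂), ?_, ?_⟩
    · rw [Finset.card_image_of_injective, Finset.card_univ, ← Nat.card_eq_fintype_card,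
        Nat.card_sum, Nat.card_prod, Nat.card_fun, hK₀, card_fixed hF, hcF, Nat.card_fin]
      · exact arith_one q hq2
      · rintro (p | y) (p' | y') h
        · simp only [Sum.elim_inl] at h
          congr 1
          apply Prod.ext
          · apply Subtype.ext
            rw [← (hf₁b p).1, ← (hf₁b p').1, h]
          · funext j
            rw [← (hf₁b p).2 j, ← (hf₁b p').2 j, h]
        · exfalso
          simp only [Sum.elim_inl, Sum.elim_inr] at h
          apply p.1.2.1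
          rw [← (hf₁b p).1, h, (hf₂b y').1]
        · exfalso
          simp only [Sum.elim_inl, Sum.elim_inr] at h
          apply p'.1.2.1
          rw [← (hf₁b p').1, ← h, (hf₂b y).1]
        · simp only [Sum.elim_inr] at h
          congr 1
          apply Subtype.ext
          rw [← (hf₂b y).2, ← (hf₂b y').2, h]
    · intro T' hT'
      rw [Finset.mem_image] at hT'
      obtain ⟨(p | y), -, rfl⟩ := hT'
      · exact hf₁a p
      · exact hf₂a y
  · obtain ⟨f₂, hf₂a, hf₂b⟩ := family_two hF φ hφ r hr2 T w₀ hw₀ hTw₀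
    haveI : Fintype ({c : F // c ≠ 0 ∧ c ^ q = c} × (Fin r → F) ⊕ {z : Fin r → F // z ≠ 0}) :=
      Fintype.ofFinite _
    refine ⟨Finset.univ.image (Sum.elim f₁ f₂), ?_, ?_⟩
    · rw [Finset.card_image_of_injective, Finset.card_univ, ← Nat.card_eq_fintype_card,
        Nat.card_sum, Nat.card_prod, card_ne, Nat.card_fun, hK₀, hcF, Nat.card_fin]
      · exact arith_two q r hq2
      · rintro (p | y) (p' | y') h
        · simp only [Sum.elim_inl] at h
          congr 1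
          apply Prod.ext
          · apply Subtype.ext
            rw [← (hf₁b p).1, ← (hf₁b p').1, h]
          · funext j
            rw [← (hf₁b p).2 j, ← (hf₁b p').2 j, h]
        · exfalso
          simp only [Sum.elim_inl, Sum.elim_inr] at h
          apply p.1.2.1
          rw [← (hf₁b p).1, h, (hf₂b y').1]
        · exfalso
          simp only [Sum.elim_inl, Sum.elim_inr] at h
          apply p'.1.2.1
          rw [← (hf₁b p').1, ← h, (hf₂b y).1]
        · simp only [Sum.elim_inr] at h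
          congr 1
          apply Subtype.ext
          funext j
          rw [← (hf₂b y).2 j, ← (hf₂b y').2 j, h]
    · intro T' hT'
      rw [Finset.mem_image] at hT'
      obtain ⟨(p | y), -, rfl⟩ := hT'
      · exact hf₁a p
      · exact hf₂a y

end finite

end Cfsg.Agent.Helper18.LS
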