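import Mathlib
import Cfsg.Agent.Lib.Helper18.LS2Defs
import Cfsg.Agent.Lib.Helper19.LS2HSUB
import Cfsg.Agent.Lib.Helper6.LS2TWIST
import Cfsg.Agent.Lib.Helper18.LSO5
import Cfsg.Agent.Lib.Helper19.LSO1
import Cfsg.Agent.Lib.Helper11.UnitaryGeom

/-!
# S2334 piece INNER: the weight spaces of the centre of the unipotent radical have dimension at
least `q` (helper18)
-/

set_option autoImplicit false
set_option linter.style.haveILetI false

namespace Cfsg.Agent.Helper18.LS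

open Matrix

section field

variable {F : Type*} [Field F]

theorem inner_vmv_zero_right (φ : F →+* F) {m : ℕ} (u : Fin m → F) :
    Matrix.vecMulVec u (fun j => φ ((0 : Fin m → F) j)) = 0 := by
  ext i j
  rw [Matrix.vecMulVec_apply, Pi.zero_apply, map_zero, mul_zero, Matrix.zero_apply]

theorem inner_vmv_zero_left (φ : F →+* F) {m : ℕ} (u : Fin m → F) :
    Matrix.vecMulVec (0 : Fin m → F) (fun j => φ (u j)) = 0 := by
  ext i j
  rw [Matrix.vecMulVec_apply, Pi.zero_apply, zero_mul, Matrix.zero_apply]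

theorem inner_vmv_smul (φ : F →+* F) {m : ℕ} (s t : F) (u : Fin m → F) :
    Matrix.vecMulVec (s • u) (fun j => φ ((t • u) j)) = (s * φ t) • uu φ u := by
  ext i j
  rw [Matrix.vecMulVec_apply, Matrix.smul_apply, uu_apply, Pi.smul_apply, Pi.smul_apply,
    smul_eq_mul, smul_eq_mul, smul_eq_mul, map_mul]
  ring

/-- admissibility of a product -/
theorem inner_adm_mul (φ : F →+* F) (hφφ : ∀ x, φ (φ x) = x) {m : ℕ} (u u' : Fin m → F)
    (S S' : Matrix (Fin m) (Fin m) F) (h : Adm φ u S) (h' : Adm φ u' S') :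
    Adm φ (u + u') (S + S' - Matrix.vecMulVec u (fun j => φ (u' j))) := by
  unfold Adm at *
  have e1 : ct φ (Matrix.vecMulVec u (fun j => φ (u' j))) =
      Matrix.vecMulVec u' (fun j => φ (u j)) := by
    ext i j
    rw [ct_apply, Matrix.vecMulVec_apply, Matrix.vecMulVec_apply, map_mul, hφφ, mul_comm]
  have e2 : uu φ (u + u') = uu φ u + uu φ u' + Matrix.vecMulVec u (fun j => φ (u' j)) +
      Matrix.vecMulVec u' (fun j => φ (u j)) := by
    ext i j
    simp only [uu_apply, Matrix.add_apply, Matrix.vecMulVec_apply, Pi.add_apply, map_add]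
    ring
  rw [ct_sub, ct_add, e1, e2]
  have : S + S' - Matrix.vecMulVec u (fun j => φ (u' j)) +
      (ct φ S + ct φ S' - Matrix.vecMulVec u' (fun j => φ (u j))) +
      (uu φ u + uu φ u' + Matrix.vecMulVec u (fun j => φ (u' j)) +
        Matrix.vecMulVec u' (fun j => φ (u j))) =
      (S + ct φ S + uu φ u) + (S' + ct φ S' + uu φ u') := by abel
  rw [this, h, h', add_zero]

/-- the standard admissible pair over a multiple of `u₀` -/
theorem inner_adm_std (φ : F →+* F) (hφφ : ∀ x, φ (φ x) = x) {m : ℕ} (u₀ : Fin m → F) (lam : F)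
    (hlam : lam + φ lam = 1) (t : F) :
    Adm φ (t • u₀) (-(lam * (t * φ t)) • uu φ u₀) := by
  unfold Adm
  rw [ct_smul, ct_uu φ hφφ, uu_smul, map_neg, map_mul, map_mul, hφφ, ← add_smul, ← add_smul]
  have : -(lam * (t * φ t)) + -(φ lam * (φ t * t)) + t * φ t = 0 := by
    linear_combination (-(t * φ t)) * hlam
  rw [this, zero_smul]

/-- the commutation relation between the abelian subgroup and the twisting elements -/
theorem inner_key {G : Type*} [Group G] (φ : F →+* F) (hφφ : ∀ x, φ (φ x) = x) {m : ℕ}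
    (X : (Fin m → F) → Matrix (Fin m) (Fin m) F → G)
    (hXmul : ∀ (u : Fin m → F) (S : Matrix (Fin m) (Fin m) F) (u' : Fin m → F)
        (S' : Matrix (Fin m) (Fin m) F), Adm φ u S → Adm φ u' S' →
        X u S * X u' S' = X (u + u') (S + S' - Matrix.vecMulVec u (fun j => φ (u' j))))
    (u₀ : Fin m → F) (lam : F) (hlam : lam + φ lam = 1) (ε : F) (hε0 : ε ≠ 0)
    (s : F) (hs : φ s = s) (S : Matrix (Fin m) (Fin m) F) (hadm : Adm φ (s • u₀) S) (t : F) :
    X (s • u₀) S * X (t • u₀) (-(lam * (t * φ t)) • uu φ u₀) =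
      X (t • u₀) (-(lam * (t * φ t)) • uu φ u₀) * X (s • u₀) S *
        X 0 (ε • ((s * (t - φ t) / ε) • uu φ u₀)) := by
  have hstd := inner_adm_std φ hφφ u₀ lam hlam t
  have h3 : ε • ((s * (t - φ t) / ε) • uu φ u₀) = (s * (t - φ t)) • uu φ u₀ := by
    rw [smul_smul, mul_div_cancel₀ _ hε0]
  have hadm3 : Adm φ (0 : Fin m → F) (ε • ((s * (t - φ t) / ε) • uu φ u₀)) := by
    rw [h3]
    unfold Adm
    rw [ct_smul, ct_uu φ hφφ, uu_zero, add_zero, ← add_smul, map_mul, map_sub, hφφ, hs]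
    have : s * (t - φ t) + s * (φ t - t) = 0 := by ring
    rw [this, zero_smul]
  rw [hXmul _ _ _ _ hadm hstd, hXmul _ _ _ _ hstd hadm,
    hXmul _ _ _ _ (inner_adm_mul φ hφφ _ _ _ _ hstd hadm) hadm3, inner_vmv_smul, inner_vmv_smul,
    inner_vmv_zero_right, h3, hs]
  congr 1
  · abel
  · module

variable [Fintype F] {q : ℕ}

/-- PIECE INNER -/
theorem inner_bound (hF : Fintype.card F = q ^ 2) (φ : F →+* F) (hφ : ∀ x, φ x = x ^ q) (m : ℕ)
    {G : Type*} [Group G] [Finite G] {V : Type*} [AddCommGroup V] [Module ℂ V]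
    [FiniteDimensional ℂ V] (ρ : Representation ℂ G V)
    (X : (Fin m → F) → Matrix (Fin m) (Fin m) F → G) (hX0 : X 0 0 = 1)
    (hXmul : ∀ (u : Fin m → F) (S : Matrix (Fin m) (Fin m) F) (u' : Fin m → F)
        (S' : Matrix (Fin m) (Fin m) F), Adm φ u S → Adm φ u' S' →
        X u S * X u' S' = X (u + u') (S + S' - Matrix.vecMulVec u (fun j => φ (u' j))))
    (ε : F) (hε0 : ε ≠ 0) (hε : φ ε = -ε) (χ : AddChar F ℂ) (hχ : χ 1 ≠ 1)
    (T₀ : Matrix (Fin m) (Fin m) F) (hT₀ : ct φ T₀ = T₀) (h0 : T₀ ≠ 0)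
    (W : Submodule ℂ V) (hW : W ≠ ⊥)
    (hWdef : ∀ v, v ∈ W ↔ ∀ S : Matrix (Fin m) (Fin m) F, ct φ S = S →
      ρ (X 0 (ε • S)) v = χ (S * T₀).trace • v) :
    q ≤ Module.finrank ℂ W := by
  classical
  have hφφ := Cfsg.Agent.Helper11.Herm.frob_frob hF φ hφ
  obtain ⟨u₀, hu₀⟩ := exists_hq_ne_zero hF φ hφ T₀ hT₀ h0
  obtain ⟨c₀, hc₀def⟩ : ∃ c₀, c₀ = hq φ T₀ u₀ := ⟨_, rfl⟩
  have hc₀ : c₀ ≠ 0 := by rw [hc₀def]; exact hu₀
  have hc₀fix : φ c₀ = c₀ := by
    rw [hc₀def, hq_eq_bf]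
    exact bf_conj φ hφφ T₀ hT₀ u₀ u₀
  obtain ⟨μ, hμ⟩ := Cfsg.Agent.Helper11.Herm.frob_trace_ne_zero hF φ hφ
  obtain ⟨lam, hlamdef⟩ : ∃ lam, lam = μ / (μ + φ μ) := ⟨_, rfl⟩
  have hlam : lam + φ lam = 1 := by
    rw [hlamdef, map_div₀, map_add, hφφ]
    have h2 : φ μ + μ ≠ 0 := by rw [add_comm]; exact hμ
    field_simp
    ring
  obtain ⟨τ, hτ⟩ : ∃ τ, φ τ ≠ τ := by
    by_contra hcon
    push Not at hcon
    exact Cfsg.Agent.Helper11.Herm.frob_ne_id hF φ hφ (RingHom.ext hcon)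
  obtain ⟨θ, hθdef⟩ : ∃ θ, θ = (τ - φ τ) * c₀ / ε := ⟨_, rfl⟩
  have hθ0 : θ ≠ 0 := by
    rw [hθdef]
    exact div_ne_zero (mul_ne_zero (sub_ne_zero.2 (Ne.symm hτ)) hc₀) hε0
  have hθfix : φ θ = θ := by
    rw [hθdef, map_div₀, map_mul, map_sub, hφφ, hc₀fix, hε]
    field_simp
    ring
  obtain ⟨A, hAmem, hAcomm⟩ := exists_heis_sub φ hφφ m X hX0 hXmul u₀
  have hρinj : ∀ g : G, Function.Injective (ρ g) := by
    intro g v w hvw
    have h2 := congrArg (ρ g⁻¹) hvw
    have h3 : ∀ u, ρ g⁻¹ (ρ g u) = u := by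
      intro u
      rw [← Module.End.mul_apply, ← map_mul, inv_mul_cancel, map_one, Module.End.one_apply]
    rwa [h3, h3] at h2
  -- the central elements
  have hz : ∀ S : Matrix (Fin m) (Fin m) F, ct φ S = S → ∀ v ∈ W,
      ρ (X 0 (ε • S)) v = χ (S * T₀).trace • v := fun S hS v hv => (hWdef v).1 hv S hS
  -- invariance
  have hinv : ∀ (u : Fin m → F) (S : Matrix (Fin m) (Fin m) F), Adm φ u S →
      ∀ v ∈ W, ρ (X u S) v ∈ W := by
    intro u S hadm v hv
    rw [hWdef]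
    intro S' hS'
    have hadm' := adm_zero_smul φ ε hε S' hS'
    have hcomm : X 0 (ε • S') * X u S = X u S * X 0 (ε • S') := by
      rw [hXmul _ _ _ _ hadm' hadm, hXmul _ _ _ _ hadm hadm', inner_vmv_zero_left,
        inner_vmv_zero_right]
      congr 1
      · abel
      · abel
    rw [← Module.End.mul_apply, ← map_mul, hcomm, map_mul, Module.End.mul_apply, hz S' hS' v hv,
      map_smul]
  have hinvA : ∀ g ∈ A, ∀ v ∈ W, ρ g v ∈ W := by
    intro g hg
    obtain ⟨s, S, hs, hadm, rfl⟩ := (hAmem g).1 hg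
    exact hinv _ _ hadm
  letI : CommGroup A :=
    { (inferInstance : Group A) with
      mul_comm := fun a b => Subtype.ext (hAcomm a.1 a.2 b.1 b.2) }
  haveI : Fintype (Additive A) := Fintype.ofFinite _
  haveI : Nontrivial W := Submodule.nontrivial_iff_ne_bot.2 hW
  obtain ⟨T, hTdef⟩ : ∃ T : Additive A → (W →ₗ[ℂ] W), ∀ (b : Additive A) (v : W),
      ((T b v : W) : V) = ρ ((Additive.toMul b : A) : G) (v : V) :=
    ⟨fun b => (ρ ((Additive.toMul b : A) : G)).restrict (hinvA _ (Additive.toMul b : A).2),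
      fun b v => rfl⟩
  have hT0 : T 0 = 1 := by
    apply LinearMap.ext
    intro v
    apply Subtype.ext
    rw [hTdef, toMul_zero, Subgroup.coe_one, map_one]
    rfl
  have hTadd : ∀ a b, T (a + b) = T a * T b := by
    intro a b
    apply LinearMap.ext
    intro v
    apply Subtype.ext
    rw [Module.End.mul_apply, hTdef, hTdef, hTdef, toMul_add, Subgroup.coe_mul, map_mul,
      Module.End.mul_apply]
  haveI : Fintype {c : F // c ^ q = c} := Fintype.ofFinite _
  have hcard : Fintype.card {c : F // c ^ q = c} = q := by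
    rw [← Nat.card_eq_fintype_card]
    exact card_fixed hF
  obtain ⟨y, hydef⟩ : ∃ y : {c : F // c ^ q = c} → G, ∀ r, y r =
      X ((r.1 * τ) • u₀) (-(lam * ((r.1 * τ) * φ (r.1 * τ))) • uu φ u₀) := ⟨_, fun r => rfl⟩
  have hyinv : ∀ r, ∀ v ∈ W, ρ (y r) v ∈ W := by
    intro r
    rw [hydef]
    exact hinv _ _ (inner_adm_std φ hφφ u₀ lam hlam _)
  obtain ⟨D, hDdef⟩ : ∃ D : {c : F // c ^ q = c} → (W →ₗ[ℂ] W), ∀ r (v : W),
      ((D r v : W) : V) = ρ (y r) (v : V) :=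
    ⟨fun r => (ρ (y r)).restrict (hyinv r), fun r v => rfl⟩
  have hD : ∀ r, Function.Injective (D r) := by
    intro r v w hvw
    apply Subtype.ext
    apply hρinj (y r)
    rw [← hDdef, ← hDdef, hvw]
  -- the key relation
  have hkey : ∀ (r : {c : F // c ^ q = c}) (s : F) (S : Matrix (Fin m) (Fin m) F), φ s = s →
      Adm φ (s • u₀) S → ∀ v ∈ W,
      ρ (X (s • u₀) S) (ρ (y r) v) = χ (s * r.1 * θ) • ρ (y r) (ρ (X (s • u₀) S) v) := by
    intro r s S hs hadm v hv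
    have hr : φ r.1 = r.1 := by rw [hφ]; exact r.2
    have h1 := inner_key φ hφφ X hXmul u₀ lam hlam ε hε0 s hs S hadm (r.1 * τ)
    rw [← hydef] at h1
    have hS₃ : ct φ ((s * (r.1 * τ - φ (r.1 * τ)) / ε) • uu φ u₀) =
        (s * (r.1 * τ - φ (r.1 * τ)) / ε) • uu φ u₀ := by
      rw [ct_smul, ct_uu φ hφφ, map_div₀, map_mul, map_sub, hφφ, hs, hε]
      congr 1
      field_simp
      ring
    have h2 : ((s * (r.1 * τ - φ (r.1 * τ)) / ε) • uu φ u₀ * T₀).trace = s * r.1 * θ := by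
      rw [Matrix.smul_mul, Matrix.trace_smul, trace_uu_mul, ← hc₀def, smul_eq_mul, hθdef,
        map_mul, hr]
      field_simp
    rw [← Module.End.mul_apply, ← map_mul, h1, map_mul, map_mul, Module.End.mul_apply,
      Module.End.mul_apply, hz _ hS₃ v hv, h2, map_smul, map_smul]
  have hex : ∀ (r : {c : F // c ^ q = c}) (b : Additive A), ∃ cb : ℂ, ∀ v : W,
      T b (D r v) = cb • D r (T b v) := by
    intro r b
    obtain ⟨s, S, hs, hadm, hb⟩ := (hAmem _).1 (Additive.toMul b : A).2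
    refine ⟨χ (s * r.1 * θ), fun v => ?_⟩
    apply Subtype.ext
    rw [Submodule.coe_smul, hTdef, hDdef, hDdef, hTdef, hb]
    exact hkey r s S hs hadm v.1 v.2
  choose c hc using hex
  have hne : ∀ r r' : {c : F // c ^ q = c}, r ≠ r' → ∃ b, c r b ≠ c r' b := by
    intro r r' hrr'
    have hr : φ r.1 = r.1 := by rw [hφ]; exact r.2
    have hr' : φ r'.1 = r'.1 := by rw [hφ]; exact r'.2
    have hd : r.1 - r'.1 ≠ 0 := by
      intro h
      exact hrr' (Subtype.ext (sub_eq_zero.1 h))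
    obtain ⟨s, hsdef⟩ : ∃ s, s = ((r.1 - r'.1) * θ)⁻¹ := ⟨_, rfl⟩
    have hs : φ s = s := by rw [hsdef, map_inv₀, map_mul, map_sub, hr, hr', hθfix]
    have hs1 : s * r.1 * θ = s * r'.1 * θ + 1 := by
      have : s * ((r.1 - r'.1) * θ) = 1 := by
        rw [hsdef]
        exact inv_mul_cancel₀ (mul_ne_zero hd hθ0)
      linear_combination this
    have hadm := inner_adm_std φ hφφ u₀ lam hlam s
    have hmem : X (s • u₀) (-(lam * (s * φ s)) • uu φ u₀) ∈ A :=
      (hAmem _).2 ⟨s, _, hs, hadm, rfl⟩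
    refine ⟨Additive.ofMul ⟨_, hmem⟩, ?_⟩
    obtain ⟨v, hvW, hv0⟩ := Submodule.exists_mem_ne_zero_of_ne_bot hW
    have hcr : ∀ r₁ : {c : F // c ^ q = c}, c r₁ (Additive.ofMul ⟨_, hmem⟩) = χ (s * r₁.1 * θ) := by
      intro r₁
      have h1 := congrArg Subtype.val (hc r₁ (Additive.ofMul ⟨_, hmem⟩) ⟨v, hvW⟩)
      rw [Submodule.coe_smul, hTdef, hDdef, hDdef, hTdef] at h1
      have h2 := hkey r₁ s _ hs hadm v hvW
      have h3 : (Additive.toMul (Additive.ofMul (⟨_, hmem⟩ : A)) : A) = ⟨_, hmem⟩ := rfl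
      rw [h3] at h1
      rw [h2] at h1
      have hw : ρ (y r₁) (ρ (X (s • u₀) (-(lam * (s * φ s)) • uu φ u₀)) v) ≠ 0 := by
        intro h
        apply hv0
        apply hρinj (X (s • u₀) (-(lam * (s * φ s)) • uu φ u₀))
        apply hρinj (y r₁)
        rw [h, map_zero, map_zero]
      exact (smul_left_injective ℂ hw h1).symm
    rw [hcr r, hcr r', hs1, AddChar.map_add_eq_mul]
    intro h
    apply hχ
    have hne0 : χ (s * r'.1 * θ) ≠ 0 := (χ.val_isUnit _).ne_zero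
    have h' : χ (s * r'.1 * θ) * χ 1 = χ (s * r'.1 * θ) * 1 := by rw [mul_one]; exact h
    exact mul_left_cancel₀ hne0 h'
  have := twist_bound T hT0 hTadd D hD c hc hne
  rwa [hcard] at this

end field

end Cfsg.Agent.Helper18.LS
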