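import Mathlib
import Cfsg.Agent.Lib.Helper18.LSDefs
import Cfsg.Agent.Lib.Helper11.UnitarySimple

/-!
Piece EPS of the S2335 farm-out: an element with `φ ε = -ε`.
-/

set_option autoImplicit false

namespace Cfsg.Agent.Helper18.LS

open Cfsg.Agent.Helper11 Cfsg.Agent.Helper11.Herm

variable {F : Type*} [Field F] [Fintype F] {q : ℕ}

theorem exists_eps (hF : Fintype.card F = q ^ 2) (φ : F →+* F) (hφ : ∀ x, φ x = x ^ q) :
    ∃ ε : F, ε ≠ 0 ∧ φ ε = -ε := by
  have hφφ := frob_frob hF φ hφ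
  have hid := frob_ne_id hF φ hφ
  have hex : ∃ θ : F, φ θ ≠ θ := by
    by_contra hcon
    push Not at hcon
    apply hid
    ext x
    exact hcon x
  obtain ⟨θ, hθ⟩ := hex
  refine ⟨θ - φ θ, ?_, ?_⟩
  · intro h
    apply hθ
    exact (sub_eq_zero.1 h).symm
  · rw [map_sub, hφφ]
    ring

end Cfsg.Agent.Helper18.LS
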