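import Mathlib
import Cfsg.Agent.Lib.Helper11.UnitarySimple

/-!
Piece KER of the S2335 farm-out: a normal subgroup of `SU_n(q)` containing a noncentral element
is the whole group.
-/

set_option autoImplicit false

namespace Cfsg.Agent.Helper18.LS

open Cfsg Cfsg.Agent.Helper11 Cfsg.Agent.Helper11.Herm
open scoped commutatorElement

/-- In a perfect group with simple central quotient, a normal subgroup containing a noncentral
element is everything. -/
theorem normal_eq_top_of_simple_quotient {G : Type*} [Group G]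
    (hs : IsSimpleGroup (G ⧸ Subgroup.center G)) (hperf : commutator G = ⊤)
    (N : Subgroup G) [hN : N.Normal] (g : G) (hg : g ∈ N) (hgc : g ∉ Subgroup.center G) :
    N = ⊤ := by
  have hmapN : (N.map (QuotientGroup.mk' (Subgroup.center G))).Normal :=
    hN.map _ (QuotientGroup.mk'_surjective _)
  rcases hs.eq_bot_or_eq_top_of_normal _ hmapN with hb | ht
  · exfalso
    apply hgc
    have h1 : QuotientGroup.mk' (Subgroup.center G) g ∈
        N.map (QuotientGroup.mk' (Subgroup.center G)) := Subgroup.mem_map_of_mem _ hg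
    rw [hb, Subgroup.mem_bot] at h1
    exact (QuotientGroup.eq_one_iff g).1 h1
  · -- every element is n * z, so commutators lie in N
    have hdec : ∀ a : G, ∃ n ∈ N, ∃ z ∈ Subgroup.center G, a = n * z := by
      intro a
      have h1 : QuotientGroup.mk' (Subgroup.center G) a ∈
          N.map (QuotientGroup.mk' (Subgroup.center G)) := by rw [ht]; trivial
      obtain ⟨n, hn, hna⟩ := h1
      refine ⟨n, hn, n⁻¹ * a, ?_, by group⟩
      have h2 := QuotientGroup.eq.1 hna
      exact h2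
    rw [eq_top_iff, ← hperf, commutator_def, Subgroup.commutator_le]
    intro a _ b _
    obtain ⟨n, hn, z, hz, rfl⟩ := hdec a
    obtain ⟨n', hn', z', hz', rfl⟩ := hdec b
    rw [Subgroup.mem_center_iff] at hz hz'
    have e : ⁅n * z, n' * z'⁆ = ⁅n, n'⁆ := by
      rw [commutatorElement_def, commutatorElement_def]
      have e1 : n * z * (n' * z') * (n * z)⁻¹ * (n' * z')⁻¹ =
          n * n' * n⁻¹ * n'⁻¹ * (z * z⁻¹) * (z' * z'⁻¹) := by
        have hzc : ∀ y : G, y * z = z * y := hz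
        have hzc' : ∀ y : G, y * z' = z' * y := hz'
        have hzi : ∀ y : G, y * z⁻¹ = z⁻¹ * y := by
          intro y
          have := hzc (z⁻¹ * y * z⁻¹)
          calc y * z⁻¹ = z⁻¹ * (z * y) * z⁻¹ := by group
            _ = z⁻¹ * (y * z) * z⁻¹ := by rw [hzc y]
            _ = z⁻¹ * y := by group
        have hzi' : ∀ y : G, y * z'⁻¹ = z'⁻¹ * y := by
          intro y
          calc y * z'⁻¹ = z'⁻¹ * (z' * y) * z'⁻¹ := by group
            _ = z'⁻¹ * (y * z') * z'⁻¹ := by rw [hzc' y]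
            _ = z'⁻¹ * y := by group
        rw [mul_inv_rev, mul_inv_rev]
        calc n * z * (n' * z') * (z⁻¹ * n⁻¹) * (z'⁻¹ * n'⁻¹)
            = n * (z * n') * (z' * z⁻¹) * n⁻¹ * z'⁻¹ * n'⁻¹ := by group
          _ = n * (n' * z) * (z⁻¹ * z') * n⁻¹ * z'⁻¹ * n'⁻¹ := by rw [hzc n', hzi z']
          _ = n * n' * (z * z⁻¹) * (z' * n⁻¹) * z'⁻¹ * n'⁻¹ := by group
          _ = n * n' * (z * z⁻¹) * (n⁻¹ * z') * z'⁻¹ * n'⁻¹ := by rw [hzc' n⁻¹]
          _ = n * n' * n⁻¹ * n'⁻¹ * (z * z⁻¹) * (z' * z'⁻¹) := by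
              rw [mul_inv_cancel, mul_inv_cancel]; group
      rw [e1, mul_inv_cancel, mul_inv_cancel, mul_one, mul_one]
    rw [e, commutatorElement_def]
    exact N.mul_mem (N.mul_mem (N.mul_mem hn hn') (N.inv_mem hn)) (N.inv_mem hn')

theorem normal_eq_top {F : Type*} [Field F] [Fintype F] {q : ℕ} (hF : Fintype.card F = q ^ 2)
    (n : ℕ) (hn : 3 ≤ n) (h : ¬ (n = 3 ∧ q = 2)) (N : Subgroup (Cfsg.SU n F q)) [N.Normal]
    (g : Cfsg.SU n F q) (hg : g ∈ N) (hgc : g ∉ Subgroup.center (Cfsg.SU n F q)) : N = ⊤ := by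
  obtain ⟨φ, hφ⟩ := exists_frob hF
  have hφφ := frob_frob hF φ hφ
  have hN1 := frob_norm_surj hF φ hφ
  have hN2 := frob_trace_ne_zero hF φ hφ
  have hφid := frob_ne_id hF φ hφ
  have hq2 := two_le_q hF
  have hcase : 4 ≤ Fintype.card (Fin n) ∨ ∃ w : F, φ w = w ∧ w ≠ 0 ∧ w ≠ 1 := by
    rw [Fintype.card_fin]
    by_cases h4 : 4 ≤ n
    · exact Or.inl h4
    · right
      have hn3 : n = 3 := by omega
      have hq3 : 3 ≤ q := by
        by_contra hq
        apply h
        exact ⟨hn3, by omega⟩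
      have hc := card_fixed_ne_zero hF
      have : Nontrivial {c : F // c ≠ 0 ∧ c ^ q = c} := by
        rw [← Finite.one_lt_card_iff_nontrivial, hc]
        omega
      obtain ⟨w, hw⟩ := exists_ne (⟨1, one_ne_zero, one_pow q⟩ : {c : F // c ≠ 0 ∧ c ^ q = c})
      exact ⟨w.1, by rw [hφ]; exact w.2.2, w.2.1, fun h => hw (Subtype.ext h)⟩
  have hSU : Cfsg.SU n F q = SUg (Fin n) φ := by
    ext g
    rw [mem_SU_iff_isU φ hφ, mem_SUg_iff]
  have hgen : ∀ M : Matrix (Fin n) (Fin n) F, IsU φ M → M.det = 1 → M ∈ TM φ :=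
    fun M hM hd => mem_TM_of_isU_of_det φ hφid hφφ hN1 hcase ⟨0, by omega⟩ M hM hd
  have hsimple := isSimpleGroup_SUg_quotient_center φ hφid hφφ hN1 hN2
    (by rw [Fintype.card_fin]; exact hn) hgen
  have hperf := commutator_SUg_eq_top φ hφid hφφ hN1 hN2
    (by rw [Fintype.card_fin]; exact hn) hgen
  revert N g
  rw [hSU]
  intro N _ g hg hgc
  exact normal_eq_top_of_simple_quotient hsimple hperf N g hg hgc

end Cfsg.Agent.Helper18.LS
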