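import Mathlib
import Cfsg.Agent.Lib.Helper18.LSDefs
import Cfsg.Agent.Lib.Helper18.LSKER
import Cfsg.Agent.Lib.Helper18.LSEPS
import Cfsg.Agent.Lib.Helper18.LSO5
import Cfsg.Agent.Lib.Helper19.LSO1
import Cfsg.Agent.Lib.Helper19.LSO2
import Cfsg.Agent.Lib.Helper19.LSGRP
import Cfsg.Agent.Lib.Helper21.LSO3
import Cfsg.Agent.Lib.Helper21.LSO4
import Cfsg.Agent.Lib.Helper23.LSABS
import Cfsg.Agent.Lib.Helper23.LSDUAL
import Cfsg.Agent.Lib.Helper2.RepWeights
import Cfsg.Agent.Lib.Helper27.SuTransport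
import Cfsg.Agent.Lib.Helper11.UnitarySimple

/-!
# The Landazuri-Seitz bound for the even dimensional unitary groups (S2335): assembly (helper18)

Pieces: ABS, DUAL (helper23), O1, O2, GRP (helper19), O3, O4 (helper21), KER, EPS, O5 (helper18).
-/

set_option autoImplicit false

namespace Cfsg.Agent.Helper18.LS

open Matrix Cfsg.Agent.Helper13.SuBN Cfsg.Agent.Helper11 Cfsg.Agent.Helper11.Herm

/-- ORB (assembly of O2, O3, O5) -/
theorem herm_orbit {F : Type*} [Field F] [Fintype F] {q : ℕ} [DecidableEq F]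
    (hF : Fintype.card F = q ^ 2) (φ : F →+* F)
    (hφ : ∀ x, φ x = x ^ q) (m : ℕ) (hm : 2 ≤ m) (T₀ : Matrix (Fin m) (Fin m) F)
    (hT : ct φ T₀ = T₀) (h0 : T₀ ≠ 0) :
    ∃ t : Finset (Matrix (Fin m) (Fin m) F), (q ^ (2 * m) - 1) / (q + 1) ≤ t.card ∧
      ∀ T' ∈ t, ∃ a : Matrix (Fin m) (Fin m) F, a.det = 1 ∧ T' = ct φ a * T₀ * a := by
  by_cases hiso : ∀ w : Fin m → F, hq φ T₀ w = 0 → T₀ *ᵥ w = 0
  · obtain ⟨c, u, hc0, hc, hu, rfl⟩ := rank_one_of_forall hF φ hφ T₀ hT h0 hiso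
    exact orbit_rank_one hF φ hφ m hm c u hc0 hc hu
  · push Not at hiso
    obtain ⟨w₀, hw₀, hTw₀⟩ := hiso
    obtain ⟨r, rfl⟩ : ∃ r, m = r + 1 := ⟨m - 1, by omega⟩
    exact orbit_of_isotropic hF φ hφ r (by omega) T₀ hT w₀ hw₀ hTw₀

/-- an irreducible representation of degree at least two is not trivial -/
theorem exists_ne_one_of_irreducible {G : Type*} [Group G] (k : ℕ) (hk : 2 ≤ k)
    (ρ : Representation ℂ G (Fin k → ℂ)) (hirr : ρ.IsIrreducible) : ∃ g, ρ g ≠ 1 := by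
  by_contra hcon
  push Not at hcon
  have h0 := @eq_bot_or_eq_top (Subrepresentation ρ) _ _ hirr
    ⟨Submodule.span ℂ {(Pi.single (⟨0, by omega⟩ : Fin k) (1 : ℂ) : Fin k → ℂ)}, by
      intro g v hv
      rw [hcon g]
      exact hv⟩
  rcases h0 with h0 | h0
  · have h1 := congrArg Subrepresentation.toSubmodule h0
    have h2 : Submodule.span ℂ {(Pi.single (⟨0, by omega⟩ : Fin k) (1 : ℂ) : Fin k → ℂ)} = ⊥ := h1
    rw [Submodule.span_singleton_eq_bot] at h2
    have h3 := congrFun h2 ⟨0, by omega⟩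
    rw [Pi.single_eq_same] at h3
    exact one_ne_zero h3
  · have h1 := congrArg Subrepresentation.toSubmodule h0
    have h2 : Submodule.span ℂ {(Pi.single (⟨0, by omega⟩ : Fin k) (1 : ℂ) : Fin k → ℂ)} = ⊤ := h1
    have h3 : (Pi.single (⟨1, by omega⟩ : Fin k) (1 : ℂ) : Fin k → ℂ) ∈
        Submodule.span ℂ {(Pi.single (⟨0, by omega⟩ : Fin k) (1 : ℂ) : Fin k → ℂ)} := by
      rw [h2]
      exact Submodule.mem_top
    obtain ⟨c, hc⟩ := Submodule.mem_span_singleton.1 h3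
    have h4 := congrFun hc ⟨1, by omega⟩
    rw [Pi.smul_apply, Pi.single_eq_same, Pi.single_eq_of_ne (by
      intro h
      exact absurd (congrArg Fin.val h) (by norm_num)), smul_zero] at h4
    exact zero_ne_one h4

section field

variable {F : Type*} [Field F]

/-- conjugation of hermitian matrices -/
def cjH (φ : F →+* F) (hφφ : ∀ x, φ (φ x) = x) {m : ℕ} (a : Matrix (Fin m) (Fin m) F)
    (S : Herm φ m) : Herm φ m :=
  ⟨a * (S : Matrix (Fin m) (Fin m) F) * ct φ a, by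
    rw [mem_Herm, ct_mul, ct_mul, ct_ct φ hφφ, (mem_Herm φ m _).1 S.2, Matrix.mul_assoc]⟩

theorem cjH_val (φ : F →+* F) (hφφ : ∀ x, φ (φ x) = x) {m : ℕ} (a : Matrix (Fin m) (Fin m) F)
    (S : Herm φ m) :
    ((cjH φ hφφ a S : Herm φ m) : Matrix (Fin m) (Fin m) F) =
      a * (S : Matrix (Fin m) (Fin m) F) * ct φ a := rfl

theorem mul_adjugate_of_det {m : ℕ} (a : Matrix (Fin m) (Fin m) F) (ha : a.det = 1) :
    a * a.adjugate = 1 := by
  rw [Matrix.mul_adjugate, ha, one_smul]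

theorem adjugate_mul_of_det {m : ℕ} (a : Matrix (Fin m) (Fin m) F) (ha : a.det = 1) :
    a.adjugate * a = 1 := by
  rw [Matrix.adjugate_mul, ha, one_smul]

theorem det_adjugate_of_det {m : ℕ} (a : Matrix (Fin m) (Fin m) F) (ha : a.det = 1) :
    a.adjugate.det = 1 := by
  rw [Matrix.det_adjugate, ha, one_pow]

end field

/-- S2335 without the exceptions -/
theorem su_even_bound {F : Type*} [Field F] [Fintype F] [DecidableEq F] (n q : ℕ) (hn : 4 ≤ n)
    (heven : Even n) (hF : Fintype.card F = q ^ 2) :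
    ∀ (k : ℕ) (ρ : Representation ℂ (Cfsg.SU n F q) (Fin k → ℂ)), ρ.IsIrreducible → 2 ≤ k →
      (q ^ n - 1) / (q + 1) ≤ k := by
  intro k ρ hirr hk
  obtain ⟨m, rfl⟩ := heven
  have hm : 2 ≤ m := by omega
  obtain ⟨φ, hφ⟩ := exists_frob hF
  have hφφ := frob_frob hF φ hφ
  obtain ⟨ε, hε0, hε⟩ := exists_eps hF φ hφ
  obtain ⟨P, e, -, -, -⟩ := Cfsg.Agent.Helper13.SuP.exists_equiv_SU hF φ hφ (m + m)
  obtain ⟨x, d, hx0, hxadd, hxinj, hdx⟩ := exists_siegel φ hφφ ε hε0 hε m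
  -- the operators
  set T : Herm φ m → (Fin k → ℂ) →ₗ[ℂ] (Fin k → ℂ) := fun S => ρ (e (x S)) with hTdef
  have hT0 : T 0 = 1 := by
    show ρ (e (x 0)) = 1
    rw [hx0, map_one, map_one]
  have hTadd : ∀ a b, T (a + b) = T a * T b := by
    intro a b
    show ρ (e (x (a + b))) = ρ (e (x a)) * ρ (e (x b))
    rw [hxadd, map_mul, map_mul]
  -- a noncentral element of A
  obtain ⟨i0, i1, h01⟩ : ∃ i0 i1 : Fin m, i0 ≠ i1 :=
    ⟨⟨0, by omega⟩, ⟨1, by omega⟩, by intro h; exact absurd (congrArg Fin.val h) (by norm_num)⟩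
  have hS₁mem : Matrix.single i0 i0 (1 : F) ∈ Herm φ m := by
    rw [mem_Herm]
    ext i j
    rw [ct_apply, Matrix.single_apply, Matrix.single_apply]
    by_cases h : i0 = j ∧ i0 = i
    · rw [if_pos h, if_pos ⟨h.2, h.1⟩, map_one]
    · rw [if_neg h, if_neg (fun h' => h ⟨h'.2, h'.1⟩), map_zero]
  set S₁ : Herm φ m := ⟨Matrix.single i0 i0 (1 : F), hS₁mem⟩ with hS₁
  set a₁ : {a : Matrix (Fin m) (Fin m) F // a.det = 1} :=
    ⟨Matrix.transvection i1 i0 (1 : F), Matrix.det_transvection_of_ne i1 i0 h01.symm 1⟩ with ha₁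
  have hne : cjH φ hφφ a₁.1 S₁ ≠ S₁ := by
    intro h
    have h2 := congrArg (fun S : Herm φ m => (S : Matrix (Fin m) (Fin m) F) i1 i1) h
    simp only [cjH_val] at h2
    have ha10 : a₁.1 i1 i0 = 1 := by
      rw [ha₁]
      show Matrix.transvection i1 i0 (1 : F) i1 i0 = 1
      rw [Matrix.transvection, Matrix.add_apply, Matrix.one_apply_ne h01.symm,
        Matrix.single_apply_same, zero_add]
    have h3 : (a₁.1 * (S₁ : Matrix (Fin m) (Fin m) F) * ct φ a₁.1) i1 i1 = 1 := by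
      rw [Matrix.mul_apply, Finset.sum_eq_single i0]
      · rw [ct_apply, ha10, map_one, mul_one]
        show (a₁.1 * Matrix.single i0 i0 (1 : F)) i1 i0 = 1
        rw [Matrix.mul_single_apply_same, ha10, mul_one]
      · intro b _ hb
        have : (a₁.1 * (S₁ : Matrix (Fin m) (Fin m) F)) i1 b = 0 := by
          show (a₁.1 * Matrix.single i0 i0 (1 : F)) i1 b = 0
          exact Matrix.mul_single_apply_of_ne _ _ _ _ _ hb _
        rw [this, zero_mul]
      · intro h'; exact absurd (Finset.mem_univ _) h'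
    rw [h3] at h2
    have h4 : (S₁ : Matrix (Fin m) (Fin m) F) i1 i1 = 0 := by
      simp only [hS₁, Matrix.single_apply]
      rw [if_neg (fun h' => h01 h'.1)]
    rw [h4] at h2
    exact one_ne_zero h2
  have hnc : e (x S₁) ∉ Subgroup.center (Cfsg.SU (m + m) F q) := by
    intro hc
    rw [Subgroup.mem_center_iff] at hc
    have h1 := hc (e (d a₁))
    rw [← map_mul, ← map_mul] at h1
    have h2 := e.injective h1
    rw [hdx a₁ S₁ (cjH φ hφφ a₁.1 S₁) (cjH_val φ hφφ a₁.1 S₁)] at h2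
    have h3 := mul_right_cancel h2
    exact hne (hxinj h3)
  -- nontriviality on A
  have h1 : ∃ S, T S ≠ 1 := by
    by_contra hcon
    push Not at hcon
    have hker : e (x S₁) ∈ MonoidHom.ker (ρ : Cfsg.SU (m + m) F q →* _) := by
      rw [MonoidHom.mem_ker]
      exact hcon S₁
    have htop := normal_eq_top hF (m + m) (by omega) (by omega)
      (MonoidHom.ker (ρ : Cfsg.SU (m + m) F q →* _)) (e (x S₁)) hker hnc
    obtain ⟨g, hg⟩ := exists_ne_one_of_irreducible k hk ρ hirr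
    apply hg
    have : g ∈ MonoidHom.ker (ρ : Cfsg.SU (m + m) F q →* _) := by rw [htop]; trivial
    exact MonoidHom.mem_ker.1 this
  obtain ⟨S₂, hS₂⟩ := h1
  -- the abstract bound
  have hfin : Module.finrank ℂ (Fin k → ℂ) = k := Module.finrank_fin_fun ℂ
  rw [← hfin]
  obtain ⟨Ψ, hΨbij, hΨ0, hΨeq⟩ := herm_dual hF φ hφ m
  apply abs_bound T hT0 hTadd S₂ hS₂ _
    {σ | ∃ a : {a : Matrix (Fin m) (Fin m) F // a.det = 1}, σ = cjH φ hφφ a.1}
  · -- the maps are implemented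
    rintro σ ⟨a, rfl⟩
    refine ⟨?_, ρ (e (d a)), ?_, ?_⟩
    · intro S'
      refine ⟨cjH φ hφφ a.1.adjugate S', ?_⟩
      apply Subtype.ext
      rw [cjH_val, cjH_val, ← Matrix.mul_assoc, ← Matrix.mul_assoc, mul_adjugate_of_det a.1 a.2,
        Matrix.one_mul, Matrix.mul_assoc, ← ct_mul, mul_adjugate_of_det a.1 a.2, ct_one,
        Matrix.mul_one]
    · intro v w hvw
      have h2 := congrArg (ρ (e (d a))⁻¹) hvw
      have h3 : ∀ u, ρ (e (d a))⁻¹ (ρ (e (d a)) u) = u := by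
        intro u
        rw [← Module.End.mul_apply, ← map_mul, inv_mul_cancel, map_one, Module.End.one_apply]
      rwa [h3, h3] at h2
    · intro S v
      show ρ (e (d a)) (ρ (e (x S)) v) = ρ (e (x (cjH φ hφφ a.1 S))) (ρ (e (d a)) v)
      rw [← Module.End.mul_apply, ← map_mul, ← map_mul, hdx a S (cjH φ hφφ a.1 S) (cjH_val φ hφφ a.1 S),
        map_mul, map_mul, Module.End.mul_apply]
  · -- the orbits
    intro ψ hψ
    obtain ⟨T₀, rfl⟩ := hΨbij.2 ψ
    have hT₀ : (T₀ : Matrix (Fin m) (Fin m) F) ≠ 0 := by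
      intro h0
      apply hψ
      have : T₀ = 0 := Subtype.ext h0
      rw [this, hΨ0]
    obtain ⟨t, htcard, ht⟩ := herm_orbit hF φ hφ m hm (T₀ : Matrix (Fin m) (Fin m) F)
      ((mem_Herm φ m _).1 T₀.2) hT₀
    have hh : ∀ T' ∈ t, T' ∈ Herm φ m := by
      intro T' hT'
      obtain ⟨a, -, rfl⟩ := ht T' hT'
      rw [mem_Herm, ct_mul, ct_mul, ct_ct φ hφφ, (mem_Herm φ m _).1 T₀.2, Matrix.mul_assoc]
    refine ⟨t.attach.image (fun T' => Ψ ⟨T'.1, hh T'.1 T'.2⟩), ?_, ?_⟩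
    · rw [Finset.card_image_of_injective, Finset.card_attach]
      · have e2 : m + m = 2 * m := by ring
        rw [e2]
        exact htcard
      · intro T' T'' h
        have := hΨbij.1 h
        apply Subtype.ext
        exact congrArg (fun S : Herm φ m => (S : Matrix (Fin m) (Fin m) F)) this
    · intro ψ' hψ'
      rw [Finset.mem_image] at hψ'
      obtain ⟨⟨T', hT't⟩, -, rfl⟩ := hψ'
      obtain ⟨a, ha, hT'eq⟩ := ht T' hT't
      refine ⟨cjH φ hφφ a.adjugate, ⟨⟨a.adjugate, det_adjugate_of_det a ha⟩, rfl⟩, ?_⟩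
      intro S
      apply hΨeq a.adjugate ⟨T', hh T' hT't⟩ T₀ S (cjH φ hφφ a.adjugate S) _ (cjH_val φ hφφ _ S)
      show (T₀ : Matrix (Fin m) (Fin m) F) = ct φ a.adjugate * T' * a.adjugate
      rw [hT'eq, ← Matrix.mul_assoc, ← Matrix.mul_assoc, ← ct_mul, mul_adjugate_of_det a ha, ct_one,
        Matrix.one_mul, Matrix.mul_assoc, mul_adjugate_of_det a ha, Matrix.mul_one]

end Cfsg.Agent.Helper18.LS
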