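import Mathlib
import Cfsg.Agent.Lib.Helper18.LS2Defs
import Cfsg.Agent.Lib.Helper19.LS2GRP2
import Cfsg.Agent.Lib.Helper6.LS2ABS2
import Cfsg.Agent.Lib.Helper6.LS2ORB2
import Cfsg.Agent.Lib.Helper18.LS2DUAL2
import Cfsg.Agent.Lib.Helper18.LS2INNER
import Cfsg.Agent.Lib.Helper18.LSMain

/-!
# The Landazuri-Seitz bound for the odd dimensional unitary groups (S2334): assembly (helper18)
-/

set_option autoImplicit false
set_option linter.style.haveILetI false

namespace Cfsg.Agent.Helper18.LS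

open Matrix Cfsg.Agent.Helper13.SuBN Cfsg.Agent.Helper11 Cfsg.Agent.Helper11.Herm
open Cfsg.Agent.Helper2

theorem arith_odd (q m : ℕ) (hq : 2 ≤ q) :
    (q ^ (2 * m + 1) - q) / (q + 1) = (q ^ (2 * m) - 1) / (q + 1) * q := by
  have h1 : q ^ (2 * m + 1) - q = q * (q ^ (2 * m) - 1) := by
    rw [Nat.mul_sub, mul_one, pow_succ, mul_comm]
  have h2 : q + 1 ∣ q ^ (2 * m) - 1 := by
    have h3 : q ^ 2 - 1 ∣ (q ^ 2) ^ m - 1 := Nat.sub_one_dvd_pow_sub_one _ _
    rw [← pow_mul] at h3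
    refine dvd_trans ?_ h3
    rw [sq_sub_one q (by omega)]
    exact Dvd.intro _ rfl
  rw [h1, Nat.mul_div_assoc _ h2, mul_comm]

section field

variable {F : Type*} [Field F] [Fintype F] {q : ℕ}

/-- a fixed scalar different from `0` and `1` -/
theorem exists_fixed_ne (hF : Fintype.card F = q ^ 2) (hq : 3 ≤ q) :
    ∃ κ : F, κ ≠ 0 ∧ κ ≠ 1 ∧ κ ^ q = κ := by
  classical
  by_contra hcon
  push Not at hcon
  have h1 := card_fixed hF
  rw [Nat.card_eq_fintype_card, Fintype.card_subtype] at h1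
  have h2 : (Finset.univ.filter fun c : F => c ^ q = c) ⊆ {0, 1} := by
    intro c hc
    rw [Finset.mem_filter] at hc
    rw [Finset.mem_insert, Finset.mem_singleton]
    by_cases h0 : c = 0
    · left; exact h0
    · right
      by_contra h1'
      exact hcon c h0 h1' hc.2
  have h3 := Finset.card_le_card h2
  have h4 : ({0, 1} : Finset F).card ≤ 2 := Finset.card_le_two
  omega

/-- a noncentral pair for the Levi action on hermitian matrices -/
theorem exists_moved (hF : Fintype.card F = q ^ 2) (φ : F →+* F) (hφ : ∀ x, φ x = x ^ q)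
    (m : ℕ) (hm : 1 ≤ m) (hmq : ¬ (m = 1 ∧ q = 2)) :
    ∃ (a : Matrix (Fin m) (Fin m) F) (S : Matrix (Fin m) (Fin m) F), a.det ≠ 0 ∧ ct φ S = S ∧
      a * S * ct φ a ≠ S := by
  have hq2 := two_le_q hF
  have hS₁ : ∀ i0 : Fin m, ct φ (Matrix.single i0 i0 (1 : F)) = Matrix.single i0 i0 (1 : F) := by
    intro i0
    ext i j
    rw [ct_apply, Matrix.single_apply, Matrix.single_apply]
    by_cases h : i0 = j ∧ i0 = i
    · rw [if_pos h, if_pos ⟨h.2, h.1⟩, map_one]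
    · rw [if_neg h, if_neg (fun h' => h ⟨h'.2, h'.1⟩), map_zero]
  rcases Nat.lt_or_ge m 2 with hm2 | hm2
  · -- scalar matrices
    have hq3 : 3 ≤ q := by omega
    obtain ⟨κ, hκ0, hκ1, hκ⟩ := exists_fixed_ne hF hq3
    obtain ⟨s, hs0, hs⟩ := frob_norm_surj hF φ hφ κ hκ0 (by rw [hφ]; exact hκ)
    refine ⟨s • (1 : Matrix (Fin m) (Fin m) F), Matrix.single ⟨0, by omega⟩ ⟨0, by omega⟩ 1, ?_,
      hS₁ _, ?_⟩
    · rw [Matrix.det_smul, Matrix.det_one, mul_one]
      exact pow_ne_zero _ hs0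
    · rw [ct_smul, ct_one, Matrix.smul_mul, Matrix.one_mul, Matrix.mul_smul, Matrix.mul_one,
        smul_smul, mul_comm (φ s) s, hs]
      intro h
      have h2 := congrFun (congrFun h ⟨0, by omega⟩) ⟨0, by omega⟩
      rw [Matrix.smul_apply, Matrix.single_apply_same, smul_eq_mul, mul_one] at h2
      exact hκ1 h2
  · -- transvections
    obtain ⟨i0, i1, h01⟩ : ∃ i0 i1 : Fin m, i0 ≠ i1 :=
      ⟨⟨0, by omega⟩, ⟨1, by omega⟩, by intro h; exact absurd (congrArg Fin.val h) (by norm_num)⟩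
    refine ⟨Matrix.transvection i1 i0 (1 : F), Matrix.single i0 i0 1, ?_, hS₁ _, ?_⟩
    · rw [Matrix.det_transvection_of_ne i1 i0 h01.symm 1]
      exact one_ne_zero
    · intro h
      have h2 := congrFun (congrFun h i1) i1
      have ha10 : Matrix.transvection i1 i0 (1 : F) i1 i0 = 1 := by
        rw [Matrix.transvection, Matrix.add_apply, Matrix.one_apply_ne h01.symm,
          Matrix.single_apply_same, zero_add]
      have h3 : (Matrix.transvection i1 i0 (1 : F) * Matrix.single i0 i0 (1 : F) *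
          ct φ (Matrix.transvection i1 i0 (1 : F))) i1 i1 = 1 := by
        rw [Matrix.mul_apply, Finset.sum_eq_single i0]
        · rw [ct_apply, ha10, map_one, mul_one, Matrix.mul_single_apply_same, ha10, mul_one]
        · intro b _ hb
          rw [Matrix.mul_single_apply_of_ne _ _ _ _ _ hb, zero_mul]
        · intro h'; exact absurd (Finset.mem_univ _) h'
      rw [h3, Matrix.single_apply, if_neg (fun h' => h01 h'.1)] at h2
      exact one_ne_zero h2

end field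

/-- S2334 -/
theorem su_odd_bound {F : Type*} [Field F] [Fintype F] [DecidableEq F] (n q : ℕ) (hn : 3 ≤ n)
    (hodd : Odd n) (hF : Fintype.card F = q ^ 2) (hex : (n, q) ≠ (3, 2)) :
    ∀ (k : ℕ) (ρ : Representation ℂ (Cfsg.SU n F q) (Fin k → ℂ)), ρ.IsIrreducible → 2 ≤ k →
      (q ^ n - q) / (q + 1) ≤ k := by
  intro k ρ hirr hk
  obtain ⟨m, rfl⟩ := hodd
  have hm : 1 ≤ m := by omega
  have hq2 := two_le_q hF
  have hmq : ¬ (m = 1 ∧ q = 2) := by
    rintro ⟨rfl, rfl⟩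
    exact hex rfl
  obtain ⟨φ, hφ⟩ := exists_frob hF
  have hφφ := frob_frob hF φ hφ
  obtain ⟨ε, hε0, hε⟩ := exists_eps hF φ hφ
  obtain ⟨P, e, -, -, -⟩ := Cfsg.Agent.Helper13.SuP.exists_equiv_SU hF φ hφ (2 * m + 1)
  obtain ⟨X, d, hX0, hXmul, hXinj, hdX⟩ := exists_heis φ hφφ m
  -- the central subgroup
  obtain ⟨x, hxdef⟩ : ∃ x : Herm φ m → WSU (2 * m + 1) φ, ∀ S, x S = X 0 (ε • S.1) :=
    ⟨_, fun S => rfl⟩
  have hadmZ : ∀ S : Herm φ m, Adm φ (0 : Fin m → F) (ε • S.1) := fun S =>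
    adm_zero_smul φ ε hε S.1 ((mem_Herm φ m _).1 S.2)
  have hx0 : x 0 = 1 := by
    rw [hxdef, AddSubgroup.coe_zero, smul_zero, hX0]
  have hxadd : ∀ S S', x (S + S') = x S * x S' := by
    intro S S'
    rw [hxdef, hxdef, hxdef, hXmul _ _ _ _ (hadmZ S) (hadmZ S'), inner_vmv_zero_left, sub_zero,
      add_zero, AddSubgroup.coe_add, smul_add]
  have hxinj : Function.Injective x := by
    intro S S' h
    rw [hxdef, hxdef] at h
    have h1 := hXinj _ _ (hadmZ S) (hadmZ S') h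
    apply Subtype.ext
    have h2 := congrArg (fun M => ε⁻¹ • M) h1
    simpa [smul_smul, inv_mul_cancel₀ hε0] using h2
  have hdx : ∀ (a : {a : Matrix (Fin m) (Fin m) F // a.det ≠ 0}) (S S' : Herm φ m),
      (S' : Matrix (Fin m) (Fin m) F) = a.1 * (S : Matrix (Fin m) (Fin m) F) * ct φ a.1 →
      d a * x S = x S' * d a := by
    intro a S S' hS'
    rw [hxdef, hxdef]
    apply hdX a _ _ (hadmZ S)
    rw [hS', Matrix.mul_smul, Matrix.smul_mul]
  -- the operators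
  set T : Herm φ m → (Fin k → ℂ) →ₗ[ℂ] (Fin k → ℂ) := fun S => ρ (e (x S)) with hTdef
  have hT0 : T 0 = 1 := by
    show ρ (e (x 0)) = 1
    rw [hx0, map_one, map_one]
  have hTadd : ∀ a b, T (a + b) = T a * T b := by
    intro a b
    show ρ (e (x (a + b))) = ρ (e (x a)) * ρ (e (x b))
    rw [hxadd, map_mul, map_mul]
  -- a noncentral element
  obtain ⟨a₁', S₁', ha₁', hS₁', hne'⟩ := exists_moved hF φ hφ m hm hmq
  set S₁ : Herm φ m := ⟨S₁', (mem_Herm φ m _).2 hS₁'⟩ with hS₁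
  set a₁ : {a : Matrix (Fin m) (Fin m) F // a.det ≠ 0} := ⟨a₁', ha₁'⟩ with ha₁
  have hne : cjH φ hφφ a₁.1 S₁ ≠ S₁ := by
    intro h
    apply hne'
    exact congrArg (fun S : Herm φ m => (S : Matrix (Fin m) (Fin m) F)) h
  have hnc : e (x S₁) ∉ Subgroup.center (Cfsg.SU (2 * m + 1) F q) := by
    intro hc
    rw [Subgroup.mem_center_iff] at hc
    have h1 := hc (e (d a₁))
    rw [← map_mul, ← map_mul] at h1
    have h2 := e.injective h1
    rw [hdx a₁ S₁ (cjH φ hφφ a₁.1 S₁) (cjH_val φ hφφ a₁.1 S₁)] at h2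
    have h3 := mul_right_cancel h2
    exact hne (hxinj h3)
  -- nontriviality on the central subgroup
  have h1 : ∃ S, T S ≠ 1 := by
    by_contra hcon
    push Not at hcon
    have hker : e (x S₁) ∈ MonoidHom.ker (ρ : Cfsg.SU (2 * m + 1) F q →* _) := by
      rw [MonoidHom.mem_ker]
      exact hcon S₁
    have htop := normal_eq_top hF (2 * m + 1) (by omega) (by
        rintro ⟨h3, h2⟩
        exact hmq ⟨by omega, h2⟩)
      (MonoidHom.ker (ρ : Cfsg.SU (2 * m + 1) F q →* _)) (e (x S₁)) hker hnc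
    obtain ⟨g, hg⟩ := exists_ne_one_of_irreducible k hk ρ hirr
    apply hg
    have : g ∈ MonoidHom.ker (ρ : Cfsg.SU (2 * m + 1) F q →* _) := by rw [htop]; trivial
    exact MonoidHom.mem_ker.1 this
  obtain ⟨S₂, hS₂⟩ := h1
  -- the abstract bound
  have hfin : Module.finrank ℂ (Fin k → ℂ) = k := Module.finrank_fin_fun ℂ
  rw [arith_odd q m hq2, ← hfin]
  obtain ⟨χ, Ψ, hχ, hΨ, hΨbij, hΨ0, hΨeq⟩ := herm_dual2 hF φ hφ m
  have hinvmul : ∀ a : Matrix (Fin m) (Fin m) F, a.det ≠ 0 → a * a⁻¹ = 1 := by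
    intro a ha
    exact Matrix.mul_nonsing_inv a (isUnit_iff_ne_zero.2 ha)
  have hinvmul' : ∀ a : Matrix (Fin m) (Fin m) F, a.det ≠ 0 → a⁻¹ * a = 1 := by
    intro a ha
    exact Matrix.nonsing_inv_mul a (isUnit_iff_ne_zero.2 ha)
  have hinvdet : ∀ a : Matrix (Fin m) (Fin m) F, a.det ≠ 0 → a⁻¹.det ≠ 0 := by
    intro a ha h
    have h2 := congrArg Matrix.det (hinvmul a ha)
    rw [Matrix.det_mul, h, mul_zero, Matrix.det_one] at h2
    exact zero_ne_one h2
  apply abs_bound2 T hT0 hTadd S₂ hS₂ _ _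
    {σ | ∃ a : {a : Matrix (Fin m) (Fin m) F // a.det ≠ 0}, σ = cjH φ hφφ a.1}
  · -- the maps are implemented
    rintro σ ⟨a, rfl⟩
    refine ⟨?_, ρ (e (d a)), ?_, ?_⟩
    · intro S'
      refine ⟨cjH φ hφφ a.1⁻¹ S', ?_⟩
      apply Subtype.ext
      rw [cjH_val, cjH_val, ← Matrix.mul_assoc, ← Matrix.mul_assoc, hinvmul a.1 a.2,
        Matrix.one_mul, Matrix.mul_assoc, ← ct_mul, hinvmul a.1 a.2, ct_one,
        Matrix.mul_one]
    · intro v w hvw
      have h2 := congrArg (ρ (e (d a))⁻¹) hvw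
      have h3 : ∀ u, ρ (e (d a))⁻¹ (ρ (e (d a)) u) = u := by
        intro u
        rw [← Module.End.mul_apply, ← map_mul, inv_mul_cancel, map_one, Module.End.one_apply]
      rwa [h3, h3] at h2
    · intro S v
      show ρ (e (d a)) (ρ (e (x S)) v) = ρ (e (x (cjH φ hφφ a.1 S))) (ρ (e (d a)) v)
      rw [← Module.End.mul_apply, ← map_mul, ← map_mul,
        hdx a S (cjH φ hφφ a.1 S) (cjH_val φ hφφ a.1 S), map_mul, map_mul, Module.End.mul_apply]
  · -- the orbits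
    intro ψ hψ
    obtain ⟨T₀, rfl⟩ := hΨbij.2 ψ
    have hT₀ : (T₀ : Matrix (Fin m) (Fin m) F) ≠ 0 := by
      intro h0
      apply hψ
      have : T₀ = 0 := Subtype.ext h0
      rw [this, hΨ0]
    obtain ⟨t, htcard, ht⟩ := herm_orbit_gl hF φ hφ m hm (T₀ : Matrix (Fin m) (Fin m) F)
      ((mem_Herm φ m _).1 T₀.2) hT₀
    have hh : ∀ T' ∈ t, T' ∈ Herm φ m := by
      intro T' hT'
      obtain ⟨a, -, rfl⟩ := ht T' hT'
      rw [mem_Herm, ct_mul, ct_mul, ct_ct φ hφφ, (mem_Herm φ m _).1 T₀.2, Matrix.mul_assoc]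
    refine ⟨t.attach.image (fun T' => Ψ ⟨T'.1, hh T'.1 T'.2⟩), ?_, ?_⟩
    · rw [Finset.card_image_of_injective, Finset.card_attach]
      · exact htcard
      · intro T' T'' h
        have := hΨbij.1 h
        apply Subtype.ext
        exact congrArg (fun S : Herm φ m => (S : Matrix (Fin m) (Fin m) F)) this
    · intro ψ' hψ'
      rw [Finset.mem_image] at hψ'
      obtain ⟨⟨T', hT't⟩, -, rfl⟩ := hψ'
      obtain ⟨a, ha, hT'eq⟩ := ht T' hT't
      refine ⟨cjH φ hφφ a⁻¹, ⟨⟨a⁻¹, hinvdet a ha⟩, rfl⟩, ?_⟩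
      intro S
      apply hΨeq a⁻¹ ⟨T', hh T' hT't⟩ T₀ S (cjH φ hφφ a⁻¹ S) _ (cjH_val φ hφφ _ S)
      show (T₀ : Matrix (Fin m) (Fin m) F) = ct φ a⁻¹ * T' * a⁻¹
      rw [hT'eq, ← Matrix.mul_assoc, ← Matrix.mul_assoc, ← ct_mul, hinvmul a ha, ct_one,
        Matrix.one_mul, Matrix.mul_assoc, hinvmul a ha, Matrix.mul_one]
  · -- the weight spaces
    intro ψ hψ hwt
    obtain ⟨T₀, rfl⟩ := hΨbij.2 ψ
    have hT₀ : (T₀ : Matrix (Fin m) (Fin m) F) ≠ 0 := by
      intro h0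
      apply hψ
      have : T₀ = 0 := Subtype.ext h0
      rw [this, hΨ0]
    apply inner_bound hF φ hφ m ((ρ : Cfsg.SU (2 * m + 1) F q →* _).comp e.toMonoidHom) X hX0 hXmul
      ε hε0 hε χ hχ (T₀ : Matrix (Fin m) (Fin m) F) ((mem_Herm φ m _).1 T₀.2) hT₀ _ hwt
    intro v
    rw [RepWt.mem_wt]
    constructor
    · intro h S hS
      have h2 := h ⟨S, (mem_Herm φ m _).2 hS⟩
      rw [hΨ] at h2
      have h3 : T ⟨S, (mem_Herm φ m _).2 hS⟩ v = ρ (e (X 0 (ε • S))) v := by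
        show ρ (e (x _)) v = _
        rw [hxdef]
      rw [h3] at h2
      exact h2
    · intro h S
      rw [hΨ]
      have h3 : T S v = ρ (e (X 0 (ε • S.1))) v := by
        show ρ (e (x _)) v = _
        rw [hxdef]
      rw [h3]
      exact h S.1 ((mem_Herm φ m _).1 S.2)

end Cfsg.Agent.Helper18.LS
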