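import Mathlib
import Cfsg.Agent.Lib.Helper6.WeilDefs

/-!
# S2333 (Landazuri-Seitz-type bound for `Sp_{2n}(q)`, `q` even): definitions (helper18)

The characters of the Siegel radical `xL S` (`S` symmetric) are `symmChar ψ M`, `M` ANY matrix; the character
depends only on the quadratic form `qf M v = v ⬝ᵥ M *ᵥ v`.  `pol M` is the polar form, `orb M` the orbit of the
form under `GL_n`, `good M α β γ` the set of pairs of vectors with prescribed values.
-/

set_option autoImplicit false

namespace Cfsg.Agent.Helper18.LS3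

open Matrix

variable {n : ℕ} {F : Type*} [Field F]

/-- the quadratic form of a matrix -/
def qf (M : Matrix (Fin n) (Fin n) F) (v : Fin n → F) : F := v ⬝ᵥ (M *ᵥ v)

/-- its polar form -/
def pol (M : Matrix (Fin n) (Fin n) F) (u v : Fin n → F) : F := u ⬝ᵥ ((M + Mᵀ) *ᵥ v)

/-- the `GL_n`-orbit of the form of `M` (as a set of functions) -/
def orb (M : Matrix (Fin n) (Fin n) F) : Set ((Fin n → F) → F) :=
  {f | ∃ h : GL (Fin n) F, f = fun v => qf M ((h : Matrix (Fin n) (Fin n) F) *ᵥ v)}

/-- the pairs of vectors with prescribed values of the form and of the polar form -/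
def good (M : Matrix (Fin n) (Fin n) F) (α β γ : F) : Set ((Fin n → F) × (Fin n → F)) :=
  {p | qf M p.1 = α ∧ qf M p.2 = β ∧ pol M p.1 p.2 = γ}

/-- the symmetric matrix `E_ij + E_ji` -/
def altS (i j : Fin n) : Cfsg.Agent.Helper6.Weil.symmAdd n F :=
  ⟨Matrix.single i j (1 : F) + Matrix.single j i (1 : F), by
    show (Matrix.single i j (1 : F) + Matrix.single j i (1 : F))ᵀ = _
    rw [Matrix.transpose_add, Matrix.transpose_single, Matrix.transpose_single, add_comm]⟩

theorem mem_good {M : Matrix (Fin n) (Fin n) F} {α β γ : F} {p : (Fin n → F) × (Fin n → F)} :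
    p ∈ good M α β γ ↔ qf M p.1 = α ∧ qf M p.2 = β ∧ pol M p.1 p.2 = γ := Iff.rfl

theorem pol_add_left (M : Matrix (Fin n) (Fin n) F) (u u' v : Fin n → F) :
    pol M (u + u') v = pol M u v + pol M u' v := by
  unfold pol; rw [add_dotProduct]

theorem pol_smul_left (M : Matrix (Fin n) (Fin n) F) (c : F) (u v : Fin n → F) :
    pol M (c • u) v = c * pol M u v := by
  unfold pol; rw [smul_dotProduct, smul_eq_mul]

theorem pol_add_right (M : Matrix (Fin n) (Fin n) F) (u v v' : Fin n → F) :
    pol M u (v + v') = pol M u v + pol M u v' := by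
  unfold pol; rw [Matrix.mulVec_add, dotProduct_add]

theorem pol_smul_right (M : Matrix (Fin n) (Fin n) F) (c : F) (u v : Fin n → F) :
    pol M u (c • v) = c * pol M u v := by
  unfold pol; rw [Matrix.mulVec_smul, dotProduct_smul, smul_eq_mul]

theorem pol_zero_left (M : Matrix (Fin n) (Fin n) F) (v : Fin n → F) : pol M 0 v = 0 := by
  unfold pol; rw [zero_dotProduct]

theorem pol_zero_right (M : Matrix (Fin n) (Fin n) F) (u : Fin n → F) : pol M u 0 = 0 := by
  unfold pol; rw [Matrix.mulVec_zero, dotProduct_zero]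

theorem pol_eq (M : Matrix (Fin n) (Fin n) F) (u v : Fin n → F) :
    pol M u v = u ⬝ᵥ (M *ᵥ v) + v ⬝ᵥ (M *ᵥ u) := by
  unfold pol
  rw [Matrix.add_mulVec, dotProduct_add]
  congr 1
  rw [Matrix.mulVec_transpose, Matrix.dotProduct_mulVec, dotProduct_comm]

theorem pol_comm (M : Matrix (Fin n) (Fin n) F) (u v : Fin n → F) : pol M u v = pol M v u := by
  rw [pol_eq, pol_eq, add_comm]

theorem qf_add (M : Matrix (Fin n) (Fin n) F) (u v : Fin n → F) :
    qf M (u + v) = qf M u + qf M v + pol M u v := by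
  rw [pol_eq]
  unfold qf
  rw [Matrix.mulVec_add, add_dotProduct, dotProduct_add, dotProduct_add]
  ring

theorem qf_smul (M : Matrix (Fin n) (Fin n) F) (c : F) (v : Fin n → F) :
    qf M (c • v) = c ^ 2 * qf M v := by
  unfold qf
  rw [Matrix.mulVec_smul, smul_dotProduct, dotProduct_smul, smul_eq_mul, smul_eq_mul]
  ring

theorem qf_zero (M : Matrix (Fin n) (Fin n) F) : qf M 0 = 0 := by
  unfold qf; rw [zero_dotProduct]

theorem pol_self_eq (M : Matrix (Fin n) (Fin n) F) (u : Fin n → F) : pol M u u = 2 * qf M u := by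
  rw [pol_eq]; unfold qf; ring

/-- in characteristic 2 the polar form is alternating -/
theorem pol_self [CharP F 2] (M : Matrix (Fin n) (Fin n) F) (u : Fin n → F) : pol M u u = 0 := by
  rw [pol_self_eq, CharTwo.two_eq_zero, zero_mul]

/-- the form of `hᵀ M h` -/
theorem qf_conj (M h : Matrix (Fin n) (Fin n) F) (v : Fin n → F) :
    qf (hᵀ * M * h) v = qf M (h *ᵥ v) := by
  unfold qf
  rw [← Matrix.mulVec_mulVec, ← Matrix.mulVec_mulVec, Matrix.dotProduct_mulVec,
    Matrix.vecMul_transpose]

end Cfsg.Agent.Helper18.LS3
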