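import Mathlib
import Cfsg.Agent.Lib.Helper18.LS3Defs

/-!
# S2333 piece ORBT, part a (helper18): `GL_n` is transitive on linearly independent pairs; counting pairs.
-/

set_option autoImplicit false

namespace Cfsg.Agent.Helper18.LS3

open Matrix

variable {n : ℕ} {F : Type*} [Field F]

/-- an independent family extends to an independent `n`-family -/
theorem orbt_extend {k : ℕ} (hk : k ≤ n) (v : Fin k → (Fin n → F)) (hv : LinearIndependent F v) :
    ∃ w : Fin n → (Fin n → F), LinearIndependent F w ∧ ∀ i : Fin k, w (Fin.castLE hk i) = v i := by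
  have key : ∀ m : ℕ, k ≤ m → ∀ hm : m ≤ n, ∃ w : Fin m → (Fin n → F), LinearIndependent F w ∧
      ∀ (hkm : k ≤ m) (i : Fin k), w (Fin.castLE hkm i) = v i := by
    intro m hkm
    induction m, hkm using Nat.le_induction with
    | base =>
      intro _
      exact ⟨v, hv, fun _ i => by simp⟩
    | succ m hkm ih =>
      intro hm
      obtain ⟨w, hw, hwv⟩ := ih (by omega)
      have hlt : m < Module.finrank F (Fin n → F) := by
        rw [Module.finrank_fin_fun]; omega
      obtain ⟨x, hx⟩ := exists_linearIndependent_snoc_of_lt_finrank hw hlt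
      refine ⟨Fin.snoc w x, hx, ?_⟩
      intro hkm' i
      have : Fin.castLE hkm' i = Fin.castSucc (Fin.castLE hkm i) := by
        ext; simp
      rw [this, Fin.snoc_castSucc]
      exact hwv hkm i
  obtain ⟨w, hw, hwv⟩ := key n hk le_rfl
  exact ⟨w, hw, hwv hk⟩

/-- `GL_n` is transitive on linearly independent pairs -/
theorem orbt_transitive [Fintype F] (u₀ v₀ u v : Fin n → F) (h₀ : LinearIndependent F ![u₀, v₀])
    (h : LinearIndependent F ![u, v]) :
    ∃ g : GL (Fin n) F, (g : Matrix (Fin n) (Fin n) F) *ᵥ u₀ = u ∧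
      (g : Matrix (Fin n) (Fin n) F) *ᵥ v₀ = v := by
  have hn : 2 ≤ n := by
    have := h.fintype_card_le_finrank
    rwa [Fintype.card_fin, Module.finrank_fin_fun] at this
  -- a matrix with prescribed first two columns
  have hcol : ∀ a b : Fin n → F, LinearIndependent F ![a, b] →
      ∃ g : GL (Fin n) F, (g : Matrix (Fin n) (Fin n) F) *ᵥ (Pi.single ⟨0, by omega⟩ 1) = a ∧
        (g : Matrix (Fin n) (Fin n) F) *ᵥ (Pi.single ⟨1, by omega⟩ 1) = b := by
    intro a b hab
    obtain ⟨w, hw, hwv⟩ := orbt_extend hn ![a, b] hab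
    refine ⟨(Matrix.equiv_GL_linearindependent n).symm ⟨w, hw⟩, ?_, ?_⟩
    · have h1 : w (Fin.castLE hn 0) = a := hwv 0
      rw [← h1]
      funext i
      simp [Matrix.equiv_GL_linearindependent, Matrix.mulVec_single_one]
      rfl
    · have h1 : w (Fin.castLE hn 1) = b := hwv 1
      rw [← h1]
      funext i
      simp [Matrix.equiv_GL_linearindependent, Matrix.mulVec_single_one]
      rfl
  obtain ⟨g₀, hg₀a, hg₀b⟩ := hcol u₀ v₀ h₀
  obtain ⟨g₁, hg₁a, hg₁b⟩ := hcol u v h
  refine ⟨g₁ * g₀⁻¹, ?_, ?_⟩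
  · rw [← hg₀a, Units.val_mul, Matrix.mulVec_mulVec, Matrix.mul_assoc, ← Units.val_mul,
      inv_mul_cancel, Units.val_one, Matrix.mul_one, hg₁a]
  · rw [← hg₀b, Units.val_mul, Matrix.mulVec_mulVec, Matrix.mul_assoc, ← Units.val_mul,
      inv_mul_cancel, Units.val_one, Matrix.mul_one, hg₁b]

end Cfsg.Agent.Helper18.LS3
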