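import Mathlib
import Cfsg.Agent.Lib.Helper18.LS3ORBTa

/-!
# S2333 piece ORBT, part b (helper18): counting pairs; the unipotent elements `tM a c`.
-/

set_option autoImplicit false

namespace Cfsg.Agent.Helper18.LS3

open Matrix

variable {n : ℕ} {F : Type*} [Field F]

/-- the number of linearly independent pairs -/
theorem orbt_card_pairs [Fintype F] [DecidableEq F] (hn : 2 ≤ n) :
    Nat.card {p : (Fin n → F) × (Fin n → F) // LinearIndependent F ![p.1, p.2]} =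
      (Fintype.card F ^ n - 1) * (Fintype.card F ^ n - Fintype.card F) := by
  have h1 := card_linearIndependent (K := F) (V := Fin n → F) (k := 2)
    (by rw [Module.finrank_fin_fun]; exact hn)
  rw [Module.finrank_fin_fun, Fin.prod_univ_two] at h1
  simp only [Fin.val_zero, pow_zero, Fin.val_one, pow_one] at h1
  rw [← h1]
  refine Nat.card_congr
    { toFun := fun p => ⟨![p.1.1, p.1.2], p.2⟩
      invFun := fun s => ⟨(s.1 0, s.1 1), by
        have : ![s.1 0, s.1 1] = s.1 := by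
          funext i; fin_cases i <;> rfl
        show LinearIndependent F ![s.1 0, s.1 1]
        rw [this]; exact s.2⟩
      left_inv := fun p => by
        apply Subtype.ext
        rfl
      right_inv := fun s => by
        apply Subtype.ext
        funext i; fin_cases i <;> rfl }

/-- pairs with nonzero polar form are linearly independent (characteristic 2) -/
theorem orbt_indep [CharP F 2] (M : Matrix (Fin n) (Fin n) F) (u v : Fin n → F)
    (h : pol M u v ≠ 0) : LinearIndependent F ![u, v] := by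
  rw [LinearIndependent.pair_iff]
  intro s t hst
  have h1 : pol M (s • u + t • v) v = 0 := by rw [hst, pol_zero_left]
  rw [pol_add_left, pol_smul_left, pol_smul_left, pol_self, mul_zero, add_zero] at h1
  have hs : s = 0 := by
    rcases mul_eq_zero.mp h1 with h2 | h2
    · exact h2
    · exact absurd h2 h
  have h3 : pol M u (s • u + t • v) = 0 := by rw [hst, pol_zero_right]
  rw [pol_add_right, pol_smul_right, pol_smul_right, pol_self, mul_zero, zero_add] at h3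
  have ht : t = 0 := by
    rcases mul_eq_zero.mp h3 with h2 | h2
    · exact h2
    · exact absurd h2 h
  exact ⟨hs, ht⟩

/-- the matrix `1 + u₀ aᵀ + v₀ cᵀ` -/
def tM (u₀ v₀ a c : Fin n → F) : Matrix (Fin n) (Fin n) F :=
  1 + Matrix.vecMulVec u₀ a + Matrix.vecMulVec v₀ c

theorem tM_mulVec (u₀ v₀ a c w : Fin n → F) :
    tM u₀ v₀ a c *ᵥ w = w + (a ⬝ᵥ w) • u₀ + (c ⬝ᵥ w) • v₀ := by
  unfold tM
  rw [Matrix.add_mulVec, Matrix.add_mulVec, Matrix.one_mulVec, Matrix.vecMulVec_mulVec,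
    Matrix.vecMulVec_mulVec, op_smul_eq_smul, op_smul_eq_smul]

theorem orbt_mat_ext (A B : Matrix (Fin n) (Fin n) F) (h : ∀ w, A *ᵥ w = B *ᵥ w) : A = B := by
  apply Matrix.toLin'.injective
  apply LinearMap.ext
  intro w
  rw [Matrix.toLin'_apply, Matrix.toLin'_apply, h]

theorem tM_zero (u₀ v₀ : Fin n → F) : tM u₀ v₀ 0 0 = 1 := by
  apply orbt_mat_ext
  intro w
  rw [tM_mulVec, zero_dotProduct, zero_smul, zero_smul, add_zero, add_zero, Matrix.one_mulVec]

theorem tM_mul (u₀ v₀ a c a' c' : Fin n → F) (h1 : a ⬝ᵥ u₀ = 0) (h2 : a ⬝ᵥ v₀ = 0)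
    (h3 : c ⬝ᵥ u₀ = 0) (h4 : c ⬝ᵥ v₀ = 0) :
    tM u₀ v₀ a c * tM u₀ v₀ a' c' = tM u₀ v₀ (a + a') (c + c') := by
  apply orbt_mat_ext
  intro w
  rw [← Matrix.mulVec_mulVec, tM_mulVec u₀ v₀ a' c', tM_mulVec, tM_mulVec]
  simp only [dotProduct_add, dotProduct_smul, h1, h2, h3, h4, smul_eq_mul, mul_zero, add_zero,
    add_dotProduct, add_smul]
  abel

theorem orbt_add_self [CharP F 2] (a : Fin n → F) : a + a = 0 := by
  funext i
  exact CharTwo.add_self_eq_zero (a i)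

theorem tM_mul_self [CharP F 2] (u₀ v₀ a c : Fin n → F) (h1 : a ⬝ᵥ u₀ = 0) (h2 : a ⬝ᵥ v₀ = 0)
    (h3 : c ⬝ᵥ u₀ = 0) (h4 : c ⬝ᵥ v₀ = 0) : tM u₀ v₀ a c * tM u₀ v₀ a c = 1 := by
  rw [tM_mul u₀ v₀ a c a c h1 h2 h3 h4, orbt_add_self, orbt_add_self, tM_zero]

/-- the elements `tM a c` as invertible matrices (characteristic 2) -/
def tG [CharP F 2] (u₀ v₀ a c : Fin n → F) (h1 : a ⬝ᵥ u₀ = 0) (h2 : a ⬝ᵥ v₀ = 0)
    (h3 : c ⬝ᵥ u₀ = 0) (h4 : c ⬝ᵥ v₀ = 0) : GL (Fin n) F :=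
  ⟨tM u₀ v₀ a c, tM u₀ v₀ a c, tM_mul_self u₀ v₀ a c h1 h2 h3 h4,
    tM_mul_self u₀ v₀ a c h1 h2 h3 h4⟩

theorem tG_coe [CharP F 2] (u₀ v₀ a c : Fin n → F) (h1 : a ⬝ᵥ u₀ = 0) (h2 : a ⬝ᵥ v₀ = 0)
    (h3 : c ⬝ᵥ u₀ = 0) (h4 : c ⬝ᵥ v₀ = 0) :
    ((tG u₀ v₀ a c h1 h2 h3 h4 : GL (Fin n) F) : Matrix (Fin n) (Fin n) F) = tM u₀ v₀ a c := rfl

/-- an element `tM a c` preserving the form is trivial -/
theorem tM_eq_one_of_preserves [CharP F 2] (M : Matrix (Fin n) (Fin n) F) (u₀ v₀ a c : Fin n → F)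
    (hγ : pol M u₀ v₀ ≠ 0) (h1 : a ⬝ᵥ u₀ = 0) (h2 : a ⬝ᵥ v₀ = 0)
    (h3 : c ⬝ᵥ u₀ = 0) (h4 : c ⬝ᵥ v₀ = 0)
    (hpres : ∀ w, qf M (tM u₀ v₀ a c *ᵥ w) = qf M w) : a = 0 ∧ c = 0 := by
  have hfix_u : tM u₀ v₀ a c *ᵥ u₀ = u₀ := by
    rw [tM_mulVec, h1, h3, zero_smul, zero_smul, add_zero, add_zero]
  have hfix_v : tM u₀ v₀ a c *ᵥ v₀ = v₀ := by
    rw [tM_mulVec, h2, h4, zero_smul, zero_smul, add_zero, add_zero]
  -- the polar form is preserved
  have hpol : ∀ x y, pol M (tM u₀ v₀ a c *ᵥ x) (tM u₀ v₀ a c *ᵥ y) = pol M x y := by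
    intro x y
    have e1 := qf_add M (tM u₀ v₀ a c *ᵥ x) (tM u₀ v₀ a c *ᵥ y)
    rw [← Matrix.mulVec_add, hpres, hpres, hpres, qf_add] at e1
    exact (add_left_cancel e1).symm
  have hγ' : pol M v₀ u₀ ≠ 0 := by rw [pol_comm]; exact hγ
  have key : ∀ x, a ⬝ᵥ x = 0 ∧ c ⬝ᵥ x = 0 := by
    intro x
    have e1 := hpol x u₀
    rw [hfix_u, tM_mulVec, pol_add_left, pol_add_left, pol_smul_left, pol_smul_left, pol_self,
      mul_zero, add_zero] at e1
    have e2 := hpol x v₀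
    rw [hfix_v, tM_mulVec, pol_add_left, pol_add_left, pol_smul_left, pol_smul_left, pol_self,
      mul_zero, add_zero] at e2
    have e1' : (c ⬝ᵥ x) * pol M v₀ u₀ = 0 := by
      have := e1
      rw [add_eq_left] at this
      exact this
    have e2' : (a ⬝ᵥ x) * pol M u₀ v₀ = 0 := by
      have := e2
      rw [add_eq_left] at this
      exact this
    refine ⟨?_, ?_⟩
    · rcases mul_eq_zero.mp e2' with h | h
      · exact h
      · exact absurd h hγ
    · rcases mul_eq_zero.mp e1' with h | h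
      · exact h
      · exact absurd h hγ'
  constructor
  · funext i
    have := (key (Pi.single i 1)).1
    rwa [dotProduct_single_one] at this
  · funext i
    have := (key (Pi.single i 1)).2
    rwa [dotProduct_single_one] at this

end Cfsg.Agent.Helper18.LS3
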