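import Mathlib
import Cfsg.Agent.Lib.Helper18.LS3ORBTb

/-!
# S2333 piece ORBT, part c (helper18): generic counting lemmas, the stabiliser sets, steps A1, A2.
-/

set_option autoImplicit false

namespace Cfsg.Agent.Helper18.LS3

open Matrix

/-- fibres of size at most `m` -/
theorem orbt_ncard_le_mul {α β : Type*} [Finite α] (f : α → β) (s : Set α) (t : Set β) (m : ℕ)
    (ht : t.Finite) (hst : ∀ a ∈ s, f a ∈ t)
    (h : ∀ a ∈ s, {x | x ∈ s ∧ f x = f a}.ncard ≤ m) : s.ncard ≤ m * t.ncard := by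
  classical
  have := Fintype.ofFinite α
  have h1 : s.ncard = s.toFinset.card := Set.ncard_eq_toFinset_card' s
  have h2 : (f '' s).ncard ≤ t.ncard :=
    Set.ncard_le_ncard (by rintro _ ⟨a, ha, rfl⟩; exact hst a ha) ht
  have h3 : (f '' s).ncard = (s.toFinset.image f).card := by
    rw [← Set.ncard_coe_finset (s.toFinset.image f)]; congr 1; ext; simp
  rw [h1]
  refine (Finset.card_le_mul_card_image (f := f) s.toFinset m ?_).trans ?_
  · intro b hb
    obtain ⟨a, ha, rfl⟩ := Finset.mem_image.mp hb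
    rw [Set.mem_toFinset] at ha
    have := h a ha
    rw [← Set.ncard_coe_finset (Finset.filter (fun x => f x = f a) s.toFinset)]
    convert this using 2
    ext x; simp
  · rw [← h3]; exact Nat.mul_le_mul_left _ h2

/-- fibres of size at least `m` -/
theorem orbt_mul_le_ncard {α β : Type*} [Finite α] (f : α → β) (s : Set α) (t : Set β) (m : ℕ)
    (hst : ∀ b ∈ t, ∃ a ∈ s, f a = b)
    (h : ∀ a ∈ s, m ≤ {x | x ∈ s ∧ f x = f a}.ncard) : m * t.ncard ≤ s.ncard := by
  classical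
  have := Fintype.ofFinite α
  have h1 : s.ncard = s.toFinset.card := Set.ncard_eq_toFinset_card' s
  have h2 : t.ncard ≤ (f '' s).ncard :=
    Set.ncard_le_ncard (by intro b hb; obtain ⟨a, ha, rfl⟩ := hst b hb; exact ⟨a, ha, rfl⟩)
      (Set.toFinite _)
  have h3 : (f '' s).ncard = (s.toFinset.image f).card := by
    rw [← Set.ncard_coe_finset (s.toFinset.image f)]; congr 1; ext; simp
  rw [h1]
  refine le_trans ?_ (Finset.mul_card_image_le_card (f := f) s.toFinset m ?_)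
  · rw [← h3]; exact Nat.mul_le_mul_left _ h2
  · intro b hb
    obtain ⟨a, ha, rfl⟩ := Finset.mem_image.mp hb
    rw [Set.mem_toFinset] at ha
    have := h a ha
    rw [← Set.ncard_coe_finset (Finset.filter (fun x => f x = f a) s.toFinset)]
    convert this using 2
    ext x; simp

variable {n : ℕ} {F : Type*} [Field F]

theorem orbt_mul_mulVec (g h : GL (Fin n) F) (w : Fin n → F) :
    ((g * h : GL (Fin n) F) : Matrix (Fin n) (Fin n) F) *ᵥ w =
      (g : Matrix (Fin n) (Fin n) F) *ᵥ ((h : Matrix (Fin n) (Fin n) F) *ᵥ w) := by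
  rw [Units.val_mul, Matrix.mulVec_mulVec]

theorem orbt_inv_mulVec (g : GL (Fin n) F) (w : Fin n → F) :
    ((g⁻¹ : GL (Fin n) F) : Matrix (Fin n) (Fin n) F) *ᵥ
      ((g : Matrix (Fin n) (Fin n) F) *ᵥ w) = w := by
  rw [Matrix.mulVec_mulVec, ← Units.val_mul, inv_mul_cancel, Units.val_one, Matrix.one_mulVec]

theorem orbt_mulVec_inv (g : GL (Fin n) F) (w : Fin n → F) :
    (g : Matrix (Fin n) (Fin n) F) *ᵥ
      (((g⁻¹ : GL (Fin n) F) : Matrix (Fin n) (Fin n) F) *ᵥ w) = w := by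
  rw [Matrix.mulVec_mulVec, ← Units.val_mul, mul_inv_cancel, Units.val_one, Matrix.one_mulVec]

/-- `k` preserves the form -/
def Pres (M : Matrix (Fin n) (Fin n) F) (k : GL (Fin n) F) : Prop :=
  ∀ w, qf M ((k : Matrix (Fin n) (Fin n) F) *ᵥ w) = qf M w

theorem Pres.one (M : Matrix (Fin n) (Fin n) F) : Pres M 1 := by
  intro w; rw [Units.val_one, Matrix.one_mulVec]

theorem Pres.mul {M : Matrix (Fin n) (Fin n) F} {k k' : GL (Fin n) F} (h : Pres M k)
    (h' : Pres M k') : Pres M (k * k') := by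
  intro w; rw [orbt_mul_mulVec, h, h']

theorem Pres.inv {M : Matrix (Fin n) (Fin n) F} {k : GL (Fin n) F} (h : Pres M k) :
    Pres M k⁻¹ := by
  intro w
  have := h (((k⁻¹ : GL (Fin n) F) : Matrix (Fin n) (Fin n) F) *ᵥ w)
  rw [orbt_mulVec_inv] at this
  exact this.symm

theorem Pres.pol {M : Matrix (Fin n) (Fin n) F} {k : GL (Fin n) F} (h : Pres M k)
    (x y : Fin n → F) :
    pol M ((k : Matrix (Fin n) (Fin n) F) *ᵥ x) ((k : Matrix (Fin n) (Fin n) F) *ᵥ y) =
      pol M x y := by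
  have e1 := qf_add M ((k : Matrix (Fin n) (Fin n) F) *ᵥ x) ((k : Matrix (Fin n) (Fin n) F) *ᵥ y)
  rw [← Matrix.mulVec_add, h, h, h, qf_add] at e1
  exact (add_left_cancel e1).symm

/-- the stabiliser of the form -/
def StabS (M : Matrix (Fin n) (Fin n) F) : Set (GL (Fin n) F) := {k | Pres M k}

/-- the stabiliser of the form and of the two vectors -/
def SS (M : Matrix (Fin n) (Fin n) F) (u₀ v₀ : Fin n → F) : Set (GL (Fin n) F) :=
  {k | Pres M k ∧ (k : Matrix (Fin n) (Fin n) F) *ᵥ u₀ = u₀ ∧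
    (k : Matrix (Fin n) (Fin n) F) *ᵥ v₀ = v₀}

theorem orbt_stepA1 [Fintype F] (M : Matrix (Fin n) (Fin n) F) :
    Nat.card (GL (Fin n) F) ≤ (StabS M).ncard * (orb M).ncard := by
  rw [← Set.ncard_univ]
  apply orbt_ncard_le_mul (fun (h : GL (Fin n) F) (v : Fin n → F) =>
    qf M ((h : Matrix (Fin n) (Fin n) F) *ᵥ v)) Set.univ (orb M) _ (Set.toFinite _)
  · intro a _
    exact ⟨a, rfl⟩
  · intro a _
    apply Set.ncard_le_ncard_of_injOn (fun h => h * a⁻¹)
    · intro h hh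
      obtain ⟨-, hh⟩ := hh
      show Pres M (h * a⁻¹)
      intro w
      rw [orbt_mul_mulVec]
      have := congrFun hh (((a⁻¹ : GL (Fin n) F) : Matrix (Fin n) (Fin n) F) *ᵥ w)
      rw [this, orbt_mulVec_inv]
    · intro x _ y _ hxy
      exact mul_right_cancel hxy

theorem orbt_stepA2 [Fintype F] (M : Matrix (Fin n) (Fin n) F) (u₀ v₀ : Fin n → F) :
    (StabS M).ncard ≤ (SS M u₀ v₀).ncard * (good M (qf M u₀) (qf M v₀) (pol M u₀ v₀)).ncard := by
  apply orbt_ncard_le_mul (fun (k : GL (Fin n) F) =>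
    ((k : Matrix (Fin n) (Fin n) F) *ᵥ u₀, (k : Matrix (Fin n) (Fin n) F) *ᵥ v₀)) (StabS M) _ _
    (Set.toFinite _)
  · intro k hk
    exact ⟨hk u₀, hk v₀, Pres.pol hk u₀ v₀⟩
  · intro a ha
    apply Set.ncard_le_ncard_of_injOn (fun h => a⁻¹ * h)
    · intro h hh
      obtain ⟨hh1, hh2⟩ := hh
      simp only [Prod.mk.injEq] at hh2
      refine ⟨Pres.mul (Pres.inv ha) hh1, ?_, ?_⟩
      · rw [orbt_mul_mulVec, hh2.1, orbt_inv_mulVec]
      · rw [orbt_mul_mulVec, hh2.2, orbt_inv_mulVec]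
    · intro x _ y _ hxy
      exact mul_left_cancel hxy

end Cfsg.Agent.Helper18.LS3
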