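import Mathlib
import Cfsg.Agent.Lib.Helper18.LS3ORBTc

/-!
# S2333 piece ORBT (helper18): `(q^n-1)(q^n-q) q^(2(n-2)) ≤ #orb * #good`.
-/

set_option autoImplicit false

namespace Cfsg.Agent.Helper18.LS3

open Matrix

variable {n : ℕ} {F : Type*} [Field F]

/-- linear forms killing `u₀` and `v₀` -/
def NS (u₀ v₀ : Fin n → F) : Set (Fin n → F) := {a | a ⬝ᵥ u₀ = 0 ∧ a ⬝ᵥ v₀ = 0}

theorem orbt_NS_card [Fintype F] (u₀ v₀ : Fin n → F) (hn : 2 ≤ n) :
    Fintype.card F ^ (n - 2) ≤ (NS u₀ v₀).ncard := by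
  have h1 : (Set.univ : Set (Fin n → F)).ncard ≤
      (NS u₀ v₀).ncard * (Set.univ : Set (F × F)).ncard := by
    apply orbt_ncard_le_mul (fun a : Fin n → F => (a ⬝ᵥ u₀, a ⬝ᵥ v₀)) Set.univ Set.univ _
      (Set.toFinite _)
    · intro a _; trivial
    · intro a _
      apply Set.ncard_le_ncard_of_injOn (fun x => x - a)
      · intro x hx
        obtain ⟨-, hx⟩ := hx
        simp only [Prod.mk.injEq] at hx
        exact ⟨by rw [sub_dotProduct, hx.1, sub_self], by rw [sub_dotProduct, hx.2, sub_self]⟩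
      · intro x _ y _ hxy
        exact sub_left_injective hxy
  rw [Set.ncard_univ, Set.ncard_univ, Nat.card_eq_fintype_card, Nat.card_eq_fintype_card,
    Fintype.card_prod, Fintype.card_pi_const] at h1
  have hq : 0 < Fintype.card F := Fintype.card_pos
  have h2 : Fintype.card F ^ n = Fintype.card F ^ (n - 2) * (Fintype.card F * Fintype.card F) := by
    rw [← pow_two, ← pow_add]; congr 1; omega
  rw [h2] at h1
  exact Nat.le_of_mul_le_mul_right h1 (Nat.mul_pos hq hq)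

theorem tG_mul_self [CharP F 2] (u₀ v₀ a c : Fin n → F) (h1 : a ⬝ᵥ u₀ = 0) (h2 : a ⬝ᵥ v₀ = 0)
    (h3 : c ⬝ᵥ u₀ = 0) (h4 : c ⬝ᵥ v₀ = 0) :
    tG u₀ v₀ a c h1 h2 h3 h4 * tG u₀ v₀ a c h1 h2 h3 h4 = 1 :=
  Units.ext (tM_mul_self u₀ v₀ a c h1 h2 h3 h4)

theorem orbt_stepB [Fintype F] [CharP F 2] (M : Matrix (Fin n) (Fin n) F) (u₀ v₀ : Fin n → F)
    (hγ : pol M u₀ v₀ ≠ 0) :
    ((NS u₀ v₀).ncard * (NS u₀ v₀).ncard * (SS M u₀ v₀).ncard) *
      {p : (Fin n → F) × (Fin n → F) | LinearIndependent F ![p.1, p.2]}.ncard ≤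
        Nat.card (GL (Fin n) F) := by
  rw [← Set.ncard_univ (GL (Fin n) F)]
  apply orbt_mul_le_ncard (fun (h : GL (Fin n) F) =>
    ((h : Matrix (Fin n) (Fin n) F) *ᵥ u₀, (h : Matrix (Fin n) (Fin n) F) *ᵥ v₀)) Set.univ _ _
  · rintro ⟨u, v⟩ hp
    obtain ⟨g, hg1, hg2⟩ := orbt_transitive u₀ v₀ u v (orbt_indep M u₀ v₀ hγ) hp
    exact ⟨g, trivial, by rw [hg1, hg2]⟩
  · intro g _
    have hmem : ∀ x : (↥(NS u₀ v₀) × ↥(NS u₀ v₀)) × ↥(SS M u₀ v₀),
        g * tG u₀ v₀ x.1.1.1 x.1.2.1 x.1.1.2.1 x.1.1.2.2 x.1.2.2.1 x.1.2.2.2 * x.2.1 ∈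
          {x : GL (Fin n) F | x ∈ Set.univ ∧
            (fun (h : GL (Fin n) F) => ((h : Matrix (Fin n) (Fin n) F) *ᵥ u₀,
              (h : Matrix (Fin n) (Fin n) F) *ᵥ v₀)) x =
            (fun (h : GL (Fin n) F) => ((h : Matrix (Fin n) (Fin n) F) *ᵥ u₀,
              (h : Matrix (Fin n) (Fin n) F) *ᵥ v₀)) g} := by
      rintro ⟨⟨⟨a, ha⟩, ⟨c, hc⟩⟩, ⟨s, hs⟩⟩
      refine ⟨trivial, ?_⟩
      simp only [Prod.mk.injEq]
      constructor
      · rw [orbt_mul_mulVec, orbt_mul_mulVec, hs.2.1, tG_coe, tM_mulVec, ha.1, hc.1, zero_smul,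
          zero_smul, add_zero, add_zero]
      · rw [orbt_mul_mulVec, orbt_mul_mulVec, hs.2.2, tG_coe, tM_mulVec, ha.2, hc.2, zero_smul,
          zero_smul, add_zero, add_zero]
    have hinj : Function.Injective (fun x : (↥(NS u₀ v₀) × ↥(NS u₀ v₀)) × ↥(SS M u₀ v₀) =>
        (⟨g * tG u₀ v₀ x.1.1.1 x.1.2.1 x.1.1.2.1 x.1.1.2.2 x.1.2.2.1 x.1.2.2.2 * x.2.1, hmem x⟩ :
          ↥{x : GL (Fin n) F | x ∈ Set.univ ∧
            (fun (h : GL (Fin n) F) => ((h : Matrix (Fin n) (Fin n) F) *ᵥ u₀,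
              (h : Matrix (Fin n) (Fin n) F) *ᵥ v₀)) x =
            (fun (h : GL (Fin n) F) => ((h : Matrix (Fin n) (Fin n) F) *ᵥ u₀,
              (h : Matrix (Fin n) (Fin n) F) *ᵥ v₀)) g})) := by
      rintro ⟨⟨⟨a, ha⟩, ⟨c, hc⟩⟩, ⟨s, hs⟩⟩ ⟨⟨⟨a', ha'⟩, ⟨c', hc'⟩⟩, ⟨s', hs'⟩⟩ hx
      have hx0 : g * tG u₀ v₀ a c ha.1 ha.2 hc.1 hc.2 * s =
          g * tG u₀ v₀ a' c' ha'.1 ha'.2 hc'.1 hc'.2 * s' := congrArg Subtype.val hx
      rw [mul_assoc, mul_assoc] at hx0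
      have hx1 := mul_left_cancel hx0
      have hx2 : tG u₀ v₀ a' c' ha'.1 ha'.2 hc'.1 hc'.2 * tG u₀ v₀ a c ha.1 ha.2 hc.1 hc.2 =
          s' * s⁻¹ := by
        rw [eq_mul_inv_iff_mul_eq, mul_assoc, hx1, ← mul_assoc, tG_mul_self, one_mul]
      have hpres : Pres M (tG u₀ v₀ a' c' ha'.1 ha'.2 hc'.1 hc'.2 *
          tG u₀ v₀ a c ha.1 ha.2 hc.1 hc.2) := by
        rw [hx2]; exact Pres.mul hs'.1 (Pres.inv hs.1)
      have hmat : ((tG u₀ v₀ a' c' ha'.1 ha'.2 hc'.1 hc'.2 *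
          tG u₀ v₀ a c ha.1 ha.2 hc.1 hc.2 : GL (Fin n) F) : Matrix (Fin n) (Fin n) F) =
          tM u₀ v₀ (a' + a) (c' + c) := by
        rw [Units.val_mul, tG_coe, tG_coe, tM_mul u₀ v₀ a' c' a c ha'.1 ha'.2 hc'.1 hc'.2]
      have h0 := tM_eq_one_of_preserves M u₀ v₀ (a' + a) (c' + c) hγ
        (by rw [add_dotProduct, ha'.1, ha.1, add_zero])
        (by rw [add_dotProduct, ha'.2, ha.2, add_zero])
        (by rw [add_dotProduct, hc'.1, hc.1, add_zero])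
        (by rw [add_dotProduct, hc'.2, hc.2, add_zero])
        (by intro w; rw [← hmat]; exact hpres w)
      have haa : a' = a := by
        have := h0.1
        rw [← orbt_add_self a] at this
        exact add_right_cancel this
      have hcc : c' = c := by
        have := h0.2
        rw [← orbt_add_self c] at this
        exact add_right_cancel this
      subst haa
      subst hcc
      have hss : s = s' := mul_left_cancel hx1
      subst hss
      rfl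
    have hcard := Nat.card_le_card_of_injective _ hinj
    rw [Nat.card_prod, Nat.card_prod, Nat.card_coe_set_eq, Nat.card_coe_set_eq,
      Nat.card_coe_set_eq] at hcard
    exact hcard

/-- PIECE ORBT -/
theorem orb_mul_good_ge [Fintype F] [CharP F 2] (M : Matrix (Fin n) (Fin n) F)
    (u₀ v₀ : Fin n → F) (hγ : pol M u₀ v₀ ≠ 0) :
    (Fintype.card F ^ n - 1) * (Fintype.card F ^ n - Fintype.card F) *
        Fintype.card F ^ (2 * (n - 2)) ≤
      (orb M).ncard * (good M (qf M u₀) (qf M v₀) (pol M u₀ v₀)).ncard := by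
  classical
  have hind := orbt_indep M u₀ v₀ hγ
  have hn : 2 ≤ n := by
    have := hind.fintype_card_le_finrank
    rwa [Fintype.card_fin, Module.finrank_fin_fun] at this
  have hB := orbt_stepB M u₀ v₀ hγ
  have hA1 := orbt_stepA1 M
  have hA2 := orbt_stepA2 M u₀ v₀
  have hN := orbt_NS_card u₀ v₀ hn
  have hP : {p : (Fin n → F) × (Fin n → F) | LinearIndependent F ![p.1, p.2]}.ncard =
      (Fintype.card F ^ n - 1) * (Fintype.card F ^ n - Fintype.card F) := by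
    rw [← Nat.card_coe_set_eq]; exact orbt_card_pairs hn
  have hS : 0 < (SS M u₀ v₀).ncard := by
    rw [Set.ncard_pos]
    exact ⟨1, Pres.one M, by rw [Units.val_one, Matrix.one_mulVec],
      by rw [Units.val_one, Matrix.one_mulVec]⟩
  rw [hP] at hB
  have hpow : Fintype.card F ^ (2 * (n - 2)) =
      Fintype.card F ^ (n - 2) * Fintype.card F ^ (n - 2) := by
    rw [two_mul, pow_add]
  rw [hpow]
  have hNN : Fintype.card F ^ (n - 2) * Fintype.card F ^ (n - 2) ≤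
      (NS u₀ v₀).ncard * (NS u₀ v₀).ncard := Nat.mul_le_mul hN hN
  have h1 : (Fintype.card F ^ n - 1) * (Fintype.card F ^ n - Fintype.card F) *
      (Fintype.card F ^ (n - 2) * Fintype.card F ^ (n - 2)) * (SS M u₀ v₀).ncard ≤
      (orb M).ncard * (good M (qf M u₀) (qf M v₀) (pol M u₀ v₀)).ncard * (SS M u₀ v₀).ncard := by
    calc (Fintype.card F ^ n - 1) * (Fintype.card F ^ n - Fintype.card F) *
        (Fintype.card F ^ (n - 2) * Fintype.card F ^ (n - 2)) * (SS M u₀ v₀).ncard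
        = (Fintype.card F ^ (n - 2) * Fintype.card F ^ (n - 2)) * (SS M u₀ v₀).ncard *
          ((Fintype.card F ^ n - 1) * (Fintype.card F ^ n - Fintype.card F)) := by ring
      _ ≤ ((NS u₀ v₀).ncard * (NS u₀ v₀).ncard) * (SS M u₀ v₀).ncard *
          ((Fintype.card F ^ n - 1) * (Fintype.card F ^ n - Fintype.card F)) :=
        Nat.mul_le_mul_right _ (Nat.mul_le_mul_right _ hNN)
      _ ≤ Nat.card (GL (Fin n) F) := hB
      _ ≤ (StabS M).ncard * (orb M).ncard := hA1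
      _ ≤ ((SS M u₀ v₀).ncard * (good M (qf M u₀) (qf M v₀) (pol M u₀ v₀)).ncard) *
          (orb M).ncard := Nat.mul_le_mul_right _ hA2
      _ = (orb M).ncard * (good M (qf M u₀) (qf M v₀) (pol M u₀ v₀)).ncard *
          (SS M u₀ v₀).ncard := by ring
  exact Nat.le_of_mul_le_mul_right h1 hS

end Cfsg.Agent.Helper18.LS3
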