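import Mathlib
import Cfsg.Agent.Lib.Helper18.LS3ORBT
import Cfsg.Agent.Lib.Helper25.LS3ORBC1
import Cfsg.Agent.Lib.Helper6.LS3ORBC2

/-!
# S2333 piece ORBFIN (helper18): the orbit of a quadratic form with nonzero polar form is large.
-/

set_option autoImplicit false

namespace Cfsg.Agent.Helper18.LS3

open Matrix

variable {n : ℕ} {F : Type*} [Field F] [Fintype F] [CharP F 2]

/-- PIECE ORBFIN: assembly of ORBT, ORBC1, ORBC2 (done below). -/
theorem orb_card_ge (hn : 2 ≤ n) (M : Matrix (Fin n) (Fin n) F) (hM : ∃ u v, pol M u v ≠ 0) :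
    (Fintype.card F ^ n - 1) * (Fintype.card F ^ n - Fintype.card F) ≤
      2 * (Fintype.card F + 1) * (orb M).ncard := by
  have hq : 0 < Fintype.card F := Fintype.card_pos
  have hpow : 0 < Fintype.card F ^ (2 * (n - 2)) := pow_pos hq _
  by_cases hc : ∃ u₀, qf M u₀ = 0 ∧ ∃ v, pol M u₀ v ≠ 0
  · obtain ⟨u₀, hu₀, hb⟩ := hc
    obtain ⟨v₀, hv₀, hp, hle⟩ := good_card_le_of_singular M u₀ hu₀ hb
    have h1 := orb_mul_good_ge M u₀ v₀ (by rw [hp]; exact one_ne_zero)
    rw [hu₀, hv₀, hp] at h1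
    have h2 : (orb M).ncard * (good M 0 0 1).ncard ≤
        (orb M).ncard * (2 * (Fintype.card F + 1) * Fintype.card F ^ (2 * (n - 2))) := by
      apply Nat.mul_le_mul_left
      refine hle.trans ?_
      apply Nat.mul_le_mul_right
      omega
    have h3 := h1.trans h2
    have h4 : (orb M).ncard * (2 * (Fintype.card F + 1) * Fintype.card F ^ (2 * (n - 2))) =
        2 * (Fintype.card F + 1) * (orb M).ncard * Fintype.card F ^ (2 * (n - 2)) := by ring
    rw [h4] at h3
    exact Nat.le_of_mul_le_mul_right h3 hpow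
  · push_neg at hc
    obtain ⟨u₀, v₀, hγ⟩ := hM
    have hle := good_card_le_of_anisotropic M (fun u hu v => hc u hu v) u₀ v₀ hγ
    have h1 := orb_mul_good_ge M u₀ v₀ hγ
    have h2 : (orb M).ncard * (good M (qf M u₀) (qf M v₀) (pol M u₀ v₀)).ncard ≤
        (orb M).ncard * (2 * (Fintype.card F + 1) * Fintype.card F ^ (2 * (n - 2))) :=
      Nat.mul_le_mul_left _ hle
    have h3 := h1.trans h2
    have h4 : (orb M).ncard * (2 * (Fintype.card F + 1) * Fintype.card F ^ (2 * (n - 2))) =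
        2 * (Fintype.card F + 1) * (orb M).ncard * Fintype.card F ^ (2 * (n - 2)) := by ring
    rw [h4] at h3
    exact Nat.le_of_mul_le_mul_right h3 hpow


end Cfsg.Agent.Helper18.LS3
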