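import Mathlib
import Cfsg.Agent.Lib.Helper18.LS3ABSAT
import Cfsg.Agent.Lib.Helper18.LS3ORBFIN
import Cfsg.Agent.Lib.Helper6.LS3FAITH
import Cfsg.Agent.Lib.Helper23.LS3CHAR
import Cfsg.Agent.Lib.Helper2.WeilLOWER

/-!
# S2333 (helper18): assembly of the bound for `Sp_{2n}(q)`, `q` even.
-/

set_option autoImplicit false

namespace Cfsg.Agent.Helper18.LS3

open Matrix Cfsg.Agent.Helper6.Weil

/-- the transpose of an invertible matrix, as an invertible matrix -/
def glT {n : ℕ} {F : Type*} [Field F] (h : GL (Fin n) F) : GL (Fin n) F :=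
  ⟨(h : Matrix (Fin n) (Fin n) F)ᵀ, ((h⁻¹ : GL (Fin n) F) : Matrix (Fin n) (Fin n) F)ᵀ, by
    rw [← Matrix.transpose_mul, ← Units.val_mul, inv_mul_cancel, Units.val_one, Matrix.transpose_one],
   by
    rw [← Matrix.transpose_mul, ← Units.val_mul, mul_inv_cancel, Units.val_one, Matrix.transpose_one]⟩

theorem glT_coe {n : ℕ} {F : Type*} [Field F] (h : GL (Fin n) F) :
    ((glT h : GL (Fin n) F) : Matrix (Fin n) (Fin n) F) = (h : Matrix (Fin n) (Fin n) F)ᵀ := rfl

theorem sp_even_bound {F : Type*} [Field F] [Fintype F] [DecidableEq F] (n : ℕ) (hn : 2 ≤ n)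
    (heven : Even (Fintype.card F)) (hex : (n, Fintype.card F) ≠ (2, 2)) (k : ℕ)
    (ρ : Representation ℂ (Matrix.symplecticGroup (Fin n) F) (Fin k → ℂ)) (hirr : ρ.IsIrreducible)
    (hk : 2 ≤ k) :
    (Fintype.card F ^ n - 1) * (Fintype.card F ^ n - Fintype.card F) / (2 * (Fintype.card F + 1)) ≤ k := by
  classical
  have hchar : ringChar F = 2 := FiniteField.even_card_iff_char_two.mpr (Nat.even_iff.mp heven)
  haveI : CharP F 2 := by
    rw [← hchar]
    exact ringChar.charP F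
  haveI : Fintype (symmAdd n F) := Fintype.ofFinite _
  let T : symmAdd n F → (Fin k → ℂ) →ₗ[ℂ] (Fin k → ℂ) := fun S => ρ (xL S)
  have hT0 : T 0 = 1 := by
    show ρ (xL 0) = 1
    rw [xL_zero, map_one]
  have hTadd : ∀ a b, T (a + b) = T a * T b := by
    intro a b
    show ρ (xL (a + b)) = ρ (xL a) * ρ (xL b)
    rw [xL_add, map_mul]
  obtain ⟨ψ₀, hψ₀1⟩ := (AddChar.exists_apply_ne_zero (α := F) (a := 1)).2 one_ne_zero
  have hψ₀ : ψ₀ ≠ 1 := by
    rintro rfl
    exact hψ₀1 rfl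
  set i0 : Fin n := ⟨0, by omega⟩ with hi0
  set i1 : Fin n := ⟨1, by omega⟩ with hi1
  have hfaith : T (altS i0 i1) ≠ 1 := faith n hn hex k ρ hirr hk
  have key := abs_bound_at T hT0 hTadd (altS i0 i1) hfaith
    ((Fintype.card F ^ n - 1) * (Fintype.card F ^ n - Fintype.card F) / (2 * (Fintype.card F + 1)))
    {σ | ∃ h : GL (Fin n) F, σ = cjS h} ?_ ?_
  · rwa [Module.finrank_fin_fun] at key
  · rintro σ ⟨h, rfl⟩
    refine ⟨cjS_surjective h, ρ (dG h), ?_, ?_⟩
    · intro v w hvw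
      have h1 : ∀ u : Fin k → ℂ, ρ (dG h)⁻¹ (ρ (dG h) u) = u := by
        intro u
        rw [← Module.End.mul_apply, ← map_mul, inv_mul_cancel, map_one, Module.End.one_apply]
      rw [← h1 v, ← h1 w, hvw]
    · intro a v
      show ρ (dG h) (ρ (xL a) v) = ρ (xL (cjS h a)) (ρ (dG h) v)
      rw [← Module.End.mul_apply, ← Module.End.mul_apply, ← map_mul, ← map_mul, dG_mul_xL]
  · intro lam hlam
    obtain ⟨M, rfl⟩ := exists_symmChar_gen ψ₀ hψ₀ lam
    have hM : M i0 i1 + M i1 i0 ≠ 0 := by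
      intro h0
      apply hlam
      rw [symmChar_altS, h0, AddChar.map_zero_eq_one]
    have hpol : ∃ u v, pol M u v ≠ 0 :=
      ⟨Pi.single i0 1, Pi.single i1 1, by rw [pol_single]; exact hM⟩
    have hO := orb_card_ge hn M hpol
    have hfin : (orb M).Finite := Set.toFinite _
    -- representatives
    have hrep : ∀ f ∈ orb M, ∃ h : GL (Fin n) F,
        f = fun v => qf M ((h : Matrix (Fin n) (Fin n) F) *ᵥ v) := fun f hf => hf
    choose! rep hrep' using hrep
    refine ⟨hfin.toFinset.image (fun f => symmChar ψ₀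
      ((rep f : Matrix (Fin n) (Fin n) F)ᵀ * M * (rep f : Matrix (Fin n) (Fin n) F))), ?_, ?_⟩
    · rw [Finset.card_image_of_injOn, ← Set.ncard_eq_toFinset_card (orb M) hfin]
      · apply Nat.div_le_of_le_mul
        exact hO
      · intro f₁ hf₁ f₂ hf₂ h12
        rw [Set.Finite.coe_toFinset] at hf₁ hf₂
        have h3 := qf_eq_of_symmChar_eq ψ₀ hψ₀ _ _ h12
        rw [hrep' f₁ hf₁, hrep' f₂ hf₂]
        funext v
        have := h3 v
        rwa [qf_conj, qf_conj] at this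
    · intro ψ' hψ'
      rw [Finset.mem_image] at hψ'
      obtain ⟨f, hf, rfl⟩ := hψ'
      refine ⟨cjS (glT (rep f)), ⟨glT (rep f), rfl⟩, ?_⟩
      intro a
      have := lower_symmChar_conj ψ₀ M (glT (rep f)) a
      rw [glT_coe, Matrix.transpose_transpose] at this
      exact this.symm

end Cfsg.Agent.Helper18.LS3
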