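import Mathlib
import Cfsg.Agent.Lib.Helper18.LevDefs
import Cfsg.Agent.Lib.Helper4.LEVECHOICE
import Cfsg.Agent.Lib.Helper1.LEVPHI
import Cfsg.Agent.Lib.Helper25.LEVCHILDA
import Cfsg.Agent.Lib.Helper15.LEVCHILDB

/-!
# S2522 (Lev): the step in dimension at least 4 (helper18; parallel copy of piece LEV-STEPN under
the name `stepnh_step_ge_four`)
-/

set_option autoImplicit false

namespace Cfsg.Agent.Helper18.Lev

open Module

universe u v

section pieces
variable {K : Type u} [Field K] {V : Type v} [AddCommGroup V] [Module K V]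

theorem stepnh_step_ge_four (hK : 4 ≤ Cardinal.mk K) [FiniteDimensional K V]
    (h4 : 4 ≤ finrank K V)
    (g : V →ₗ[K] V) (hdet : LinearMap.det g = 1) (hH : HH g)
    (x0 : V) (hx0 : x0 ≠ 0) (y0 : V →ₗ[K] K) (hy0 : y0 ≠ 0) :
    ∃ (e : V) (φ : V →ₗ[K] K), φ e = 1 ∧ φ (g e) = 1 ∧ φ x0 ≠ 0 ∧ y0 e ≠ 0 ∧
      childX g e φ ≠ 0 ∧ childY g φ ≠ 0 ∧ HH (child g e φ) := by
  have hinj : Function.Injective g :=
    (LinearMap.equivOfDetNeZero g (by rw [hdet]; exact one_ne_zero)).injective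
  obtain ⟨e, hind, hye, hx0u, hIe⟩ := exists_e hK g hH x0 hx0 y0 hy0
  have hu0 : g e - e ≠ 0 := by
    have := hind.ne_zero (1 : Fin 2)
    simpa using this
  -- a vector `v2` with `g v2 - v2 ∉ K u`
  obtain ⟨v2, hv2⟩ : ∃ v : V, g v - v ∉ Submodule.span K {g e - e} := by
    by_contra hcon
    simp only [not_exists, not_not] at hcon
    have hle : LinearMap.range (g - LinearMap.id) ≤ Submodule.span K {g e - e} := by
      rintro _ ⟨v, rfl⟩
      rw [LinearMap.sub_apply, LinearMap.id_apply]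
      exact hcon v
    have h1 := Submodule.finrank_mono hle
    rw [finrank_span_singleton hu0] at h1
    have := hH.2
    omega
  have hI2 : finrank K (LinearMap.range (g - LinearMap.id)) = 2 →
      e ∉ LinearMap.range (g - LinearMap.id) := fun h2 => hIe (by omega)
  -- the third vector
  obtain ⟨z3, hz3, hrank⟩ : ∃ z3 : V, z3 ∉ Submodule.span K {g e - e} ∧
      ∀ φ : V →ₗ[K] K, φ e = 1 → φ (g e) = 1 → φ z3 ≠ 0 →
        2 ≤ finrank K (LinearMap.range (child g e φ - LinearMap.id)) := by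
    by_cases hA : ∀ a : V, g a - a ∈ Submodule.span K {g e} → a ∈ Submodule.span K {g e - e}
    · exact ⟨x0, hx0u, fun φ he hge _ => child_rank_of_forall h4 g e φ he hge hA⟩
    · simp only [not_forall] at hA
      obtain ⟨a, haA, hau⟩ := hA
      exact ⟨a, hau, fun φ he hge hφa =>
        child_rank_of_exists g e φ he hge (finrank_A1_le g e hH.2 hI2) a haA hφa⟩
  -- the functional with scalar child, if any
  obtain ⟨φs, hφs⟩ : ∃ φs : V →ₗ[K] K, ∀ φ : V →ₗ[K] K, φ e = 1 → φ (g e) = 1 →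
      (∃ c : K, child g e φ = c • LinearMap.id) → φ = φs := by
    by_cases h : ∃ φ : V →ₗ[K] K, φ e = 1 ∧ φ (g e) = 1 ∧ ∃ c : K, child g e φ = c • LinearMap.id
    · obtain ⟨φ1, h1e, h1g, c1, hc1⟩ := h
      refine ⟨φ1, ?_⟩
      rintro φ he hge ⟨c, hc⟩
      exact child_scalar_unique (by omega) g hinj e hind φ φ1 he hge h1e h1g c c1 hc hc1
    · exact ⟨0, fun φ he hge hc => (h ⟨φ, he, hge, hc⟩).elim⟩
  obtain ⟨φ, he, hφu, hφx0, hφz2, hφz3, hne⟩ :=
    exists_phi4 hK h4 e (g e - e) hind x0 (g v2 - v2) z3 hx0u hv2 hz3 φs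
  have hge : φ (g e) = 1 := by
    have : g e = e + (g e - e) := by abel
    rw [this, map_add, he, hφu, add_zero]
  refine ⟨e, φ, he, hge, hφx0, hye, childX_ne_zero g e φ he hge hind,
    childY_ne_zero g e φ he hge v2 hφz2, ?_, hrank φ he hge hφz3⟩
  intro c hc
  exact hne (hφs φ he hge ⟨c, hc⟩)

end pieces

end Cfsg.Agent.Helper18.Lev
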