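import Mathlib
import Cfsg.Agent.Lib.Helper18.LevDefs
import Cfsg.Agent.Lib.Helper5.LEVREC
import Cfsg.Agent.Lib.Helper13.LEVDET
import Cfsg.Agent.Lib.Helper26.LEVSTEP2
import Cfsg.Agent.Lib.Helper22.LEVSTEP3Pre
import Cfsg.Agent.Lib.Helper18.LEVBAD3
import Cfsg.Agent.Lib.Helper18.LevStepN
import Cfsg.Agent.Lib.Helper5.LevBridge

/-!
# S2522 (Lev): the main induction and the top level (helper18)
-/

set_option autoImplicit false

namespace Cfsg.Agent.Helper18.Lev

open Module

universe u v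

theorem PP.regU {K : Type u} [Field K] {V : Type v} [AddCommGroup V] [Module K V] {n : ℕ}
    {g : V →ₗ[K] V} {x0 : V} {y0 : V →ₗ[K] K} (h : PP n g x0 y0) :
    ∃ B C : V →ₗ[K] V, g = B ∘ₗ C ∧ RegU n B ∧ RegU n C := by
  obtain ⟨B, C, hg, hB, hC, hBx, hCy⟩ := h
  refine ⟨B, C, hg, ⟨hB, ?_⟩, ⟨hC, ?_⟩⟩
  · intro h0; apply hBx; rw [h0]; rfl
  · intro h0; apply hCy; rw [h0]; exact LinearMap.comp_zero _

theorem main_finrank_ker {K : Type u} [Field K] {V : Type v} [AddCommGroup V]
    [Module K V] [FiniteDimensional K V] (φ : V →ₗ[K] K) (e : V) (he : φ e = 1) :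
    finrank K ↥(LinearMap.ker φ) + 1 = finrank K V := by
  have hsurj : LinearMap.range φ = ⊤ := by
    rw [LinearMap.range_eq_top]
    intro c
    exact ⟨c • e, by simp [he]⟩
  have h := LinearMap.finrank_range_add_finrank_ker φ
  rw [hsurj, finrank_top, finrank_self] at h
  omega

/-- the main induction -/
theorem main_ind {K : Type u} [Field K] (hK : 4 ≤ Cardinal.mk K) :
    ∀ n : ℕ, 2 ≤ n → ∀ (V : Type v) [AddCommGroup V] [Module K V] [FiniteDimensional K V],
      finrank K V = n → ∀ g : V →ₗ[K] V, LinearMap.det g = 1 → HH g →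
      ∀ x0 : V, x0 ≠ 0 → ∀ y0 : V →ₗ[K] K, y0 ≠ 0 → PP n g x0 y0 := by
  intro n hn
  induction n, hn using Nat.le_induction with
  | base =>
    intro V _ _ _ hV g hdet hH x0 hx0 y0 hy0
    obtain ⟨e, φ, he, hge, hφx, hye, hX, hY, hc⟩ := step_two hK hV g hdet hH x0 hx0 y0 hy0
    refine rec_step 1 le_rfl g e φ he hge x0 y0 hφx hye ?_
    rw [hc]
    exact base_one _ _ hX hY
  | succ n hn ih =>
    intro V _ _ _ hV g hdet hH x0 hx0 y0 hy0
    have hstep : ∃ (e : V) (φ : V →ₗ[K] K), φ e = 1 ∧ φ (g e) = 1 ∧ φ x0 ≠ 0 ∧ y0 e ≠ 0 ∧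
        childX g e φ ≠ 0 ∧ childY g φ ≠ 0 ∧ HH (child g e φ) := by
      rcases Nat.lt_or_ge n 3 with h | h
      · have h3 : finrank K V = 3 := by omega
        exact step3_of_bad3 hK h3 g hdet hH x0 hx0 y0 hy0
          (fun e hind hI φ φ' he hge he' hge' hb hb' =>
            child_bad_unique3 h3 g hdet e hind hH.2 hI φ φ' he hge he' hge' hb hb')
      · exact stepnh_step_ge_four hK (by omega) g hdet hH x0 hx0 y0 hy0
    obtain ⟨e, φ, he, hge, hφx, hye, hX, hY, hHc⟩ := hstep
    have hdim : finrank K ↥(LinearMap.ker φ) = n := by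
      have := main_finrank_ker φ e he
      omega
    have hdetc : LinearMap.det (child g e φ) = 1 := by rw [det_child g e φ he hge, hdet]
    exact rec_step n (by omega) g e φ he hge x0 y0 hφx hye
      (ih ↥(LinearMap.ker φ) hdim (child g e φ) hdetc hHc _ hX _ hY)

/-- the top level, with the transvection case as a hypothesis -/
theorem top_of_transv {K : Type u} [Field K] (hK : 4 ≤ Cardinal.mk K) (n : ℕ) (hn : 3 ≤ n)
    (J g : GL (Fin n) K)
    (hJ : ∀ i j : Fin n, (J : Matrix (Fin n) (Fin n) K) i j =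
      if i = j then 1 else if j.val = i.val + 1 then 1 else 0)
    (hg : ¬ ∃ c : K, (g : Matrix (Fin n) (Fin n) K) = c • (1 : Matrix (Fin n) (Fin n) K))
    (hdet : (g : Matrix (Fin n) (Fin n) K).det = 1)
    (htr : ∀ gl : (Fin n → K) →ₗ[K] (Fin n → K), LinearMap.det gl = 1 →
      finrank K (LinearMap.range (gl - LinearMap.id)) = 1 →
      ∃ B C : (Fin n → K) →ₗ[K] (Fin n → K), gl = B ∘ₗ C ∧ RegU n B ∧ RegU n C) :
    ∃ x y : GL (Fin n) K, g = (x * J * x⁻¹) * (y * J * y⁻¹) := by
  classical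
  set gl : (Fin n → K) →ₗ[K] (Fin n → K) := Matrix.toLin' (g : Matrix (Fin n) (Fin n) K) with hgl
  have hfr : finrank K (Fin n → K) = n := by simp
  have hdetl : LinearMap.det gl = 1 := by rw [hgl, LinearMap.det_toLin']; exact hdet
  have hns : ∀ c : K, gl ≠ c • LinearMap.id := by
    intro c hc
    apply hg
    refine ⟨c, ?_⟩
    have h := congrArg LinearMap.toMatrix' hc
    rw [hgl, LinearMap.toMatrix'_toLin'] at h
    rw [h]
    simp [LinearMap.toMatrix'_id]
  have key : ∃ B C : (Fin n → K) →ₗ[K] (Fin n → K), gl = B ∘ₗ C ∧ RegU n B ∧ RegU n C := by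
    by_cases hr : 2 ≤ finrank K (LinearMap.range (gl - LinearMap.id))
    · have i0 : Fin n := ⟨0, by omega⟩
      have hx0 : (Pi.single i0 (1 : K) : Fin n → K) ≠ 0 := by
        intro h
        have := congrFun h i0
        simp at this
      have hy0 : (LinearMap.proj i0 : (Fin n → K) →ₗ[K] K) ≠ 0 := by
        intro h
        have := LinearMap.congr_fun h (Pi.single i0 (1 : K))
        simp at this
      exact (main_ind hK n (by omega) (Fin n → K) hfr gl hdetl ⟨hns, hr⟩ _ hx0 _ hy0).regU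
    · have h1 : finrank K (LinearMap.range (gl - LinearMap.id)) = 1 := by
        have h0 : finrank K (LinearMap.range (gl - LinearMap.id)) ≠ 0 := by
          intro h0
          have hbot : LinearMap.range (gl - LinearMap.id) = ⊥ := Submodule.finrank_eq_zero.mp h0
          have hz : gl - LinearMap.id = 0 := LinearMap.range_eq_bot.mp hbot
          apply hns 1
          rw [one_smul]
          exact sub_eq_zero.mp hz
        omega
      exact htr gl hdetl h1
  obtain ⟨B, C, hBC, hB, hC⟩ := key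
  obtain ⟨vB, hvB⟩ : ∃ v, ((B - LinearMap.id : Module.End K (Fin n → K)) ^ (n - 1)) v ≠ 0 := by
    by_contra hcon
    simp only [not_exists, not_not] at hcon
    exact hB.2 (LinearMap.ext hcon)
  obtain ⟨vC, hvC⟩ : ∃ v, ((C - LinearMap.id : Module.End K (Fin n → K)) ^ (n - 1)) v ≠ 0 := by
    by_contra hcon
    simp only [not_exists, not_not] at hcon
    exact hC.2 (LinearMap.ext hcon)
  exact Cfsg.Agent.Helper5.Lev.lev_final_lin n J g hJ B C hBC hB.1 vB hvB hC.1 vC hvC

end Cfsg.Agent.Helper18.Lev
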