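import Mathlib

/-!
# S2522 (Lev): the transvection case, ring-theoretic core (helper18)

In a ring: `S` regular nilpotent of size `n ≥ 3`, `E` with `S E = E S = E² = 0`.  Then
`1 + E = B C` with `B = 1 + S`, `C = B⁻¹ (1 + E)` both regular unipotent of size `n`.
-/

set_option autoImplicit false

namespace Cfsg.Agent.Helper18.Lev

open Finset

theorem transvh_ring {R : Type*} [Ring R] (n : ℕ) (hn : 3 ≤ n) (S E : R)
    (hSE : S * E = 0) (hES : E * S = 0) (hEE : E * E = 0)
    (hSn : S ^ n = 0) (hSn1 : S ^ (n - 1) ≠ 0) :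
    ∃ B C : R, 1 + E = B * C ∧ (B - 1) ^ n = 0 ∧ (B - 1) ^ (n - 1) ≠ 0 ∧
      (C - 1) ^ n = 0 ∧ (C - 1) ^ (n - 1) ≠ 0 := by
  set B : R := 1 + S with hB
  set Bi : R := ∑ i ∈ range n, (-S) ^ i with hBi
  have hBBi : B * Bi = 1 := by
    have h := mul_neg_geom_sum (-S) n
    rw [sub_neg_eq_add] at h
    rw [hB, hBi, h, neg_pow, hSn, mul_zero, sub_zero]
  have hBiB : Bi * B = 1 := by
    have h := geom_sum_mul_neg (-S) n
    rw [sub_neg_eq_add] at h
    rw [hB, hBi, h, neg_pow, hSn, mul_zero, sub_zero]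
  have hcomm : Commute Bi S := by
    rw [hBi]
    apply Commute.sum_left
    intro i _
    exact ((Commute.refl S).neg_left).pow_left i
  have hcommB : Commute B Bi := by
    rw [Commute, SemiconjBy, hBBi, hBiB]
  -- Bi * E = E and E * Bi = E
  have hBi1 : Bi = 1 - Bi * S := by
    have : Bi * B = Bi + Bi * S := by rw [hB, mul_add, mul_one]
    rw [hBiB] at this
    rw [this]; abel
  have hBi2 : Bi = 1 - S * Bi := by
    have : B * Bi = Bi + S * Bi := by rw [hB, add_mul, one_mul]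
    rw [hBBi] at this
    rw [this]; abel
  have hBiE : Bi * E = E := by
    conv_lhs => rw [hBi1]
    rw [sub_mul, one_mul, mul_assoc, hSE, mul_zero, sub_zero]
  have hEBi : E * Bi = E := by
    conv_lhs => rw [hBi2]
    rw [mul_sub, mul_one, ← mul_assoc, hES, zero_mul, sub_zero]
  set S' : R := Bi * S with hS'
  have hES' : E * S' = 0 := by rw [hS', ← mul_assoc, hEBi, hES]
  have hS'E : S' * E = 0 := by rw [hS', mul_assoc, hSE, mul_zero]
  set C : R := Bi * (1 + E) with hC
  have hC1 : C - 1 = E - S' := by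
    rw [hC, mul_add, mul_one, hBiE, hS']
    conv_lhs => rw [hBi1]
    abel
  -- powers
  have hS'kE : ∀ k : ℕ, 1 ≤ k → S' ^ k * E = 0 := by
    intro k hk
    obtain ⟨m, rfl⟩ : ∃ m, k = m + 1 := ⟨k - 1, by omega⟩
    rw [pow_succ, mul_assoc, hS'E, mul_zero]
  have hpow : ∀ k : ℕ, 2 ≤ k → (E - S') ^ k = (-S') ^ k := by
    intro k hk
    induction k, hk using Nat.le_induction with
    | base =>
      rw [pow_two, pow_two, sub_mul, mul_sub, mul_sub, hEE, hES', hS'E]
      simp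
    | succ k hk ih =>
      rw [pow_succ, ih, pow_succ, mul_sub, neg_pow, mul_assoc, hS'kE k (by omega), mul_zero,
        zero_sub]
      simp [mul_neg]
  have hS'pow : ∀ k : ℕ, S' ^ k = Bi ^ k * S ^ k := by
    intro k
    rw [hS', hcomm.mul_pow]
  refine ⟨B, C, ?_, ?_, ?_, ?_, ?_⟩
  · rw [hC, ← mul_assoc, hBBi, one_mul]
  · rw [hB, add_sub_cancel_left, hSn]
  · rw [hB, add_sub_cancel_left]; exact hSn1
  · rw [hC1, hpow n (by omega), neg_pow, hS'pow, hSn, mul_zero, mul_zero]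
  · rw [hC1, hpow (n - 1) (by omega), neg_pow, hS'pow]
    intro h0
    apply hSn1
    have h1 : Bi ^ (n - 1) * S ^ (n - 1) = 0 := by
      have hu : IsUnit ((-1 : R) ^ (n - 1)) := (isUnit_one.neg).pow _
      exact (hu.mul_right_eq_zero).mp h0
    have h2 : B ^ (n - 1) * (Bi ^ (n - 1) * S ^ (n - 1)) = S ^ (n - 1) := by
      rw [← mul_assoc, ← hcommB.mul_pow, hBBi, one_pow, one_mul]
    rw [← h2, h1, mul_zero]

end Cfsg.Agent.Helper18.Lev
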