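import Mathlib
import Cfsg.Agent.Lib.Helper18.LevDefs
import Cfsg.Agent.Lib.Helper18.LevTransv1

/-!
# S2522 (Lev): the transvection case (helper18)

`g` with `det g = 1` and `rank (g - 1) = 1` on a space of dimension `n ≥ 3` is a product of two
regular unipotent maps.  Adapted basis `b_0, …, b_{n-1}` with `b_{n-1} = u0` (the direction of the
transvection) and `ψ b_j = 0` for `j ≥ 1`; `S` the shift; then `transvh_ring`.
-/

set_option autoImplicit false

namespace Cfsg.Agent.Helper18.Lev

open Module

variable {K : Type*} [Field K] {V : Type*} [AddCommGroup V] [Module K V]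

/-- a rank-one endomorphism is `ψ.smulRight u0` -/
theorem transvh_rank_one [FiniteDimensional K V] (f : V →ₗ[K] V)
    (hr : finrank K (LinearMap.range f) = 1) :
    ∃ (u0 : V) (ψ : V →ₗ[K] K), u0 ≠ 0 ∧ f = ψ.smulRight u0 := by
  let b : Basis (Fin 1) K (LinearMap.range f) := Module.basisUnique (Fin 1) hr
  refine ⟨(b 0 : V), (b.coord 0) ∘ₗ f.rangeRestrict, ?_, ?_⟩
  · intro h
    exact b.ne_zero 0 (Subtype.ext h)
  · ext v
    have h := b.sum_repr (f.rangeRestrict v)
    rw [Fin.sum_univ_one] at h
    have h2 := congrArg (Subtype.val) h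
    simp only [LinearMap.smulRight_apply, LinearMap.comp_apply, Basis.coord_apply]
    have h3 : ((f.rangeRestrict v : LinearMap.range f) : V) = f v := rfl
    rw [← h3, ← h2]
    simp

/-- extend a nonzero vector to an independent family with the vector LAST -/
theorem transvh_family {W : Type*} [AddCommGroup W] [Module K W] [FiniteDimensional K W]
    (w0 : W) (hw0 : w0 ≠ 0) :
    ∀ m : ℕ, m + 1 ≤ finrank K W →
      ∃ c : Fin (m + 1) → W, LinearIndependent K c ∧ c (Fin.last m) = w0 := by
  intro m
  induction m with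
  | zero =>
    intro _
    refine ⟨fun _ => w0, ?_, rfl⟩
    have : Unique (Fin (0 + 1)) := inferInstanceAs (Unique (Fin 1))
    rw [linearIndependent_unique_iff]
    exact hw0
  | succ m ih =>
    intro hm
    obtain ⟨c, hc, hcl⟩ := ih (by omega)
    obtain ⟨x, hx⟩ := exists_linearIndependent_cons_of_lt_finrank hc (by omega)
    refine ⟨Fin.cons x c, hx, ?_⟩
    rw [← Fin.succ_last, Fin.cons_succ, hcl]

/-- adapted basis -/
theorem transvh_basis [FiniteDimensional K V] (k : ℕ) (hk : finrank K V = k + 2)
    (u0 : V) (ψ : V →ₗ[K] K) (hu0 : u0 ≠ 0) (hψ : ψ ≠ 0) (hψu : ψ u0 = 0) :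
    ∃ b : Basis (Fin (k + 2)) K V, b (Fin.last (k + 1)) = u0 ∧
      ∀ i : Fin (k + 1), ψ (b i.succ) = 0 := by
  -- t with ψ t = 1
  obtain ⟨t0, ht0⟩ : ∃ t0, ψ t0 ≠ 0 := by
    by_contra h
    push Not at h
    exact hψ (LinearMap.ext h)
  set t : V := (ψ t0)⁻¹ • t0 with ht
  have hψt : ψ t = 1 := by
    rw [ht, map_smul, smul_eq_mul, inv_mul_cancel₀ ht0]
  -- W = ker ψ has finrank k+1
  have hW : finrank K (LinearMap.ker ψ) = k + 1 := by
    have h1 := LinearMap.finrank_range_add_finrank_ker ψ
    have h2 : finrank K (LinearMap.range ψ) = 1 := by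
      have hsurj : LinearMap.range ψ = ⊤ := by
        rw [LinearMap.range_eq_top]
        intro c
        exact ⟨c • t, by rw [map_smul, hψt, smul_eq_mul, mul_one]⟩
      rw [hsurj, finrank_top, finrank_self]
    omega
  obtain ⟨c, hc, hcl⟩ := transvh_family (K := K) (W := LinearMap.ker ψ) ⟨u0, hψu⟩
    (by intro h; exact hu0 (congrArg Subtype.val h)) k (by omega)
  have hli : LinearIndependent K (Fin.cons t (fun i => ((c i : LinearMap.ker ψ) : V)) :
      Fin (k + 2) → V) := by
    rw [linearIndependent_finCons]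
    refine ⟨?_, ?_⟩
    · exact hc.map' (LinearMap.ker ψ).subtype (Submodule.ker_subtype _)
    · intro hmem
      have hle : Submodule.span K (Set.range fun i => ((c i : LinearMap.ker ψ) : V)) ≤
          LinearMap.ker ψ := by
        rw [Submodule.span_le]
        rintro _ ⟨i, rfl⟩
        exact (c i).2
      have := hle hmem
      rw [LinearMap.mem_ker, hψt] at this
      exact one_ne_zero this
  let b : Basis (Fin (k + 2)) K V :=
    basisOfLinearIndependentOfCardEqFinrank hli (by rw [Fintype.card_fin, hk])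
  have hb : ∀ i, b i = (Fin.cons t (fun i => ((c i : LinearMap.ker ψ) : V)) :
      Fin (k + 2) → V) i := by
    intro i
    simp [b]
  refine ⟨b, ?_, ?_⟩
  · rw [hb, ← Fin.succ_last, Fin.cons_succ, hcl]
  · intro i
    rw [hb, Fin.cons_succ]
    exact (c i).2



/-- the shift along a basis indexed by `Fin n` -/
noncomputable def transvhShift {n : ℕ} (b : Basis (Fin n) K V) : V →ₗ[K] V :=
  b.constr K (fun i : Fin n => if h : i.val + 1 < n then b ⟨i.val + 1, h⟩ else 0)

theorem transvhShift_apply {n : ℕ} (b : Basis (Fin n) K V) (i : Fin n) :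
    transvhShift b (b i) = if h : i.val + 1 < n then b ⟨i.val + 1, h⟩ else 0 := by
  rw [transvhShift, Basis.constr_basis]

theorem transvhShift_pow_apply {n : ℕ} (b : Basis (Fin n) K V) (j : ℕ) (i : Fin n) :
    ((transvhShift b : Module.End K V) ^ j) (b i) =
      if h : i.val + j < n then b ⟨i.val + j, h⟩ else 0 := by
  induction j with
  | zero => simp
  | succ j ih =>
    rw [pow_succ', Module.End.mul_apply, ih]
    by_cases h : i.val + j < n
    · rw [dif_pos h, transvhShift_apply]
      by_cases h2 : i.val + (j + 1) < n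
      · rw [dif_pos h2, dif_pos (by simpa [add_assoc] using h2)]
        congr 1
      · rw [dif_neg h2, dif_neg (by simpa [add_assoc] using h2)]
    · rw [dif_neg h, map_zero, dif_neg (by omega)]

theorem transvhShift_pow_eq_zero {n : ℕ} (b : Basis (Fin n) K V) :
    (transvhShift b : Module.End K V) ^ n = 0 := by
  apply b.ext
  intro i
  rw [transvhShift_pow_apply, dif_neg (by omega)]
  rfl

theorem transvh_case [FiniteDimensional K V] (hn : 3 ≤ finrank K V) (g : V →ₗ[K] V)
    (hdet : LinearMap.det g = 1) (hr : finrank K (LinearMap.range (g - LinearMap.id)) = 1) :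
    ∃ B C : V →ₗ[K] V, g = B ∘ₗ C ∧ RegU (finrank K V) B ∧ RegU (finrank K V) C := by
  obtain ⟨k, hk⟩ : ∃ k, finrank K V = k + 2 := ⟨finrank K V - 2, by omega⟩
  obtain ⟨u0, ψ, hu0, hf⟩ := transvh_rank_one (g - LinearMap.id) hr
  have hg : g = LinearMap.transvection ψ u0 := by
    ext v
    have := LinearMap.congr_fun hf v
    simp only [LinearMap.sub_apply, LinearMap.id_apply, LinearMap.smulRight_apply] at this
    rw [LinearMap.transvection.apply, ← this]
    abel
  have hψu : ψ u0 = 0 := by
    have h := LinearMap.transvection.det ψ u0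
    rw [← hg, hdet] at h
    have : (1 : K) + ψ u0 = 1 + 0 := by rw [add_zero]; exact h.symm
    exact add_left_cancel this
  have hψ : ψ ≠ 0 := by
    intro h0
    rw [h0] at hf
    have : g - LinearMap.id = 0 := by rw [hf]; ext v; simp
    rw [this, LinearMap.range_zero, finrank_bot] at hr
    exact zero_ne_one hr
  obtain ⟨b, hbl, hbψ⟩ := transvh_basis k hk u0 ψ hu0 hψ hψu
  set S : Module.End K V := transvhShift b with hS
  set E : Module.End K V := ψ.smulRight u0 with hE
  have hSu : S u0 = 0 := by
    rw [← hbl, hS, transvhShift_apply, dif_neg]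
    simp
  have hψS : ∀ v, ψ (S v) = 0 := by
    have : ψ ∘ₗ S = 0 := by
      apply b.ext
      intro i
      rw [LinearMap.comp_apply, hS, transvhShift_apply]
      by_cases h : i.val + 1 < k + 2
      · rw [dif_pos h]
        have : (⟨i.val + 1, h⟩ : Fin (k + 2)) = Fin.succ ⟨i.val, by omega⟩ := rfl
        rw [this, hbψ]
        rfl
      · rw [dif_neg h, map_zero]
        rfl
    intro v
    exact LinearMap.congr_fun this v
  have hSE : S * E = 0 := by
    ext v
    rw [Module.End.mul_apply, hE, LinearMap.smulRight_apply, map_smul, hSu, smul_zero]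
    rfl
  have hES : E * S = 0 := by
    ext v
    rw [Module.End.mul_apply, hE, LinearMap.smulRight_apply, hψS, zero_smul]
    rfl
  have hEE : E * E = 0 := by
    ext v
    rw [Module.End.mul_apply, hE, LinearMap.smulRight_apply, LinearMap.smulRight_apply, map_smul,
      hψu, smul_zero, zero_smul]
    rfl
  have hSn : S ^ (k + 2) = 0 := transvhShift_pow_eq_zero b
  have hSn1 : S ^ (k + 2 - 1) ≠ 0 := by
    intro h0
    have h1 := transvhShift_pow_apply b (k + 2 - 1) (0 : Fin (k + 2))
    rw [← hS, h0, dif_pos (by simp)] at h1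
    have h2 : (⟨(0 : Fin (k + 2)).val + (k + 2 - 1), by simp⟩ : Fin (k + 2)) = Fin.last (k + 1) := by
      ext; simp
    rw [h2, hbl] at h1
    exact hu0 h1.symm
  obtain ⟨B, C, hBC, hB1, hB2, hC1, hC2⟩ :=
    transvh_ring (k + 2) (by omega) S E hSE hES hEE hSn hSn1
  refine ⟨B, C, ?_, ?_, ?_⟩
  · rw [← Module.End.mul_eq_comp, ← hBC]
    have : g - LinearMap.id = E := hf
    rw [← this]
    show g = 1 + (g - 1)
    abel
  · rw [hk]
    exact ⟨hB1, hB2⟩
  · rw [hk]
    exact ⟨hC1, hC2⟩

end Cfsg.Agent.Helper18.Lev
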