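import Mathlib
import Cfsg.Agent.Lib.Helper27.M11UDefs
import Cfsg.Agent.Lib.Helper27.M11UData
import Cfsg.Agent.Lib.Helper27.M11UCLASSIFY

/-!
# S0420 piece BADKILL (helper18): a bad candidate cannot occur.
-/

set_option autoImplicit false
set_option linter.unusedSectionVars false
set_option linter.unusedVariables false

namespace Cfsg.Agent.Helper27.M11U

universe u v

section Final

variable {G : Type u} [Group G] [Fintype G]

/-- PIECE BADKILL: a bad candidate cannot occur. -/
theorem bad_false (hG : Nat.card G = 7920) (φ : G →* Equiv.Perm (Fin 12))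
    {x u s : G} (hx : φ x = X0) (hu : φ u = U0) (hbad : Bad (φ s)) : False := by
  obtain ⟨k, j, h35, h10⟩ := hbad
  set w : G := (x ^ k) ^ j * u * s with hw
  have hφw : φ w = (X0 ^ k) ^ j * U0 * φ s := by
    simp [hw, hx, hu]
  have hw1 : w ^ 7920 = 1 := by
    rw [← hG]
    exact pow_card_eq_one'
  have h1 : (φ w) ^ 7920 = 1 := by
    rw [← map_pow, hw1, map_one]
  rw [hφw] at h1
  generalize (X0 ^ k) ^ j * U0 * φ s = p at h35 h10 h1
  apply h10
  have h2 : p ^ 7920 = (p ^ 35) ^ 226 * p ^ 10 := by
    rw [← pow_mul, ← pow_add]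
  rw [h2, h35, one_pow, one_mul] at h1
  exact h1

end Final

end Cfsg.Agent.Helper27.M11U
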