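import Mathlib
import Cfsg.Agent.Lib.Helper27.M11UDefs
import Cfsg.Agent.Lib.Helper27.M11UData

/-!
# S0420 piece CANDS, first half (helper18): among the 50 candidates the even ones are the list `cands`.
-/

set_option autoImplicit false

namespace Cfsg.Agent.Helper27.M11U

set_option maxRecDepth 100000 in
theorem cands_of_cands50 : ∀ S ∈ cands50, Equiv.Perm.sign S = 1 → S ∈ cands := by
  intro S hS hsgn
  simp only [cands50, List.mem_cons, List.not_mem_nil, or_false] at hS
  rcases hS with rfl | rfl | rfl | rfl | rfl | rfl | rfl | rfl | rfl | rfl | rfl | rfl | rfl | rfl | rfl | rfl | rfl | rfl | rfl | rfl | rfl | rfl | rfl | rfl | rfl | rfl | rfl | rfl | rfl | rfl | rfl | rfl | rfl | rfl | rfl | rfl | rfl | rfl | rfl | rfl | rfl | rfl | rfl | rfl | rfl | rfl | rfl | rfl | rfl | rfl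
  · exact absurd hsgn (by decide +kernel)
  · exact absurd hsgn (by decide +kernel)
  · exact absurd hsgn (by decide +kernel)
  · exact absurd hsgn (by decide +kernel)
  · exact absurd hsgn (by decide +kernel)
  · decide +kernel
  · decide +kernel
  · decide +kernel
  · decide +kernel
  · decide +kernel
  · exact absurd hsgn (by decide +kernel)
  · exact absurd hsgn (by decide +kernel)
  · exact absurd hsgn (by decide +kernel)
  · exact absurd hsgn (by decide +kernel)
  · exact absurd hsgn (by decide +kernel)
  · exact absurd hsgn (by decide +kernel)
  · exact absurd hsgn (by decide +kernel)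
  · exact absurd hsgn (by decide +kernel)
  · exact absurd hsgn (by decide +kernel)
  · exact absurd hsgn (by decide +kernel)
  · exact absurd hsgn (by decide +kernel)
  · exact absurd hsgn (by decide +kernel)
  · exact absurd hsgn (by decide +kernel)
  · exact absurd hsgn (by decide +kernel)
  · exact absurd hsgn (by decide +kernel)
  · decide +kernel
  · decide +kernel
  · decide +kernel
  · decide +kernel
  · decide +kernel
  · decide +kernel
  · decide +kernel
  · decide +kernel
  · decide +kernel
  · decide +kernel
  · decide +kernel
  · decide +kernel
  · decide +kernel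
  · decide +kernel
  · decide +kernel
  · exact absurd hsgn (by decide +kernel)
  · exact absurd hsgn (by decide +kernel)
  · exact absurd hsgn (by decide +kernel)
  · exact absurd hsgn (by decide +kernel)
  · exact absurd hsgn (by decide +kernel)
  · decide +kernel
  · decide +kernel
  · decide +kernel
  · decide +kernel
  · decide +kernel

end Cfsg.Agent.Helper27.M11U
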