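import Mathlib
import Cfsg.Agent.Lib.Helper27.M11UDefs
import Cfsg.Agent.Lib.Helper27.M11UData
import Cfsg.Agent.Lib.Helper23.M11UCANDS50
import Cfsg.Agent.Lib.Helper18.M11UCANDSA

/-!
# S0420 piece CANDS (helper18): the even candidates.
-/

set_option autoImplicit false

namespace Cfsg.Agent.Helper27.M11U

/-- PIECE CANDS: the even ones. -/
theorem mem_cands (S : Equiv.Perm (Fin 12)) (h11 : S 11 = 0) (h0 : S 0 = 11)
    (hU : S * U0 = U0 ^ 2 * S) (h4 : S ^ 4 = 1) (hsgn : Equiv.Perm.sign S = 1) : S ∈ cands :=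
  cands_of_cands50 S (mem_cands50 S h11 h0 hU h4) hsgn

end Cfsg.Agent.Helper27.M11U
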