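import Mathlib
import Cfsg.Agent.Lib.MC.MCDefs
import Cfsg.Agent.Lib.MC.MCK
import Cfsg.Agent.Lib.MC.MCCard
import Cfsg.Agent.Lib.MC.MCTwo
import Cfsg.Agent.Lib.MC.MCUnif
import Cfsg.Agent.Lib.MC4.MC4DeepB
import Cfsg.Agent.Lib.MC4.MC4ECNM
import Cfsg.Agent.Lib.HP.HPEngel

/-!
# S4144, case `n = p + 1`, `H = ⊤`: a `p`-group of maximal class of order `p^(p+1)` (`p` odd) is not of exponent `p`
(exceptional groups included), from `hp_engel` (exponent `p` and `K (p+1) = ⊥` give the `(p-1)`-Engel identity) and a uniform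
element.
-/

set_option autoImplicit false

namespace Cfsg.Agent.Helper18.MCExpEngel

open scoped commutatorElement
open Cfsg.Agent.Helper21.MC

variable {Y : Type*} [Group Y]

theorem iterComm_succ_left (x s : Y) (m : ℕ) :
    iterComm x s (m + 1) = iterComm ⁅x, s⁆ s m := by
  induction m with
  | zero => rfl
  | succ m ih =>
    show ⁅iterComm x s (m + 1), s⁆ = ⁅iterComm ⁅x, s⁆ s m, s⁆
    rw [ih]

variable [Finite Y] {p : ℕ} [Fact p.Prime]

theorem mc_exists_pow_ne_one (hY : IsMC p (p + 1) Y) (hp : p ≠ 2) : ∃ g : Y, g ^ p ≠ 1 := by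
  have hpp : p.Prime := Fact.out
  have hp3 : 3 ≤ p := by
    have := hpp.two_le
    omega
  by_contra hcon
  push_neg at hcon
  obtain ⟨s, hs⟩ := exists_uniform (n := p + 1) (by omega) hY hp (by omega)
  obtain ⟨H, hH, hi, hK⟩ := exists_M (n := p + 1) (by omega) hY (i := 2) le_rfl (by omega)
  have hsH : s ∉ H := by
    intro h
    exact hs 2 le_rfl (by omega) ((hH s).1 h)
  -- an element of `H` outside `K 2`
  have hex : ∃ y ∈ H, y ∉ K Y 2 := by
    by_contra hne
    push_neg at hne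
    have heq : H = K Y 2 := le_antisymm hne hK
    have h2 := index_K_two (n := p + 1) (by omega) hY
    rw [← heq, hi] at h2
    have : p ^ 1 = p ^ 2 := by rw [pow_one]; exact h2
    have := Nat.pow_right_injective hpp.two_le this
    omega
  obtain ⟨y, hyH, hy2⟩ := hex
  have hc3' : ⁅s, y⁆ ∉ K Y 3 :=
    mc4e_comm_not_mem (n := p + 1) (by omega) hY H hK hi hyH hy2 hsH
  have hc2 : ⁅y, s⁆ ∈ K Y 2 := by
    have h1 : y ∈ K Y 1 := by rw [K_one]; exact Subgroup.mem_top y
    exact comm_mem_succ le_rfl h1 s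
  have hc3 : ⁅y, s⁆ ∉ K Y (2 + 1) := by
    intro h
    apply hc3'
    have : ⁅s, y⁆ = (⁅y, s⁆)⁻¹ := (commutatorElement_inv y s).symm
    rw [this]
    exact inv_mem h
  have h1 := mc4_iterComm_not_mem (n := p + 1) (by omega) hY hs (i := 2) le_rfl hc2 hc3 (p - 2)
    (by omega)
  have e1 : 2 + (p - 2) + 1 = p + 1 := by omega
  rw [e1, K_eq_bot (n := p + 1) (by omega) hY (p + 1) le_rfl, Subgroup.mem_bot] at h1
  apply h1
  have h2 := hp_engel p (K_eq_bot (n := p + 1) (by omega) hY (p + 1) le_rfl) hcon s y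
  have e2 : p - 1 = (p - 2) + 1 := by omega
  rw [e2, iterComm_succ_left] at h2
  exact h2

end Cfsg.Agent.Helper18.MCExpEngel
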