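import Mathlib

/-!
# Integer quadratic forms and sums over cosets (helper18's shared library)

Abstract lemmas for the bound `k(B) ≤ p^d` for a major subsection of rank at most two:
the form `qf N` of an integer matrix, the pair-sum identity and the counting bound.
-/

set_option autoImplicit false

namespace Cfsg.Agent.Helper18.MajorTwo

section Quad

variable {I : Type*} [Fintype I]

/-- the bilinear form of an integer matrix -/
def bf (N : I → I → ℤ) (x y : I → ℤ) : ℤ := ∑ i, ∑ i', x i * y i' * N i i'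

/-- the integer quadratic form of an integer matrix -/
def qf (N : I → I → ℤ) (x : I → ℤ) : ℤ := bf N x x

theorem bf_add_left (N : I → I → ℤ) (x x' y : I → ℤ) :
    bf N (x + x') y = bf N x y + bf N x' y := by
  unfold bf
  rw [← Finset.sum_add_distrib]
  apply Finset.sum_congr rfl
  intro i _
  rw [← Finset.sum_add_distrib]
  apply Finset.sum_congr rfl
  intro i' _
  simp only [Pi.add_apply]
  ring

theorem bf_add_right (N : I → I → ℤ) (x y y' : I → ℤ) :
    bf N x (y + y') = bf N x y + bf N x y' := by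
  unfold bf
  rw [← Finset.sum_add_distrib]
  apply Finset.sum_congr rfl
  intro i _
  rw [← Finset.sum_add_distrib]
  apply Finset.sum_congr rfl
  intro i' _
  simp only [Pi.add_apply]
  ring

theorem bf_neg_left (N : I → I → ℤ) (x y : I → ℤ) : bf N (-x) y = - bf N x y := by
  unfold bf
  rw [← Finset.sum_neg_distrib]
  apply Finset.sum_congr rfl
  intro i _
  rw [← Finset.sum_neg_distrib]
  apply Finset.sum_congr rfl
  intro i' _
  simp only [Pi.neg_apply]
  ring

theorem bf_neg_right (N : I → I → ℤ) (x y : I → ℤ) : bf N x (-y) = - bf N x y := by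
  unfold bf
  rw [← Finset.sum_neg_distrib]
  apply Finset.sum_congr rfl
  intro i _
  rw [← Finset.sum_neg_distrib]
  apply Finset.sum_congr rfl
  intro i' _
  simp only [Pi.neg_apply]
  ring

theorem bf_sub_left (N : I → I → ℤ) (x x' y : I → ℤ) :
    bf N (x - x') y = bf N x y - bf N x' y := by
  rw [sub_eq_add_neg, bf_add_left, bf_neg_left, ← sub_eq_add_neg]

theorem bf_sub_right (N : I → I → ℤ) (x y y' : I → ℤ) :
    bf N x (y - y') = bf N x y - bf N x y' := by
  rw [sub_eq_add_neg, bf_add_right, bf_neg_right, ← sub_eq_add_neg]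

theorem bf_zero_left (N : I → I → ℤ) (y : I → ℤ) : bf N 0 y = 0 := by
  unfold bf
  simp

theorem bf_zero_right (N : I → I → ℤ) (x : I → ℤ) : bf N x 0 = 0 := by
  unfold bf
  simp

theorem bf_sum_left {X : Type*} (N : I → I → ℤ) (F : Finset X) (x : X → I → ℤ) (y : I → ℤ) :
    bf N (∑ u ∈ F, x u) y = ∑ u ∈ F, bf N (x u) y := by
  classical
  induction F using Finset.induction_on with
  | empty => simp [bf_zero_left]
  | insert u F hu ih => rw [Finset.sum_insert hu, Finset.sum_insert hu, bf_add_left, ih]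

theorem bf_sum_right {X : Type*} (N : I → I → ℤ) (F : Finset X) (x : I → ℤ) (y : X → I → ℤ) :
    bf N x (∑ u ∈ F, y u) = ∑ u ∈ F, bf N x (y u) := by
  classical
  induction F using Finset.induction_on with
  | empty => simp [bf_zero_right]
  | insert u F hu ih => rw [Finset.sum_insert hu, Finset.sum_insert hu, bf_add_right, ih]

theorem qf_neg (N : I → I → ℤ) (x : I → ℤ) : qf N (-x) = qf N x := by
  unfold qf
  rw [bf_neg_left, bf_neg_right, neg_neg]

theorem qf_sub_comm (N : I → I → ℤ) (x y : I → ℤ) : qf N (x - y) = qf N (y - x) := by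
  rw [← qf_neg, neg_sub]

theorem qf_zero (N : I → I → ℤ) : qf N 0 = 0 := by
  unfold qf
  exact bf_zero_left N 0

theorem qf_sub (N : I → I → ℤ) (x y : I → ℤ) :
    qf N (x - y) = qf N x - bf N x y - bf N y x + qf N y := by
  unfold qf
  rw [bf_sub_left, bf_sub_right, bf_sub_right]
  ring

theorem qf_add (N : I → I → ℤ) (x y : I → ℤ) :
    qf N (x + y) = qf N x + bf N x y + bf N y x + qf N y := by
  unfold qf
  rw [bf_add_left, bf_add_right, bf_add_right]
  ring

theorem qf_parallelogram (N : I → I → ℤ) (x y : I → ℤ) :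
    qf N (x + y) + qf N (x - y) = 2 * qf N x + 2 * qf N y := by
  rw [qf_add, qf_sub]
  ring

/-- the pair-sum identity -/
theorem sum_qf_sub {X : Type*} (N : I → I → ℤ) (F : Finset X) (x : X → I → ℤ) :
    ∑ u ∈ F, ∑ u' ∈ F, qf N (x u - x u') =
      2 * (F.card : ℤ) * ∑ u ∈ F, qf N (x u) - 2 * qf N (∑ u ∈ F, x u) := by
  have h1 : ∀ u ∈ F, ∑ u' ∈ F, qf N (x u - x u') =
      (F.card : ℤ) * qf N (x u) - bf N (x u) (∑ u' ∈ F, x u') -
        bf N (∑ u' ∈ F, x u') (x u) + ∑ u' ∈ F, qf N (x u') := by
    intro u _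
    rw [bf_sum_right, bf_sum_left]
    simp only [qf_sub]
    rw [Finset.sum_add_distrib, Finset.sum_sub_distrib, Finset.sum_sub_distrib, Finset.sum_const,
      nsmul_eq_mul]
  rw [Finset.sum_congr rfl h1, Finset.sum_add_distrib, Finset.sum_sub_distrib,
    Finset.sum_sub_distrib, ← Finset.mul_sum, ← bf_sum_left, ← bf_sum_right, Finset.sum_const,
    nsmul_eq_mul]
  unfold qf
  ring

variable {N : I → I → ℤ}

theorem qf_zero_or_two_le (hpsd : ∀ x : I → ℤ, 0 ≤ qf N x) (hne1 : ∀ x : I → ℤ, qf N x ≠ 1)
    (x : I → ℤ) : qf N x = 0 ∨ 2 ≤ qf N x := by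
  have h1 := hpsd x
  have h2 := hne1 x
  omega

theorem two_le_qf_add_qf (hpsd : ∀ x : I → ℤ, 0 ≤ qf N x) (hne1 : ∀ x : I → ℤ, qf N x ≠ 1)
    {x y : I → ℤ} (h : qf N (x - y) ≠ 0) : 2 ≤ qf N x + qf N y := by
  have h1 := qf_parallelogram N x y
  have h2 := hpsd (x + y)
  have h3 := qf_zero_or_two_le hpsd hne1 (x - y)
  have h4 := qf_zero_or_two_le hpsd hne1 x
  have h5 := qf_zero_or_two_le hpsd hne1 y
  omega

/-- the counting bound: the pair sums over a finite family are zero or at least `4 (|F| - 1)` -/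
theorem sum_pairs_zero_or_le {X : Type*} [DecidableEq X]
    (hpsd : ∀ x : I → ℤ, 0 ≤ qf N x) (hne1 : ∀ x : I → ℤ, qf N x ≠ 1)
    (F : Finset X) (x : X → I → ℤ) :
    (∑ u ∈ F, ∑ u' ∈ F, qf N (x u - x u') = 0) ∨
      4 * ((F.card : ℤ) - 1) ≤ ∑ u ∈ F, ∑ u' ∈ F, qf N (x u - x u') := by
  by_cases hall : ∀ u ∈ F, ∀ u' ∈ F, qf N (x u - x u') = 0
  · left
    apply Finset.sum_eq_zero
    intro u hu
    apply Finset.sum_eq_zero
    intro u' hu'
    exact hall u hu u' hu'
  · right
    push Not at hall
    obtain ⟨u0, hu0, u1, hu1, hne⟩ := hall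
    have hu01 : u0 ≠ u1 := by
      intro h
      apply hne
      rw [h, sub_self, qf_zero]
    -- the function g
    have hg : ∀ u, 2 ≤ qf N (x u - x u0) + qf N (x u - x u1) := by
      intro u
      apply two_le_qf_add_qf hpsd hne1
      have : x u - x u0 - (x u - x u1) = x u1 - x u0 := by abel
      rw [this, qf_sub_comm]
      exact hne
    -- rows
    have hrow : ∀ u ∈ F, qf N (x u - x u0) + qf N (x u - x u1) ≤
        ∑ u' ∈ F, qf N (x u - x u') := by
      intro u _
      have hsub : ({u0, u1} : Finset X) ⊆ F := by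
        intro v hv
        rw [Finset.mem_insert, Finset.mem_singleton] at hv
        rcases hv with rfl | rfl
        · exact hu0
        · exact hu1
      have := Finset.sum_le_sum_of_subset_of_nonneg hsub
        (f := fun u' => qf N (x u - x u')) (fun v _ _ => hpsd _)
      rw [Finset.sum_pair hu01] at this
      exact this
    have hrow01 : (∑ u' ∈ F, qf N (x u0 - x u')) + ∑ u' ∈ F, qf N (x u1 - x u') =
        ∑ u' ∈ F, (qf N (x u' - x u0) + qf N (x u' - x u1)) := by
      rw [Finset.sum_add_distrib]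
      congr 1
      · apply Finset.sum_congr rfl
        intro u' _
        exact qf_sub_comm N _ _
      · apply Finset.sum_congr rfl
        intro u' _
        exact qf_sub_comm N _ _
    have h01 : 2 * (F.card : ℤ) ≤ (∑ u' ∈ F, qf N (x u0 - x u')) +
        ∑ u' ∈ F, qf N (x u1 - x u') := by
      rw [hrow01]
      have := Finset.card_nsmul_le_sum F
        (fun u' => qf N (x u' - x u0) + qf N (x u' - x u1)) 2 (fun u' _ => hg u')
      rw [nsmul_eq_mul] at this
      linarith
    have hu1' : u1 ∈ F.erase u0 := Finset.mem_erase.2 ⟨hu01.symm, hu1⟩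
    rw [← Finset.add_sum_erase F _ hu0, ← Finset.add_sum_erase (F.erase u0) _ hu1']
    have hrest : 2 * (((F.erase u0).erase u1).card : ℤ) ≤
        ∑ u ∈ (F.erase u0).erase u1, ∑ u' ∈ F, qf N (x u - x u') := by
      have := Finset.card_nsmul_le_sum ((F.erase u0).erase u1)
        (fun u => ∑ u' ∈ F, qf N (x u - x u')) 2 (fun u hu => by
          have huF : u ∈ F := Finset.mem_of_mem_erase (Finset.mem_of_mem_erase hu)
          exact (hg u).trans (hrow u huF))
      rw [nsmul_eq_mul] at this
      linarith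
    have hcard : (((F.erase u0).erase u1).card : ℤ) = (F.card : ℤ) - 2 := by
      rw [Finset.card_erase_of_mem hu1', Finset.card_erase_of_mem hu0]
      have : 2 ≤ F.card := by
        have := Finset.card_le_card (show ({u0, u1} : Finset X) ⊆ F from by
          intro v hv
          rw [Finset.mem_insert, Finset.mem_singleton] at hv
          rcases hv with rfl | rfl
          · exact hu0
          · exact hu1)
        rwa [Finset.card_pair hu01] at this
      omega
    rw [hcard] at hrest
    linarith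

theorem sum_pairs_nonneg {X : Type*} (hpsd : ∀ x : I → ℤ, 0 ≤ qf N x)
    (F : Finset X) (x : X → I → ℤ) :
    0 ≤ ∑ u ∈ F, ∑ u' ∈ F, qf N (x u - x u') :=
  Finset.sum_nonneg (fun _ _ => Finset.sum_nonneg (fun _ _ => hpsd _))

end Quad

end Cfsg.Agent.Helper18.MajorTwo
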