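import Mathlib
import Cfsg.Agent.Lib.Helper18.MajorTwo1

/-!
# Refinement identity for fibre sums of an integer quadratic form (helper18's shared library)
-/

set_option autoImplicit false

namespace Cfsg.Agent.Helper18.MajorTwo

section Refine

variable {I : Type*} [Fintype I]

/-- the vector `a` cut down to the fibre `f = u` -/
def fib {X : Type*} [DecidableEq X] (a : I → ℤ) (f : I → X) (u : X) : I → ℤ :=
  fun i => if f i = u then a i else 0

/-- the sum of the entries `a_i a_j N_ij` over the pairs with `f i = f j` -/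
def eqSum {X : Type*} [DecidableEq X] (N : I → I → ℤ) (a : I → ℤ) (f : I → X) : ℤ :=
  ∑ i, ∑ i', if f i = f i' then a i * a i' * N i i' else 0

theorem sum_qf_fib {Z : Type*} [DecidableEq Z] (N : I → I → ℤ) (a : I → ℤ) (h : I → Z)
    (Zs : Finset Z) (hZ : ∀ i, h i ∈ Zs) :
    ∑ z ∈ Zs, qf N (fib a h z) = eqSum N a h := by
  unfold qf bf eqSum fib
  rw [Finset.sum_comm]
  apply Finset.sum_congr rfl
  intro i _
  rw [Finset.sum_comm]
  apply Finset.sum_congr rfl
  intro i' _
  rw [Finset.sum_eq_single (h i)]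
  · by_cases hii : h i = h i'
    · rw [if_pos rfl, if_pos hii.symm, if_pos hii]
    · rw [if_pos rfl, if_neg (fun h' => hii h'.symm), if_neg hii]
      ring
  · intro z _ hz
    rw [if_neg (fun h' => hz h'.symm)]
    ring
  · intro hn
    exact absurd (hZ i) hn

theorem sum_fib {X : Type*} [DecidableEq X] (a : I → ℤ) (f : I → X) (F : Finset X) :
    ∑ u ∈ F, fib a f u = fun i => if f i ∈ F then a i else 0 := by
  funext i
  rw [Finset.sum_apply]
  unfold fib
  rw [Finset.sum_ite_eq]

/-- **the refinement identity** -/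
theorem refine_identity {X Y : Type*} [DecidableEq X] [DecidableEq Y] (N : I → I → ℤ)
    (a : I → ℤ) (f : I → X) (g : X → Y) (Ys : Finset Y) (F : Y → Finset X) (p : ℕ)
    (hY : ∀ i, g (f i) ∈ Ys) (hF : ∀ y ∈ Ys, ∀ x, x ∈ F y ↔ g x = y)
    (hcard : ∀ y ∈ Ys, (F y).card = p) :
    ∑ y ∈ Ys, ∑ u ∈ F y, ∑ u' ∈ F y, qf N (fib a f u - fib a f u') =
      2 * (p : ℤ) * eqSum N a f - 2 * eqSum N a (g ∘ f) := by
  have h1 : ∀ y ∈ Ys, ∑ u ∈ F y, ∑ u' ∈ F y, qf N (fib a f u - fib a f u') =
      2 * (p : ℤ) * ∑ u ∈ F y, qf N (fib a f u) - 2 * qf N (fib a (g ∘ f) y) := by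
    intro y hy
    rw [sum_qf_sub, hcard y hy, sum_fib]
    have : (fun i => if f i ∈ F y then a i else 0) = fib a (g ∘ f) y := by
      funext i
      unfold fib
      simp only [Function.comp_apply]
      by_cases hi : f i ∈ F y
      · rw [if_pos hi, if_pos ((hF y hy (f i)).1 hi)]
      · rw [if_neg hi, if_neg (fun h' => hi ((hF y hy (f i)).2 h'))]
    rw [this]
  rw [Finset.sum_congr rfl h1, Finset.sum_sub_distrib, ← Finset.mul_sum, ← Finset.mul_sum,
    sum_qf_fib N a (g ∘ f) Ys hY]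
  congr 2
  have hdisj : Set.PairwiseDisjoint (↑Ys) F := by
    intro y hy y' hy' hne
    rw [Function.onFun, Finset.disjoint_left]
    intro x hx hx'
    apply hne
    rw [← (hF y hy x).1 hx, ← (hF y' hy' x).1 hx']
  rw [← Finset.sum_biUnion hdisj]
  apply sum_qf_fib
  intro i
  rw [Finset.mem_biUnion]
  exact ⟨g (f i), hY i, (hF _ (hY i) _).2 rfl⟩

end Refine

end Cfsg.Agent.Helper18.MajorTwo
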