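import Mathlib

/-!
# Galois invariance of sums of `p`-power roots of unity lying in a `p'`-cyclotomic field (helper18)
-/

set_option autoImplicit false

namespace Cfsg.Agent.Helper18.Schur

open Polynomial

theorem pow_eq_pow_of_modEq {z : ℂ} {m u j : ℕ} (hz : z ^ m = 1) (h : u ≡ j [MOD m]) :
    z ^ u = z ^ j := by
  have h1 : ∀ t : ℕ, z ^ t = z ^ (t % m) := by
    intro t
    conv_lhs => rw [← Nat.div_add_mod t m, pow_add, pow_mul, hz, one_pow, one_mul]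
  rw [h1 u, h1 j, h]

set_option maxHeartbeats 1600000 in
/-- A sum of `p ^ k`-th roots of unity lying in the `r`-th cyclotomic field, `p ∤ r`, is unchanged
when the roots are raised to a power `j` prime to `p`. -/
theorem sum_pow_eq_of_mem_adjoin {p : ℕ} (hp : p.Prime) {r k j : ℕ} (hr : 0 < r) (hpr : ¬ p ∣ r)
    (hj : ¬ p ∣ j) {ι : Type*} [Fintype ι] (μ : ι → ℂ) (hμ : ∀ i, μ i ^ (p ^ k) = 1)
    (hmem : (∑ i, μ i) ∈ IntermediateField.adjoin ℚ
      ({Complex.exp (2 * Real.pi * Complex.I / (r : ℂ))} : Set ℂ)) :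
    ∑ i, μ i ^ j = ∑ i, μ i := by
  classical
  obtain ⟨N, hNdef⟩ : ∃ N : ℕ, N = r * p ^ k := ⟨_, rfl⟩
  have hpk : 0 < p ^ k := pow_pos hp.pos k
  have hN : 0 < N := by
    rw [hNdef]
    exact Nat.mul_pos hr hpk
  haveI : NeZero N := ⟨hN.ne'⟩
  have hcop : Nat.Coprime r (p ^ k) :=
    Nat.Coprime.pow_right _ ((Nat.Prime.coprime_iff_not_dvd hp).2 hpr).symm
  -- the exponent
  obtain ⟨u, hu1, hu2⟩ : ∃ u : ℕ, u ≡ 1 [MOD r] ∧ u ≡ j [MOD p ^ k] :=
    ⟨Nat.chineseRemainder hcop 1 j, (Nat.chineseRemainder hcop 1 j).2.1,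
      (Nat.chineseRemainder hcop 1 j).2.2⟩
  have huN : Nat.Coprime u N := by
    rw [hNdef]
    apply Nat.Coprime.mul_right
    · rw [Nat.Coprime, hu1.gcd_eq, Nat.gcd_one_left]
    · rw [Nat.Coprime, hu2.gcd_eq]
      exact Nat.Coprime.pow_right k ((Nat.Prime.coprime_iff_not_dvd hp).2 hj).symm
  -- the roots of unity
  obtain ⟨ζ, hζdef⟩ : ∃ ζ : ℂ, ζ = Complex.exp (2 * Real.pi * Complex.I / (N : ℂ)) := ⟨_, rfl⟩
  have hζ : IsPrimitiveRoot ζ N := by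
    rw [hζdef]
    exact Complex.isPrimitiveRoot_exp N hN.ne'
  have hζr : Complex.exp (2 * Real.pi * Complex.I / (r : ℂ)) = ζ ^ (p ^ k) := by
    rw [hζdef, ← Complex.exp_nat_mul]
    congr 1
    rw [hNdef]
    have h1 : (r : ℂ) ≠ 0 := by exact_mod_cast hr.ne'
    have h2 : ((p ^ k : ℕ) : ℂ) ≠ 0 := by exact_mod_cast hpk.ne'
    push_cast at h2 ⊢
    field_simp
  have hζrpow : (ζ ^ (p ^ k)) ^ r = 1 := by
    rw [← pow_mul, mul_comm, ← hNdef]
    exact hζ.pow_eq_one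
  -- the cyclotomic field and its embeddings
  haveI : IsCyclotomicExtension {N} ℚ (CyclotomicField N ℚ) :=
    CyclotomicField.isCyclotomicExtension N ℚ
  have hζK : IsPrimitiveRoot (IsCyclotomicExtension.zeta N ℚ (CyclotomicField N ℚ)) N :=
    IsCyclotomicExtension.zeta_spec N ℚ (CyclotomicField N ℚ)
  obtain ⟨ζK, hζKdef⟩ : ∃ ζK : CyclotomicField N ℚ,
      ζK = IsCyclotomicExtension.zeta N ℚ (CyclotomicField N ℚ) := ⟨_, rfl⟩
  rw [← hζKdef] at hζK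
  have hirr : Irreducible (cyclotomic N ℚ) := cyclotomic.irreducible_rat hN
  let e := hζK.embeddingsEquivPrimitiveRoots ℂ hirr
  have he : ∀ σ : CyclotomicField N ℚ →ₐ[ℚ] ℂ, ((e σ : primitiveRoots N ℂ) : ℂ) = σ ζK :=
    fun σ => rfl
  have hemb : ∀ η : ℂ, IsPrimitiveRoot η N → ∃ σ : CyclotomicField N ℚ →ₐ[ℚ] ℂ, σ ζK = η := by
    intro η hη
    refine ⟨e.symm ⟨η, (mem_primitiveRoots hN).2 hη⟩, ?_⟩
    rw [← he, Equiv.apply_symm_apply]
  obtain ⟨τ₁, hτ₁⟩ := hemb ζ hζ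
  obtain ⟨τ₂, hτ₂⟩ := hemb (ζ ^ u) (hζ.pow_of_coprime u huN)
  -- elements of the small field are fixed
  have hA : ∀ c ∈ IntermediateField.adjoin ℚ
      ({Complex.exp (2 * Real.pi * Complex.I / (r : ℂ))} : Set ℂ),
      ∃ y : CyclotomicField N ℚ, τ₁ y = c ∧ τ₂ y = c := by
    intro c hc
    induction hc using IntermediateField.adjoin_induction with
    | mem x hx =>
      rw [Set.mem_singleton_iff] at hx
      refine ⟨ζK ^ (p ^ k), ?_, ?_⟩
      · rw [map_pow, hτ₁, hx, hζr]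
      · rw [map_pow, hτ₂, hx, hζr, ← pow_mul, mul_comm, pow_mul]
        have := pow_eq_pow_of_modEq hζrpow hu1
        rw [this, pow_one]
    | algebraMap q =>
      exact ⟨algebraMap ℚ _ q, τ₁.commutes q, τ₂.commutes q⟩
    | add x y _ _ hx hy =>
      obtain ⟨a, ha1, ha2⟩ := hx
      obtain ⟨b, hb1, hb2⟩ := hy
      exact ⟨a + b, by rw [map_add, ha1, hb1], by rw [map_add, ha2, hb2]⟩
    | inv x _ hx =>
      obtain ⟨a, ha1, ha2⟩ := hx
      exact ⟨a⁻¹, by rw [map_inv₀, ha1], by rw [map_inv₀, ha2]⟩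
    | mul x y _ _ hx hy =>
      obtain ⟨a, ha1, ha2⟩ := hx
      obtain ⟨b, hb1, hb2⟩ := hy
      exact ⟨a * b, by rw [map_mul, ha1, hb1], by rw [map_mul, ha2, hb2]⟩
  -- the sum as an image
  have hμN : ∀ i, μ i ^ N = 1 := by
    intro i
    rw [hNdef, mul_comm, pow_mul, hμ i, one_pow]
  have hex : ∀ i, ∃ t < N, ζ ^ t = μ i := fun i => hζ.eq_pow_of_pow_eq_one (hμN i)
  choose t _ ht using hex
  obtain ⟨y₀, hy₀def⟩ : ∃ y₀ : CyclotomicField N ℚ, y₀ = ∑ i, ζK ^ t i := ⟨_, rfl⟩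
  have h1 : τ₁ y₀ = ∑ i, μ i := by
    rw [hy₀def, map_sum]
    apply Finset.sum_congr rfl
    intro i _
    rw [map_pow, hτ₁, ht i]
  have h2 : τ₂ y₀ = ∑ i, μ i ^ j := by
    rw [hy₀def, map_sum]
    apply Finset.sum_congr rfl
    intro i _
    rw [map_pow, hτ₂, ← pow_mul, mul_comm, pow_mul, ht i]
    exact pow_eq_pow_of_modEq (hμ i) hu2
  obtain ⟨y, hy1, hy2⟩ := hA _ hmem
  have hyy : y = y₀ := by
    apply τ₁.toRingHom.injective
    change τ₁ y = τ₁ y₀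
    rw [hy1, h1]
  rw [← h2, ← hyy, hy2]

end Cfsg.Agent.Helper18.Schur
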