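import Mathlib
import Cfsg.Agent.Lib.Helper18.SchurBound1
import Cfsg.Agent.Lib.Helper18.GenChar
import Cfsg.Agent.Lib.Helper23.BlockTrace
import Cfsg.Agent.Lib.Helper23.BlockHeightZero
import Cfsg.Agent.Lib.Helper23.BlockGenChar
import Cfsg.Agent.Lib.Helper23.CharValues
import Cfsg.Agent.Lib.Helper24.CharBasic
import Cfsg.Agent.Lib.Helper24.CharHom
import Cfsg.Agent.Lib.Helper24.CharLinear
import Cfsg.Agent.Lib.Helper24.GlaubPGroup
import Cfsg.Agent.Lib.Helper8.CharExtra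

/-!
# Schur's bound for the Sylow `p`-subgroups of a group with a faithful `p`-rational character
(helper18)
-/

set_option autoImplicit false
set_option linter.unusedSectionVars false

namespace Cfsg.Agent.Helper18.Schur

open Cfsg Cfsg.Agent.Helper24 Cfsg.Agent.Helper23.Blk
open scoped ComplexConjugate

universe u

section Sums

theorem sum_range_pow (μ : ℂ) (m : ℕ) (hμ : μ ^ m = 1) :
    ∑ j ∈ Finset.range m, μ ^ j = if μ = 1 then (m : ℂ) else 0 := by
  by_cases h : μ = 1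
  · rw [if_pos h, h]
    simp
  · rw [if_neg h, geom_sum_eq h, hμ, sub_self, zero_div]

theorem sum_pow_coprime {p a : ℕ} (hp : p.Prime) (ha : 0 < a) (μ : ℂ) (hμ : μ ^ (p ^ a) = 1) :
    ∑ j ∈ (Finset.range (p ^ a)).filter (fun j => ¬ p ∣ j), μ ^ j =
      (if μ = 1 then ((p ^ a : ℕ) : ℂ) else 0) -
        (if μ ^ p = 1 then ((p ^ (a - 1) : ℕ) : ℂ) else 0) := by
  classical
  have hsplit := Finset.sum_filter_add_sum_filter_not (Finset.range (p ^ a)) (fun j => p ∣ j)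
    (fun j => μ ^ j)
  have hall := sum_range_pow μ (p ^ a) hμ
  have hpa : p ^ a = p * p ^ (a - 1) := by
    rw [← pow_succ']
    congr 1
    omega
  have hμp : (μ ^ p) ^ (p ^ (a - 1)) = 1 := by
    rw [← pow_mul, ← hpa, hμ]
  have hmult : ∑ j ∈ (Finset.range (p ^ a)).filter (fun j => p ∣ j), μ ^ j =
      if μ ^ p = 1 then ((p ^ (a - 1) : ℕ) : ℂ) else 0 := by
    rw [← sum_range_pow (μ ^ p) (p ^ (a - 1)) hμp]
    have himg : (Finset.range (p ^ a)).filter (fun j => p ∣ j) =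
        (Finset.range (p ^ (a - 1))).image (fun i => p * i) := by
      ext j
      rw [Finset.mem_filter, Finset.mem_range, Finset.mem_image]
      constructor
      · rintro ⟨hj, i, rfl⟩
        refine ⟨i, ?_, rfl⟩
        rw [Finset.mem_range]
        rw [hpa] at hj
        exact Nat.lt_of_mul_lt_mul_left hj
      · rintro ⟨i, hi, rfl⟩
        rw [Finset.mem_range] at hi
        refine ⟨?_, dvd_mul_right p i⟩
        rw [hpa]
        exact Nat.mul_lt_mul_of_pos_left hi hp.pos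
    rw [himg, Finset.sum_image]
    · apply Finset.sum_congr rfl
      intro i _
      rw [pow_mul]
    · intro i _ i' _ h
      exact Nat.eq_of_mul_eq_mul_left hp.pos h
  rw [hall, hmult] at hsplit
  rw [← hsplit]
  ring

end Sums

section Values

variable {M : Ideal AlgInt} {p : ℕ}

set_option maxHeartbeats 1600000 in
theorem value_structure (hM : IsPModular p M) {n a : ℕ} (ha : 0 < a) (μ : Fin n → ℂ)
    (hμ : ∀ i, μ i ^ (p ^ a) = 1)
    (hinv : ∀ j, ¬ p ∣ j → ∑ i, μ i ^ j = ∑ i, μ i) (hne : ∑ i, μ i ≠ (n : ℂ)) :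
    ∃ s : ℕ, 1 ≤ s ∧ (p - 1) * s ≤ n ∧ ∑ i, μ i = (n : ℂ) - ((p * s : ℕ) : ℂ) := by
  classical
  haveI hMp : M.IsPrime := hM.2.1.isPrime
  have hp : p.Prime := hM.1
  obtain ⟨c, hc⟩ : ∃ c : ℂ, c = ∑ i, μ i := ⟨_, rfl⟩
  rw [← hc] at hne ⊢
  obtain ⟨J, hJ⟩ : ∃ J : Finset ℕ, J = (Finset.range (p ^ a)).filter (fun j => ¬ p ∣ j) :=
    ⟨_, rfl⟩
  obtain ⟨m₀, hm₀⟩ : ∃ m₀ : ℕ, m₀ = (Finset.univ.filter (fun i => μ i = 1)).card := ⟨_, rfl⟩
  obtain ⟨m₁, hm₁⟩ : ∃ m₁ : ℕ, m₁ = (Finset.univ.filter (fun i => μ i ^ p = 1)).card :=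
    ⟨_, rfl⟩
  have hm01 : m₀ ≤ m₁ := by
    rw [hm₀, hm₁]
    apply Finset.card_le_card
    intro i hi
    rw [Finset.mem_filter] at hi ⊢
    exact ⟨hi.1, by rw [hi.2, one_pow]⟩
  have hm1n : m₁ ≤ n := by
    rw [hm₁]
    exact (Finset.card_filter_le _ _).trans (by simp)
  have hJcard : (J.card : ℂ) = ((p ^ a : ℕ) : ℂ) - ((p ^ (a - 1) : ℕ) : ℂ) := by
    have h1 := sum_pow_coprime hp ha (1 : ℂ) (one_pow _)
    rw [← hJ] at h1
    simp only [one_pow, Finset.sum_const, nsmul_eq_mul, mul_one, if_true] at h1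
    exact h1
  have hsum : (J.card : ℂ) * c = ((p ^ a : ℕ) : ℂ) * (m₀ : ℂ) - ((p ^ (a - 1) : ℕ) : ℂ) * m₁ := by
    have h1 : (J.card : ℂ) * c = ∑ j ∈ J, ∑ i, μ i ^ j := by
      have : ∀ j ∈ J, ∑ i, μ i ^ j = c := by
        intro j hj
        rw [hJ, Finset.mem_filter] at hj
        rw [hinv j hj.2, hc]
      rw [Finset.sum_congr rfl this, Finset.sum_const, nsmul_eq_mul]
    rw [h1, Finset.sum_comm]
    have h2 : ∀ i, ∑ j ∈ J, μ i ^ j = (if μ i = 1 then ((p ^ a : ℕ) : ℂ) else 0) -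
        (if μ i ^ p = 1 then ((p ^ (a - 1) : ℕ) : ℂ) else 0) := by
      intro i
      rw [hJ]
      exact sum_pow_coprime hp ha (μ i) (hμ i)
    rw [Finset.sum_congr rfl (fun i _ => h2 i), Finset.sum_sub_distrib, ← Finset.sum_filter,
      ← Finset.sum_filter, Finset.sum_const, Finset.sum_const, nsmul_eq_mul, nsmul_eq_mul,
      ← hm₀, ← hm₁]
    ring
  have hpa : p ^ a = p * p ^ (a - 1) := by
    rw [← pow_succ']
    congr 1
    omega
  have hkey : ((p - 1 : ℕ) : ℂ) * c = ((p * m₀ : ℕ) : ℂ) - (m₁ : ℂ) := by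
    have hq0 : ((p ^ (a - 1) : ℕ) : ℂ) ≠ 0 := by
      exact_mod_cast (pow_pos hp.pos _).ne'
    apply mul_left_cancel₀ hq0
    rw [hJcard, hpa] at hsum
    have hp1 : ((p - 1 : ℕ) : ℂ) = (p : ℂ) - 1 := by
      rw [Nat.cast_sub hp.one_lt.le, Nat.cast_one]
    rw [hp1]
    push_cast at hsum ⊢
    linear_combination hsum
  -- integrality
  have hcint : IsIntegral ℤ c := by
    rw [hc]
    apply IsIntegral.sum
    intro i _
    exact IsIntegral.of_pow (pow_pos hp.pos a) (by rw [hμ i]; exact isIntegral_one)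
  have hp1pos : 0 < p - 1 := by
    have := hp.one_lt
    omega
  obtain ⟨z, hz⟩ : ((p - 1 : ℕ) : ℤ) ∣ ((p * m₀ : ℕ) : ℤ) - (m₁ : ℤ) := by
    apply int_dvd_of_isIntegral_mul_eq hcint hp1pos.ne'
    rw [mul_comm, hkey]
    push_cast
    ring
  have hcz : c = (z : ℂ) := by
    have hq0 : ((p - 1 : ℕ) : ℂ) ≠ 0 := by exact_mod_cast hp1pos.ne'
    apply mul_left_cancel₀ hq0
    rw [hkey]
    have : (((p * m₀ : ℕ) : ℤ) - (m₁ : ℤ) : ℂ) = ((((p - 1 : ℕ) : ℤ) * z : ℤ) : ℂ) := by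
      rw [← hz]
      push_cast
      ring
    push_cast at this ⊢
    exact this
  -- congruence
  have hcong : (p : ℤ) ∣ z - n := by
    rw [← memLocalIdeal_intCast_iff hM]
    have h1 : ((z - n : ℤ) : ℂ) = ∑ i, (μ i - 1) := by
      rw [Finset.sum_sub_distrib, ← hc, hcz]
      simp
    rw [h1]
    apply memLocalIdeal_sum
    intro i _
    exact memLocalIdeal_sub_one_of_pow_eq_one hM (hμ i)
  have hzn : z ≠ n := by
    intro h
    apply hne
    rw [hcz, h]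
    simp
  -- bounds
  have hp1z : ((p - 1 : ℕ) : ℤ) = (p : ℤ) - 1 := by
    rw [Nat.cast_sub hp.one_lt.le, Nat.cast_one]
  have hzle : z ≤ m₀ := by
    have h1 : ((p : ℤ) - 1) * z ≤ ((p : ℤ) - 1) * m₀ := by
      rw [← hp1z, ← hz]
      push_cast
      have : (m₀ : ℤ) ≤ m₁ := by exact_mod_cast hm01
      nlinarith
    have hpos : (0 : ℤ) < (p : ℤ) - 1 := by
      have : (1 : ℤ) < p := by exact_mod_cast hp.one_lt
      omega
    exact le_of_mul_le_mul_left h1 hpos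
  have hm0n : (m₀ : ℤ) ≤ n := by exact_mod_cast hm01.trans hm1n
  have hzlt : z < n := lt_of_le_of_ne (hzle.trans hm0n) hzn
  obtain ⟨s', hs'⟩ := hcong
  have hs'neg : s' < 0 := by
    have hpp : (0 : ℤ) < p := by exact_mod_cast hp.pos
    by_contra hh
    push Not at hh
    have : (0 : ℤ) ≤ (p : ℤ) * s' := mul_nonneg hpp.le hh
    omega
  obtain ⟨s, hs⟩ : ∃ s : ℕ, (s : ℤ) = -s' := ⟨(-s').toNat, Int.toNat_of_nonneg (by omega)⟩
  have hzs : z = (n : ℤ) - (p : ℤ) * s := by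
    rw [hs]
    linarith
  refine ⟨s, by omega, ?_, ?_⟩
  · -- (p-1) s ≤ n
    have hlow : -(n : ℤ) ≤ ((p : ℤ) - 1) * z := by
      rw [← hp1z, ← hz]
      push_cast
      have h1 : (m₁ : ℤ) ≤ n := by exact_mod_cast hm1n
      have h2 : (0 : ℤ) ≤ (p : ℤ) * m₀ := by positivity
      linarith
    rw [hzs] at hlow
    have hpp : (0 : ℤ) < p := by exact_mod_cast hp.pos
    have h3 : (p : ℤ) * (((p : ℤ) - 1) * s) ≤ (p : ℤ) * n := by nlinarith
    have h4 : ((p : ℤ) - 1) * s ≤ n := le_of_mul_le_mul_left h3 hpp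
    have h5 : (((p - 1) * s : ℕ) : ℤ) ≤ (n : ℤ) := by
      push_cast
      rw [hp1z]
      exact h4
    exact_mod_cast h5
  · rw [hcz, hzs]
    push_cast
    ring

end Values

end Cfsg.Agent.Helper18.Schur
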