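import Mathlib
import Cfsg.Agent.Lib.Helper18.MajorTwo2
import Cfsg.Agent.Lib.Helper18.SchurBound2

/-!
# The trace bound for forms that do not represent one (helper18's shared library)
-/

set_option autoImplicit false

namespace Cfsg.Agent.Helper18.MajorTwo

open scoped ComplexConjugate
open Polynomial

section Trace

variable {I : Type*} [Fintype I]

/-- the Hermitian form of an integer matrix -/
noncomputable def hfc (N : I → I → ℤ) (v w : I → ℂ) : ℂ :=
  ∑ i, ∑ i', v i * conj (w i') * (N i i' : ℂ)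

theorem mul_conj_eq_one_iff {x y : ℂ} (hy : ‖y‖ = 1) : x * conj y = 1 ↔ x = y := by
  have hy0 : y ≠ 0 := by
    intro h
    rw [h, norm_zero] at hy
    exact zero_ne_one hy
  rw [← Complex.inv_eq_conj hy]
  constructor
  · intro h
    have h2 : x * y⁻¹ * y = 1 * y := by rw [h]
    rwa [inv_mul_cancel_right₀ hy0, one_mul] at h2
  · intro h
    rw [h, mul_inv_cancel₀ hy0]

theorem filter_coprime_eq {p j : ℕ} (hp : p.Prime) (hj : 0 < j) :
    (Finset.range (p ^ j)).filter (fun k => Nat.Coprime k (p ^ j)) =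
      (Finset.range (p ^ j)).filter (fun k => ¬ p ∣ k) := by
  apply Finset.filter_congr
  intro k _
  rw [Nat.coprime_pow_right_iff hj, Nat.coprime_comm, hp.coprime_iff_not_dvd]

theorem card_filter_coprime {p j : ℕ} (hp : p.Prime) (hj : 0 < j) :
    ((Finset.range (p ^ j)).filter (fun k => Nat.Coprime k (p ^ j))).card =
      p ^ (j - 1) * (p - 1) := by
  rw [← Nat.totient_prime_pow hp hj, Nat.totient_eq_card_coprime]
  congr 1
  apply Finset.filter_congr
  intro k _
  rw [Nat.coprime_comm]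

theorem card_nthRootsFinset_of_pow {p : ℕ} (hp : 0 < p) {ρ α : ℂ} (hα : α ^ p = ρ)
    (hρ : ρ ≠ 0) : (nthRootsFinset p ρ).card = p := by
  classical
  have hζ : IsPrimitiveRoot (Complex.exp (2 * Real.pi * Complex.I / p)) p :=
    Complex.isPrimitiveRoot_exp p hp.ne'
  have h1 := hζ.card_nthRoots ρ
  rw [if_pos ⟨α, hα⟩] at h1
  have h2 := hζ.nthRoots_nodup hρ
  unfold nthRootsFinset
  rw [← h1]
  convert Multiset.toFinset_card_of_nodup h2

theorem sum_coprime_mul_conj_pow {p j : ℕ} (hp : p.Prime) (hj : 0 < j) {x y : ℂ}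
    (hx : x ^ (p ^ j) = 1) (hy : y ^ (p ^ j) = 1) :
    ∑ k ∈ (Finset.range (p ^ j)).filter (fun k => Nat.Coprime k (p ^ j)), (x * conj y) ^ k =
      (if x = y then ((p ^ j : ℕ) : ℂ) else 0) -
        (if x ^ p = y ^ p then ((p ^ (j - 1) : ℕ) : ℂ) else 0) := by
  have hn0 : p ^ j ≠ 0 := (pow_pos hp.pos j).ne'
  have hyn : ‖y‖ = 1 := Complex.norm_eq_one_of_pow_eq_one hy hn0
  have hypn : ‖y ^ p‖ = 1 := by rw [norm_pow, hyn, one_pow]
  have h1 : (x * conj y) ^ (p ^ j) = 1 := by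
    rw [mul_pow, ← map_pow, hx, hy, map_one, mul_one]
  rw [filter_coprime_eq hp hj, Cfsg.Agent.Helper18.Schur.sum_pow_coprime hp hj _ h1]
  have e1 : (x * conj y = 1) ↔ x = y := mul_conj_eq_one_iff hyn
  have e2 : ((x * conj y) ^ p = 1) ↔ x ^ p = y ^ p := by
    rw [mul_pow, ← map_pow]
    exact mul_conj_eq_one_iff hypn
  simp only [e1, e2]

set_option maxHeartbeats 1600000 in
/-- **the trace bound**: if the integer form does not represent one, the sum of the Galois
conjugates of the Hermitian form at `(a_i μ_i)` is an integer that is zero or at least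
`2 φ(p^j)` -/
theorem trace_bound {p j : ℕ} (hp : p.Prime) (hj : 0 < j) (N : I → I → ℤ)
    (hpsd : ∀ x : I → ℤ, 0 ≤ qf N x) (hne1 : ∀ x : I → ℤ, qf N x ≠ 1)
    (a : I → ℤ) (μ : I → ℂ) (hμ : ∀ i, μ i ^ (p ^ j) = 1) :
    ∃ T : ℤ, ∑ k ∈ (Finset.range (p ^ j)).filter (fun k => Nat.Coprime k (p ^ j)),
        hfc N (fun i => (a i : ℂ) * μ i ^ k) (fun i => (a i : ℂ) * μ i ^ k) = (T : ℂ) ∧
      (T = 0 ∨ 2 * (((Finset.range (p ^ j)).filter
        (fun k => Nat.Coprime k (p ^ j))).card : ℤ) ≤ T) := by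
  classical
  obtain ⟨J, hJ⟩ : ∃ J : Finset ℕ,
      J = (Finset.range (p ^ j)).filter (fun k => Nat.Coprime k (p ^ j)) := ⟨_, rfl⟩
  rw [← hJ]
  -- step 1: the complex sum
  have hstep : ∑ k ∈ J, hfc N (fun i => (a i : ℂ) * μ i ^ k) (fun i => (a i : ℂ) * μ i ^ k) =
      ((p ^ j : ℕ) : ℂ) * (eqSum N a μ : ℂ) -
        ((p ^ (j - 1) : ℕ) : ℂ) * (eqSum N a (fun i => μ i ^ p) : ℂ) := by
    unfold hfc
    rw [Finset.sum_comm]
    have h1 : ∀ i, ∑ k ∈ J, ∑ i', ((a i : ℂ) * μ i ^ k) * conj ((a i' : ℂ) * μ i' ^ k) *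
        (N i i' : ℂ) = ∑ i', ((a i : ℂ) * (a i' : ℂ) * (N i i' : ℂ)) *
          ∑ k ∈ J, (μ i * conj (μ i')) ^ k := by
      intro i
      rw [Finset.sum_comm]
      apply Finset.sum_congr rfl
      intro i' _
      rw [Finset.mul_sum]
      apply Finset.sum_congr rfl
      intro k _
      rw [map_mul, map_pow, map_intCast, mul_pow]
      ring
    rw [Finset.sum_congr rfl (fun i _ => h1 i)]
    unfold eqSum
    push_cast
    rw [Finset.mul_sum, Finset.mul_sum, ← Finset.sum_sub_distrib]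
    apply Finset.sum_congr rfl
    intro i _
    rw [Finset.mul_sum, Finset.mul_sum, ← Finset.sum_sub_distrib]
    apply Finset.sum_congr rfl
    intro i' _
    rw [hJ, sum_coprime_mul_conj_pow hp hj (hμ i) (hμ i')]
    by_cases h1 : μ i = μ i'
    · have h2 : μ i ^ p = μ i' ^ p := by rw [h1]
      rw [if_pos h1, if_pos h2, if_pos h1, if_pos h2]
      push_cast
      ring
    · by_cases h2 : μ i ^ p = μ i' ^ p
      · rw [if_neg h1, if_pos h2, if_neg h1, if_pos h2]
        push_cast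
        ring
      · rw [if_neg h1, if_neg h2, if_neg h1, if_neg h2]
        push_cast
        ring
  -- step 2: the refinement identity
  obtain ⟨Ys, hYs⟩ : ∃ Ys : Finset ℂ, Ys = Finset.univ.image (fun i => μ i ^ p) := ⟨_, rfl⟩
  have hY : ∀ i, (fun x : ℂ => x ^ p) (μ i) ∈ Ys := by
    intro i
    rw [hYs]
    exact Finset.mem_image_of_mem _ (Finset.mem_univ i)
  have hF : ∀ y ∈ Ys, ∀ x : ℂ, x ∈ nthRootsFinset p y ↔ (fun x : ℂ => x ^ p) x = y := by
    intro y _ x
    exact mem_nthRootsFinset hp.pos y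
  have hcard : ∀ y ∈ Ys, (nthRootsFinset p y).card = p := by
    intro y hy
    rw [hYs, Finset.mem_image] at hy
    obtain ⟨i, -, hi⟩ := hy
    apply card_nthRootsFinset_of_pow hp.pos hi
    rw [← hi]
    apply pow_ne_zero
    intro h0
    have := hμ i
    rw [h0, zero_pow (pow_pos hp.pos j).ne'] at this
    exact zero_ne_one this
  have hR := refine_identity N a μ (fun x : ℂ => x ^ p) Ys (fun y => nthRootsFinset p y) p
    hY hF hcard
  have hcomp : ((fun x : ℂ => x ^ p) ∘ μ) = fun i => μ i ^ p := rfl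
  rw [hcomp] at hR
  -- step 3: counting
  obtain ⟨D, hD⟩ : ∃ D : ℤ, D = (p : ℤ) * eqSum N a μ - eqSum N a (fun i => μ i ^ p) :=
    ⟨_, rfl⟩
  have hR' : ∑ y ∈ Ys, ∑ u ∈ nthRootsFinset p y, ∑ u' ∈ nthRootsFinset p y,
      qf N (fib a μ u - fib a μ u') = 2 * D := by
    rw [hR, hD]
    ring
  have hDcase : D = 0 ∨ 2 * ((p : ℤ) - 1) ≤ D := by
    by_cases hall : ∀ y ∈ Ys, ∑ u ∈ nthRootsFinset p y, ∑ u' ∈ nthRootsFinset p y,
        qf N (fib a μ u - fib a μ u') = 0
    · left
      rw [Finset.sum_eq_zero hall] at hR'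
      omega
    · right
      push Not at hall
      obtain ⟨y0, hy0, hne⟩ := hall
      have h1 := sum_pairs_zero_or_le hpsd hne1 (nthRootsFinset p y0) (fib a μ)
      rw [hcard y0 hy0] at h1
      have h2 : 4 * ((p : ℤ) - 1) ≤ ∑ u ∈ nthRootsFinset p y0, ∑ u' ∈ nthRootsFinset p y0,
          qf N (fib a μ u - fib a μ u') := by
        rcases h1 with h1 | h1
        · exact absurd h1 hne
        · exact h1
      have h3 := Finset.single_le_sum (f := fun y => ∑ u ∈ nthRootsFinset p y,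
        ∑ u' ∈ nthRootsFinset p y, qf N (fib a μ u - fib a μ u'))
        (fun y _ => sum_pairs_nonneg hpsd _ _) hy0
      rw [hR'] at h3
      linarith
  -- step 4: assemble
  refine ⟨(p : ℤ) ^ (j - 1) * D, ?_, ?_⟩
  · rw [hstep, hD]
    have hpj : (p ^ j : ℕ) = p ^ (j - 1) * p := by
      rw [← pow_succ]
      congr 1
      omega
    rw [hpj]
    push_cast
    ring
  · rw [hJ, card_filter_coprime hp hj]
    rcases hDcase with h | h
    · left
      rw [h, mul_zero]
    · right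
      have hp1 : 1 ≤ p := hp.pos
      push_cast [hp1]
      have hpp : (0 : ℤ) ≤ (p : ℤ) ^ (j - 1) := by positivity
      nlinarith
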