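import Mathlib
import Cfsg.Agent.Lib.Helper18.MajorTwo3
import Cfsg.Agent.Lib.Helper23.GaloisWeighted
import Cfsg.Agent.Lib.Helper23.BlockHeightZero

/-!
# Hermitian forms of integer matrices: splitting off a vector of norm one
(helper18's shared library)
-/

set_option autoImplicit false

namespace Cfsg.Agent.Helper18.MajorTwo

open scoped ComplexConjugate
open Polynomial Cfsg Cfsg.Agent.Helper23.Blk

section Galois

/-- vanishing of an integer combination of roots of unity is Galois invariant -/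
theorem sum_weighted_pow_eq_zero {n : ℕ} {ι : Type*} [Fintype ι] (hn : 0 < n) (w : ι → ℤ)
    (μ : ι → ℂ) (hμ : ∀ i, μ i ^ n = 1) {k1 k : ℕ} (hk1 : Nat.Coprime k1 n)
    (hk : Nat.Coprime k n) (h : ∑ i, (w i : ℂ) * μ i ^ k1 = 0) :
    ∑ i, (w i : ℂ) * μ i ^ k = 0 := by
  classical
  haveI : NeZero n := ⟨hn.ne'⟩
  obtain ⟨ζ, hζ⟩ : ∃ ζ : ℂ, IsPrimitiveRoot ζ n := ⟨_, Complex.isPrimitiveRoot_exp n hn.ne'⟩
  have hex : ∀ i, ∃ a < n, ζ ^ a = μ i := fun i => hζ.eq_pow_of_pow_eq_one (hμ i)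
  choose a han ha using hex
  haveI : IsCyclotomicExtension {n} ℚ (CyclotomicField n ℚ) :=
    CyclotomicField.isCyclotomicExtension n ℚ
  have hζK : IsPrimitiveRoot (IsCyclotomicExtension.zeta n ℚ (CyclotomicField n ℚ)) n :=
    IsCyclotomicExtension.zeta_spec n ℚ (CyclotomicField n ℚ)
  obtain ⟨ζK, hζKdef⟩ : ∃ ζK : CyclotomicField n ℚ,
      ζK = IsCyclotomicExtension.zeta n ℚ (CyclotomicField n ℚ) := ⟨_, rfl⟩
  rw [← hζKdef] at hζK
  have hirr : Irreducible (cyclotomic n ℚ) := cyclotomic.irreducible_rat hn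
  obtain ⟨x, hxdef⟩ : ∃ x : CyclotomicField n ℚ, x = ∑ i, (w i : CyclotomicField n ℚ) * ζK ^ a i :=
    ⟨_, rfl⟩
  have hσx : ∀ σ : CyclotomicField n ℚ →ₐ[ℚ] ℂ, σ x = ∑ i, (w i : ℂ) * (σ ζK) ^ a i := by
    intro σ
    rw [hxdef, map_sum]
    refine Finset.sum_congr rfl fun i _ => ?_
    rw [map_mul, map_pow, map_intCast]
  let e := hζK.embeddingsEquivPrimitiveRoots ℂ hirr
  have he : ∀ σ : CyclotomicField n ℚ →ₐ[ℚ] ℂ, ((e σ : primitiveRoots n ℂ) : ℂ) = σ ζK :=
    fun σ => rfl
  have hemb : ∀ η : ℂ, IsPrimitiveRoot η n → ∃ σ : CyclotomicField n ℚ →ₐ[ℚ] ℂ, σ ζK = η := by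
    intro η hη
    refine ⟨e.symm ⟨η, (mem_primitiveRoots hn).2 hη⟩, ?_⟩
    rw [← he, Equiv.apply_symm_apply]
  have hfac : ∀ k : ℕ, Nat.Coprime k n →
      ∃ σ : CyclotomicField n ℚ →ₐ[ℚ] ℂ, σ x = ∑ i, (w i : ℂ) * μ i ^ k := by
    intro k hk
    obtain ⟨σ, hσ⟩ := hemb (ζ ^ k) (hζ.pow_of_coprime k hk)
    refine ⟨σ, ?_⟩
    rw [hσx, hσ]
    refine Finset.sum_congr rfl fun i _ => ?_
    rw [← ha i, ← pow_mul, ← pow_mul, mul_comm k]
  obtain ⟨σ1, hσ1⟩ := hfac k1 hk1
  obtain ⟨σ, hσ⟩ := hfac k hk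
  have hx0 : x = 0 := by
    rw [h] at hσ1
    exact (map_eq_zero_iff σ1 σ1.toRingHom.injective).1 hσ1
  rw [← hσ, hx0, map_zero]

end Galois

section Herm

variable {I : Type*} [Fintype I]

theorem hfc_add_left (N : I → I → ℤ) (v v' w : I → ℂ) :
    hfc N (v + v') w = hfc N v w + hfc N v' w := by
  unfold hfc
  rw [← Finset.sum_add_distrib]
  apply Finset.sum_congr rfl
  intro i _
  rw [← Finset.sum_add_distrib]
  apply Finset.sum_congr rfl
  intro i' _
  simp only [Pi.add_apply]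
  ring

theorem hfc_add_right (N : I → I → ℤ) (v w w' : I → ℂ) :
    hfc N v (w + w') = hfc N v w + hfc N v w' := by
  unfold hfc
  rw [← Finset.sum_add_distrib]
  apply Finset.sum_congr rfl
  intro i _
  rw [← Finset.sum_add_distrib]
  apply Finset.sum_congr rfl
  intro i' _
  simp only [Pi.add_apply, map_add]
  ring

theorem hfc_smul_left (N : I → I → ℤ) (c : ℂ) (v w : I → ℂ) :
    hfc N (c • v) w = c * hfc N v w := by
  unfold hfc
  rw [Finset.mul_sum]
  apply Finset.sum_congr rfl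
  intro i _
  rw [Finset.mul_sum]
  apply Finset.sum_congr rfl
  intro i' _
  simp only [Pi.smul_apply, smul_eq_mul]
  ring

theorem hfc_smul_right (N : I → I → ℤ) (c : ℂ) (v w : I → ℂ) :
    hfc N v (c • w) = conj c * hfc N v w := by
  unfold hfc
  rw [Finset.mul_sum]
  apply Finset.sum_congr rfl
  intro i _
  rw [Finset.mul_sum]
  apply Finset.sum_congr rfl
  intro i' _
  simp only [Pi.smul_apply, smul_eq_mul, map_mul]
  ring

theorem hfc_sub_smul (N : I → I → ℤ) (c : ℂ) (v w : I → ℂ) :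
    hfc N (v - c • w) (v - c • w) =
      hfc N v v - conj c * hfc N v w - c * hfc N w v + c * conj c * hfc N w w := by
  have h1 : v - c • w = v + (-c) • w := by
    rw [neg_smul, sub_eq_add_neg]
  rw [h1, hfc_add_left, hfc_add_right, hfc_add_right, hfc_smul_left, hfc_smul_left,
    hfc_smul_right, hfc_smul_right, map_neg]
  ring

theorem hfc_conj_symm {N : I → I → ℤ} (hsymm : ∀ i i', N i i' = N i' i) (v w : I → ℂ) :
    hfc N w v = conj (hfc N v w) := by
  unfold hfc
  rw [map_sum, Finset.sum_comm]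
  apply Finset.sum_congr rfl
  intro i _
  rw [map_sum]
  apply Finset.sum_congr rfl
  intro i' _
  rw [map_mul, map_mul, Complex.conj_conj, map_intCast, hsymm i' i]
  ring

theorem hfc_self_im {N : I → I → ℤ} (hsymm : ∀ i i', N i i' = N i' i) (v : I → ℂ) :
    (hfc N v v).im = 0 := by
  have h := hfc_conj_symm hsymm v v
  have h2 := congrArg Complex.im h
  rw [Complex.conj_im] at h2
  linarith

/-- the vector `N m` -/
def alphaVec (N : I → I → ℤ) (m : I → ℤ) (i : I) : ℤ := ∑ i', N i i' * m i'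

theorem hfc_intCast_right (N : I → I → ℤ) (m : I → ℤ) (v : I → ℂ) :
    hfc N v (fun i => (m i : ℂ)) = ∑ i, v i * (alphaVec N m i : ℂ) := by
  unfold hfc alphaVec
  apply Finset.sum_congr rfl
  intro i _
  push_cast
  rw [Finset.mul_sum]
  apply Finset.sum_congr rfl
  intro i' _
  rw [map_intCast]
  ring

theorem hfc_intCast_self (N : I → I → ℤ) (m : I → ℤ) :
    hfc N (fun i => (m i : ℂ)) (fun i => (m i : ℂ)) = (qf N m : ℂ) := by
  unfold hfc qf bf
  push_cast
  apply Finset.sum_congr rfl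
  intro i _
  apply Finset.sum_congr rfl
  intro i' _
  rw [map_intCast]

/-- the matrix with a rank one part split off -/
def splitMat (N : I → I → ℤ) (m : I → ℤ) (i i' : I) : ℤ :=
  N i i' - alphaVec N m i * alphaVec N m i'

theorem hfc_splitMat (N : I → I → ℤ) (m : I → ℤ) (v w : I → ℂ) :
    hfc (splitMat N m) v w =
      hfc N v w - (∑ i, v i * (alphaVec N m i : ℂ)) * conj (∑ i, w i * (alphaVec N m i : ℂ)) := by
  unfold hfc splitMat
  rw [map_sum, Finset.sum_mul_sum, ← Finset.sum_sub_distrib]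
  apply Finset.sum_congr rfl
  intro i _
  rw [← Finset.sum_sub_distrib]
  apply Finset.sum_congr rfl
  intro i' _
  rw [map_mul, map_intCast]
  push_cast
  ring

theorem splitMat_symm {N : I → I → ℤ} (hsymm : ∀ i i', N i i' = N i' i) (m : I → ℤ)
    (i i' : I) : splitMat N m i i' = splitMat N m i' i := by
  unfold splitMat
  rw [hsymm i i']
  ring

/-- the split matrix of a positive semidefinite matrix at a vector of norm one is again
positive semidefinite -/
theorem hfc_splitMat_nonneg {N : I → I → ℤ} (hsymm : ∀ i i', N i i' = N i' i)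
    (hP : ∀ v : I → ℂ, 0 ≤ (hfc N v v).re) {m : I → ℤ} (hm : qf N m = 1) (v : I → ℂ) :
    0 ≤ (hfc (splitMat N m) v v).re := by
  obtain ⟨t, ht⟩ : ∃ t : ℂ, t = ∑ i, v i * (alphaVec N m i : ℂ) := ⟨_, rfl⟩
  obtain ⟨mc, hmc⟩ : ∃ mc : I → ℂ, mc = fun i => (m i : ℂ) := ⟨_, rfl⟩
  have h1 : hfc N v mc = t := by
    rw [hmc, hfc_intCast_right, ht]
  have h2 : hfc N mc v = conj t := by
    rw [hfc_conj_symm hsymm v mc, h1]
  have h3 : hfc N mc mc = 1 := by
    rw [hmc, hfc_intCast_self, hm]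
    simp
  have h4 := hfc_sub_smul N t v mc
  rw [h1, h2, h3] at h4
  have h5 : hfc (splitMat N m) v v = hfc N (v - t • mc) (v - t • mc) := by
    rw [hfc_splitMat, ← ht, h4]
    ring
  rw [h5]
  exact hP _

/-- for a positive semidefinite form, a vector of norm zero is orthogonal to everything -/
theorem hfc_eq_zero_of_self_eq_zero {N : I → I → ℤ} (hsymm : ∀ i i', N i i' = N i' i)
    (hP : ∀ v : I → ℂ, 0 ≤ (hfc N v v).re) {w : I → ℂ} (hw : hfc N w w = 0) (v : I → ℂ) :
    hfc N v w = 0 := by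
  by_contra hne
  obtain ⟨γ, hγ⟩ : ∃ γ : ℂ, γ = hfc N v w := ⟨_, rfl⟩
  rw [← hγ] at hne
  have hγpos : 0 < Complex.normSq γ := Complex.normSq_pos.2 hne
  obtain ⟨c, hc⟩ : ∃ c : ℝ, c = ((hfc N v v).re + 1) / (2 * Complex.normSq γ) := ⟨_, rfl⟩
  have h1 := hfc_sub_smul N ((c : ℂ) * γ) v w
  rw [hw, mul_zero, add_zero, hfc_conj_symm hsymm v w, ← hγ] at h1
  have h2 := hP (v - ((c : ℂ) * γ) • w)
  rw [h1] at h2
  have h3 : (hfc N v v - conj ((c : ℂ) * γ) * γ - (c : ℂ) * γ * conj γ).re =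
      (hfc N v v).re - 2 * c * Complex.normSq γ := by
    rw [map_mul, Complex.conj_ofReal]
    have e1 : (c : ℂ) * conj γ * γ = ((c * Complex.normSq γ : ℝ) : ℂ) := by
      rw [mul_assoc, mul_comm (conj γ) γ, Complex.mul_conj]
      push_cast
      ring
    have e2 : (c : ℂ) * γ * conj γ = ((c * Complex.normSq γ : ℝ) : ℂ) := by
      rw [mul_assoc, Complex.mul_conj]
      push_cast
      ring
    rw [e1, e2, Complex.sub_re, Complex.sub_re, Complex.ofReal_re]
    ring
  rw [h3] at h2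
  have h4 : 2 * c * Complex.normSq γ = (hfc N v v).re + 1 := by
    rw [hc]
    field_simp
  linarith

/-- **splitting off a vector of norm one**: if `N - (N m)(N m)ᵀ` is divisible by `p`, the
quotient is again symmetric positive semidefinite -/
theorem exists_split {N : I → I → ℤ} (hsymm : ∀ i i', N i i' = N i' i)
    (hP : ∀ v : I → ℂ, 0 ≤ (hfc N v v).re) {m : I → ℤ} (hm : qf N m = 1) {p : ℕ} (hp : 0 < p)
    (hdiv : ∀ i i', (p : ℤ) ∣ splitMat N m i i') :
    ∃ N'' : I → I → ℤ, (∀ i i', N'' i i' = N'' i' i) ∧ (∀ v : I → ℂ, 0 ≤ (hfc N'' v v).re) ∧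
      ∀ v w : I → ℂ, hfc N v w =
        (∑ i, v i * (alphaVec N m i : ℂ)) * conj (∑ i, w i * (alphaVec N m i : ℂ)) +
          (p : ℂ) * hfc N'' v w := by
  have hp0 : (p : ℤ) ≠ 0 := by exact_mod_cast hp.ne'
  refine ⟨fun i i' => splitMat N m i i' / (p : ℤ), ?_, ?_, ?_⟩
  · intro i i'
    simp only
    rw [splitMat_symm hsymm]
  · have key : ∀ v w : I → ℂ, (p : ℂ) * hfc (fun i i' => splitMat N m i i' / (p : ℤ)) v w =
        hfc (splitMat N m) v w := by
      intro v w
      unfold hfc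
      rw [Finset.mul_sum]
      apply Finset.sum_congr rfl
      intro i _
      rw [Finset.mul_sum]
      apply Finset.sum_congr rfl
      intro i' _
      obtain ⟨q, hq⟩ := hdiv i i'
      simp only
      rw [hq, Int.mul_ediv_cancel_left _ hp0]
      push_cast
      ring
    intro v
    have h1 := hfc_splitMat_nonneg hsymm hP hm v
    rw [← key v v] at h1
    have h2 : ((p : ℂ) * hfc (fun i i' => splitMat N m i i' / (p : ℤ)) v v).re =
        (p : ℝ) * (hfc (fun i i' => splitMat N m i i' / (p : ℤ)) v v).re := by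
      rw [Complex.mul_re]
      simp
    rw [h2] at h1
    have hpR : (0 : ℝ) < (p : ℝ) := by exact_mod_cast hp
    exact nonneg_of_mul_nonneg_right h1 hpR
  · intro v w
    have key : (p : ℂ) * hfc (fun i i' => splitMat N m i i' / (p : ℤ)) v w =
        hfc (splitMat N m) v w := by
      unfold hfc
      rw [Finset.mul_sum]
      apply Finset.sum_congr rfl
      intro i _
      rw [Finset.mul_sum]
      apply Finset.sum_congr rfl
      intro i' _
      obtain ⟨q, hq⟩ := hdiv i i'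
      simp only
      rw [hq, Int.mul_ediv_cancel_left _ hp0]
      push_cast
      ring
    rw [key, hfc_splitMat]
    ring

end Herm

section RankOne

variable {I : Type*} [Fintype I] {M : Ideal AlgInt} {p : ℕ}

set_option maxHeartbeats 1600000 in
/-- a symmetric integer matrix of rank one modulo the local ideal splits at every vector of
norm one -/
theorem dvd_splitMat (hM : IsPModular p M) {N : I → I → ℤ} (hsymm : ∀ i i', N i i' = N i' i)
    (W ρ : I → ℂ) (hW : ∀ i, MemLocalRing M (W i)) (hρ : ∀ i, MemLocalRing M (ρ i))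
    (hcong : ∀ i i', MemLocalIdeal M ((N i i' : ℂ) - W i * ρ i'))
    {m : I → ℤ} (hm : qf N m = 1) (i i' : I) : (p : ℤ) ∣ splitMat N m i i' := by
  haveI hMp : M.IsPrime := hM.2.1.isPrime
  rw [← memLocalIdeal_intCast_iff hM]
  obtain ⟨w, hw⟩ : ∃ w : ℂ, w = ∑ i, (m i : ℂ) * W i := ⟨_, rfl⟩
  obtain ⟨r, hr⟩ : ∃ r : ℂ, r = ∑ i, ρ i * (m i : ℂ) := ⟨_, rfl⟩
  have hwR : MemLocalRing M w := by
    rw [hw]
    exact memLocalRing_sum _ _ (fun i _ => memLocalRing_mul (memLocalRing_intCast _) (hW i))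
  have hrR : MemLocalRing M r := by
    rw [hr]
    exact memLocalRing_sum _ _ (fun i _ => memLocalRing_mul (hρ i) (memLocalRing_intCast _))
  -- `α_i ≡ W_i r`
  have hα1 : ∀ i, MemLocalIdeal M ((alphaVec N m i : ℂ) - W i * r) := by
    intro i
    have : (alphaVec N m i : ℂ) - W i * r = ∑ i', ((N i i' : ℂ) - W i * ρ i') * (m i' : ℂ) := by
      unfold alphaVec
      rw [hr, Finset.mul_sum]
      push_cast
      rw [← Finset.sum_sub_distrib]
      apply Finset.sum_congr rfl
      intro i' _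
      ring
    rw [this]
    exact memLocalIdeal_sum _ _ (fun i' _ =>
      memLocalIdeal_mul_right (hcong i i') (memLocalRing_intCast _))
  -- `α_i' ≡ w ρ_i'`
  have hα2 : ∀ i', MemLocalIdeal M ((alphaVec N m i' : ℂ) - w * ρ i') := by
    intro i'
    have : (alphaVec N m i' : ℂ) - w * ρ i' =
        ∑ i, ((N i i' : ℂ) - W i * ρ i') * (m i : ℂ) := by
      unfold alphaVec
      rw [hw, Finset.sum_mul]
      push_cast
      rw [← Finset.sum_sub_distrib]
      apply Finset.sum_congr rfl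
      intro i _
      rw [hsymm i' i]
      ring
    rw [this]
    exact memLocalIdeal_sum _ _ (fun i _ =>
      memLocalIdeal_mul_right (hcong i i') (memLocalRing_intCast _))
  -- `1 ≡ w r`
  have h1 : MemLocalIdeal M (1 - w * r) := by
    have : (1 : ℂ) - w * r = ∑ i, (m i : ℂ) * ((alphaVec N m i : ℂ) - W i * r) := by
      have hq : (1 : ℂ) = ∑ i, (m i : ℂ) * (alphaVec N m i : ℂ) := by
        have : ((qf N m : ℤ) : ℂ) = 1 := by rw [hm]; simp
        rw [← this]
        unfold qf bf alphaVec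
        push_cast
        apply Finset.sum_congr rfl
        intro i _
        rw [Finset.mul_sum]
        apply Finset.sum_congr rfl
        intro i' _
        ring
      rw [hq, hw, Finset.sum_mul, ← Finset.sum_sub_distrib]
      apply Finset.sum_congr rfl
      intro i _
      ring
    rw [this]
    exact memLocalIdeal_sum _ _ (fun i _ =>
      memLocalIdeal_mul_left (memLocalRing_intCast _) (hα1 i))
  have hαR : ∀ i, MemLocalRing M (alphaVec N m i : ℂ) := fun i => memLocalRing_intCast _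
  have hfin : ((splitMat N m i i' : ℤ) : ℂ) =
      ((N i i' : ℂ) - W i * ρ i') + W i * ρ i' * (1 - w * r) -
        ((alphaVec N m i : ℂ) - W i * r) * (w * ρ i') -
        (alphaVec N m i : ℂ) * ((alphaVec N m i' : ℂ) - w * ρ i') := by
    unfold splitMat
    push_cast
    ring
  rw [hfin]
  apply memLocalIdeal_sub
  · apply memLocalIdeal_sub
    · apply memLocalIdeal_add (hcong i i')
      exact memLocalIdeal_mul_left (memLocalRing_mul (hW i) (hρ i')) h1
    · exact memLocalIdeal_mul_right (hα1 i) (memLocalRing_mul hwR (hρ i'))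
  · exact memLocalIdeal_mul_left (hαR i) (hα2 i')

end RankOne

end Cfsg.Agent.Helper18.MajorTwo
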