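import Mathlib
import Cfsg.Agent.Lib.Helper18.MajorTwo4
import Cfsg.Agent.Lib.Helper23.BlockMajorCount

/-!
# Counting through a positive semidefinite integer form: the case that one is not represented
(helper18's shared library)
-/

set_option autoImplicit false
set_option linter.unusedSectionVars false

namespace Cfsg.Agent.Helper18.MajorTwo

open scoped ComplexConjugate
open Cfsg Cfsg.Agent.Helper23.Blk

section Count

variable {I X : Type*} [Fintype I] [Fintype X]

/-- the vector `(a_i λ_i^k)` -/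
noncomputable def vk (a : X → I → ℤ) (lam : I → ℂ) (χ : X) (k : ℕ) : I → ℂ :=
  fun i => (a χ i : ℂ) * lam i ^ k

theorem hfc_pow_eq_weighted (N : I → I → ℤ) (a b : I → ℤ) (lam : I → ℂ) (k : ℕ) :
    hfc N (fun i => (a i : ℂ) * lam i ^ k) (fun i => (b i : ℂ) * lam i ^ k) =
      ∑ x : I × I, ((a x.1 * b x.2 * N x.1 x.2 : ℤ) : ℂ) * (lam x.1 * conj (lam x.2)) ^ k := by
  unfold hfc
  rw [Fintype.sum_prod_type]
  apply Finset.sum_congr rfl
  intro i _
  apply Finset.sum_congr rfl
  intro i' _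
  rw [map_mul, map_pow, map_intCast, mul_pow]
  push_cast
  ring

theorem card_filter_coprime_pos {n : ℕ} (hn : 0 < n) :
    0 < ((Finset.range n).filter (fun k => Nat.Coprime k n)).card := by
  have h1 : ((Finset.range n).filter (fun k => Nat.Coprime k n)).card = Nat.totient n := by
    rw [Nat.totient_eq_card_coprime]
    congr 1
    apply Finset.filter_congr
    intro k _
    rw [Nat.coprime_comm]
  rw [h1]
  exact Nat.totient_pos.2 hn

theorem qf_nonneg_of_hfc {N : I → I → ℤ} (hP : ∀ v : I → ℂ, 0 ≤ (hfc N v v).re)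
    (x : I → ℤ) : 0 ≤ qf N x := by
  have h1 := hP (fun i => (x i : ℂ))
  rw [hfc_intCast_self] at h1
  have h2 : ((qf N x : ℤ) : ℂ).re = ((qf N x : ℤ) : ℝ) := by
    simp
  rw [h2] at h1
  exact_mod_cast h1

set_option maxHeartbeats 1600000 in
/-- **case A**: the form does not represent one -/
theorem card_le_caseA {p j d l : ℕ} (hp : p.Prime) (hl : l ≤ 2) (N : I → I → ℤ)
    (hpsdZ : ∀ x : I → ℤ, 0 ≤ qf N x) (hne1 : ∀ x : I → ℤ, qf N x ≠ 1)
    (a : X → I → ℤ) (lam : I → ℂ) (hlam : ∀ i, lam i ^ (p ^ j) = 1)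
    (hsum : ∀ k ∈ (Finset.range (p ^ j)).filter (fun k => Nat.Coprime k (p ^ j)),
      ∑ χ, hfc N (vk a lam χ k) (vk a lam χ k) = ((p ^ d * l : ℕ) : ℂ))
    (hpos : ∀ k ∈ (Finset.range (p ^ j)).filter (fun k => Nat.Coprime k (p ^ j)),
      ∀ χ, ∃ r : ℝ, 0 < r ∧ hfc N (vk a lam χ k) (vk a lam χ k) = (r : ℂ)) :
    Fintype.card X ≤ p ^ d := by
  classical
  obtain ⟨J, hJ⟩ : ∃ J : Finset ℕ,
      J = (Finset.range (p ^ j)).filter (fun k => Nat.Coprime k (p ^ j)) := ⟨_, rfl⟩
  rw [← hJ] at hsum hpos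
  have hJpos : 0 < J.card := by
    rw [hJ]
    exact card_filter_coprime_pos (pow_pos hp.pos j)
  -- the per character bound
  have hper : ∀ χ, ∃ T : ℤ, ∑ k ∈ J, hfc N (vk a lam χ k) (vk a lam χ k) = (T : ℂ) ∧
      2 * (J.card : ℤ) ≤ T := by
    intro χ
    have hsumpos : ∃ r : ℝ, 0 < r ∧
        ∑ k ∈ J, hfc N (vk a lam χ k) (vk a lam χ k) = (r : ℂ) := by
      choose r hr0 hr using fun k (hk : k ∈ J) => hpos k hk χ
      refine ⟨∑ k ∈ J.attach, r k.1 k.2, ?_, ?_⟩
      · apply Finset.sum_pos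
        · intro k _
          exact hr0 k.1 k.2
        · rw [Finset.attach_nonempty_iff]
          exact Finset.card_pos.1 hJpos
      · rw [← Finset.sum_attach]
        push_cast
        apply Finset.sum_congr rfl
        intro k _
        exact hr k.1 k.2
    obtain ⟨r, hr0, hr⟩ := hsumpos
    by_cases hj : j = 0
    · -- trivial element
      subst hj
      have hJ0 : J = {0} := by
        rw [hJ]
        ext k
        simp
      refine ⟨qf N (a χ), ?_, ?_⟩
      · rw [hJ0, Finset.sum_singleton]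
        unfold vk
        simp only [pow_zero, mul_one]
        exact hfc_intCast_self N (a χ)
      · have h1 : ∑ k ∈ J, hfc N (vk a lam χ k) (vk a lam χ k) = (qf N (a χ) : ℂ) := by
          rw [hJ0, Finset.sum_singleton]
          unfold vk
          simp only [pow_zero, mul_one]
          exact hfc_intCast_self N (a χ)
        rw [hr] at h1
        have h2 : (r : ℝ) = ((qf N (a χ) : ℤ) : ℝ) := by
          have : ((r : ℝ) : ℂ) = (((qf N (a χ) : ℤ) : ℝ) : ℂ) := by
            rw [h1]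
            push_cast
            rfl
          exact_mod_cast this
        have h3 : (0 : ℤ) < qf N (a χ) := by
          rw [h2] at hr0
          exact_mod_cast hr0
        have h4 := hne1 (a χ)
        rw [hJ0, Finset.card_singleton]
        push_cast
        omega
    · have hj' : 0 < j := Nat.pos_of_ne_zero hj
      obtain ⟨T, hT, hT2⟩ := trace_bound hp hj' N hpsdZ hne1 (a χ) lam hlam
      rw [← hJ] at hT hT2
      refine ⟨T, hT, ?_⟩
      have hT' : ∑ k ∈ J, hfc N (vk a lam χ k) (vk a lam χ k) = (T : ℂ) := hT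
      rw [hr] at hT'
      have h2 : (r : ℝ) = ((T : ℤ) : ℝ) := by
        have : ((r : ℝ) : ℂ) = (((T : ℤ) : ℝ) : ℂ) := by
          rw [hT']
          push_cast
          rfl
        exact_mod_cast this
      have h3 : (0 : ℤ) < T := by
        rw [h2] at hr0
        exact_mod_cast hr0
      rcases hT2 with h | h
      · omega
      · exact h
  choose T hT hT2 using hper
  -- total
  have htot : (∑ χ, T χ : ℤ) = (J.card : ℤ) * ((p ^ d * l : ℕ) : ℤ) := by
    have h1 : ((∑ χ, T χ : ℤ) : ℂ) = ((J.card : ℤ) * ((p ^ d * l : ℕ) : ℤ) : ℤ) := by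
      push_cast
      rw [Finset.sum_congr rfl (fun χ _ => (hT χ).symm), Finset.sum_comm,
        Finset.sum_congr rfl (fun k hk => hsum k hk), Finset.sum_const, nsmul_eq_mul]
      push_cast
      ring
    exact_mod_cast h1
  have hlow : 2 * (J.card : ℤ) * (Fintype.card X : ℤ) ≤ ∑ χ, T χ := by
    have := Finset.card_nsmul_le_sum (Finset.univ : Finset X) T (2 * (J.card : ℤ))
      (fun χ _ => hT2 χ)
    rw [nsmul_eq_mul, Finset.card_univ] at this
    linarith
  rw [htot] at hlow
  have hJ' : (0 : ℤ) < (J.card : ℤ) := by exact_mod_cast hJpos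
  have hl' : ((p ^ d * l : ℕ) : ℤ) ≤ 2 * ((p ^ d : ℕ) : ℤ) := by
    have : p ^ d * l ≤ 2 * p ^ d := by
      calc p ^ d * l ≤ p ^ d * 2 := Nat.mul_le_mul_left _ hl
        _ = 2 * p ^ d := mul_comm _ _
    exact_mod_cast this
  have hfin : (Fintype.card X : ℤ) ≤ ((p ^ d : ℕ) : ℤ) := by
    have h1 : (J.card : ℤ) * (2 * (Fintype.card X : ℤ)) ≤ (J.card : ℤ) * (2 * ((p ^ d : ℕ) : ℤ)) := by
      calc (J.card : ℤ) * (2 * (Fintype.card X : ℤ)) = 2 * (J.card : ℤ) * (Fintype.card X : ℤ) := by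
            ring
        _ ≤ (J.card : ℤ) * ((p ^ d * l : ℕ) : ℤ) := hlow
        _ ≤ (J.card : ℤ) * (2 * ((p ^ d : ℕ) : ℤ)) := by
            apply mul_le_mul_of_nonneg_left hl' hJ'.le
    have h2 := le_of_mul_le_mul_left h1 hJ'
    linarith
  exact_mod_cast hfin

end Count

end Cfsg.Agent.Helper18.MajorTwo
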