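import Mathlib
import Cfsg.Agent.Lib.Helper18.MajorTwo5

/-!
# Counting through a positive semidefinite integer form: the case that one is represented
(helper18's shared library)
-/

set_option autoImplicit false
set_option linter.unusedSectionVars false
set_option linter.style.haveILetI false

namespace Cfsg.Agent.Helper18.MajorTwo

open scoped ComplexConjugate
open Cfsg Cfsg.Agent.Helper23.Blk

section CountB

variable {I X : Type*} [Fintype I] [Fintype X]

theorem memLocalRing_of_pow_eq_one {M : Ideal AlgInt} [hMp : M.IsPrime] {x : ℂ} {n : ℕ}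
    (hn : 0 < n) (hx : x ^ n = 1) : MemLocalRing M x := by
  apply memLocalRing_of_isIntegral _ ne_top
  apply IsIntegral.of_pow hn
  rw [hx]
  exact isIntegral_one

theorem conj_pow_eq_one {x : ℂ} {n : ℕ} (hx : x ^ n = 1) : (conj x) ^ n = 1 := by
  rw [← map_pow, hx, map_one]

set_option maxHeartbeats 6400000 in
/-- **case B**: the form represents one -/
theorem card_le_caseB {p : ℕ} {M : Ideal AlgInt} (hM : IsPModular p M) {j d l : ℕ} (hl : l ≤ 2)
    (N : I → I → ℤ) (hsymm : ∀ i i', N i i' = N i' i)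
    (hP : ∀ v : I → ℂ, 0 ≤ (hfc N v v).re)
    (m : I → ℤ) (hm : qf N m = 1) (hdiv : ∀ i i', (p : ℤ) ∣ splitMat N m i i')
    (a : X → I → ℤ) (lam : I → ℂ) (hlam : ∀ i, lam i ^ (p ^ j) = 1)
    (hsum : ∀ k ∈ (Finset.range (p ^ j)).filter (fun k => Nat.Coprime k (p ^ j)),
      ∑ χ, hfc N (vk a lam χ k) (vk a lam χ k) = ((p ^ d * l : ℕ) : ℂ))
    (hpos : ∀ k ∈ (Finset.range (p ^ j)).filter (fun k => Nat.Coprime k (p ^ j)),
      ∀ χ, hfc N (vk a lam χ k) (vk a lam χ k) ≠ 0)
    (hpars : ∀ k ∈ (Finset.range (p ^ j)).filter (fun k => Nat.Coprime k (p ^ j)),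
      ∑ χ, ‖∑ i, vk a lam χ k i * (alphaVec N m i : ℂ)‖ ^ 2 ≤ (p : ℝ) ^ d)
    (ht : X → ℕ) (ψ₀ : X)
    (hne : ∀ χ' χ, ht χ' = 0 →
      ∀ k ∈ (Finset.range (p ^ j)).filter (fun k => Nat.Coprime k (p ^ j)),
        hfc N (vk a lam χ' k) (vk a lam χ k) ≠ 0)
    (hval : ∀ χ, ∀ k ∈ (Finset.range (p ^ j)).filter (fun k => Nat.Coprime k (p ^ j)),
      MemLocalRing M (hfc N (vk a lam ψ₀ k) (vk a lam χ k) / ((p ^ ht χ : ℕ) : ℂ)))
    (hunit : ∀ k ∈ (Finset.range (p ^ j)).filter (fun k => Nat.Coprime k (p ^ j)),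
      ¬ MemLocalIdeal M (hfc N (vk a lam ψ₀ k) (vk a lam ψ₀ k))) :
    Fintype.card X ≤ p ^ d := by
  classical
  haveI hMp : M.IsPrime := hM.2.1.isPrime
  have hp : p.Prime := hM.1
  obtain ⟨n, hn⟩ : ∃ n : ℕ, n = p ^ j := ⟨_, rfl⟩
  rw [← hn] at hlam hsum hpos hpars hne hval hunit
  have hnpos : 0 < n := by rw [hn]; exact pow_pos hp.pos j
  obtain ⟨J, hJ⟩ : ∃ J : Finset ℕ,
      J = (Finset.range n).filter (fun k => Nat.Coprime k n) := ⟨_, rfl⟩
  rw [← hJ] at hsum hpos hpars hne hval hunit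
  have hJpos : 0 < J.card := by
    rw [hJ]
    exact card_filter_coprime_pos hnpos
  have hJcop : ∀ k ∈ J, Nat.Coprime k n := by
    intro k hk
    rw [hJ] at hk
    exact (Finset.mem_filter.1 hk).2
  obtain ⟨k0, hk0⟩ : ∃ k0, k0 ∈ J := Finset.card_pos.1 hJpos
  obtain ⟨N'', hsymm'', hP'', hsplit⟩ := exists_split hsymm hP hm hp.pos hdiv
  obtain ⟨α, hα⟩ : ∃ α : I → ℤ, α = alphaVec N m := ⟨_, rfl⟩
  rw [← hα] at hsplit hpars
  -- the weights
  obtain ⟨w, hw⟩ : ∃ w : X → I → ℤ, w = fun χ i => a χ i * α i := ⟨_, rfl⟩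
  obtain ⟨w2, hw2⟩ : ∃ w2 : X → I × I → ℤ,
      w2 = fun χ x => a χ x.1 * a χ x.2 * N'' x.1 x.2 := ⟨_, rfl⟩
  obtain ⟨μ2, hμ2def⟩ : ∃ μ2 : I × I → ℂ, μ2 = fun x => lam x.1 * conj (lam x.2) := ⟨_, rfl⟩
  have hμ2 : ∀ x, μ2 x ^ n = 1 := by
    intro x
    rw [hμ2def]
    simp only
    rw [mul_pow, hlam, conj_pow_eq_one (hlam x.2), one_mul]
  obtain ⟨S, hS⟩ : ∃ S : X → ℕ → ℂ, S = fun χ k => ∑ i, (w χ i : ℂ) * lam i ^ k := ⟨_, rfl⟩
  obtain ⟨Wf, hWf⟩ : ∃ Wf : X → ℕ → ℂ, Wf = fun χ k => ∑ x, (w2 χ x : ℂ) * μ2 x ^ k := ⟨_, rfl⟩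
  have hSeq : ∀ χ k, ∑ i, vk a lam χ k i * (α i : ℂ) = S χ k := by
    intro χ k
    rw [hS, hw]
    simp only
    apply Finset.sum_congr rfl
    intro i _
    unfold vk
    push_cast
    ring
  have hWeq : ∀ χ k, hfc N'' (vk a lam χ k) (vk a lam χ k) = Wf χ k := by
    intro χ k
    rw [hWf, hw2, hμ2def]
    simp only
    unfold vk
    exact hfc_pow_eq_weighted N'' (a χ) (a χ) lam k
  have hQ : ∀ χ ψ k, hfc N (vk a lam χ k) (vk a lam ψ k) =
      S χ k * conj (S ψ k) + (p : ℂ) * hfc N'' (vk a lam χ k) (vk a lam ψ k) := by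
    intro χ ψ k
    rw [hsplit, hSeq, hSeq]
  -- realness
  have hWreal : ∀ χ k, Wf χ k = ((Wf χ k).re : ℂ) := by
    intro χ k
    rw [← hWeq]
    apply Complex.ext
    · simp
    · rw [hfc_self_im hsymm'']
      simp
  have hWnn : ∀ χ k, 0 ≤ (Wf χ k).re := by
    intro χ k
    rw [← hWeq]
    exact hP'' _
  have hQre : ∀ χ k, (hfc N (vk a lam χ k) (vk a lam χ k)).re =
      ‖S χ k‖ ^ 2 + (p : ℝ) * (Wf χ k).re := by
    intro χ k
    have e1 : (S χ k * conj (S χ k)).re = ‖S χ k‖ ^ 2 := by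
      rw [Complex.mul_conj, Complex.normSq_eq_norm_sq]
      exact Complex.ofReal_re _
    have e2 : ((p : ℂ) * Wf χ k).re = (p : ℝ) * (Wf χ k).re := by
      rw [Complex.mul_re]
      simp
    rw [hQ, hWeq, Complex.add_re, e1, e2]
  -- the total
  have htotal : ∑ χ, ∑ k ∈ J, (hfc N (vk a lam χ k) (vk a lam χ k)).re =
      (J.card : ℝ) * ((p ^ d * l : ℕ) : ℝ) := by
    rw [Finset.sum_comm]
    have h1 : ∀ k ∈ J, ∑ χ, (hfc N (vk a lam χ k) (vk a lam χ k)).re = ((p ^ d * l : ℕ) : ℝ) := by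
      intro k hk
      rw [← Complex.re_sum, hsum k hk]
      exact Complex.natCast_re _
    rw [Finset.sum_congr rfl h1, Finset.sum_const, nsmul_eq_mul]
  have hl' : ((p ^ d * l : ℕ) : ℝ) ≤ 2 * (p : ℝ) ^ d := by
    have : p ^ d * l ≤ 2 * p ^ d := by
      calc p ^ d * l ≤ p ^ d * 2 := Nat.mul_le_mul_left _ hl
        _ = 2 * p ^ d := mul_comm _ _
    have h2 : ((p ^ d * l : ℕ) : ℝ) ≤ ((2 * p ^ d : ℕ) : ℝ) := by exact_mod_cast this
    refine h2.trans (le_of_eq ?_)
    push_cast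
    ring
  have hJR : (0 : ℝ) < (J.card : ℝ) := by exact_mod_cast hJpos
  -- final step from a per character bound
  have hfinish : (∀ χ, 2 * (J.card : ℝ) ≤ ∑ k ∈ J, (hfc N (vk a lam χ k) (vk a lam χ k)).re) →
      Fintype.card X ≤ p ^ d := by
    intro hper
    have h1 : (Fintype.card X : ℝ) * (2 * (J.card : ℝ)) ≤
        ∑ χ, ∑ k ∈ J, (hfc N (vk a lam χ k) (vk a lam χ k)).re := by
      have := Finset.card_nsmul_le_sum (Finset.univ : Finset X)
        (fun χ => ∑ k ∈ J, (hfc N (vk a lam χ k) (vk a lam χ k)).re) (2 * (J.card : ℝ))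
        (fun χ _ => hper χ)
      rw [nsmul_eq_mul, Finset.card_univ] at this
      exact this
    rw [htotal] at h1
    have h2 : (J.card : ℝ) * (2 * (Fintype.card X : ℝ)) ≤ (J.card : ℝ) * (2 * (p : ℝ) ^ d) := by
      calc (J.card : ℝ) * (2 * (Fintype.card X : ℝ)) =
            (Fintype.card X : ℝ) * (2 * (J.card : ℝ)) := by ring
        _ ≤ (J.card : ℝ) * ((p ^ d * l : ℕ) : ℝ) := h1
        _ ≤ (J.card : ℝ) * (2 * (p : ℝ) ^ d) := mul_le_mul_of_nonneg_left hl' hJR.le
    have h3 := le_of_mul_le_mul_left h2 hJR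
    have h4 : (Fintype.card X : ℝ) ≤ ((p ^ d : ℕ) : ℝ) := by
      push_cast
      linarith
    exact_mod_cast h4
  -- Galois transfer of vanishing
  have hSvan : ∀ χ, S χ 1 = 0 → ∀ k, Nat.Coprime k n → S χ k = 0 := by
    intro χ h1 k hk
    rw [hS] at h1 ⊢
    simp only at h1 ⊢
    exact sum_weighted_pow_eq_zero hnpos (w χ) lam hlam (Nat.coprime_one_left n) hk h1
  have hSvan' : ∀ χ k, Nat.Coprime k n → S χ k = 0 → S χ 1 = 0 := by
    intro χ k hk h1
    rw [hS] at h1 ⊢
    simp only at h1 ⊢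
    exact sum_weighted_pow_eq_zero hnpos (w χ) lam hlam hk (Nat.coprime_one_left n) h1
  have hWvan : ∀ χ, Wf χ 1 = 0 → ∀ k, Nat.Coprime k n → Wf χ k = 0 := by
    intro χ h1 k hk
    rw [hWf] at h1 ⊢
    simp only at h1 ⊢
    exact sum_weighted_pow_eq_zero hnpos (w2 χ) μ2 hμ2 (Nat.coprime_one_left n) hk h1
  have hWvan' : ∀ χ k, Nat.Coprime k n → Wf χ k = 0 → Wf χ 1 = 0 := by
    intro χ k hk h1
    rw [hWf] at h1 ⊢
    simp only at h1 ⊢
    exact sum_weighted_pow_eq_zero hnpos (w2 χ) μ2 hμ2 hk (Nat.coprime_one_left n) h1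
  by_cases hcase : ∀ χ, S χ 1 ≠ 0
  · -- subcase (i)
    have hper : ∀ χ, (J.card : ℝ) ≤ ∑ k ∈ J, ‖S χ k‖ ^ 2 := by
      intro χ
      have h1 : (∑ i, (w χ i : ℂ) * lam i) ≠ 0 := by
        have := hcase χ
        rw [hS] at this
        simpa using this
      have h2 := Cfsg.Agent.Helper23.card_le_sum_normSq_weighted hnpos (w χ) lam hlam h1
      rw [← hJ] at h2
      rw [hS]
      exact h2
    have h1 : (Fintype.card X : ℝ) * (J.card : ℝ) ≤ ∑ χ, ∑ k ∈ J, ‖S χ k‖ ^ 2 := by
      have := Finset.card_nsmul_le_sum (Finset.univ : Finset X)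
        (fun χ => ∑ k ∈ J, ‖S χ k‖ ^ 2) (J.card : ℝ) (fun χ _ => hper χ)
      rw [nsmul_eq_mul, Finset.card_univ] at this
      exact this
    rw [Finset.sum_comm] at h1
    have h2 : ∑ k ∈ J, ∑ χ, ‖S χ k‖ ^ 2 ≤ (J.card : ℝ) * (p : ℝ) ^ d := by
      have : ∀ k ∈ J, ∑ χ, ‖S χ k‖ ^ 2 ≤ (p : ℝ) ^ d := by
        intro k hk
        have := hpars k hk
        simp only [hSeq] at this
        exact this
      have h3 := Finset.sum_le_sum this
      rw [Finset.sum_const, nsmul_eq_mul] at h3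
      exact h3
    have h3 : (J.card : ℝ) * (Fintype.card X : ℝ) ≤ (J.card : ℝ) * (p : ℝ) ^ d := by
      calc (J.card : ℝ) * (Fintype.card X : ℝ) = (Fintype.card X : ℝ) * (J.card : ℝ) := by ring
        _ ≤ _ := h1.trans h2
    have h4 := le_of_mul_le_mul_left h3 hJR
    have h5 : (Fintype.card X : ℝ) ≤ ((p ^ d : ℕ) : ℝ) := by
      push_cast
      exact h4
    exact_mod_cast h5
  · -- subcase (ii)
    push Not at hcase
    obtain ⟨χ1, hχ1⟩ := hcase
    have hS1 : ∀ k ∈ J, S χ1 k = 0 := fun k hk => hSvan χ1 hχ1 k (hJcop k hk)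
    apply hfinish
    intro χ
    by_cases hW1 : Wf χ 1 = 0
    · -- the second part vanishes
      have hWk : ∀ k ∈ J, Wf χ k = 0 := fun k hk => hWvan χ hW1 k (hJcop k hk)
      have hortho : ∀ k ∈ J, ∀ ψ, hfc N'' (vk a lam ψ k) (vk a lam χ k) = 0 := by
        intro k hk ψ
        apply hfc_eq_zero_of_self_eq_zero hsymm'' hP''
        rw [hWeq]
        exact hWk k hk
      have hcross : ∀ k ∈ J, ∀ ψ, hfc N (vk a lam ψ k) (vk a lam χ k) = S ψ k * conj (S χ k) := by
        intro k hk ψ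
        rw [hQ, hortho k hk ψ, mul_zero, add_zero]
      have hS1ne : S χ 1 ≠ 0 := by
        intro h0
        have h1 := hSvan χ h0 k0 (hJcop k0 hk0)
        apply hpos k0 hk0 χ
        rw [hQ, h1, hWeq, hWk k0 hk0]
        simp
      by_cases hh : ht χ = 0
      · exfalso
        apply hne χ χ1 hh k0 hk0
        rw [hQ, hS1 k0 hk0, hfc_conj_symm hsymm'' (vk a lam χ1 k0) (vk a lam χ k0),
          hortho k0 hk0 χ1]
        simp
      · have hh1 : 1 ≤ ht χ := Nat.one_le_iff_ne_zero.2 hh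
        -- the local ring facts
        have hlamR : ∀ i, MemLocalRing M (lam i) := fun i => memLocalRing_of_pow_eq_one hnpos (hlam i)
        have hlamcR : ∀ i, MemLocalRing M (conj (lam i)) :=
          fun i => memLocalRing_of_pow_eq_one hnpos (conj_pow_eq_one (hlam i))
        have hSR : ∀ ψ k, MemLocalRing M (S ψ k) := by
          intro ψ k
          rw [hS]
          exact memLocalRing_sum _ _ (fun i _ =>
            memLocalRing_mul (memLocalRing_intCast _) (memLocalRing_pow (hlamR i) k))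
        have hconjS : ∀ ψ k, conj (S ψ k) = ∑ i, (w ψ i : ℂ) * (conj (lam i)) ^ k := by
          intro ψ k
          rw [hS]
          simp only
          rw [map_sum]
          apply Finset.sum_congr rfl
          intro i _
          rw [map_mul, map_pow, map_intCast]
        have hScR : ∀ ψ k, MemLocalRing M (conj (S ψ k)) := by
          intro ψ k
          rw [hconjS]
          exact memLocalRing_sum _ _ (fun i _ =>
            memLocalRing_mul (memLocalRing_intCast _) (memLocalRing_pow (hlamcR i) k))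
        have hWR : ∀ ψ k, MemLocalRing M (Wf ψ k) := by
          intro ψ k
          rw [hWf, hμ2def]
          exact memLocalRing_sum _ _ (fun x _ =>
            memLocalRing_mul (memLocalRing_intCast _)
              (memLocalRing_pow (memLocalRing_mul (hlamR x.1) (hlamcR x.2)) k))
        have hloc : ∀ k ∈ J, MemLocalRing M
            ((∑ i, (w χ i : ℂ) * (conj (lam i)) ^ k) / ((p ^ ht χ : ℕ) : ℂ)) := by
          intro k hk
          rw [← hconjS]
          have hu := hunit k hk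
          rw [hQ, hWeq] at hu
          have hu2 : ¬ MemLocalIdeal M (S ψ₀ k * conj (S ψ₀ k)) := by
            intro h
            apply hu
            exact memLocalIdeal_add h
              (memLocalIdeal_mul_right (memLocalIdeal_prime hM) (hWR ψ₀ k))
          have hu3 : ¬ MemLocalIdeal M (S ψ₀ k) := by
            intro h
            exact hu2 (memLocalIdeal_mul_right h (hScR ψ₀ k))
          have hinv := memLocalRing_inv (hSR ψ₀ k) hu3
          have hS0 : S ψ₀ k ≠ 0 := by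
            intro h0
            apply hu3
            rw [h0]
            exact memLocalIdeal_zero ne_top
          have hv := hval χ k hk
          rw [hcross k hk ψ₀] at hv
          have : conj (S χ k) / ((p ^ ht χ : ℕ) : ℂ) =
              (S ψ₀ k)⁻¹ * (S ψ₀ k * conj (S χ k) / ((p ^ ht χ : ℕ) : ℂ)) := by
            field_simp
          rw [this]
          exact memLocalRing_mul hinv hv
        have hne' : (∑ i, (w χ i : ℂ) * conj (lam i)) ≠ 0 := by
          intro h0
          apply hS1ne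
          have h1 := hconjS χ 1
          simp only [pow_one] at h1
          rw [h0] at h1
          have h2 := congrArg (starRingEnd ℂ) h1
          rwa [Complex.conj_conj, map_zero] at h2
        have hkey := card_mul_pow_le_sum_norm_weighted hM hnpos (w χ) (fun i => conj (lam i))
          (fun i => conj_pow_eq_one (hlam i)) (ht χ) (by rw [← hJ]; exact hloc) hne'
        rw [← hJ] at hkey
        have hnorm : ∀ k, ‖∑ i, (w χ i : ℂ) * (conj (lam i)) ^ k‖ = ‖S χ k‖ := by
          intro k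
          rw [← hconjS, Complex.norm_conj]
        rw [Finset.sum_congr rfl (fun k _ => hnorm k)] at hkey
        have hcs := sq_sum_le_card_mul_sum_sq (s := J) (f := fun k => ‖S χ k‖)
        have hpow : (2 : ℝ) ≤ (p : ℝ) ^ ht χ := by
          have h2 : (2 : ℝ) ≤ (p : ℝ) := by exact_mod_cast hp.two_le
          calc (2 : ℝ) ≤ (p : ℝ) ^ 1 := by rw [pow_one]; exact h2
            _ ≤ (p : ℝ) ^ ht χ := pow_le_pow_right₀ (by linarith) hh1
        have hsumS : ∑ k ∈ J, (hfc N (vk a lam χ k) (vk a lam χ k)).re = ∑ k ∈ J, ‖S χ k‖ ^ 2 := by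
          apply Finset.sum_congr rfl
          intro k hk
          rw [hQre, hWk k hk, Complex.zero_re, mul_zero, add_zero]
        rw [hsumS]
        have hA : ((J.card : ℝ) * (p : ℝ) ^ ht χ) ^ 2 ≤ (J.card : ℝ) * ∑ k ∈ J, ‖S χ k‖ ^ 2 := by
          calc ((J.card : ℝ) * (p : ℝ) ^ ht χ) ^ 2 ≤ (∑ k ∈ J, ‖S χ k‖) ^ 2 := by
                apply pow_le_pow_left₀ _ hkey
                exact mul_nonneg hJR.le (pow_nonneg (Nat.cast_nonneg p) _)
            _ ≤ _ := hcs
        have hB : (J.card : ℝ) * ((J.card : ℝ) * ((p : ℝ) ^ ht χ) ^ 2) ≤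
            (J.card : ℝ) * ∑ k ∈ J, ‖S χ k‖ ^ 2 := by
          calc (J.card : ℝ) * ((J.card : ℝ) * ((p : ℝ) ^ ht χ) ^ 2) =
                ((J.card : ℝ) * (p : ℝ) ^ ht χ) ^ 2 := by ring
            _ ≤ _ := hA
        have hC := le_of_mul_le_mul_left hB hJR
        have hD : (2 : ℝ) ≤ ((p : ℝ) ^ ht χ) ^ 2 := by nlinarith
        calc 2 * (J.card : ℝ) ≤ (J.card : ℝ) * ((p : ℝ) ^ ht χ) ^ 2 := by nlinarith
          _ ≤ _ := hC
    · -- the second part does not vanish
      have hWk : ∀ k ∈ J, Wf χ k ≠ 0 := fun k hk h0 => hW1 (hWvan' χ k (hJcop k hk) h0)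
      have hrpos : ∀ k ∈ J, 0 < (Wf χ k).re := by
        intro k hk
        rcases (hWnn χ k).lt_or_eq with h | h
        · exact h
        · exfalso
          apply hWk k hk
          rw [hWreal χ k, ← h]
          simp
      have hkey := card_le_sum_of_weighted_pos hnpos (w2 χ) μ2 hμ2 (fun k => (Wf χ k).re)
        (by
          intro k _
          have := hWreal χ k
          rw [hWf] at this
          simp only at this
          rw [hWf]
          exact this)
        (by rw [← hJ]; exact hrpos)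
      rw [← hJ] at hkey
      have hp2 : (2 : ℝ) ≤ (p : ℝ) := by exact_mod_cast hp.two_le
      calc 2 * (J.card : ℝ) ≤ 2 * ∑ k ∈ J, (Wf χ k).re := by linarith
        _ = ∑ k ∈ J, 2 * (Wf χ k).re := by rw [Finset.mul_sum]
        _ ≤ ∑ k ∈ J, (hfc N (vk a lam χ k) (vk a lam χ k)).re := by
            apply Finset.sum_le_sum
            intro k hk
            rw [hQre]
            have h1 := hrpos k hk
            have h2 : 0 ≤ ‖S χ k‖ ^ 2 := sq_nonneg _
            nlinarith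

end CountB

end Cfsg.Agent.Helper18.MajorTwo
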