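import Mathlib
import Cfsg.Agent.Lib.Helper18.MajorTwo6
import Cfsg.Agent.Lib.Helper23.BlockContrib3
import Cfsg.Agent.Lib.Helper23.BlockBrauer

/-!
# The reduced Cartan-type matrix of a block as a positive semidefinite form
(helper18's shared library)
-/

set_option autoImplicit false
set_option linter.unusedSectionVars false
set_option linter.style.haveILetI false

namespace Cfsg.Agent.Helper18.MajorTwo

open scoped ComplexConjugate
open Cfsg Cfsg.Agent.Helper23.Blk Cfsg.Agent.Helper24

universe u

section NRedForm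

variable {K : Type u} [Group K] [Fintype K] {M : Ideal AlgInt} {p : ℕ} [Fact p.Prime]
  [Fintype (IrrCharacter K)]

/-- the combination of the characters of a block with given coefficients -/
noncomputable def blockComb (b : Set (IrrCharacter K)) (v : IrrCharacter K → ℂ) : K → ℂ := by
  classical
  exact ∑ ξ : IrrCharacter K, (if ξ ∈ b then v ξ else 0) • (ξ : K → ℂ)

theorem isClassFunction_blockComb (b : Set (IrrCharacter K)) (v : IrrCharacter K → ℂ) :
    IsClassFunction K (blockComb b v) := by
  classical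
  intro g h
  unfold blockComb
  rw [Finset.sum_apply, Finset.sum_apply]
  apply Finset.sum_congr rfl
  intro ξ _
  rw [Pi.smul_apply, Pi.smul_apply, isClassFunction_of_isIrrCharacter ξ.2 g h]

/-- the key entry identity -/
theorem pow_mul_ite_mul_classInner (hM : IsPModular p M) {b : Set (IrrCharacter K)}
    (hb : IsPBlock M b) [DecidablePred (· ∈ b)] (x : ℂ) (ξ ξ' : IrrCharacter K) :
    ((p ^ blockDefect p b : ℕ) : ℂ) * ((if ξ ∈ b then x else 0) *
      classInner (pRegularPart p (ξ : K → ℂ)) (ξ' : K → ℂ)) = x * (nRed p b ξ ξ' : ℂ) := by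
  by_cases hξ : ξ ∈ b
  · rw [if_pos hξ, nRed_spec hM hb (Or.inl hξ)]
    ring
  · rw [if_neg hξ, nRed_of_not_mem b (fun h => hξ h.1)]
    simp

/-- **the form of `nRed` is a Gram form** -/
theorem hfc_nRed_eq (hM : IsPModular p M) {b : Set (IrrCharacter K)} (hb : IsPBlock M b)
    (v w : IrrCharacter K → ℂ) :
    hfc (nRed p b) v w = ((p ^ blockDefect p b : ℕ) : ℂ) *
      classInner (pRegularPart p (blockComb b v)) (blockComb b w) := by
  classical
  unfold blockComb hfc
  rw [pRegularPart_sum, classInner_sum_left, Finset.mul_sum]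
  apply Finset.sum_congr rfl
  intro ξ _
  rw [pRegularPart_smul, classInner_smul_left, classInner_sum_right, Finset.mul_sum,
    Finset.mul_sum]
  apply Finset.sum_congr rfl
  intro ξ' _
  rw [classInner_smul_right]
  by_cases hξ' : ξ' ∈ b
  · rw [if_pos hξ']
    have := pow_mul_ite_mul_classInner hM hb (v ξ) ξ ξ'
    calc v ξ * conj (w ξ') * (nRed p b ξ ξ' : ℂ) = conj (w ξ') * (v ξ * (nRed p b ξ ξ' : ℂ)) := by
          ring
      _ = conj (w ξ') * (((p ^ blockDefect p b : ℕ) : ℂ) * ((if ξ ∈ b then v ξ else 0) *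
            classInner (pRegularPart p (ξ : K → ℂ)) (ξ' : K → ℂ))) := by rw [this]
      _ = _ := by ring
  · rw [if_neg hξ', nRed_of_not_mem b (fun h => hξ' h.2)]
    simp

theorem hfc_nRed_self_re_nonneg (hM : IsPModular p M) {b : Set (IrrCharacter K)}
    (hb : IsPBlock M b) (v : IrrCharacter K → ℂ) : 0 ≤ (hfc (nRed p b) v v).re := by
  have hp : p.Prime := hM.1
  rw [hfc_nRed_eq hM hb, classInner_pRegularPart_self]
  have h1 : (((p ^ blockDefect p b : ℕ) : ℂ) * ((pNorm p (blockComb b v) : ℝ) : ℂ)).re =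
      ((p ^ blockDefect p b : ℕ) : ℝ) * pNorm p (blockComb b v) := by
    rw [Complex.mul_re, Complex.natCast_re, Complex.natCast_im, Complex.ofReal_re, zero_mul,
      sub_zero]
  rw [h1]
  exact mul_nonneg (Nat.cast_nonneg _) (pNorm_nonneg _)

set_option maxHeartbeats 1600000 in
/-- the matrix `nRed` has rank one modulo the local ideal, hence splits at every vector of norm
one -/
theorem dvd_splitMat_nRed (hM : IsPModular p M) {b : Set (IrrCharacter K)} (hb : IsPBlock M b)
    {m : IrrCharacter K → ℤ} (hm : qf (nRed p b) m = 1) (ξ ξ' : IrrCharacter K) :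
    (p : ℤ) ∣ splitMat (nRed p b) m ξ ξ' := by
  classical
  haveI hMp : M.IsPrime := hM.2.1.isPrime
  obtain ⟨ξs, hξs⟩ := block_nonempty hM hb
  apply dvd_splitMat hM (nRed_symm b)
    (fun ξ => omega (ξs : K → ℂ) (conjReg p (ξ : K → ℂ)))
    (fun ξ' => if ξ' ∈ b then rhoFac p b ξ' else 0) _ _ _ hm
  · intro ξ
    exact memLocalRing_omega ξs
      (isClassFunction_conjReg (isClassFunction_of_isIrrCharacter ξ.2))
      (memLocalRing_conjReg (isCharacter_of_isIrrCharacter ξ.2))
  · intro ξ'
    by_cases hξ' : ξ' ∈ b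
    · rw [if_pos hξ']
      exact (rhoFac_local hM hξ').1
    · rw [if_neg hξ']
      exact memLocalRing_zero ne_top
  · intro ξ ξ'
    by_cases hξ' : ξ' ∈ b
    · rw [if_pos hξ', nRed_eq_rhoFac_mul hM hb hξ']
      have : rhoFac p b ξ' * omega (ξ' : K → ℂ) (conjReg p (ξ : K → ℂ)) -
          omega (ξs : K → ℂ) (conjReg p (ξ : K → ℂ)) * rhoFac p b ξ' =
          rhoFac p b ξ' * (omega (ξ' : K → ℂ) (conjReg p (ξ : K → ℂ)) -
            omega (ξs : K → ℂ) (conjReg p (ξ : K → ℂ))) := by ring
      rw [this]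
      exact memLocalIdeal_mul_left (rhoFac_local hM hξ').1
        (memLocalIdeal_omega_sub (sameBlock_of_mem hb hξ' hξs)
          (isClassFunction_conjReg (isClassFunction_of_isIrrCharacter ξ.2))
          (memLocalRing_conjReg (isCharacter_of_isIrrCharacter ξ.2)))
    · rw [if_neg hξ', nRed_of_not_mem b (fun h => hξ' h.2)]
      simp only [Int.cast_zero, mul_zero, sub_zero]
      exact memLocalIdeal_zero ne_top

end NRedForm

end Cfsg.Agent.Helper18.MajorTwo
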