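import Mathlib
import Cfsg.Agent.Lib.Helper18.MajorTwo7
import Cfsg.Agent.Lib.Helper23.BlockMajorCount

/-!
# Parseval on a section for a combination of truncated characters (helper18's shared library)
-/

set_option autoImplicit false
set_option linter.unusedSectionVars false
set_option linter.style.haveILetI false

namespace Cfsg.Agent.Helper18.MajorTwo

open scoped ComplexConjugate
open Cfsg Cfsg.Agent.Helper23.Blk Cfsg.Agent.Helper24

universe u

section Parseval

variable {G : Type u} [Group G] [Fintype G] {M : Ideal AlgInt} {p : ℕ}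

set_option maxHeartbeats 1600000 in
/-- **Parseval on a section**: a class function of the centralizer of the `p`-element `z`
vanishing off the `p`-regular elements has the same norm as its family of inner products with the
translates of the irreducible characters of `G` -/
theorem section_parseval (hp : p.Prime) {z : G} (hz : ∃ k : ℕ, orderOf z = p ^ k)
    [Fintype (Subgroup.centralizer ({z} : Set G))] [Fintype (IrrCharacter G)]
    [Fintype (IrrCharacter (Subgroup.centralizer ({z} : Set G)))]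
    {f : Subgroup.centralizer ({z} : Set G) → ℂ}
    (hf : IsClassFunction (Subgroup.centralizer ({z} : Set G)) f)
    (hf0 : ∀ y : Subgroup.centralizer ({z} : Set G), p ∣ orderOf y → f y = 0) :
    ∑ ψ : IrrCharacter G,
      classInner f (fun c : Subgroup.centralizer ({z} : Set G) => (ψ : G → ℂ) (z * (c : G))) *
      conj (classInner f
        (fun c : Subgroup.centralizer ({z} : Set G) => (ψ : G → ℂ) (z * (c : G)))) =
      classInner f f := by
  classical
  rw [classInner_eq_sum_mul hf f]
  unfold classInner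
  rw [sum_inner_mul_conj (Nat.card (Subgroup.centralizer ({z} : Set G)) : ℂ)⁻¹ f
      (fun (ψ : IrrCharacter G) (c : Subgroup.centralizer ({z} : Set G)) =>
        (ψ : G → ℂ) (z * (c : G))),
    sum_inner_mul_conj (Nat.card (Subgroup.centralizer ({z} : Set G)) : ℂ)⁻¹ f
      (fun (ξ : IrrCharacter (Subgroup.centralizer ({z} : Set G))) =>
        (ξ : Subgroup.centralizer ({z} : Set G) → ℂ))]
  congr 1
  apply Finset.sum_congr rfl
  intro s _
  apply Finset.sum_congr rfl
  intro t _
  by_cases hs : p ∣ orderOf s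
  · rw [hf0 s hs, zero_mul, zero_mul, zero_mul]
  by_cases ht : p ∣ orderOf t
  · rw [hf0 t ht, map_zero, mul_zero, zero_mul, zero_mul]
  congr 1
  exact second_orthogonality_section hp hz t s ht hs

end Parseval

section Ident

variable {G : Type u} [Group G] [Fintype G] {M : Ideal AlgInt} {p : ℕ} [Fact p.Prime]

set_option maxHeartbeats 3200000 in
/-- **Parseval for the rank one part**: the sum over all irreducible characters of `G` of the
squared norms of `∑_ξ a_{ψξ} λ_ξ (N m)_ξ` is `p^d q(m)` -/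
theorem sum_normSq_alpha (hM : IsPModular p M) {z' : G} (hz' : ∃ k : ℕ, orderOf z' = p ^ k)
    (H : Subgroup G) [Fintype H] (hH : H = Subgroup.centralizer ({z'} : Set G))
    [Fintype (IrrCharacter G)] [Fintype (IrrCharacter H)]
    {e : Set (IrrCharacter H)} (he : IsPBlock M e) {Z : H} (hZ : Z ∈ Subgroup.center H)
    (hZz : (Z : G) = z') (a : IrrCharacter G → IrrCharacter H → ℤ)
    (ha : ∀ (ψ : IrrCharacter G) (ξ : IrrCharacter H),
      classInner (fun c : H => (ψ : G → ℂ) (c : G)) (ξ : H → ℂ) = (a ψ ξ : ℂ))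
    (m : IrrCharacter H → ℤ) :
    ∑ ψ : IrrCharacter G, ‖∑ ξ : IrrCharacter H, ((a ψ ξ : ℂ) * cRatio (ξ : H → ℂ) Z) *
        (alphaVec (nRed p e) m ξ : ℂ)‖ ^ 2 =
      ((p ^ blockDefect p e : ℕ) : ℝ) * ((qf (nRed p e) m : ℤ) : ℝ) := by
  classical
  haveI hMp : M.IsPrime := hM.2.1.isPrime
  have hp : p.Prime := hM.1
  subst hH
  obtain ⟨mc, hmc⟩ : ∃ mc : IrrCharacter (Subgroup.centralizer ({z'} : Set G)) → ℂ,
      mc = fun ξ => (m ξ : ℂ) := ⟨_, rfl⟩
  obtain ⟨Xf, hXf⟩ : ∃ Xf : Subgroup.centralizer ({z'} : Set G) → ℂ,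
      Xf = pRegularPart p (blockComb e mc) := ⟨_, rfl⟩
  obtain ⟨F, hF⟩ : ∃ F : Subgroup.centralizer ({z'} : Set G) → ℂ,
      F = ((p ^ blockDefect p e : ℕ) : ℂ) • Xf := ⟨_, rfl⟩
  have hXcf : IsClassFunction (Subgroup.centralizer ({z'} : Set G)) Xf := by
    rw [hXf]
    exact isClassFunction_pRegularPart p (isClassFunction_blockComb e mc)
  have hFcf : IsClassFunction (Subgroup.centralizer ({z'} : Set G)) F := by
    intro g h
    rw [hF, Pi.smul_apply, Pi.smul_apply, hXcf g h]
  have hF0 : ∀ y : Subgroup.centralizer ({z'} : Set G), p ∣ orderOf y → F y = 0 := by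
    intro y hy
    rw [hF, Pi.smul_apply, hXf, pRegularPart_of_dvd p _ hy, smul_zero]
  have hpars := section_parseval hp hz' hFcf hF0
  -- the norm of `F`
  have hFF : classInner F F =
      (((p ^ blockDefect p e : ℕ) : ℝ) * ((qf (nRed p e) m : ℤ) : ℝ) : ℝ) := by
    rw [hF, classInner_smul_left, classInner_smul_right, Complex.conj_natCast, hXf,
      classInner_pRegularPart_pRegularPart, ← mul_assoc, mul_assoc,
      ← hfc_nRed_eq hM he mc mc, hmc, hfc_intCast_self]
    push_cast
    ring
  -- the inner products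
  have hinner : ∀ ψ : IrrCharacter G,
      classInner F (fun c : Subgroup.centralizer ({z'} : Set G) => (ψ : G → ℂ) (z' * (c : G))) =
      conj (∑ ξ : IrrCharacter (Subgroup.centralizer ({z'} : Set G)),
        ((a ψ ξ : ℂ) * cRatio (ξ : Subgroup.centralizer ({z'} : Set G) → ℂ) Z) *
          (alphaVec (nRed p e) m ξ : ℂ)) := by
    intro ψ
    have hθ : ∀ ξ : IrrCharacter (Subgroup.centralizer ({z'} : Set G)),
        classInner (fun c : Subgroup.centralizer ({z'} : Set G) => (ψ : G → ℂ) (z' * (c : G)))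
          (ξ : Subgroup.centralizer ({z'} : Set G) → ℂ) =
        (a ψ ξ : ℂ) * cRatio (ξ : Subgroup.centralizer ({z'} : Set G) → ℂ) Z := by
      intro ξ
      have := classInner_shift_central (Subgroup.centralizer ({z'} : Set G)) hZ (ψ : G → ℂ) ξ
      rw [hZz, ha ψ ξ] at this
      exact this
    rw [hF, classInner_smul_left, classInner_eq_sum_mul hXcf, Finset.mul_sum, map_sum]
    apply Finset.sum_congr rfl
    intro ξ _
    rw [hθ ξ, hXf]
    unfold blockComb
    rw [pRegularPart_sum, classInner_sum_left, Finset.sum_mul, Finset.mul_sum]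
    have hR : conj (((a ψ ξ : ℂ) * cRatio (ξ : Subgroup.centralizer ({z'} : Set G) → ℂ) Z) *
        (alphaVec (nRed p e) m ξ : ℂ)) =
        ∑ ξ' : IrrCharacter (Subgroup.centralizer ({z'} : Set G)),
          conj ((a ψ ξ : ℂ) * cRatio (ξ : Subgroup.centralizer ({z'} : Set G) → ℂ) Z) *
            ((nRed p e ξ ξ' : ℂ) * (m ξ' : ℂ)) := by
      rw [map_mul (starRingEnd ℂ) _ ((alphaVec (nRed p e) m ξ : ℤ) : ℂ), map_intCast]
      unfold alphaVec
      push_cast
      rw [Finset.mul_sum]
    rw [hR]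
    apply Finset.sum_congr rfl
    intro ξ' _
    rw [pRegularPart_smul, classInner_smul_left]
    have h1 := pow_mul_ite_mul_classInner hM he (mc ξ') ξ' ξ
    rw [nRed_symm e ξ ξ']
    calc ((p ^ blockDefect p e : ℕ) : ℂ) * ((if ξ' ∈ e then mc ξ' else 0) *
          classInner (pRegularPart p (ξ' : Subgroup.centralizer ({z'} : Set G) → ℂ))
            (ξ : Subgroup.centralizer ({z'} : Set G) → ℂ) *
          conj ((a ψ ξ : ℂ) * cRatio (ξ : Subgroup.centralizer ({z'} : Set G) → ℂ) Z))
        = (((p ^ blockDefect p e : ℕ) : ℂ) * ((if ξ' ∈ e then mc ξ' else 0) *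
          classInner (pRegularPart p (ξ' : Subgroup.centralizer ({z'} : Set G) → ℂ))
            (ξ : Subgroup.centralizer ({z'} : Set G) → ℂ))) *
          conj ((a ψ ξ : ℂ) * cRatio (ξ : Subgroup.centralizer ({z'} : Set G) → ℂ) Z) := by
          ring
      _ = (mc ξ' * (nRed p e ξ' ξ : ℂ)) *
          conj ((a ψ ξ : ℂ) * cRatio (ξ : Subgroup.centralizer ({z'} : Set G) → ℂ) Z) := by
          rw [h1]
      _ = _ := by
          rw [hmc]
          ring
  -- assemble
  have hsq : ∀ ψ : IrrCharacter G,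
      ((‖∑ ξ : IrrCharacter (Subgroup.centralizer ({z'} : Set G)),
        ((a ψ ξ : ℂ) * cRatio (ξ : Subgroup.centralizer ({z'} : Set G) → ℂ) Z) *
          (alphaVec (nRed p e) m ξ : ℂ)‖ ^ 2 : ℝ) : ℂ) =
      classInner F (fun c : Subgroup.centralizer ({z'} : Set G) => (ψ : G → ℂ) (z' * (c : G))) *
        conj (classInner F
          (fun c : Subgroup.centralizer ({z'} : Set G) => (ψ : G → ℂ) (z' * (c : G)))) := by
    intro ψ
    rw [hinner ψ, Complex.conj_conj, mul_comm, Complex.mul_conj']
    push_cast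
    rfl
  have hfinal : ((∑ ψ : IrrCharacter G,
      ‖∑ ξ : IrrCharacter (Subgroup.centralizer ({z'} : Set G)),
        ((a ψ ξ : ℂ) * cRatio (ξ : Subgroup.centralizer ({z'} : Set G) → ℂ) Z) *
          (alphaVec (nRed p e) m ξ : ℂ)‖ ^ 2 : ℝ) : ℂ) =
      (((p ^ blockDefect p e : ℕ) : ℝ) * ((qf (nRed p e) m : ℤ) : ℝ) : ℝ) := by
    rw [Complex.ofReal_sum, Finset.sum_congr rfl (fun ψ _ => hsq ψ), hpars, hFF]
  exact_mod_cast hfinal

end Ident

end Cfsg.Agent.Helper18.MajorTwo
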