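import Mathlib
import Cfsg.Agent.Lib.Helper18.MajorTwo8

/-!
# `k(B) ≤ p^d` for a major subsection of rank at most two (helper18's shared library)
-/

set_option autoImplicit false
set_option linter.unusedSectionVars false
set_option linter.style.haveILetI false

namespace Cfsg.Agent.Helper18.MajorTwo

open scoped ComplexConjugate
open Cfsg Cfsg.Agent.Helper23.Blk Cfsg.Agent.Helper24

universe u

section Main

variable {G : Type u} [Group G] [Fintype G] {M : Ideal AlgInt} {p : ℕ}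

set_option maxHeartbeats 6400000 in
/-- **`k(B) ≤ p^d` for a major subsection `(z, b)` with `l(b) ≤ 2`** -/
theorem card_le_pow_of_rank_le_two (hM : IsPModular p M) [Fact p.Prime] {z : G}
    (hz : ∃ k : ℕ, orderOf z = p ^ k) (H : Subgroup G) [Fintype H]
    (hH : H = Subgroup.centralizer ({z} : Set G)) {B : Set (IrrCharacter G)}
    {e : Set (IrrCharacter H)} (hind : IsInducedBlock M H e B)
    (hdef : blockDefect p e = blockDefect p B) (hl : blockRank p e ≤ 2) :
    Nat.card B ≤ p ^ blockDefect p B := by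
  classical
  letI : Fintype (IrrCharacter G) := irrFintype
  letI : Fintype (IrrCharacter H) := irrFintype
  haveI hMp : M.IsPrime := hM.2.1.isPrime
  have hp : p.Prime := hM.1
  have hB : IsPBlock M B := hind.2.1
  have he : IsPBlock M e := hind.1
  obtain ⟨ψ₀, hψ₀, hh⟩ := exists_height_zero hM hB
  have hzH : z ∈ H := by
    rw [hH]
    exact self_mem_centralizer_singleton z
  obtain ⟨Y, hY⟩ : ∃ Y : H, Y = ⟨z, hzH⟩ := ⟨_, rfl⟩
  have hYz : (Y : G) = z := by rw [hY]
  have hYc : Y ∈ Subgroup.center H := by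
    rw [Subgroup.mem_center_iff]
    intro c
    apply Subtype.ext
    push_cast
    rw [hYz]
    have hc : (c : G) ∈ Subgroup.centralizer ({z} : Set G) := hH ▸ c.2
    exact (Subgroup.mem_centralizer_iff.1 hc z rfl).symm
  have hYn : orderOf Y = orderOf z := by
    rw [← Subgroup.orderOf_coe, hYz]
  obtain ⟨j, hj⟩ := hz
  obtain ⟨J, hJ⟩ : ∃ J : Finset ℕ,
      J = (Finset.range (p ^ j)).filter (fun k => Nat.Coprime k (p ^ j)) := ⟨_, rfl⟩
  have hJcop : ∀ k ∈ J, Nat.Coprime k (orderOf z) := by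
    intro k hk
    rw [hJ] at hk
    rw [hj]
    exact (Finset.mem_filter.1 hk).2
  -- facts about the conjugate subsections
  have hHk : ∀ k ∈ J, H = Subgroup.centralizer ({z ^ k} : Set G) := by
    intro k hk
    rw [hH, centralizer_singleton_pow_of_coprime (hJcop k hk)]
  have hzk : ∀ k ∈ J, ∃ i : ℕ, orderOf (z ^ k) = p ^ i := by
    intro k hk
    rw [Nat.Coprime.orderOf_pow (hJcop k hk).symm]
    exact ⟨j, hj⟩
  have hYk : ∀ k : ℕ, (((Y ^ k : H)) : G) = z ^ k := by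
    intro k
    push_cast
    rw [hYz]
  -- the multiplicities
  have hdecomp : ∀ φ : IrrCharacter G, ∃ m : IrrCharacter H → ℕ,
      ∀ ξ : IrrCharacter H,
        classInner (fun c : H => (φ : G → ℂ) (c : G)) (ξ : H → ℂ) = m ξ := by
    intro φ
    obtain ⟨hm, -⟩ := isCharacter_decomp
      (isCharacter_restrict H (isCharacter_of_isIrrCharacter φ.2))
    choose m hm using hm
    exact ⟨m, hm⟩
  choose a ha using hdecomp
  obtain ⟨aZ, haZdef⟩ : ∃ aZ : IrrCharacter G → IrrCharacter H → ℤ,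
      aZ = fun (χ : IrrCharacter G) (ξ : IrrCharacter H) => (a χ ξ : ℤ) := ⟨_, rfl⟩
  have haZ : ∀ (ψ : IrrCharacter G) (ξ : IrrCharacter H),
      classInner (fun c : H => (ψ : G → ℂ) (c : G)) (ξ : H → ℂ) = (aZ ψ ξ : ℂ) := by
    intro ψ ξ
    rw [ha ψ ξ, haZdef]
    push_cast
    rfl
  obtain ⟨lam, hlamdef⟩ : ∃ lam : IrrCharacter H → ℂ,
      lam = fun ξ : IrrCharacter H => cRatio (ξ : H → ℂ) Y := ⟨_, rfl⟩
  have hlam : ∀ ξ, lam ξ ^ (p ^ j) = 1 := by
    intro ξ
    rw [hlamdef, ← hj, ← hYn]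
    exact cRatio_pow_orderOf ξ.2 hYc
  obtain ⟨N, hN⟩ : ∃ N : IrrCharacter H → IrrCharacter H → ℤ, N = nRed p e := ⟨_, rfl⟩
  -- the contributions as values of the form
  have hcontrib : ∀ (k : ℕ) (χ ψ : IrrCharacter G),
      ((p ^ blockDefect p e : ℕ) : ℂ) * contrib p H (z ^ k) e (χ : G → ℂ) (ψ : G → ℂ) =
      hfc N (vk aZ lam χ k) (vk aZ lam ψ k) := by
    intro k χ ψ
    have h1 := contrib_eq_sum hM H he (Subgroup.pow_mem _ hYc k) (a χ) (a ψ) (ha χ) (ha ψ)
    rw [hYk k] at h1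
    rw [h1, hN]
    unfold hfc vk
    apply Finset.sum_congr rfl
    intro ξ _
    apply Finset.sum_congr rfl
    intro ξ' _
    rw [cRatio_pow ξ.2 hYc, cRatio_pow ξ'.2 hYc, hlamdef, haZdef, map_mul, map_pow, map_intCast]
    push_cast
    ring
  -- the subtype of the block
  obtain ⟨a', ha'⟩ : ∃ a' : B → IrrCharacter H → ℤ, a' = fun (χ : B) (ξ : IrrCharacter H) => aZ χ.1 ξ := ⟨_, rfl⟩
  have hvk : ∀ (χ : B) (k : ℕ), vk a' lam χ k = vk aZ lam χ.1 k := by
    intro χ k
    rw [ha']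
    rfl
  have hcardB : Nat.card B = Fintype.card B := Nat.card_eq_fintype_card
  have hp0 : ((p ^ blockDefect p e : ℕ) : ℂ) ≠ 0 := by
    exact_mod_cast (pow_pos hp.pos _).ne'
  -- the sum over the block
  have hsum : ∀ k ∈ J, ∑ χ : B, hfc N (vk a' lam χ k) (vk a' lam χ k) =
      ((p ^ blockDefect p e * blockRank p e : ℕ) : ℂ) := by
    intro k hk
    have h1 := sum_contrib_self hM (hzk k hk) H (hHk k hk) hind
    rw [← Finset.sum_filter] at h1
    rw [Finset.sum_subtype (p := fun χ : IrrCharacter G => χ ∈ B)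
      (Finset.univ.filter (· ∈ B)) (by simp)
      (fun χ : IrrCharacter G => contrib p H (z ^ k) e (χ : G → ℂ) (χ : G → ℂ))] at h1
    push_cast
    rw [← h1, Finset.mul_sum]
    apply Finset.sum_congr rfl
    intro χ _
    rw [hvk, ← hcontrib]
    push_cast
    rfl
  -- positivity
  have hposA : ∀ k ∈ J, ∀ χ : B, ∃ r : ℝ, 0 < r ∧
      hfc N (vk a' lam χ k) (vk a' lam χ k) = (r : ℂ) := by
    intro k hk χ
    refine ⟨((p ^ blockDefect p e : ℕ) : ℝ) *
      pNorm p (etaPart H (z ^ k) e ((χ : IrrCharacter G) : G → ℂ)), ?_, ?_⟩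
    · apply mul_pos
      · exact_mod_cast pow_pos hp.pos _
      · have h1 := normSq_contrib_le hM (hzk k hk) H (hHk k hk) he
          ((χ : IrrCharacter G) : G → ℂ) ψ₀
        have h2 := contrib_ne_zero_of_major hM (hzk k hk) H (hHk k hk) hind hdef hψ₀ χ.2 hh
        have h3 : contrib p H (z ^ k) e ((χ : IrrCharacter G) : G → ℂ) (ψ₀ : G → ℂ) ≠ 0 := by
          rw [contrib_conj_symm]
          intro h0
          apply h2
          have := congrArg (starRingEnd ℂ) h0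
          rwa [Complex.conj_conj, map_zero] at this
        have h4 : 0 < ‖contrib p H (z ^ k) e ((χ : IrrCharacter G) : G → ℂ) (ψ₀ : G → ℂ)‖ ^ 2 :=
          pow_pos (norm_pos_iff.2 h3) 2
        linarith
    · rw [hvk, ← hcontrib, contrib_self_eq_pNorm]
      push_cast
      rfl
  have hpos : ∀ k ∈ J, ∀ χ : B, hfc N (vk a' lam χ k) (vk a' lam χ k) ≠ 0 := by
    intro k hk χ
    obtain ⟨r, hr0, hr⟩ := hposA k hk χ
    rw [hr]
    exact_mod_cast hr0.ne'
  have hP : ∀ v : IrrCharacter H → ℂ, 0 ≤ (hfc N v v).re := by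
    intro v
    rw [hN]
    exact hfc_nRed_self_re_nonneg hM he v
  rw [hcardB, ← hdef]
  by_cases hrep : ∃ m : IrrCharacter H → ℤ, qf N m = 1
  · -- the form represents one
    obtain ⟨m, hm⟩ := hrep
    have hdiv : ∀ ξ ξ', (p : ℤ) ∣ splitMat N m ξ ξ' := by
      intro ξ ξ'
      rw [hN]
      rw [hN] at hm
      exact dvd_splitMat_nRed hM he hm ξ ξ'
    have hsymm : ∀ ξ ξ', N ξ ξ' = N ξ' ξ := by
      intro ξ ξ'
      rw [hN]
      exact nRed_symm e ξ ξ'
    have hpars : ∀ k ∈ J, ∑ χ : B, ‖∑ ξ, vk a' lam χ k ξ * (alphaVec N m ξ : ℂ)‖ ^ 2 ≤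
        (p : ℝ) ^ blockDefect p e := by
      intro k hk
      have h1 := sum_normSq_alpha hM (hzk k hk) H (hHk k hk) he (Subgroup.pow_mem _ hYc k)
        (hYk k) aZ haZ m
      rw [← hN, hm] at h1
      have h2 : ∑ χ : B, ‖∑ ξ, vk a' lam χ k ξ * (alphaVec N m ξ : ℂ)‖ ^ 2 ≤
          ∑ ψ : IrrCharacter G, ‖∑ ξ : IrrCharacter H,
            ((aZ ψ ξ : ℂ) * cRatio (ξ : H → ℂ) (Y ^ k)) * (alphaVec N m ξ : ℂ)‖ ^ 2 := by
        have e1 : ∀ χ : B, ‖∑ ξ, vk a' lam χ k ξ * (alphaVec N m ξ : ℂ)‖ ^ 2 =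
            (fun ψ : IrrCharacter G => ‖∑ ξ : IrrCharacter H,
              ((aZ ψ ξ : ℂ) * cRatio (ξ : H → ℂ) (Y ^ k)) * (alphaVec N m ξ : ℂ)‖ ^ 2) χ.1 := by
          intro χ
          simp only
          congr 2
          apply Finset.sum_congr rfl
          intro ξ _
          rw [hvk, cRatio_pow ξ.2 hYc, hlamdef]
          rfl
        rw [Finset.sum_congr rfl (fun χ _ => e1 χ),
          ← Finset.sum_subtype (Finset.univ.filter (· ∈ B)) (by simp)
            (fun ψ : IrrCharacter G => ‖∑ ξ : IrrCharacter H,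
              ((aZ ψ ξ : ℂ) * cRatio (ξ : H → ℂ) (Y ^ k)) * (alphaVec N m ξ : ℂ)‖ ^ 2)]
        exact Finset.sum_le_sum_of_subset_of_nonneg (Finset.filter_subset _ _)
          (fun i _ _ => sq_nonneg _)
      refine h2.trans (le_of_eq ?_)
      rw [h1]
      push_cast
      ring
    obtain ⟨ht, hht⟩ : ∃ ht : B → ℕ, ht = fun χ : B => blockHeight p B ((χ : IrrCharacter G) : G → ℂ) :=
      ⟨_, rfl⟩
    have hne : ∀ χ' χ : B, ht χ' = 0 → ∀ k ∈ J,
        hfc N (vk a' lam χ' k) (vk a' lam χ k) ≠ 0 := by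
      intro χ' χ h0 k hk
      rw [hht] at h0
      rw [hvk, hvk, ← hcontrib]
      exact mul_ne_zero hp0
        (contrib_ne_zero_of_major hM (hzk k hk) H (hHk k hk) hind hdef χ'.2 χ.2 h0)
    have hval : ∀ χ : B, ∀ k ∈ J, MemLocalRing M
        (hfc N (vk a' lam ⟨ψ₀, hψ₀⟩ k) (vk a' lam χ k) / ((p ^ ht χ : ℕ) : ℂ)) := by
      intro χ k hk
      have h1 := (pow_mul_contrib_div_pow_height hM (hzk k hk) H (hHk k hk) hind hdef hψ₀ χ.2
        hh).1
      rw [hvk, hvk, ← hcontrib, hht, hdef]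
      exact h1
    have hunit : ∀ k ∈ J, ¬ MemLocalIdeal M
        (hfc N (vk a' lam ⟨ψ₀, hψ₀⟩ k) (vk a' lam ⟨ψ₀, hψ₀⟩ k)) := by
      intro k hk
      have h1 := (pow_mul_contrib_div_pow_height hM (hzk k hk) H (hHk k hk) hind hdef hψ₀ hψ₀
        hh).2
      rw [hh, pow_zero, Nat.cast_one, div_one, ← hdef] at h1
      rw [hvk, ← hcontrib]
      exact h1
    rw [hJ] at hsum hpos hpars hne hval hunit
    exact card_le_caseB hM hl N hsymm hP m hm hdiv a' lam hlam hsum hpos hpars ht ⟨ψ₀, hψ₀⟩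
      hne hval hunit
  · -- the form does not represent one
    push Not at hrep
    rw [hJ] at hsum hposA
    exact card_le_caseA hp hl N (qf_nonneg_of_hfc hP) hrep a' lam hlam hsum hposA

end Main

end Cfsg.Agent.Helper18.MajorTwo
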