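import Mathlib

set_option autoImplicit false

/-!
Definitions for Marggraf's theorem (S3620): concrete multiple transitivity `T`
and the concrete Jordan property `IsJordan`.
-/

namespace Cfsg.Agent.Helper18.Marg

/-- `T G Ω t`: the pointwise stabiliser of every set of fewer than `t` points is transitive
on the remaining points (equivalent to `t`-fold transitivity). -/
def T (G Ω : Type*) [Group G] [MulAction G Ω] (t : ℕ) : Prop :=
  ∀ X : Finset Ω, X.card < t → ∀ a b : Ω, a ∉ X → b ∉ X →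
    ∃ g : G, (∀ x ∈ X, g • x = x) ∧ g • a = b

/-- Concrete Jordan property: the elements of `G` fixing every point outside `Γ`
act transitively on `Γ`. -/
def IsJordan (G : Type*) {Ω : Type*} [Group G] [MulAction G Ω] (Γ : Finset Ω) : Prop :=
  ∀ x ∈ Γ, ∀ y ∈ Γ, ∃ g : G, (∀ z ∉ Γ, g • z = z) ∧ g • x = y

theorem T_mono {G Ω : Type*} [Group G] [MulAction G Ω] {s t : ℕ} (hst : s ≤ t)
    (hT : T G Ω t) : T G Ω s :=
  fun X hX a b ha hb => hT X (lt_of_lt_of_le hX hst) a b ha hb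

/-- the translate `g • Γ` is again a Jordan set; membership `x ∈ g • Γ` is written
`g⁻¹ • x ∈ Γ`. -/
theorem IsJordan.translate {G Ω : Type*} [Group G] [MulAction G Ω] {Γ : Finset Ω}
    (hJ : IsJordan G Γ) (g : G) {x y : Ω} (hx : g⁻¹ • x ∈ Γ) (hy : g⁻¹ • y ∈ Γ) :
    ∃ k : G, (∀ z, g⁻¹ • z ∉ Γ → k • z = z) ∧ k • x = y := by
  obtain ⟨k0, hk0fix, hk0⟩ := hJ _ hx _ hy
  refine ⟨g * k0 * g⁻¹, ?_, ?_⟩
  · intro z hz
    rw [mul_smul, mul_smul, hk0fix _ hz, smul_inv_smul]
  · rw [mul_smul, mul_smul, hk0, smul_inv_smul]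

end Cfsg.Agent.Helper18.Marg
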