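import Mathlib
import Cfsg.Agent.Lib.Helper18.MargDefs

set_option autoImplicit false
set_option linter.unusedSectionVars false

/-!
Counting translates of a set `Γ` through / off prescribed points (for S3620).
-/

namespace Cfsg.Agent.Helper18.Marg

open Finset

section count
variable {G Ω : Type*} [Group G] [Fintype G] [MulAction G Ω] [Fintype Ω] [DecidableEq Ω]

/-- the set of `g` such that the translate `g • Γ` contains `I` and misses `J` -/
noncomputable def NS (G : Type*) {Ω : Type*} [Group G] [Fintype G] [MulAction G Ω]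
    [DecidableEq Ω] (Γ I J : Finset Ω) : Finset G :=
  Finset.univ.filter fun g : G => (∀ x ∈ I, g⁻¹ • x ∈ Γ) ∧ (∀ x ∈ J, g⁻¹ • x ∉ Γ)

/-- the number of such `g` -/
noncomputable def N (G : Type*) {Ω : Type*} [Group G] [Fintype G] [MulAction G Ω]
    [DecidableEq Ω] (Γ I J : Finset Ω) : ℕ := (NS G Γ I J).card

theorem mem_NS {Γ I J : Finset Ω} {g : G} :
    g ∈ NS G Γ I J ↔ (∀ x ∈ I, g⁻¹ • x ∈ Γ) ∧ (∀ x ∈ J, g⁻¹ • x ∉ Γ) := by
  unfold NS
  simp

theorem N_pos_iff {Γ I J : Finset Ω} :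
    0 < N G Γ I J ↔ ∃ g : G, (∀ x ∈ I, g⁻¹ • x ∈ Γ) ∧ (∀ x ∈ J, g⁻¹ • x ∉ Γ) := by
  unfold N
  rw [Finset.card_pos]
  constructor
  · rintro ⟨g, hg⟩
    exact ⟨g, mem_NS.mp hg⟩
  · rintro ⟨g, hg⟩
    exact ⟨g, mem_NS.mpr hg⟩

/-- transport along an element of `G` -/
theorem N_map (Γ : Finset Ω) (h : G) {I J I' J' : Finset Ω}
    (hI : ∀ x, x ∈ I' ↔ h⁻¹ • x ∈ I) (hJ : ∀ x, x ∈ J' ↔ h⁻¹ • x ∈ J) :
    N G Γ I' J' = N G Γ I J := by
  unfold N
  symm
  apply Finset.card_equiv (Equiv.mulLeft h)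
  intro g
  rw [mem_NS, mem_NS]
  simp only [Equiv.coe_mulLeft, mul_inv_rev, mul_smul]
  constructor
  · rintro ⟨h1, h2⟩
    refine ⟨fun x hx => h1 _ ((hI x).mp hx), fun x hx => h2 _ ((hJ x).mp hx)⟩
  · rintro ⟨h1, h2⟩
    refine ⟨fun x hx => ?_, fun x hx => ?_⟩
    · have := h1 (h • x) ((hI _).mpr (by rwa [inv_smul_smul]))
      rwa [inv_smul_smul] at this
    · have := h2 (h • x) ((hJ _).mpr (by rwa [inv_smul_smul]))
      rwa [inv_smul_smul] at this

/-- splitting according to whether `x` lies in the translate -/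
theorem N_split (Γ I J : Finset Ω) (x : Ω) :
    N G Γ I J = N G Γ (insert x I) J + N G Γ I (insert x J) := by
  unfold N
  have h1 : NS G Γ (insert x I) J = (NS G Γ I J).filter (fun g => g⁻¹ • x ∈ Γ) := by
    ext g
    simp only [mem_NS, Finset.mem_filter, Finset.forall_mem_insert]
    tauto
  have h2 : NS G Γ I (insert x J) = (NS G Γ I J).filter (fun g => ¬ g⁻¹ • x ∈ Γ) := by
    ext g
    simp only [mem_NS, Finset.mem_filter, Finset.forall_mem_insert]
    tauto
  rw [h1, h2, Finset.card_filter_add_card_filter_not]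

theorem NS_insert_left (Γ I J : Finset Ω) (x : Ω) :
    NS G Γ (insert x I) J = (NS G Γ I J).filter (fun g => g⁻¹ • x ∈ Γ) := by
  ext g
  simp only [mem_NS, Finset.mem_filter, Finset.forall_mem_insert]
  tauto

/-- double counting: points of the translate outside `I` -/
theorem N_sum (Γ I J : Finset Ω) :
    ∑ x ∈ (I ∪ J)ᶜ, N G Γ (insert x I) J = (Γ.card - I.card) * N G Γ I J := by
  have h := Finset.sum_card_bipartiteAbove_eq_sum_card_bipartiteBelow
    (s := (I ∪ J)ᶜ) (t := NS G Γ I J) (r := fun (x : Ω) (g : G) => g⁻¹ • x ∈ Γ)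
  have hL : ∀ x ∈ (I ∪ J)ᶜ,
      ((NS G Γ I J).bipartiteAbove (fun (x : Ω) (g : G) => g⁻¹ • x ∈ Γ) x).card
        = N G Γ (insert x I) J := by
    intro x _
    unfold N Finset.bipartiteAbove
    rw [NS_insert_left]
  have hR : ∀ g ∈ NS G Γ I J,
      (((I ∪ J)ᶜ).bipartiteBelow (fun (x : Ω) (g : G) => g⁻¹ • x ∈ Γ) g).card
        = Γ.card - I.card := by
    intro g hg
    rw [mem_NS] at hg
    have hset : ((I ∪ J)ᶜ).bipartiteBelow (fun (x : Ω) (g : G) => g⁻¹ • x ∈ Γ) g
        = (Γ.image (fun y => g • y)) \ I := by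
      ext x
      simp only [Finset.mem_bipartiteBelow, Finset.mem_compl, Finset.mem_union, not_or,
        Finset.mem_sdiff, Finset.mem_image]
      constructor
      · rintro ⟨⟨hxI, _⟩, hx⟩
        exact ⟨⟨g⁻¹ • x, hx, smul_inv_smul g x⟩, hxI⟩
      · rintro ⟨⟨y, hy, rfl⟩, hxI⟩
        refine ⟨⟨hxI, fun hxJ => ?_⟩, by rwa [inv_smul_smul]⟩
        apply hg.2 _ hxJ
        rwa [inv_smul_smul]
    rw [hset, Finset.card_sdiff_of_subset, Finset.card_image_of_injective _ (MulAction.injective g)]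
    intro x hx
    rw [Finset.mem_image]
    exact ⟨g⁻¹ • x, hg.1 x hx, smul_inv_smul g x⟩
  rw [Finset.sum_congr rfl hL, Finset.sum_congr rfl hR, Finset.sum_const, smul_eq_mul] at h
  rw [h, mul_comm]
  rfl


/-- exchange of a point of `I` under `T` -/
theorem N_exch_left {t : ℕ} (hT : T G Ω t) (Γ I J : Finset Ω) (hc : I.card + J.card < t)
    {x x' : Ω} (hx : x ∉ I ∪ J) (hx' : x' ∉ I ∪ J) :
    N G Γ (insert x' I) J = N G Γ (insert x I) J := by
  have hcard : (I ∪ J).card < t := lt_of_le_of_lt (Finset.card_union_le I J) hc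
  obtain ⟨h, hfix, hxx⟩ := hT (I ∪ J) hcard x x' hx hx'
  have hfix' : ∀ y ∈ I ∪ J, h⁻¹ • y = y := fun y hy => by
    rw [inv_smul_eq_iff, hfix y hy]
  have hmem : ∀ (S : Finset Ω), S ⊆ I ∪ J → ∀ y, (y ∈ S ↔ h⁻¹ • y ∈ S) := by
    intro S hS y
    constructor
    · intro hy
      rwa [hfix' y (hS hy)]
    · intro hy
      have h1 : h • (h⁻¹ • y) = h⁻¹ • y := hfix _ (hS hy)
      rw [smul_inv_smul] at h1
      rwa [← h1] at hy
  apply N_map Γ h
  · intro y
    rw [Finset.mem_insert, Finset.mem_insert, ← hmem I Finset.subset_union_left y]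
    constructor
    · rintro (rfl | hy)
      · left; rw [inv_smul_eq_iff, hxx]
      · right; exact hy
    · rintro (hy | hy)
      · left; rw [inv_smul_eq_iff] at hy; rw [hy, hxx]
      · right; exact hy
  · intro y
    exact hmem J Finset.subset_union_right y

/-- exchange of a point of `J` under `T` -/
theorem N_exch_right {t : ℕ} (hT : T G Ω t) (Γ I J : Finset Ω) (hc : I.card + J.card < t)
    {x x' : Ω} (hx : x ∉ I ∪ J) (hx' : x' ∉ I ∪ J) :
    N G Γ I (insert x' J) = N G Γ I (insert x J) := by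
  have h1 := N_split (G := G) Γ I J x
  have h2 := N_split (G := G) Γ I J x'
  have h3 := N_exch_left hT Γ I J hc hx hx'
  omega

theorem card_compl_union (I J : Finset Ω) (hIJ : Disjoint I J) :
    ((I ∪ J)ᶜ).card = Fintype.card Ω - I.card - J.card := by
  rw [Finset.card_compl, Finset.card_union_of_disjoint hIJ]
  omega

/-- (C4), left form -/
theorem N_rel_left {t : ℕ} (hT : T G Ω t) (Γ I J : Finset Ω) (hIJ : Disjoint I J)
    (hc : I.card + J.card < t) {x : Ω} (hx : x ∉ I ∪ J) :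
    (Fintype.card Ω - I.card - J.card) * N G Γ (insert x I) J
      = (Γ.card - I.card) * N G Γ I J := by
  rw [← N_sum (G := G) Γ I J, ← card_compl_union I J hIJ]
  rw [Finset.sum_congr rfl (fun y hy => N_exch_left hT Γ I J hc hx (Finset.mem_compl.mp hy)),
    Finset.sum_const, smul_eq_mul]

/-- (C4), right form -/
theorem N_rel_right {t : ℕ} (hT : T G Ω t) (Γ I J : Finset Ω) (hIJ : Disjoint I J)
    (hc : I.card + J.card < t) {x : Ω} (hx : x ∉ I ∪ J) (hpos : I.card ≤ Γ.card)
    (hJm : J.card + Γ.card ≤ Fintype.card Ω) :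
    (Fintype.card Ω - I.card - J.card) * N G Γ I (insert x J)
      = (Fintype.card Ω - Γ.card - J.card) * N G Γ I J := by
  have h1 := N_split (G := G) Γ I J x
  have h2 := N_rel_left hT Γ I J hIJ hc hx
  have hsub : Fintype.card Ω - I.card - J.card
      = (Fintype.card Ω - Γ.card - J.card) + (Γ.card - I.card) := by omega
  have h3 : (Fintype.card Ω - I.card - J.card) * N G Γ I J
      = (Fintype.card Ω - I.card - J.card) * N G Γ (insert x I) J
        + (Fintype.card Ω - I.card - J.card) * N G Γ I (insert x J) := by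
    rw [h1]; ring
  rw [h2] at h3
  have h4 : (Fintype.card Ω - I.card - J.card) * N G Γ I J
      = (Fintype.card Ω - Γ.card - J.card) * N G Γ I J + (Γ.card - I.card) * N G Γ I J := by
    rw [hsub]; ring
  omega

end count

end Cfsg.Agent.Helper18.Marg
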