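import Mathlib
import Cfsg.Agent.Lib.Helper18.MargCount

set_option autoImplicit false
set_option linter.unusedSectionVars false

/-!
The two counting lemmas CA and CB for S3620.
-/

namespace Cfsg.Agent.Helper18.Marg

open Finset

section pos
variable {G Ω : Type*} [Group G] [Fintype G] [MulAction G Ω] [Fintype Ω] [DecidableEq Ω]

theorem N_empty_empty (Γ : Finset Ω) : N G Γ ∅ ∅ = Fintype.card G := by
  unfold N NS
  simp

theorem N_pos_insert_left {t : ℕ} (hT : T G Ω t) (Γ I J : Finset Ω) (hIJ : Disjoint I J)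
    (hc : I.card + J.card < t) {x : Ω} (hx : x ∉ I ∪ J) (hI : I.card < Γ.card)
    (hpos : 0 < N G Γ I J) : 0 < N G Γ (insert x I) J := by
  have h := N_rel_left hT Γ I J hIJ hc hx
  by_contra h0
  have h0' : N G Γ (insert x I) J = 0 := by omega
  rw [h0', mul_zero] at h
  have : 0 < (Γ.card - I.card) * N G Γ I J := Nat.mul_pos (by omega) hpos
  omega

theorem N_pos_insert_right {t : ℕ} (hT : T G Ω t) (Γ I J : Finset Ω) (hIJ : Disjoint I J)
    (hc : I.card + J.card < t) {x : Ω} (hx : x ∉ I ∪ J) (hI : I.card ≤ Γ.card)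
    (hJ : J.card + Γ.card < Fintype.card Ω)
    (hpos : 0 < N G Γ I J) : 0 < N G Γ I (insert x J) := by
  have h := N_rel_right hT Γ I J hIJ hc hx hI hJ.le
  by_contra h0
  have h0' : N G Γ I (insert x J) = 0 := by omega
  rw [h0', mul_zero] at h
  have : 0 < (Fintype.card Ω - Γ.card - J.card) * N G Γ I J := Nat.mul_pos (by omega) hpos
  omega

theorem N_pos_out {t : ℕ} (hT : T G Ω t) (Γ : Finset Ω) (J : Finset Ω) :
    J.card ≤ t → J.card + Γ.card ≤ Fintype.card Ω → 0 < N G Γ ∅ J := by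
  induction J using Finset.induction_on with
  | empty =>
    intro _ _
    rw [N_empty_empty]
    exact Fintype.card_pos
  | insert x J hx ih =>
    intro h1 h2
    rw [Finset.card_insert_of_notMem hx] at h1 h2
    apply N_pos_insert_right hT Γ ∅ J (Finset.disjoint_empty_left J) (by simp; omega)
      (by simpa using hx) (by simp) (by omega)
    exact ih (by omega) (by omega)

theorem N_pos_one {t : ℕ} (hT : T G Ω t) (Γ : Finset Ω) (J : Finset Ω) (α : Ω) (hα : α ∉ J)
    (hJ : J.card < t) (hJn : J.card + Γ.card ≤ Fintype.card Ω) (hm : 1 ≤ Γ.card) :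
    0 < N G Γ {α} J := by
  have h := N_pos_insert_left hT Γ ∅ J (Finset.disjoint_empty_left J) (by simpa using hJ)
    (x := α) (by simpa using hα) (by simpa using hm) (N_pos_out hT Γ J hJ.le hJn)
  simpa using h

theorem N_pos_two {t : ℕ} (hT : T G Ω t) (Γ : Finset Ω) (J : Finset Ω) (α β : Ω) (hα : α ∉ J)
    (hβ : β ∉ J) (hαβ : α ≠ β)
    (hJ : J.card + 1 < t) (hJn : J.card + Γ.card ≤ Fintype.card Ω) (hm : 2 ≤ Γ.card) :
    0 < N G Γ {α, β} J := by
  have h1 := N_pos_one hT Γ J β hβ (by omega) hJn (by omega)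
  have h := N_pos_insert_left hT Γ {β} J (by simpa using hβ)
    (by rw [Finset.card_singleton]; omega)
    (x := α) (by simp [hαβ, hα]) (by rw [Finset.card_singleton]; omega) h1
  exact h


/-- Lemma CA: a translate through `α` and some point of a large set `W`, missing `X`. -/
theorem CA {t : ℕ} (ht2 : 2 ≤ t) (hT : T G Ω t) (Γ : Finset Ω) (hm : 2 ≤ Γ.card)
    (hn : t + Γ.card ≤ Fintype.card Ω) (X : Finset Ω) (α : Ω) (W : Finset Ω)
    (hX : X.card = t - 1) (hα : α ∉ X) (hαW : α ∉ W) (hWX : Disjoint W X)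
    (hW : Γ.card - 1 ≤ W.card) :
    ∃ ω ∈ W, ∃ g : G, g⁻¹ • α ∈ Γ ∧ g⁻¹ • ω ∈ Γ ∧ ∀ x ∈ X, g⁻¹ • x ∉ Γ := by
  by_contra hcon
  push Not at hcon
  have hXne : X.Nonempty := by
    rw [← Finset.card_pos]; omega
  obtain ⟨β, hβX⟩ := hXne
  set X₀ := X.erase β with hX₀
  have hXins : insert β X₀ = X := Finset.insert_erase hβX
  have hβX₀ : β ∉ X₀ := Finset.notMem_erase β X
  have hX₀card : X₀.card = t - 2 := by
    rw [hX₀, Finset.card_erase_of_mem hβX, hX]; omega
  have hαβ : α ≠ β := fun e => hα (e ▸ hβX)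
  have hαX₀ : α ∉ X₀ := fun h => hα (Finset.mem_of_mem_erase h)
  have hβW : β ∉ W := fun h => (Finset.disjoint_left.mp hWX h) hβX
  -- positivity
  have hQ : 0 < N G Γ {α, β} X₀ :=
    N_pos_two hT Γ X₀ α β hαX₀ hβX₀ hαβ (by omega) (by omega) hm
  obtain ⟨g₀, hg₀⟩ := Finset.card_pos.mp hQ
  -- every point of W lies in the translate g₀ • Γ
  have hall : ∀ ω ∈ W, g₀⁻¹ • ω ∈ Γ := by
    intro ω hω
    have hωX : ω ∉ X := Finset.disjoint_left.mp hWX hω
    have hωα : ω ≠ α := fun e => hαW (e ▸ hω)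
    have hωβ : ω ≠ β := fun e => hβW (e ▸ hω)
    have hωX₀ : ω ∉ X₀ := fun h => hωX (Finset.mem_of_mem_erase h)
    have h0 : N G Γ (insert ω {α}) X = 0 := by
      by_contra hne
      have hpos : 0 < N G Γ (insert ω {α}) X := Nat.pos_of_ne_zero hne
      obtain ⟨g, hg1, hg2⟩ := N_pos_iff.mp hpos
      obtain ⟨x, hxX, hx⟩ := hcon ω hω g (hg1 α (by simp)) (hg1 ω (by simp))
      exact hg2 x hxX hx
    have h1 := N_split (G := G) Γ (insert ω {α}) X₀ β
    rw [hXins, h0, add_zero] at h1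
    have h2 : N G Γ (insert ω {α}) X₀ = N G Γ (insert β {α}) X₀ := by
      apply N_exch_left hT Γ {α} X₀ (by rw [Finset.card_singleton, hX₀card]; omega)
      · simp [hαβ.symm, hβX₀]
      · simp [hωα, hωX₀]
    have hsub : NS G Γ (insert β (insert ω {α})) X₀ ⊆ NS G Γ (insert β {α}) X₀ := by
      intro g hg
      rw [mem_NS] at hg ⊢
      refine ⟨fun x hx => hg.1 x ?_, hg.2⟩
      simp only [Finset.mem_insert, Finset.mem_singleton] at hx ⊢
      tauto
    have hcard : (NS G Γ (insert β {α}) X₀).card ≤ (NS G Γ (insert β (insert ω {α})) X₀).card := by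
      have : N G Γ (insert β {α}) X₀ = N G Γ (insert β (insert ω {α})) X₀ := by
        rw [← h1, h2]
      exact this.le
    have heq := Finset.eq_of_subset_of_card_le hsub hcard
    have hg₀' : g₀ ∈ NS G Γ (insert β {α}) X₀ := by
      have : ({α, β} : Finset Ω) = insert β {α} := by
        ext y; simp only [Finset.mem_insert, Finset.mem_singleton]; tauto
      rw [← this]; exact hg₀
    rw [← heq, mem_NS] at hg₀'
    exact hg₀'.1 ω (by simp)
  have hg₀m := (mem_NS.mp hg₀).1
  have hα' : g₀⁻¹ • α ∈ Γ := hg₀m α (by simp)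
  have hβ' : g₀⁻¹ • β ∈ Γ := hg₀m β (by simp)
  -- so Γ has at least |W| + 2 points
  have hsub : (insert α (insert β W)).image (fun y => g₀⁻¹ • y) ⊆ Γ := by
    intro y hy
    rw [Finset.mem_image] at hy
    obtain ⟨z, hz, rfl⟩ := hy
    simp only [Finset.mem_insert] at hz
    rcases hz with rfl | rfl | hz
    · exact hα'
    · exact hβ'
    · exact hall z hz
  have hcard := Finset.card_le_card hsub
  rw [Finset.card_image_of_injective _ (MulAction.injective g₀⁻¹),
    Finset.card_insert_of_notMem (by simp [hαβ, hαW]), Finset.card_insert_of_notMem hβW] at hcard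
  omega

end pos

section seq
variable {Ω : Type*} [DecidableEq Ω]

/-- `α` together with the first `j` points of the sequence -/
def Iq (α : Ω) (q : ℕ → Ω) (j : ℕ) : Finset Ω := insert α ((Finset.range j).image q)

/-- the points `q j, …, q (t-1)` -/
def Rq (q : ℕ → Ω) (t j : ℕ) : Finset Ω := (Finset.Ico j t).image q

theorem mem_Iq {α : Ω} {q : ℕ → Ω} {j : ℕ} {x : Ω} :
    x ∈ Iq α q j ↔ x = α ∨ ∃ i < j, q i = x := by
  unfold Iq
  simp

theorem mem_Rq {q : ℕ → Ω} {t j : ℕ} {x : Ω} :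
    x ∈ Rq q t j ↔ ∃ i, j ≤ i ∧ i < t ∧ q i = x := by
  unfold Rq
  simp only [Finset.mem_image, Finset.mem_Ico]
  constructor
  · rintro ⟨i, ⟨h1, h2⟩, h3⟩; exact ⟨i, h1, h2, h3⟩
  · rintro ⟨i, h1, h2, h3⟩; exact ⟨i, ⟨h1, h2⟩, h3⟩

theorem Iq_succ (α : Ω) (q : ℕ → Ω) (j : ℕ) : Iq α q (j + 1) = insert (q j) (Iq α q j) := by
  ext x
  simp only [mem_Iq, Finset.mem_insert]
  constructor
  · rintro (h | ⟨i, hi, rfl⟩)
    · right; left; exact h
    · rcases Nat.lt_succ_iff_lt_or_eq.mp hi with h | rfl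
      · right; right; exact ⟨i, h, rfl⟩
      · left; rfl
  · rintro (rfl | h | ⟨i, hi, rfl⟩)
    · right; exact ⟨j, Nat.lt_succ_self j, rfl⟩
    · left; exact h
    · right; exact ⟨i, Nat.lt_succ_of_lt hi, rfl⟩

theorem Rq_of_lt (q : ℕ → Ω) {t j : ℕ} (hj : j < t) :
    Rq q t j = insert (q j) (Rq q t (j + 1)) := by
  ext x
  simp only [mem_Rq, Finset.mem_insert]
  constructor
  · rintro ⟨i, h1, h2, rfl⟩
    rcases Nat.eq_or_lt_of_le h1 with rfl | h
    · left; rfl
    · right; exact ⟨i, h, h2, rfl⟩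
  · rintro (rfl | ⟨i, h1, h2, rfl⟩)
    · exact ⟨j, le_refl j, hj, rfl⟩
    · exact ⟨i, by omega, h2, rfl⟩

theorem Iq_zero (α : Ω) (q : ℕ → Ω) : Iq α q 0 = {α} := by
  unfold Iq; simp

theorem Rq_self (q : ℕ → Ω) (t : ℕ) : Rq q t t = ∅ := by
  unfold Rq; simp

variable {α : Ω} {q : ℕ → Ω} {t : ℕ}
  (hq : ∀ i < t, ∀ i' < t, q i = q i' → i = i') (hαq : ∀ i < t, q i ≠ α)
include hq hαq

theorem q_notMem_Iq {j k : ℕ} (hjk : j ≤ k) (hk : k < t) : q k ∉ Iq α q j := by
  rw [mem_Iq]
  rintro (h | ⟨i, hi, h⟩)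
  · exact hαq k hk h
  · have := hq i (by omega) k hk h
    omega

theorem q_notMem_Rq {j k : ℕ} (hjk : k < j) (hk : k < t) : q k ∉ Rq q t j := by
  rw [mem_Rq]
  rintro ⟨i, h1, h2, h⟩
  have := hq i h2 k hk h
  omega

theorem disjoint_Iq_Rq {j k : ℕ} (hjk : j ≤ k) : Disjoint (Iq α q j) (Rq q t k) := by
  rw [Finset.disjoint_left]
  intro x hx hx'
  rw [mem_Rq] at hx'
  obtain ⟨i, h1, h2, rfl⟩ := hx'
  exact q_notMem_Iq hq hαq (by omega) h2 hx

theorem card_Iq {j : ℕ} (hj : j ≤ t) : (Iq α q j).card = j + 1 := by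
  induction j with
  | zero => rw [Iq_zero]; simp
  | succ j ih =>
    rw [Iq_succ, Finset.card_insert_of_notMem (q_notMem_Iq hq hαq (le_refl j) (by omega)),
      ih (by omega)]

theorem card_Rq {j : ℕ} (hj : j ≤ t) : (Rq q t j).card = t - j := by
  obtain ⟨d, rfl⟩ : ∃ d, j = t - d := ⟨t - j, by omega⟩
  induction d with
  | zero => rw [Nat.sub_zero, Rq_self]; simp
  | succ d ih =>
    by_cases hd : d < t
    · have h1 : t - (d + 1) < t := by omega
      rw [Rq_of_lt q h1]
      have h2 : t - (d + 1) + 1 = t - d := by omega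
      rw [h2, Finset.card_insert_of_notMem, ih (by omega)]
      · omega
      · apply q_notMem_Rq hq hαq (by omega) h1
    · have h1 : t - (d + 1) = t - d := by omega
      rw [h1]; exact ih (by omega)

end seq

theorem descFactorial_lt_of_lt {a b k : ℕ} (hab : a < b) (hk1 : 1 ≤ k) (hkb : k ≤ b) :
    a.descFactorial k < b.descFactorial k := by
  obtain ⟨k, rfl⟩ : ∃ k', k = k' + 1 := ⟨k - 1, by omega⟩
  obtain ⟨b, rfl⟩ : ∃ b', b = b' + 1 := ⟨b - 1, by omega⟩
  have h1 : a.descFactorial (k + 1) ≤ b.descFactorial (k + 1) :=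
    Nat.descFactorial_le (k + 1) (by omega)
  have h2 : b.descFactorial (k + 1) < (b + 1).descFactorial (k + 1) := by
    rw [Nat.succ_descFactorial_succ, Nat.descFactorial_succ]
    have hpos : 0 < b.descFactorial k := by
      rw [Nat.pos_iff_ne_zero, Ne, Nat.descFactorial_eq_zero_iff_lt]
      omega
    apply Nat.mul_lt_mul_of_lt_of_le (by omega) (le_refl _) hpos
  omega

section CBseq
variable {G Ω : Type*} [Group G] [Fintype G] [MulAction G Ω] [Fintype Ω] [DecidableEq Ω]

/-- Lemma CB, sequence form. -/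
theorem CB_seq {t : ℕ} (ht2 : 2 ≤ t) (hT : T G Ω t) (Γ : Finset Ω) (htm : t + 1 ≤ Γ.card)
    (hn : 2 * Γ.card < Fintype.card Ω) (α : Ω) (q : ℕ → Ω)
    (hq : ∀ i < t, ∀ i' < t, q i = q i' → i = i') (hαq : ∀ i < t, q i ≠ α) :
    0 < N G Γ (Iq α q 0) (Rq q t 0) := by
  by_contra hf0
  have hf0 : N G Γ (Iq α q 0) (Rq q t 0) = 0 := by omega
  set m := Γ.card with hm
  obtain ⟨v, hv⟩ : ∃ v, Fintype.card Ω = m + t + v := ⟨Fintype.card Ω - m - t, by omega⟩
  have hv1 : m + 1 ≤ t + v := by omega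
  set f : ℕ → ℕ := fun j => N G Γ (Iq α q j) (Rq q t j) with hf
  set M : ℕ → ℕ := fun j => N G Γ (Iq α q j) (Rq q t (j + 1)) with hM
  -- (e)
  have hsplit : ∀ j < t, M j = f (j + 1) + f j := by
    intro j hj
    have h := N_split (G := G) Γ (Iq α q j) (Rq q t (j + 1)) (q j)
    rw [← Iq_succ, ← Rq_of_lt q hj] at h
    exact h
  -- (f)
  have hratio : ∀ j, j + 1 < t → M (j + 1) * (v + j + 2) = M j * (m - (j + 1)) := by
    intro j hj
    have hdisj : Disjoint (Iq α q j) (Rq q t (j + 2)) := disjoint_Iq_Rq hq hαq (by omega)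
    have hcI : (Iq α q j).card = j + 1 := card_Iq hq hαq (by omega)
    have hcR : (Rq q t (j + 2)).card = t - (j + 2) := card_Rq hq hαq (by omega)
    have hc : (Iq α q j).card + (Rq q t (j + 2)).card < t := by rw [hcI, hcR]; omega
    have hx1 : q j ∉ Iq α q j ∪ Rq q t (j + 2) := by
      rw [Finset.mem_union, not_or]
      exact ⟨q_notMem_Iq hq hαq (le_refl j) (by omega), q_notMem_Rq hq hαq (by omega) (by omega)⟩
    have hx2 : q (j + 1) ∉ Iq α q j ∪ Rq q t (j + 2) := by
      rw [Finset.mem_union, not_or]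
      exact ⟨q_notMem_Iq hq hαq (by omega) (by omega), q_notMem_Rq hq hαq (by omega) (by omega)⟩
    have hL := N_rel_left hT Γ (Iq α q j) (Rq q t (j + 2)) hdisj hc hx1
    have hR := N_rel_right hT Γ (Iq α q j) (Rq q t (j + 2)) hdisj hc hx2
      (by rw [hcI]; omega) (by rw [hcR]; omega)
    rw [← Iq_succ] at hL
    rw [← Rq_of_lt q (by omega : j + 1 < t)] at hR
    rw [hcI, hcR] at hL hR
    have e1 : Fintype.card Ω - (j + 1) - (t - (j + 2)) = m + v + 1 := by omega
    have e2 : Fintype.card Ω - m - (t - (j + 2)) = v + j + 2 := by omega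
    rw [e1] at hL hR
    rw [e2] at hR
    -- hL : (m+v+1) * M (j+1) = (m - (j+1)) * Q ; hR : (m+v+1) * M j = (v+j+2) * Q
    have hc0 : 0 < m + v + 1 := by omega
    apply Nat.eq_of_mul_eq_mul_left hc0
    calc (m + v + 1) * (M (j + 1) * (v + j + 2))
        = ((m + v + 1) * M (j + 1)) * (v + j + 2) := by ring
      _ = ((m - (j + 1)) * N G Γ (Iq α q j) (Rq q t (j + 2))) * (v + j + 2) := by rw [hL]
      _ = (m - (j + 1)) * ((v + j + 2) * N G Γ (Iq α q j) (Rq q t (j + 2))) := by ring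
      _ = (m - (j + 1)) * ((m + v + 1) * M j) := by rw [← hR]
      _ = (m + v + 1) * (M j * (m - (j + 1))) := by ring
  -- (g)
  have hM0 : 0 < M 0 := by
    have h := N_pos_one hT Γ (Rq q t 1) α
      (by
        rw [mem_Rq]; rintro ⟨i, _, h2, h3⟩; exact hαq i h2 h3)
      (by rw [card_Rq hq hαq (by omega)]; omega)
      (by rw [card_Rq hq hαq (by omega)]; omega) (by omega)
    rw [← Iq_zero α q] at h
    exact h
  -- (h)
  have hchain : ∀ j, j + 1 ≤ t →
      M j * (v + 1 + j).descFactorial j = M 0 * (m - 1).descFactorial j := by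
    intro j
    induction j with
    | zero => intro _; simp
    | succ j ih =>
      intro hj
      have e : v + 1 + (j + 1) = (v + 1 + j) + 1 := by ring
      rw [e, Nat.succ_descFactorial_succ, Nat.descFactorial_succ]
      calc M (j + 1) * ((v + 1 + j + 1) * (v + 1 + j).descFactorial j)
          = (M (j + 1) * (v + j + 2)) * (v + 1 + j).descFactorial j := by ring
        _ = (M j * (m - (j + 1))) * (v + 1 + j).descFactorial j := by rw [hratio j (by omega)]
        _ = (m - (j + 1)) * (M j * (v + 1 + j).descFactorial j) := by ring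
        _ = (m - (j + 1)) * (M 0 * (m - 1).descFactorial j) := by rw [ih (by omega)]
        _ = M 0 * ((m - 1 - j) * (m - 1).descFactorial j) := by
          have : m - (j + 1) = m - 1 - j := by omega
          rw [this]; ring
  -- (i)
  have hinv : ∀ i, i + 1 ≤ t → ((m : ℤ) + v) * (f (i + 1) : ℤ)
      = (M i : ℤ) * ((m : ℤ) - i - 1) + (-1) ^ i * ((M 0 : ℤ) * (v + 1)) := by
    intro i
    induction i with
    | zero =>
      intro _
      have h0 := hsplit 0 (by omega)
      have hf0' : f 0 = 0 := hf0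
      rw [hf0', add_zero] at h0
      rw [← h0]
      push_cast
      ring
    | succ i ih =>
      intro hi
      have h1 := hsplit (i + 1) (by omega)
      have h2 := hratio i (by omega)
      have h3 := ih (by omega)
      have h1' : (M (i + 1) : ℤ) = (f (i + 1 + 1) : ℤ) + (f (i + 1) : ℤ) := by exact_mod_cast h1
      have h2' : (M (i + 1) : ℤ) * ((v : ℤ) + i + 2) = (M i : ℤ) * ((m : ℤ) - i - 1) := by
        have : ((m - (i + 1) : ℕ) : ℤ) = (m : ℤ) - i - 1 := by
          rw [Nat.cast_sub (by omega)]; push_cast; ring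
        rw [← this]
        exact_mod_cast h2
      rw [pow_succ]
      push_cast
      linear_combination (-(m : ℤ) - v) * h1' - h3 + h2'
  -- (j)
  obtain ⟨i, hiodd, hit, hit2⟩ : ∃ i, Odd i ∧ i + 1 ≤ t ∧ t ≤ i + 2 := by
    rcases Nat.even_or_odd t with he | ho
    · refine ⟨t - 1, ?_, by omega, by omega⟩
      rcases he with ⟨r, hr⟩
      exact ⟨r - 1, by omega⟩
    · refine ⟨t - 2, ?_, by omega, by omega⟩
      rcases ho with ⟨r, hr⟩
      exact ⟨r - 1, by omega⟩
  have h4 := hinv i hit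
  rw [hiodd.neg_one_pow] at h4
  have h5 : (0 : ℤ) ≤ ((m : ℤ) + v) * (f (i + 1) : ℤ) := by positivity
  have h6 : (M 0 : ℤ) * (v + 1) ≤ (M i : ℤ) * ((m : ℤ) - i - 1) := by linarith
  have h6' : M 0 * (v + 1) ≤ M i * (m - (i + 1)) := by
    have : ((m - (i + 1) : ℕ) : ℤ) = (m : ℤ) - i - 1 := by
      rw [Nat.cast_sub (by omega)]; push_cast; ring
    have h7 : ((M 0 * (v + 1) : ℕ) : ℤ) ≤ ((M i * (m - (i + 1)) : ℕ) : ℤ) := by
      push_cast
      rw [this]
      exact h6
    exact_mod_cast h7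
  have h8 : M 0 * (v + 1 + i).descFactorial (i + 1) ≤ M 0 * (m - 1).descFactorial (i + 1) := by
    rw [Nat.descFactorial_succ, Nat.descFactorial_succ]
    have e1 : v + 1 + i - i = v + 1 := by omega
    have e2 : m - 1 - i = m - (i + 1) := by omega
    rw [e1, e2]
    calc M 0 * ((v + 1) * (v + 1 + i).descFactorial i)
        = (M 0 * (v + 1)) * (v + 1 + i).descFactorial i := by ring
      _ ≤ (M i * (m - (i + 1))) * (v + 1 + i).descFactorial i := Nat.mul_le_mul_right _ h6'
      _ = (m - (i + 1)) * (M i * (v + 1 + i).descFactorial i) := by ring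
      _ = (m - (i + 1)) * (M 0 * (m - 1).descFactorial i) := by rw [hchain i hit]
      _ = M 0 * ((m - (i + 1)) * (m - 1).descFactorial i) := by ring
  have h9 : (v + 1 + i).descFactorial (i + 1) ≤ (m - 1).descFactorial (i + 1) :=
    Nat.le_of_mul_le_mul_left h8 hM0
  have h10 : (m - 1).descFactorial (i + 1) < (v + 1 + i).descFactorial (i + 1) :=
    descFactorial_lt_of_lt (by omega) (by omega) (by omega)
  omega


/-- Lemma CB: a translate through `α` missing `α'` and `X`. -/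
theorem CB {t : ℕ} (ht2 : 2 ≤ t) (hT : T G Ω t) (Γ : Finset Ω) (htm : t + 1 ≤ Γ.card)
    (hn : 2 * Γ.card < Fintype.card Ω) (X : Finset Ω) (α α' : Ω)
    (hX : X.card = t - 1) (hα : α ∉ X) (hα' : α' ∉ X) (hne : α ≠ α') :
    ∃ g : G, g⁻¹ • α ∈ Γ ∧ g⁻¹ • α' ∉ Γ ∧ ∀ x ∈ X, g⁻¹ • x ∉ Γ := by
  set S := insert α' X with hS
  have hScard : S.card = t := by
    rw [hS, Finset.card_insert_of_notMem hα', hX]; omega
  set l := S.toList with hl
  have hlen : l.length = t := by rw [hl, Finset.length_toList, hScard]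
  have hnd : l.Nodup := Finset.nodup_toList S
  set q : ℕ → Ω := fun i => l.getD i α' with hqdef
  have hqi : ∀ i (hi : i < t), q i = l[i]'(by omega) := by
    intro i hi
    rw [hqdef]
    exact List.getD_eq_getElem l α' (by omega)
  have hαS : α ∉ S := by
    rw [hS, Finset.mem_insert, not_or]; exact ⟨hne, hα⟩
  have hq : ∀ i < t, ∀ i' < t, q i = q i' → i = i' := by
    intro i hi i' hi' h
    rw [hqi i hi, hqi i' hi'] at h
    exact (List.Nodup.getElem_inj_iff hnd).mp h
  have hqS : ∀ i < t, q i ∈ S := by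
    intro i hi
    rw [hqi i hi, ← Finset.mem_toList]
    exact List.getElem_mem _
  have hαq : ∀ i < t, q i ≠ α := fun i hi h => hαS (h ▸ hqS i hi)
  have hR : Rq q t 0 = S := by
    ext x
    rw [mem_Rq]
    constructor
    · rintro ⟨i, _, h2, rfl⟩; exact hqS i h2
    · intro hx
      have hx' : x ∈ l := by rw [hl]; exact Finset.mem_toList.mpr hx
      obtain ⟨i, hi, hix⟩ := List.mem_iff_getElem.mp hx'
      refine ⟨i, Nat.zero_le i, by omega, ?_⟩
      rw [hqi i (by omega)]; exact hix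
  have h := CB_seq ht2 hT Γ htm hn α q hq hαq
  rw [Iq_zero, hR] at h
  obtain ⟨g, hg1, hg2⟩ := N_pos_iff.mp h
  refine ⟨g, hg1 α (by simp), hg2 α' (by simp [hS]), fun x hx => hg2 x ?_⟩
  rw [hS]; exact Finset.mem_insert_of_mem hx

end CBseq

end Cfsg.Agent.Helper18.Marg
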