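import Mathlib
import Cfsg.Agent.Lib.Helper18.MargCB
import Cfsg.Agent.Lib.Helper8.MargB

set_option autoImplicit false
set_option linter.unusedSectionVars false
set_option linter.style.haveILetI false

/-!
Assembly of the primitive case of Marggraf's theorem (S3620): multiple transitivity `T G Ω m`.
-/

namespace Cfsg.Agent.Helper18.Marg

open MulAction SubMulAction

section assembly
variable {G Ω : Type*} [Group G] [MulAction G Ω] [Fintype Ω] [DecidableEq Ω]

/-- from Mathlib's Jordan set formulation to the concrete one -/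
theorem isJordan_of_pretransitive (Γ : Set Ω)
    (hJ : IsPretransitive ↥(fixingSubgroup G Γᶜ) ↥(ofFixingSubgroup G Γᶜ)) :
    IsJordan G (Set.toFinite Γ).toFinset := by
  intro x hx y hy
  rw [Set.Finite.mem_toFinset] at hx hy
  have hxm : x ∈ ofFixingSubgroup G Γᶜ := by
    rw [mem_ofFixingSubgroup_iff]; simpa using hx
  have hym : y ∈ ofFixingSubgroup G Γᶜ := by
    rw [mem_ofFixingSubgroup_iff]; simpa using hy
  obtain ⟨h, hh⟩ := hJ.exists_smul_eq (⟨x, hxm⟩ : ofFixingSubgroup G Γᶜ) ⟨y, hym⟩
  refine ⟨(h : G), ?_, ?_⟩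
  · intro z hz
    rw [Set.Finite.mem_toFinset] at hz
    exact (mem_fixingSubgroup_iff G).mp h.2 z (by simpa using hz)
  · have := congrArg Subtype.val hh
    exact this

/-- `2`-fold transitivity in the concrete form -/
theorem T_two_of_two_pretransitive (h2 : IsMultiplyPretransitive G Ω 2) : T G Ω 2 := by
  intro X hX a b ha hb
  have htr : IsPretransitive G Ω := @isPretransitive_of_is_two_pretransitive G Ω _ _ h2
  rcases Nat.lt_or_ge X.card 1 with h0 | h1
  · have hX0 : X = ∅ := Finset.card_eq_zero.mp (by omega)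
    obtain ⟨g, hg⟩ := htr.exists_smul_eq a b
    exact ⟨g, by rw [hX0]; simp, hg⟩
  · have hX1 : X.card = 1 := by omega
    obtain ⟨c, rfl⟩ := Finset.card_eq_one.mp hX1
    have hac : c ≠ a := fun e => ha (by simp [e])
    have hbc : c ≠ b := fun e => hb (by simp [e])
    obtain ⟨g, hg1, hg2⟩ := is_two_pretransitive_iff.mp h2 hac hbc
    refine ⟨g, ?_, hg2⟩
    intro x hx
    rw [Finset.mem_singleton] at hx
    rw [hx]; exact hg1

/-- the multiple transitivity of a primitive group with a small Jordan set -/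
theorem T_card_of_primitive [Finite G] (hprim : IsPreprimitive G Ω) (Γ : Set Ω)
    (h1 : 1 < Γ.ncard) (h2 : 2 * Γ.ncard < Fintype.card Ω)
    (hJ : IsPretransitive ↥(fixingSubgroup G Γᶜ) ↥(ofFixingSubgroup G Γᶜ)) :
    T G Ω (Set.toFinite Γ).toFinset.card := by
  classical
  letI : Fintype G := Fintype.ofFinite G
  set Γf := (Set.toFinite Γ).toFinset with hΓf
  have hcard : Γf.card = Γ.ncard := by
    rw [hΓf, Set.ncard_eq_toFinset_card Γ (Set.toFinite Γ)]
  have hJf : IsJordan G Γf := isJordan_of_pretransitive Γ hJ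
  -- base: 2-transitivity from Jordan's theorem
  have hc : (Γᶜ).ncard = Nat.card Ω - Γ.ncard := Set.ncard_compl Γ
  have hNat : Nat.card Ω = Fintype.card Ω := Nat.card_eq_fintype_card
  obtain ⟨k, hk⟩ : ∃ k, Nat.card Ω - Γ.ncard = k + 1 := ⟨Nat.card Ω - Γ.ncard - 1, by omega⟩
  have hsn : (Γᶜ).ncard = k + 1 := by rw [hc, hk]
  have hsn' : k + 2 < Nat.card Ω := by omega
  have h2t : IsMultiplyPretransitive G Ω 2 := hprim.is_two_pretransitive hsn hsn' hJ
  have hT2 : T G Ω 2 := T_two_of_two_pretransitive h2t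
  -- induction
  have hind : ∀ t, 2 ≤ t → t ≤ Γf.card → T G Ω t := by
    intro t ht
    induction t, ht using Nat.le_induction with
    | base => intro _; exact hT2
    | succ t ht2 ih =>
      intro htm
      have hT := ih (by omega)
      apply Cfsg.Agent.Helper8.MargB.T_succ Γf hJf ht2 htm (by rw [hcard]; exact h2) hT
      · intro X α W hX hα hαW hWX hW
        exact CA ht2 hT Γf (by omega) (by rw [hcard]; omega) X α W hX hα hαW hWX hW
      · intro X α α' hX hα hα' hne
        exact CB ht2 hT Γf htm (by rw [hcard]; exact h2) X α α' hX hα hα' hne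
  exact hind Γf.card (by rw [hcard]; omega) (le_refl _)

end assembly

end Cfsg.Agent.Helper18.Marg
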