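import Mathlib
import Cfsg.Prelude.Def_Blocks
import Cfsg.Agent.Lib.Helper18.PairBridge
import Cfsg.Agent.Lib.Helper18.CyclicStab
import Cfsg.Agent.Lib.Helper18.BlockPC3
import Cfsg.Agent.Lib.Helper18.Reynolds
import Cfsg.Agent.Lib.Helper18.TwistChar3
import Cfsg.Agent.Lib.Helper23.BlockFusion1
import Cfsg.Agent.S4437
import Cfsg.Agent.S4657

/-!
# Maximal Brauer pairs through the canonical character (helper18's library)
-/

set_option autoImplicit false
set_option linter.style.haveILetI false
set_option linter.unusedSectionVars false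

namespace Cfsg.Agent.Helper18.MaxPair

open Cfsg Cfsg.Agent.Helper24 Cfsg.Agent.Helper23.Blk Cfsg.Agent.Helper18
  Cfsg.Agent.Helper18.Twist
open scoped ComplexConjugate

universe u

section Center

variable {G : Type u} [Group G] [Fintype G] {M : Ideal AlgInt} {p : ℕ}

theorem subgroupOf_centralizer_le_center (Q : Subgroup G) :
    Q.subgroupOf (Subgroup.centralizer (Q : Set G)) ≤
      Subgroup.center (Subgroup.centralizer (Q : Set G)) := by
  intro z hz
  rw [Subgroup.mem_subgroupOf] at hz
  rw [Subgroup.mem_center_iff]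
  intro c
  apply Subtype.ext
  push_cast
  exact (Subgroup.mem_centralizer_iff.1 c.2 z hz).symm

instance normal_subgroupOf_centralizer (Q : Subgroup G) :
    (Q.subgroupOf (Subgroup.centralizer (Q : Set G))).Normal := by
  constructor
  intro z hz c
  have h1 := Subgroup.mem_center_iff.1 (subgroupOf_centralizer_le_center Q hz) c
  have : c * z * c⁻¹ = z := by
    rw [h1, mul_inv_cancel_right]
  rw [this]
  exact hz

/-- elements of `Q · C_G(Q)` are products -/
theorem exists_mul_of_mem_sup (Q : Subgroup G) {x : G}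
    (hx : x ∈ Q ⊔ Subgroup.centralizer (Q : Set G)) :
    ∃ q ∈ Q, ∃ c ∈ Subgroup.centralizer (Q : Set G), x = q * c := by
  have hx' : x ∈ ((Q ⊔ Subgroup.centralizer (Q : Set G) : Subgroup G) : Set G) := hx
  rw [Subgroup.coe_mul_of_right_le_normalizer_left Q _
    (Subgroup.centralizer_le_normalizer (Q : Set G))] at hx'
  obtain ⟨q, hq, c, hc, rfl⟩ := hx'
  exact ⟨q, hq, c, hc, rfl⟩

/-- **Lemma A**: the block of a Brauer pair `(Q, e)` without proper normal superpairs has defect
group `Z(Q)` -/
theorem isDefectGroup_of_no_superpair (hM : IsPModular p M) [Fact p.Prime] {Q : Subgroup G}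
    {e : Set (IrrCharacter (Subgroup.centralizer (Q : Set G)))} (hQe : IsBrauerPair p M Q e)
    (hno : ∀ (R : Subgroup G) (g : Set (IrrCharacter (Subgroup.centralizer (R : Set G)))),
      IsNormalSubpair p M Q e R g → R = Q) :
    IsDefectGroup p M e (Q.subgroupOf (Subgroup.centralizer (Q : Set G))) := by
  classical
  haveI hMp : M.IsPrime := hM.2.1.isPrime
  haveI : Fintype (Subgroup.centralizer (Q : Set G)) := Fintype.ofFinite _
  obtain ⟨hQ, he⟩ := id hQe
  obtain ⟨De, hDe⟩ := exists_isDefectGroup hM he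
  have hDe' := hDe
  have hDep : IsPGroup p De := isPGroup_of_isDefectGroup hM hDe
  obtain ⟨y, hy, S, hDeS⟩ := hDe
  have hZle : Q.subgroupOf (Subgroup.centralizer (Q : Set G)) ≤ De := by
    rw [hDeS]
    exact normal_pgroup_le_defectGroup hM he
      (Q.subgroupOf (Subgroup.centralizer (Q : Set G))) hQ.comap_subtype hy S
  have hDey : De ≤ Subgroup.centralizer ({y} : Set (Subgroup.centralizer (Q : Set G))) := by
    rw [hDeS]
    exact Subgroup.map_subtype_le _
  set D' : Subgroup G := De.map (Subgroup.centralizer (Q : Set G)).subtype with hD'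
  have hD'p : IsPGroup p D' := hDep.map _
  have hD'C : D' ≤ Subgroup.centralizer (Q : Set G) := Subgroup.map_subtype_le _
  have hD'N : D' ≤ Subgroup.normalizer (Q : Set G) :=
    hD'C.trans (Subgroup.centralizer_le_normalizer _)
  have hRp : IsPGroup p (Q ⊔ D' : Subgroup G) := IsPGroup.to_sup_of_normal_left' hQ hD'p hD'N
  have hRN : Q ⊔ D' ≤ Subgroup.normalizer (Q : Set G) := sup_le Subgroup.le_normalizer hD'N
  have hstab : ∀ x ∈ Q ⊔ D', StabilizesBlock (Subgroup.centralizer (Q : Set G)) e x := by
    have hle : Q ⊔ D' ≤ pairStab Q e := by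
      apply sup_le
      · intro x hx
        exact (mem_pairStab_iff hM he x).2
          ⟨Subgroup.le_normalizer hx, stabilizesBlock_of_commute Q e hx⟩
      · intro x hx
        exact (mem_pairStab_iff hM he x).2 ⟨hD'N hx, stabilizesBlock_of_mem _ e (hD'C hx)⟩
    intro x hx
    exact ((mem_pairStab_iff hM he x).1 (hle hx)).2
  have hyC : (y : G) ∈ Subgroup.centralizer ((Q ⊔ D' : Subgroup G) : Set G) := by
    have hle : Q ⊔ D' ≤ Subgroup.centralizer ({(y : G)} : Set G) := by
      apply sup_le
      · intro q hq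
        rw [Subgroup.mem_centralizer_singleton_iff]
        exact (Subgroup.mem_centralizer_iff.1 y.2 q hq)
      · rintro _ ⟨d, hd, rfl⟩
        have h1 := hDey hd
        rw [Subgroup.mem_centralizer_singleton_iff] at h1 ⊢
        have h3 := congrArg Subtype.val h1
        push_cast at h3
        exact h3
    rw [Subgroup.mem_centralizer_iff]
    intro r hr
    have h1 := hle hr
    rw [Subgroup.mem_centralizer_singleton_iff] at h1
    exact h1
  have hfy : ¬ MemLocalIdeal M
      (ext0 (Subgroup.centralizer (Q : Set G)) (blockCoeff e) (y : G)) := by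
    rw [ext0_coe]
    exact hy.2.1
  obtain ⟨g, hsub⟩ := exists_normal_superpair hM hQe hRp le_sup_left hRN hstab hyC hfy
  have hRQ : Q ⊔ D' = Q := hno _ g hsub
  have hDeZ : De ≤ Q.subgroupOf (Subgroup.centralizer (Q : Set G)) := by
    intro d hd
    rw [Subgroup.mem_subgroupOf]
    have h1 : (d : G) ∈ Q ⊔ D' := (le_sup_right : D' ≤ Q ⊔ D') ⟨d, hd, rfl⟩
    rw [hRQ] at h1
    exact h1
  rw [le_antisymm hZle hDeZ]
  exact hDe'

end Center

section LemmaB

variable {G : Type u} [Group G] [Fintype G] {M : Ideal AlgInt} {p : ℕ}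

/-- **Lemma B**: a block containing a character whose degree has the `p`-part of the index of a
central `p`-subgroup `Z` has defect group `Z` -/
theorem isDefectGroup_of_central_degree (hM : IsPModular p M) {Z : Subgroup G}
    (hZp : IsPGroup p Z) (hZc : Z ≤ Subgroup.center G) {e : Set (IrrCharacter G)}
    (he : IsPBlock M e) {θ : IrrCharacter G} (hθ : θ ∈ e)
    (hdeg : (charDegree (θ : G → ℂ)).factorization p = Z.index.factorization p) :
    IsDefectGroup p M e Z := by
  classical
  haveI hMp : M.IsPrime := hM.2.1.isPrime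
  have hp := hM.1
  haveI : Fact p.Prime := ⟨hp⟩
  haveI hZn : Z.Normal := by
    constructor
    intro z hz c
    have h1 := Subgroup.mem_center_iff.1 (hZc hz) c
    have : c * z * c⁻¹ = z := by rw [h1, mul_inv_cancel_right]
    rw [this]
    exact hz
  obtain ⟨De, hDe⟩ := exists_isDefectGroup hM he
  have hDe' := hDe
  have hcard := card_defectGroup hM he hDe
  have hsInf := Reynolds.sInf_eq_factorization_index hM he hDe
  obtain ⟨y, hy, S, hDeS⟩ := hDe
  have hZle : Z ≤ De := by
    rw [hDeS]
    exact normal_pgroup_le_defectGroup hM he Z hZp hy S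
  have heq : e = blockOf M (θ : G → ℂ) :=
    isPBlock_eq_of_mem he ⟨θ, rfl⟩ hθ (mem_blockOf_self θ)
  have hge : Z.index.factorization p ≤
      sInf ((fun χ : IrrCharacter G => (charDegree (χ : G → ℂ)).factorization p) '' e) := by
    apply le_csInf
    · exact ⟨_, ⟨θ, hθ, rfl⟩⟩
    · rintro _ ⟨ψ, hψ, rfl⟩
      rw [heq] at hψ
      exact factorization_degree_ge_of_central hM hZp hZc θ hdeg hψ
  have hle : sInf ((fun χ : IrrCharacter G => (charDegree (χ : G → ℂ)).factorization p) '' e) ≤
      Z.index.factorization p := by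
    rw [← hdeg]
    exact Nat.sInf_le ⟨θ, hθ, rfl⟩
  have hs : sInf ((fun χ : IrrCharacter G => (charDegree (χ : G → ℂ)).factorization p) '' e) =
      Z.index.factorization p := le_antisymm hle hge
  obtain ⟨k, hk⟩ := IsPGroup.iff_card.1 hZp
  have hidx := Subgroup.card_mul_index Z
  have hfac : (Nat.card G).factorization p = k + Z.index.factorization p := by
    rw [← hidx, Nat.factorization_mul Nat.card_pos.ne' Subgroup.index_ne_zero_of_finite, hk]
    simp [Nat.Prime.factorization_pow hp]
  have hdef : blockDefect p e = k := by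
    unfold blockDefect
    rw [hs, hfac]
    omega
  have hcardeq : Nat.card De ≤ Nat.card Z := by
    rw [hcard, hdef, hk]
  have : Z = De := Subgroup.eq_of_le_of_card_ge hZle hcardeq
  rw [this]
  exact hDe'

end LemmaB

section LemmaC

variable {G : Type u} [Group G] [Fintype G] {M : Ideal AlgInt} {p : ℕ}

/-- **Lemma C**: if the block of `(Q, e)` has defect group `Z(Q)` and the `p`-elements of the
stabilizer lie in `Q · C_G(Q)`, then there is no proper normal superpair -/
theorem eq_of_isNormalSubpair (hM : IsPModular p M) [Fact p.Prime] {Q : Subgroup G}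
    {e : Set (IrrCharacter (Subgroup.centralizer (Q : Set G)))} (hQe : IsBrauerPair p M Q e)
    (hZ : IsDefectGroup p M e (Q.subgroupOf (Subgroup.centralizer (Q : Set G))))
    (h3 : ∀ g : G, g ∈ Subgroup.normalizer (Q : Set G) →
      StabilizesBlock (Subgroup.centralizer (Q : Set G)) e g → (∃ k : ℕ, orderOf g = p ^ k) →
      g ∈ Q ⊔ Subgroup.centralizer (Q : Set G))
    {R : Subgroup G} {g : Set (IrrCharacter (Subgroup.centralizer (R : Set G)))}
    (hsub : IsNormalSubpair p M Q e R g) : R = Q := by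
  classical
  haveI hMp : M.IsPrime := hM.2.1.isPrime
  have hp := hM.1
  haveI : Fintype (Subgroup.centralizer (Q : Set G)) := Fintype.ofFinite _
  obtain ⟨hQ, he⟩ := id hQe
  obtain ⟨-, ⟨hRp, hg⟩, hQR, hRN, hst, -⟩ := id hsub
  obtain ⟨y, hyR, hfy⟩ := exists_centralizer_not_memLocalIdeal hM hsub
  have hRle : R ≤ Q ⊔ Subgroup.centralizer (Q : Set G) := by
    intro r hr
    apply h3 r (hRN hr) (hst r hr)
    obtain ⟨k, hk⟩ := hRp ⟨r, hr⟩
    have h1 : r ^ p ^ k = 1 := by
      have := congrArg Subtype.val hk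
      simpa using this
    obtain ⟨m, -, hm⟩ := (Nat.dvd_prime_pow hp).1 (orderOf_dvd_of_pow_eq_one h1)
    exact ⟨m, hm⟩
  have hA : IsPGroup p (R ⊓ Subgroup.centralizer (Q : Set G) : Subgroup G) :=
    hRp.to_le inf_le_left
  have hy' : y ∈ Subgroup.centralizer
      ((R ⊓ Subgroup.centralizer (Q : Set G) : Subgroup G) : Set G) :=
    Subgroup.centralizer_le (by exact_mod_cast (inf_le_left : R ⊓ _ ≤ R)) hyR
  obtain ⟨D, hD, hAD⟩ := exists_defectGroup_ge hM he hA hy' hfy
  have hDZ : D = Q.subgroupOf (Subgroup.centralizer (Q : Set G)) := by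
    obtain ⟨c, hc⟩ := isDefectGroup_conj_of hM he hD hZ
    have hn : c ∈ Subgroup.normalizer
        ((Q.subgroupOf (Subgroup.centralizer (Q : Set G)) :
          Subgroup (Subgroup.centralizer (Q : Set G))) : Set _) := by
      rw [Subgroup.normalizer_eq_top]
      exact Subgroup.mem_top c
    rw [← hc, map_conj_eq_of_mem_normalizer hn]
  apply le_antisymm _ hQR
  intro r hr
  obtain ⟨q, hq, c, hc, rfl⟩ := exists_mul_of_mem_sup Q (hRle hr)
  have hcR : c ∈ R := by
    have h1 : c = q⁻¹ * (q * c) := by group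
    rw [h1]
    exact R.mul_mem (R.inv_mem (hQR hq)) hr
  have hcA : (⟨c, hc⟩ : Subgroup.centralizer (Q : Set G)) ∈
      (R ⊓ Subgroup.centralizer (Q : Set G) : Subgroup G).subgroupOf
        (Subgroup.centralizer (Q : Set G)) := by
    rw [Subgroup.mem_subgroupOf]
    exact ⟨hcR, hc⟩
  have hcZ := hAD hcA
  rw [hDZ, Subgroup.mem_subgroupOf] at hcZ
  exact Q.mul_mem hq hcZ

end LemmaC

section LemmaDE

variable {G : Type u} [Group G] [Fintype G] {M : Ideal AlgInt} {p : ℕ}

/-- **Lemma D**: a Brauer pair without proper normal superpairs is a maximal Brauer pair of its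
block -/
theorem exists_isMaximalBrauerPair (hM : IsPModular p M) [Fact p.Prime] {Q : Subgroup G}
    {e : Set (IrrCharacter (Subgroup.centralizer (Q : Set G)))} (hQe : IsBrauerPair p M Q e)
    (hno : ∀ (R : Subgroup G) (g : Set (IrrCharacter (Subgroup.centralizer (R : Set G)))),
      IsNormalSubpair p M Q e R g → R = Q) :
    ∃ B : Set (IrrCharacter G), IsMaximalBrauerPair p M B Q e := by
  classical
  obtain ⟨B, hBe, -⟩ := Cfsg.Agent.S4657.result p M hM Q e hQe
  have hQdef := isDefectGroup_of_no_proper_superpair hM hBe hno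
  refine ⟨B, hBe, ?_⟩
  intro R g hBR hle
  have h1 : Q ≤ R := chain_le hle
  have h2 : Nat.card R ≤ Nat.card Q :=
    card_le_of_subConj (subConj_of_isBrauerPairOf hM hBR hQdef)
  exact (Subgroup.eq_of_le_of_card_ge h1 h2).symm

/-- **Lemma E**: a maximal Brauer pair has no proper normal superpair -/
theorem eq_of_isMaximalBrauerPair (hM : IsPModular p M) [Fact p.Prime] {Q : Subgroup G}
    {e : Set (IrrCharacter (Subgroup.centralizer (Q : Set G)))} {B : Set (IrrCharacter G)}
    (hmax : IsMaximalBrauerPair p M B Q e)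
    {R : Subgroup G} {g : Set (IrrCharacter (Subgroup.centralizer (R : Set G)))}
    (hsub : IsNormalSubpair p M Q e R g) : R = Q := by
  have h1 := isBrauerPairOf_of_isNormalSubpair hM hsub hmax.1
  exact hmax.2 R g h1 (Relation.ReflTransGen.single hsub)

end LemmaDE

section LemmaF

variable {G : Type u} [Group G] [Fintype G] {M : Ideal AlgInt} {p : ℕ}

/-- **Lemma F**: for a Brauer pair without proper normal superpairs, the `p`-elements of the
stabilizer lie in `Q · C_G(Q)` -/
theorem mem_sup_of_no_superpair (hM : IsPModular p M) [Fact p.Prime] {Q : Subgroup G}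
    {e : Set (IrrCharacter (Subgroup.centralizer (Q : Set G)))} (hQe : IsBrauerPair p M Q e)
    (hno : ∀ (R : Subgroup G) (g : Set (IrrCharacter (Subgroup.centralizer (R : Set G)))),
      IsNormalSubpair p M Q e R g → R = Q)
    {g : G} (hgN : g ∈ Subgroup.normalizer (Q : Set G))
    (hgst : StabilizesBlock (Subgroup.centralizer (Q : Set G)) e g)
    (hgo : ∃ k : ℕ, orderOf g = p ^ k) :
    g ∈ Q ⊔ Subgroup.centralizer (Q : Set G) := by
  classical
  have hp := hM.1
  obtain ⟨B, hBe, -⟩ := Cfsg.Agent.S4657.result p M hM Q e hQe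
  have hT : ∀ y : G, y ∈ pairStab Q e ↔ y ∈ Subgroup.normalizer (Q : Set G) ∧
      StabilizesBlock (Subgroup.centralizer (Q : Set G)) e y :=
    fun y => mem_pairStab_iff hM hQe.2 y
  have hidx := PairRel.not_dvd_index_sup_centralizer_stab hM hBe hno (pairStab Q e) hT
  have hTN : pairStab Q e ≤ Subgroup.normalizer
      ((Q ⊔ Subgroup.centralizer (Q : Set G) : Subgroup G) : Set G) :=
    fun t ht => Cfsg.Agent.S4437.mem_normalizer_sup Q ((hT t).1 ht).1
  haveI : ((Q ⊔ Subgroup.centralizer (Q : Set G)).subgroupOf (pairStab Q e)).Normal :=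
    Subgroup.normal_subgroupOf_of_le_normalizer hTN
  have hgT : g ∈ pairStab Q e := (hT g).2 ⟨hgN, hgst⟩
  obtain ⟨k, hk⟩ := hgo
  have hk' : g ^ p ^ k = 1 := by
    rw [← hk]
    exact pow_orderOf_eq_one g
  have h1 : g ^ ((Q ⊔ Subgroup.centralizer (Q : Set G)).subgroupOf (pairStab Q e)).index ∈
      Q ⊔ Subgroup.centralizer (Q : Set G) := by
    have h2 := Subgroup.pow_index_mem
      ((Q ⊔ Subgroup.centralizer (Q : Set G)).subgroupOf (pairStab Q e))
      (⟨g, hgT⟩ : pairStab Q e)
    rw [Subgroup.mem_subgroupOf] at h2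
    exact h2
  have h3 : g ^ p ^ k ∈ Q ⊔ Subgroup.centralizer (Q : Set G) := by
    rw [hk']
    exact Subgroup.one_mem _
  have hcop : Nat.Coprime
      ((Q ⊔ Subgroup.centralizer (Q : Set G)).subgroupOf (pairStab Q e)).index (p ^ k) :=
    Nat.Coprime.pow_right k ((Nat.Prime.coprime_iff_not_dvd hp).2 hidx).symm
  have h4 := Cfsg.Agent.Helper18.pow_gcd_mem _ g _ _ h1 h3
  rwa [hcop, pow_one] at h4

end LemmaF

end Cfsg.Agent.Helper18.MaxPair
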