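import Mathlib
import Cfsg.Agent.Lib.Helper1.FpfAction

/-!
# Automorphisms of order three of an elementary abelian 2-group with commutator of order four

Basic vocabulary for helper18's proof of S4404 (abstract part).

`M` is a finite commutative group, `ξ : MulAut M`.
* `cHom ξ : M →* M`, `m ↦ ξ m * m⁻¹`; `comm ξ` its range, `fixS ξ` its kernel.
* `resHom ρ N h` : restriction of an action `ρ : B →* MulAut M` to an invariant subgroup `N`.
* `card_le_of_fpf`, `index_le_of_fpf` : a commutative group of exponent `r` acting so that every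
  element is trivial or fixed-point-free has image of order at most `r`.
-/

set_option autoImplicit false
set_option linter.style.haveILetI false

namespace Cfsg.Agent.Helper18.N5

variable {M : Type*} [CommGroup M]

/-- `m ↦ ξ m * m⁻¹` -/
def cHom (ξ : MulAut M) : M →* M where
  toFun m := ξ m * m⁻¹
  map_one' := by simp
  map_mul' a b := by
    rw [map_mul, mul_inv, mul_mul_mul_comm]

@[simp] theorem cHom_apply (ξ : MulAut M) (m : M) : cHom ξ m = ξ m * m⁻¹ := rfl

/-- the commutator subgroup `[M, ξ]` -/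
def comm (ξ : MulAut M) : Subgroup M := (cHom ξ).range

/-- the fixed point subgroup `C_M(ξ)` -/
def fixS (ξ : MulAut M) : Subgroup M := (cHom ξ).ker

theorem mem_fixS {ξ : MulAut M} {m : M} : m ∈ fixS ξ ↔ ξ m = m := by
  unfold fixS
  rw [MonoidHom.mem_ker, cHom_apply, mul_inv_eq_one]

theorem mem_comm {ξ : MulAut M} {v : M} : v ∈ comm ξ ↔ ∃ m, ξ m * m⁻¹ = v := by
  unfold comm
  rw [MonoidHom.mem_range]
  rfl

theorem card_fixS_mul_card_comm [Finite M] (ξ : MulAut M) :
    Nat.card (fixS ξ) * Nat.card (comm ξ) = Nat.card M := by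
  unfold fixS comm
  rw [← Subgroup.index_ker, Subgroup.card_mul_index]

/-- `comm ξ` is `ξ`-invariant -/
theorem map_mem_comm {ξ : MulAut M} {v : M} (hv : v ∈ comm ξ) : ξ v ∈ comm ξ := by
  obtain ⟨m, rfl⟩ := mem_comm.1 hv
  exact mem_comm.2 ⟨ξ m, by rw [map_mul, map_inv]⟩

/-- restriction of an action to an invariant subgroup -/
def resHom {B : Type*} [Group B] (ρ : B →* MulAut M) (N : Subgroup M)
    (h : ∀ b : B, ∀ n ∈ N, ρ b n ∈ N) : B →* MulAut N where
  toFun b :=
    { toFun := fun n => ⟨ρ b n, h b n n.2⟩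
      invFun := fun n => ⟨ρ b⁻¹ n, h b⁻¹ n n.2⟩
      left_inv := fun n => Subtype.ext (by
        show ρ b⁻¹ (ρ b n) = n
        rw [map_inv]; exact (ρ b).symm_apply_apply _)
      right_inv := fun n => Subtype.ext (by
        show ρ b (ρ b⁻¹ n) = n
        rw [map_inv]; exact (ρ b).apply_symm_apply _)
      map_mul' := fun a c => Subtype.ext (by
        show ρ b (a * c) = ρ b a * ρ b c
        rw [map_mul]) }
  map_one' := by
    ext n
    show ρ 1 n = n
    rw [map_one]; rfl
  map_mul' a c := by
    ext n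
    show ρ (a * c) n = ρ a (ρ c n)
    rw [map_mul]; rfl

@[simp] theorem resHom_apply {B : Type*} [Group B] (ρ : B →* MulAut M) (N : Subgroup M)
    (h : ∀ b : B, ∀ n ∈ N, ρ b n ∈ N) (b : B) (n : N) :
    ((resHom ρ N h b n : N) : M) = ρ b n := rfl

theorem mem_ker_resHom {B : Type*} [Group B] (ρ : B →* MulAut M) (N : Subgroup M)
    (h : ∀ b : B, ∀ n ∈ N, ρ b n ∈ N) (b : B) :
    b ∈ (resHom ρ N h).ker ↔ ∀ n ∈ N, ρ b n = n := by
  rw [MonoidHom.mem_ker]
  constructor
  · intro hb n hn
    have := congrArg (fun f : MulAut N => ((f ⟨n, hn⟩ : N) : M)) hb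
    simpa using this
  · intro hb
    ext n
    show ρ b n = n
    exact hb n n.2

/-- restriction of a single automorphism -/
def resAut (g : MulAut M) (N : Subgroup M) (h1 : ∀ n ∈ N, g n ∈ N) (h2 : ∀ n ∈ N, g⁻¹ n ∈ N) :
    MulAut N where
  toFun n := ⟨g n, h1 n n.2⟩
  invFun n := ⟨g⁻¹ n, h2 n n.2⟩
  left_inv n := Subtype.ext (g.symm_apply_apply _)
  right_inv n := Subtype.ext (g.apply_symm_apply _)
  map_mul' a c := Subtype.ext (by
    show g (a * c) = g a * g c
    rw [map_mul])

@[simp] theorem resAut_apply (g : MulAut M) (N : Subgroup M) (h1 : ∀ n ∈ N, g n ∈ N)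
    (h2 : ∀ n ∈ N, g⁻¹ n ∈ N) (n : N) : ((resAut g N h1 h2 n : N) : M) = g n := rfl

/-- **fixed-point-free lemma**, faithful form -/
theorem card_le_of_fpf {N : Type*} [CommGroup N] [Finite N] [Nontrivial N]
    (H : Subgroup (MulAut N)) (hc : ∀ a ∈ H, ∀ b ∈ H, a * b = b * a) {r : ℕ} (hr : r.Prime)
    (hexp : ∀ h ∈ H, h ^ r = 1) (hfpf : ∀ h ∈ H, h ≠ 1 → ∀ n : N, h n = n → n = 1) :
    Nat.card H ≤ r := by
  classical
  haveI : Fact r.Prime := ⟨hr⟩
  haveI : Finite (MulAut N) := Finite.of_injective (fun f : MulAut N => (f : N → N))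
    (fun f g h => MulEquiv.ext (congrFun h))
  by_cases hH : H = ⊥
  · rw [hH, Subgroup.card_bot]; exact hr.one_lt.le
  obtain ⟨x, hxH, hx1⟩ : ∃ x ∈ H, x ≠ 1 := by
    obtain ⟨x, hx⟩ := (Subgroup.ne_bot_iff_exists_ne_one).1 hH
    exact ⟨(x : MulAut N), x.2, fun h => hx (Subtype.ext h)⟩
  have hordx : orderOf x = r := by
    have h1 : orderOf x ∣ r := orderOf_dvd_of_pow_eq_one (hexp x hxH)
    rcases (Nat.dvd_prime hr).1 h1 with h | h
    · exact absurd (orderOf_eq_one_iff.1 h) hx1
    · exact h
  -- the semidirect product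
  let φ : H →* MulAut N := H.subtype
  let G := N ⋊[φ] H
  haveI : Finite G := Finite.of_equiv _ (SemidirectProduct.equivProd (φ := φ)).symm
  let K : Subgroup G := (SemidirectProduct.inl : N →* G).range
  let A : Subgroup G := (SemidirectProduct.inr : H →* G).range
  have hKn : K.Normal := by
    show ((SemidirectProduct.inl : N →* G).range).Normal
    rw [SemidirectProduct.range_inl_eq_ker_rightHom]; infer_instance
  have hAK : A ≤ Subgroup.normalizer (K : Set G) := by
    rw [Subgroup.normalizer_eq_top]; exact le_top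
  have hK : K ≠ ⊥ := by
    obtain ⟨n, hn⟩ := exists_ne (1 : N)
    intro h
    have h1 : (SemidirectProduct.inl n : G) ∈ K := ⟨n, rfl⟩
    rw [h, Subgroup.mem_bot] at h1
    exact hn (SemidirectProduct.inl_injective (h1.trans (map_one _).symm))
  have hfp : ∀ h ∈ A, h ≠ 1 → K ⊓ Subgroup.centralizer {h} = ⊥ := by
    rintro _ ⟨b, rfl⟩ hb1
    rw [eq_bot_iff]
    rintro _ ⟨⟨n, rfl⟩, hcen⟩
    rw [Subgroup.mem_bot]
    have hb1' : (b : MulAut N) ≠ 1 := by
      intro h
      apply hb1
      have : b = 1 := Subtype.ext h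
      rw [this, map_one]
    have hcen' : (SemidirectProduct.inl n : G) ∈ Subgroup.centralizer {(SemidirectProduct.inr b : G)} :=
      hcen
    rw [Subgroup.mem_centralizer_iff] at hcen'
    have h2 := hcen' _ (Set.mem_singleton _)
    -- inr b * inl n = inl n * inr b
    have h3 : (SemidirectProduct.inl (φ b n) : G) = SemidirectProduct.inl n := by
      rw [SemidirectProduct.inl_aut, h2, mul_assoc, ← map_mul, mul_inv_cancel, map_one, mul_one]
    have h4 : (b : MulAut N) n = n := SemidirectProduct.inl_injective h3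
    rw [hfpf b b.2 hb1' n h4, map_one]
  -- every element of H lies in zpowers x
  have hsub : H ≤ Subgroup.zpowers x := by
    intro y hyH
    by_cases hy1 : y = 1
    · rw [hy1]; exact Subgroup.one_mem _
    have hordy : orderOf y = r := by
      have h1 : orderOf y ∣ r := orderOf_dvd_of_pow_eq_one (hexp y hyH)
      rcases (Nat.dvd_prime hr).1 h1 with h | h
      · exact absurd (orderOf_eq_one_iff.1 h) hy1
      · exact h
    let x' : H := ⟨x, hxH⟩
    let y' : H := ⟨y, hyH⟩
    have hinj : Function.Injective (SemidirectProduct.inr : H →* G) :=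
      SemidirectProduct.inr_injective
    have hox : orderOf (SemidirectProduct.inr x' : G) = r := by
      rw [orderOf_injective _ hinj, ← hordx]; exact Subgroup.orderOf_mk x hxH
    have hoy : orderOf (SemidirectProduct.inr y' : G) = r := by
      rw [orderOf_injective _ hinj, ← hordy]; exact Subgroup.orderOf_mk y hyH
    have hcomm : (SemidirectProduct.inr x' : G) * SemidirectProduct.inr y' =
        SemidirectProduct.inr y' * SemidirectProduct.inr x' := by
      rw [← map_mul, ← map_mul]
      congr 1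
      exact Subtype.ext (hc x hxH y hyH)
    have hmem := Cfsg.Agent.Helper1.mem_zpowers_of_fpf_of_commute (K := K) (H := A) hAK hK hfp
      (z := SemidirectProduct.inr x') (w := SemidirectProduct.inr y') ⟨x', rfl⟩ ⟨y', rfl⟩
      hox hoy hcomm
    obtain ⟨k, hk⟩ := Subgroup.mem_zpowers_iff.1 hmem
    rw [← map_zpow] at hk
    have hk' : x' ^ k = y' := hinj hk
    rw [Subgroup.mem_zpowers_iff]
    exact ⟨k, by simpa using congrArg Subtype.val hk'⟩
  calc Nat.card H ≤ Nat.card (Subgroup.zpowers x) := Nat.card_mono (Set.toFinite _) hsub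
    _ = r := by rw [Nat.card_zpowers, hordx]

end Cfsg.Agent.Helper18.N5
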