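import Mathlib
import Cfsg.Agent.Lib.Helper18.N5Defs

/-!
# The irreducible abelian lemma (helper18, S4404)
-/

set_option autoImplicit false
set_option linter.style.haveILetI false

namespace Cfsg.Agent.Helper18.N5

variable {M : Type*} [CommGroup M] {B : Type*} [Group B]

/-- standing hypotheses: `M` of exponent 2, `ξ³ = 1`, `ξ` normalizes `ρ(B)`, `|[M,ξ]| = 4` -/
structure Setup (ρ : B →* MulAut M) (ξ : MulAut M) : Prop where
  exp2 : ∀ m : M, m ^ 2 = 1
  cube : ξ ^ 3 = 1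
  norm : ∀ b : B, ∃ b' : B, ξ * ρ b * ξ⁻¹ = ρ b'
  card4 : Nat.card (comm ξ) = 4

/-- `N` is invariant under `ρ` -/
def InvS (ρ : B →* MulAut M) (N : Subgroup M) : Prop := ∀ b : B, ∀ n ∈ N, ρ b n ∈ N

/-- no proper nontrivial subgroup invariant under `ρ` and `ξ` -/
def Irr (ρ : B →* MulAut M) (ξ : MulAut M) : Prop :=
  ∀ N : Subgroup M, InvS ρ N → (∀ n ∈ N, ξ n ∈ N) → N = ⊥ ∨ N = ⊤

theorem InvS.inf {ρ : B →* MulAut M} {N N' : Subgroup M} (h : InvS ρ N) (h' : InvS ρ N') :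
    InvS ρ (N ⊓ N') := fun b n hn => ⟨h b n hn.1, h' b n hn.2⟩

theorem InvS.sup {ρ : B →* MulAut M} {N N' : Subgroup M} (h : InvS ρ N) (h' : InvS ρ N') :
    InvS ρ (N ⊔ N') := by
  intro b n hn
  obtain ⟨a, ha, c, hc, rfl⟩ := Subgroup.mem_sup.1 hn
  rw [map_mul]
  exact Subgroup.mul_mem_sup (h b a ha) (h' b c hc)

theorem inv_eq_self {m : M} (h : m ^ 2 = 1) : m⁻¹ = m := by
  rw [inv_eq_iff_mul_eq_one, ← pow_two, h]

namespace Setup

variable {ρ : B →* MulAut M} {ξ : MulAut M}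

theorem inv_eq_sq (hS : Setup ρ ξ) : ξ⁻¹ = ξ ^ 2 := by
  rw [inv_eq_iff_mul_eq_one, ← pow_succ', hS.cube]

theorem norm_inv (hS : Setup ρ ξ) (b : B) : ∃ b' : B, ξ⁻¹ * ρ b * ξ = ρ b' := by
  obtain ⟨b1, h1⟩ := hS.norm b
  obtain ⟨b2, h2⟩ := hS.norm b1
  refine ⟨b2, ?_⟩
  rw [← h2, ← h1]
  have h3 : ξ * ξ * ξ = 1 := by rw [← pow_three']; exact hS.cube
  calc ξ⁻¹ * ρ b * ξ = (ξ * ξ * ξ) * (ξ⁻¹ * ρ b * ξ) * (ξ * ξ * ξ)⁻¹ := by rw [h3]; group
    _ = ξ * (ξ * ρ b * ξ⁻¹) * ξ⁻¹ := by group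

/-- the image of an invariant subgroup under `ξ` is invariant -/
theorem invS_map (hS : Setup ρ ξ) {N : Subgroup M} (h : InvS ρ N) :
    InvS ρ (N.map ξ.toMonoidHom) := by
  rintro b _ ⟨n, hn, rfl⟩
  obtain ⟨b', hb'⟩ := hS.norm_inv b
  refine ⟨ρ b' n, h b' n hn, ?_⟩
  show ξ (ρ b' n) = ρ b (ξ n)
  rw [← hb']
  show ξ ((ξ⁻¹ * ρ b * ξ) n) = ρ b (ξ n)
  simp [MulAut.mul_apply]

theorem card_eq (hS : Setup ρ ξ) [Finite M] : Nat.card (fixS ξ) * 4 = Nat.card M := by
  rw [← hS.card4]; exact card_fixS_mul_card_comm ξ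

end Setup

theorem card_map_aut [Finite M] (ξ : MulAut M) (N : Subgroup M) :
    Nat.card (N.map ξ.toMonoidHom) = Nat.card N :=
  Subgroup.card_map_of_injective ξ.injective

/-- relative fixed-point-free lemma -/
theorem index_le_of_fpf [Finite M] [Finite B] (ρ : B →* MulAut M) (hc : ∀ a b : B, a * b = b * a)
    {r : ℕ} (hr : r.Prime) (hexp : ∀ b : B, b ^ r = 1) (N : Subgroup M) (hN : N ≠ ⊥)
    (hinv : InvS ρ N)
    (hfpf : ∀ b : B, ∀ n ∈ N, n ≠ 1 → ρ b n = n → ∀ n' ∈ N, ρ b n' = n') :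
    (resHom ρ N hinv).ker.index ≤ r := by
  rw [Subgroup.index_ker]
  haveI : Nontrivial N := (Subgroup.nontrivial_iff_ne_bot N).2 hN
  apply card_le_of_fpf (N := N) (resHom ρ N hinv).range _ hr
  · rintro _ ⟨b, rfl⟩
    rw [← map_pow, hexp, map_one]
  · rintro _ ⟨b, rfl⟩ hb1 n hn
    by_contra hn1
    apply hb1
    have h1 : ρ b (n : M) = n := congrArg Subtype.val hn
    have h2 := hfpf b n n.2 (fun h => hn1 (Subtype.ext h)) h1
    exact (MonoidHom.mem_ker).1 ((mem_ker_resHom ρ N hinv b).2 h2)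
  · rintro _ ⟨a, rfl⟩ _ ⟨b, rfl⟩
    rw [← map_mul, ← map_mul, hc a b]

/-- an automorphism of odd order of a group of exponent 2 and order at most 4 fixing a
non-identity element is trivial -/
theorem fix_all_of_fix_one [Finite M] (hM : ∀ m : M, m ^ 2 = 1) (g : MulAut M) {r : ℕ}
    (hr : Odd r) (hg : g ^ r = 1) (N : Subgroup M) (hN : Nat.card N ≤ 4)
    (hinv : ∀ n ∈ N, g n ∈ N) (n₀ : M) (hn₀ : n₀ ∈ N) (hn₀1 : n₀ ≠ 1) (hfix : g n₀ = n₀)
    (n : M) (hn : n ∈ N) : g n = n := by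
  classical
  by_cases h1 : n = 1
  · rw [h1, map_one]
  by_cases h2 : n = n₀
  · rw [h2, hfix]
  -- the four elements 1, n₀, n, n₀ * n are distinct
  have h3 : n₀ * n ≠ 1 := by
    intro h
    apply h2
    have : n = n₀⁻¹ := eq_inv_of_mul_eq_one_right h
    rw [this, inv_eq_self (hM n₀)]
  have h4 : n₀ * n ≠ n₀ := by
    intro h; exact h1 (by simpa using h)
  have h5 : n₀ * n ≠ n := by
    intro h; exact hn₀1 (by simpa using h)
  -- g n ∈ {n, n₀ * n}
  have hg1 : g n ≠ 1 := by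
    intro h; exact h1 (by simpa using h)
  have hg2 : g n ≠ n₀ := by
    intro h
    apply h2
    apply g.injective
    rw [h, hfix]
  have hcase : g n = n ∨ g n = n₀ * n := by
    by_contra hcon
    push Not at hcon
    -- five distinct elements of N
    have ha : n₀ ∉ ({1} : Finset M) := by simp [hn₀1]
    have hb : n ∉ insert n₀ ({1} : Finset M) := by simp [h1, h2]
    have hc : n₀ * n ∉ insert n (insert n₀ ({1} : Finset M)) := by
      simp [h1, h2, h3, h4, h5, hn₀1]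
    have hd : g n ∉ insert (n₀ * n) (insert n (insert n₀ ({1} : Finset M))) := by
      simp [hg1, hg2, hcon.1, hcon.2]
    have hcard : (insert (g n) (insert (n₀ * n) (insert n (insert n₀ ({1} : Finset M))))).card
        = 5 := by
      rw [Finset.card_insert_of_notMem hd, Finset.card_insert_of_notMem hc,
        Finset.card_insert_of_notMem hb, Finset.card_insert_of_notMem ha, Finset.card_singleton]
    have hsub : ((insert (g n) (insert (n₀ * n) (insert n (insert n₀ ({1} : Finset M)))) :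
        Finset M) : Set M) ⊆ (N : Set M) := by
      intro y hy
      simp only [Finset.coe_insert, Finset.coe_singleton, Set.mem_insert_iff,
        Set.mem_singleton_iff] at hy
      rcases hy with rfl | rfl | rfl | rfl | rfl
      · exact hinv _ hn
      · exact N.mul_mem hn₀ hn
      · exact hn
      · exact hn₀
      · exact N.one_mem
    have h6 := Set.ncard_le_ncard hsub (Set.toFinite _)
    rw [Set.ncard_coe_finset, hcard, ← Nat.card_coe_set_eq] at h6
    have h7 : Nat.card (↥(N : Set M)) = Nat.card N := rfl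
    omega
  rcases hcase with h | h
  · exact h
  · -- g² fixes n, hence g does
    have hsq : (g ^ 2) n = n := by
      rw [pow_two, MulAut.mul_apply, h, map_mul, hfix, h, ← mul_assoc, ← pow_two, hM, one_mul]
    obtain ⟨k, hk⟩ := hr
    have h6 : g = (g ^ 2) ^ (k + 1) := by
      rw [← pow_mul]
      have : 2 * (k + 1) = r + 1 := by omega
      rw [this, pow_succ, hg, one_mul]
    have h7 : ∀ j : ℕ, ((g ^ 2) ^ j) n = n := by
      intro j
      induction j with
      | zero => simp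
      | succ j ih => rw [pow_succ, MulAut.mul_apply, hsq, ih]
    rw [h6]
    exact h7 _

end Cfsg.Agent.Helper18.N5
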