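import Mathlib
import Cfsg.Agent.Lib.Helper18.N5Irr

/-!
# Lemma 1: the irreducible abelian case (helper18, S4404)
-/

set_option autoImplicit false
set_option linter.style.haveILetI false

namespace Cfsg.Agent.Helper18.N5

variable {M : Type*} [CommGroup M] [Finite M] {B : Type*} [Group B] [Finite B]

/-- two subgroups of a commutative group meeting trivially: product of orders bounded -/
theorem card_mul_card_le_of_inf_eq_bot {H K : Subgroup M} (h : H ⊓ K = ⊥) :
    Nat.card H * Nat.card K ≤ Nat.card (H ⊔ K : Subgroup M) := by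
  have hinj := Subgroup.mul_injective_of_disjoint (disjoint_iff.2 h)
  let f : H × K → (H ⊔ K : Subgroup M) := fun g =>
    ⟨(g.1 : M) * g.2, Subgroup.mul_mem_sup g.1.2 g.2.2⟩
  have hf : Function.Injective f := by
    intro a b hab
    exact hinj (congrArg Subtype.val hab)
  have := Nat.card_le_card_of_injective f hf
  rwa [Nat.card_prod] at this

theorem card_mul_card_le_of_inf_eq_bot' {H K : Subgroup M} (h : H ⊓ K = ⊥) :
    Nat.card H * Nat.card K ≤ Nat.card M :=
  (card_mul_card_le_of_inf_eq_bot h).trans (Subgroup.card_le_card_group _)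

/-- **Lemma 1.** -/
theorem lemma1 (ρ : B →* MulAut M) (ξ : MulAut M) (hc : ∀ a b : B, a * b = b * a) {r : ℕ}
    (hr : r.Prime) (hr2 : r ≠ 2) (hexp : ∀ b : B, b ^ r = 1) (hS : Setup ρ ξ) (hI : Irr ρ ξ) :
    ρ.ker.index ≤ r := by
  classical
  have hM := hS.exp2
  have hrodd : Odd r := hr.odd_of_ne_two hr2
  have hρexp : ∀ b : B, (ρ b) ^ r = 1 := fun b => by rw [← map_pow, hexp, map_one]
  -- `M` is nontrivial
  have hcardM : 4 ≤ Nat.card M := by
    have := hS.card_eq
    have h1 : 0 < Nat.card (fixS ξ) := Nat.card_pos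
    nlinarith
  -- a nontrivial invariant subgroup of least order
  obtain ⟨N₁, ⟨hN₁inv, hN₁ne⟩, hN₁min⟩ : ∃ N₁ : Subgroup M, (InvS ρ N₁ ∧ N₁ ≠ ⊥) ∧
      ∀ N : Subgroup M, (InvS ρ N ∧ N ≠ ⊥) → Nat.card N₁ ≤ Nat.card N := by
    have hne : ∃ N : Subgroup M, InvS ρ N ∧ N ≠ ⊥ := by
      refine ⟨⊤, fun _ _ _ => Subgroup.mem_top _, ?_⟩
      intro h
      have : Nat.card (⊤ : Subgroup M) = 1 := by rw [h, Subgroup.card_bot]
      rw [Subgroup.card_top] at this
      omega
    obtain ⟨N₁, hN₁, hmin⟩ := exists_minimalFor_of_wellFoundedLT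
      (fun N : Subgroup M => InvS ρ N ∧ N ≠ ⊥) (fun N : Subgroup M => Nat.card N) hne
    refine ⟨N₁, hN₁, fun N hN => ?_⟩
    by_contra hlt
    push Not at hlt
    exact (not_le.2 hlt) (hmin hN hlt.le)
  -- minimality in usable form
  have hmin' : ∀ N N' : Subgroup M, InvS ρ N → N ≠ ⊥ → N ≤ N' → Nat.card N' = Nat.card N₁ →
      N = N' := by
    intro N N' hN hNne hle hcard
    apply Subgroup.eq_of_le_of_card_ge hle
    rw [hcard]
    exact hN₁min N ⟨hN, hNne⟩
  set N₂ : Subgroup M := N₁.map ξ.toMonoidHom with hN₂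
  set N₃ : Subgroup M := N₂.map ξ.toMonoidHom with hN₃
  have hN₂inv : InvS ρ N₂ := hS.invS_map hN₁inv
  have hN₃inv : InvS ρ N₃ := hS.invS_map hN₂inv
  have hc2 : Nat.card N₂ = Nat.card N₁ := card_map_aut ξ N₁
  have hc3 : Nat.card N₃ = Nat.card N₁ := (card_map_aut ξ N₂).trans hc2
  have hcube : ∀ m : M, ξ (ξ (ξ m)) = m := by
    intro m
    have := congrArg (fun f : MulAut M => f m) hS.cube
    simpa [pow_succ, MulAut.mul_apply] using this
  have hN₃map : N₃.map ξ.toMonoidHom = N₁ := by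
    ext m
    constructor
    · rintro ⟨_, ⟨_, ⟨n, hn, rfl⟩, rfl⟩, rfl⟩
      show ξ (ξ (ξ n)) ∈ N₁
      rw [hcube]; exact hn
    · intro hm
      refine ⟨ξ (ξ m), ⟨ξ m, ⟨m, hm, rfl⟩, rfl⟩, ?_⟩
      show ξ (ξ (ξ m)) = m
      exact hcube m
  have hN₂ne : N₂ ≠ ⊥ := by
    intro h
    have : Nat.card N₂ = 1 := by rw [h, Subgroup.card_bot]
    have h1 : Nat.card N₁ = 1 := by omega
    exact hN₁ne (Subgroup.card_eq_one.1 h1)
  have hN₃ne : N₃ ≠ ⊥ := by
    intro h
    have : Nat.card N₃ = 1 := by rw [h, Subgroup.card_bot]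
    have h1 : Nat.card N₁ = 1 := by omega
    exact hN₁ne (Subgroup.card_eq_one.1 h1)
  -- the sum of the three translates is everything
  have hT : N₁ ⊔ N₂ ⊔ N₃ = ⊤ := by
    have hTinv : InvS ρ (N₁ ⊔ N₂ ⊔ N₃) := (hN₁inv.sup hN₂inv).sup hN₃inv
    have hTξ : ∀ n ∈ N₁ ⊔ N₂ ⊔ N₃, ξ n ∈ N₁ ⊔ N₂ ⊔ N₃ := by
      intro n hn
      obtain ⟨ab, hab, c, hc', rfl⟩ := Subgroup.mem_sup.1 hn
      obtain ⟨a, ha, b, hb, rfl⟩ := Subgroup.mem_sup.1 hab
      rw [map_mul, map_mul]
      have h1 : ξ a ∈ N₂ := ⟨a, ha, rfl⟩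
      have h2 : ξ b ∈ N₃ := ⟨b, hb, rfl⟩
      have h3 : ξ c ∈ N₁ := by rw [← hN₃map]; exact ⟨c, hc', rfl⟩
      have e : ξ a * ξ b * ξ c = ξ c * ξ a * ξ b := by
        rw [mul_comm (ξ a * ξ b), mul_assoc]
      rw [e]
      exact Subgroup.mul_mem_sup (Subgroup.mul_mem_sup h3 h1) h2
    rcases hI _ hTinv hTξ with h | h
    · exfalso
      apply hN₁ne
      rw [eq_bot_iff, ← h]
      exact le_sup_left.trans le_sup_left
    · exact h
  -- reduction: find invariant `N` with the fpf property on which trivial action means trivial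
  suffices hkey : ∃ N : Subgroup M, ∃ hinv : InvS ρ N, N ≠ ⊥ ∧
      (∀ b : B, ∀ n ∈ N, n ≠ 1 → ρ b n = n → ∀ n' ∈ N, ρ b n' = n') ∧
      (∀ b : B, (∀ n ∈ N, ρ b n = n) → ρ b = 1) by
    obtain ⟨N, hinv, hNne, hfpf, htriv⟩ := hkey
    have h1 := index_le_of_fpf ρ hc hr hexp N hNne hinv hfpf
    have h2 : (resHom ρ N hinv).ker ≤ ρ.ker := by
      intro b hb
      rw [MonoidHom.mem_ker]
      exact htriv b ((mem_ker_resHom ρ N hinv b).1 hb)
    have h3 := Subgroup.index_dvd_of_le h2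
    have h4 : (resHom ρ N hinv).ker.index ≠ 0 := Subgroup.index_ne_zero_of_finite
    exact (Nat.le_of_dvd (Nat.pos_of_ne_zero h4) h3).trans h1
  by_cases h12 : N₁ = N₂
  · -- `N₁` is `ξ`-invariant, hence everything
    have hN₁top : N₁ = ⊤ := by
      rcases hI N₁ hN₁inv (fun n hn => by rw [h12]; exact ⟨n, hn, rfl⟩) with h | h
      · exact absurd h hN₁ne
      · exact h
    refine ⟨⊤, fun _ _ _ => Subgroup.mem_top _, ?_, ?_, ?_⟩
    · rw [← hN₁top]; exact hN₁ne
    · intro b n _ hn1 hfix n' _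
      -- the fixed points of `ρ b` form an invariant subgroup
      have hFinv : InvS ρ (fixS (ρ b)) := by
        intro a m hm
        rw [mem_fixS] at hm ⊢
        have : ρ b (ρ a m) = ρ a (ρ b m) := by
          have h1 : ρ b * ρ a = ρ a * ρ b := by rw [← map_mul, ← map_mul, hc]
          have := congrArg (fun f : MulAut M => f m) h1
          simpa [MulAut.mul_apply] using this
        rw [this, hm]
      have hFne : fixS (ρ b) ≠ ⊥ := by
        intro h
        have : n ∈ fixS (ρ b) := mem_fixS.2 hfix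
        rw [h, Subgroup.mem_bot] at this
        exact hn1 this
      have hFtop : fixS (ρ b) = ⊤ :=
        hmin' _ ⊤ hFinv hFne le_top (by rw [hN₁top])
      have : n' ∈ fixS (ρ b) := by rw [hFtop]; exact Subgroup.mem_top _
      exact mem_fixS.1 this
    · intro b hb
      ext m
      exact hb m (Subgroup.mem_top _)
  · -- the three translates meet pairwise trivially
    have h12i : N₁ ⊓ N₂ = ⊥ := by
      by_contra hne
      have h1 := hmin' (N₁ ⊓ N₂) N₁ (hN₁inv.inf hN₂inv) hne inf_le_left rfl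
      have h2 : N₁ ≤ N₂ := by rw [← h1]; exact inf_le_right
      exact h12 (Subgroup.eq_of_le_of_card_ge h2 (by rw [hc2]))
    have h23i : N₂ ⊓ N₃ = ⊥ := by
      rw [hN₂, hN₃, ← hN₂, ← Subgroup.map_inf_eq _ _ _ ξ.injective, h12i, Subgroup.map_bot]
    have h31i : N₃ ⊓ N₁ = ⊥ := by
      conv_lhs => rw [← hN₃map]
      rw [hN₃, ← Subgroup.map_inf_eq _ _ _ ξ.injective, h23i, Subgroup.map_bot]
    have hfix1 : fixS ξ ⊓ N₁ = ⊥ := by
      rw [eq_bot_iff]
      rintro n ⟨hn1, hn2⟩
      rw [← h12i]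
      refine ⟨hn2, ?_⟩
      have hn1' : n ∈ fixS ξ := hn1
      rw [mem_fixS] at hn1'
      rw [← hn1']
      exact ⟨n, hn2, rfl⟩
    have hcard := hS.card_eq
    have hfpos : 0 < Nat.card (fixS ξ) := Nat.card_pos
    have hN₁le : Nat.card N₁ ≤ 4 := by
      have := card_mul_card_le_of_inf_eq_bot' hfix1
      rw [← hcard] at this
      exact Nat.le_of_mul_le_mul_left this hfpos
    have hN₂le : Nat.card N₂ ≤ 4 := hc2 ▸ hN₁le
    -- (i) an element fixing a nonidentity element of `N₁` (or `N₂`) fixes all of it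
    have hfpf₁ : ∀ b : B, ∀ n ∈ N₁, n ≠ 1 → ρ b n = n → ∀ n' ∈ N₁, ρ b n' = n' :=
      fun b n hn hn1 hfix n' hn' =>
        fix_all_of_fix_one hM (ρ b) hrodd (hρexp b) N₁ hN₁le (hN₁inv b) n hn hn1 hfix n' hn'
    have hfpf₂ : ∀ b : B, ∀ n ∈ N₂, n ≠ 1 → ρ b n = n → ∀ n' ∈ N₂, ρ b n' = n' :=
      fun b n hn hn1 hfix n' hn' =>
        fix_all_of_fix_one hM (ρ b) hrodd (hρexp b) N₂ hN₂le (hN₂inv b) n hn hn1 hfix n' hn'
    -- (ii) trivial on `N₁` implies trivial on `N₂`
    have hC2 : ∀ b : B, (∀ n ∈ N₁, ρ b n = n) → ∀ n ∈ N₂, ρ b n = n := by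
      intro b hb
      by_contra hcon
      push Not at hcon
      obtain ⟨n₂, hn₂, hn₂ne⟩ := hcon
      -- `ρ b` is fixed-point-free on `N₂`
      have hfree : ∀ n ∈ N₂, ρ b n = n → n = 1 := by
        intro n hn hfix
        by_contra hn1
        exact hn₂ne (hfpf₂ b n hn hn1 hfix n₂ hn₂)
      -- card N₁ = 4
      have hN₁4 : Nat.card N₁ = 4 := by
        -- otherwise card N₁ ≤ 3 and `ρ b` is trivial on `N₂`
        by_contra h4
        have h3 : Nat.card N₁ ≤ 3 := by omega
        -- N₂ has at most 3 elements, of exponent 2: at most 2 elements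
        obtain ⟨b', hb'⟩ := hS.norm_inv b
        -- every element acts trivially on a subgroup of order ≤ 3 of exponent 2
        have htriv : ∀ (g : MulAut M) (N : Subgroup M), Nat.card N ≤ 3 → (∀ n ∈ N, g n ∈ N) →
            ∀ n ∈ N, g n = n := by
          intro g N hN hg n hn
          by_contra hgn
          have hn1 : n ≠ 1 := by
            intro h; rw [h, map_one] at hgn; exact hgn rfl
          have hgn1 : g n ≠ 1 := by
            intro h; exact hn1 (by simpa using h)
          have hprod1 : g n * n ≠ 1 := by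
            intro h
            apply hgn
            have : g n = n⁻¹ := eq_inv_of_mul_eq_one_left h
            rw [this, inv_eq_self (hM n)]
          have hprod2 : g n * n ≠ n := by
            intro h; exact hgn1 (by simpa using h)
          have hprod3 : g n * n ≠ g n := by
            intro h; exact hn1 (by simpa using h)
          have ha : n ∉ ({1} : Finset M) := by simp [hn1]
          have hb2 : g n ∉ insert n ({1} : Finset M) := by simp [hgn, hgn1]
          have hc3 : g n * n ∉ insert (g n) (insert n ({1} : Finset M)) := by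
            simp [hprod1, hprod2, hprod3, hn1, hgn1]
          have hcard4 : (insert (g n * n) (insert (g n) (insert n ({1} : Finset M)))).card = 4 := by
            rw [Finset.card_insert_of_notMem hc3, Finset.card_insert_of_notMem hb2,
              Finset.card_insert_of_notMem ha, Finset.card_singleton]
          have hsub : ((insert (g n * n) (insert (g n) (insert n ({1} : Finset M))) :
              Finset M) : Set M) ⊆ (N : Set M) := by
            intro y hy
            simp only [Finset.coe_insert, Finset.coe_singleton, Set.mem_insert_iff,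
              Set.mem_singleton_iff] at hy
            rcases hy with rfl | rfl | rfl | rfl
            · exact N.mul_mem (hg n hn) hn
            · exact hg n hn
            · exact hn
            · exact N.one_mem
          have h6 := Set.ncard_le_ncard hsub (Set.toFinite _)
          rw [Set.ncard_coe_finset, hcard4, ← Nat.card_coe_set_eq] at h6
          have h7 : Nat.card (↥(N : Set M)) = Nat.card N := rfl
          omega
        exact hn₂ne (htriv (ρ b) N₂ (by omega) (hN₂inv b) n₂ hn₂)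
      -- N₃ ≤ N₁ ⊔ N₂
      have hN₃le : N₃ ≤ N₁ ⊔ N₂ := by
        have hne : N₃ ⊓ (N₁ ⊔ N₂) ≠ ⊥ := by
          intro hbot
          -- then fixS ξ ⊓ (N₁ ⊔ N₂) = ⊥
          have hfx : fixS ξ ⊓ (N₁ ⊔ N₂) = ⊥ := by
            rw [eq_bot_iff]
            rintro m ⟨hm1, hm2⟩
            have hm1' : m ∈ fixS ξ := hm1
            clear hm1
            rw [mem_fixS] at hm1'
            obtain ⟨a, ha, c, hc', rfl⟩ := Subgroup.mem_sup.1 hm2
            have hm1 := hm1'
            rw [map_mul] at hm1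
            -- ξ c ∈ N₃ ⊓ (N₁ ⊔ N₂)
            have h1 : ξ c ∈ N₃ := ⟨c, hc', rfl⟩
            have h2 : ξ c = a * c * (ξ a)⁻¹ := by
              rw [← hm1]; simp [mul_comm]
            have h3 : ξ c ∈ N₁ ⊔ N₂ := by
              rw [h2]
              have : a * c * (ξ a)⁻¹ = a * (c * (ξ a)⁻¹) := mul_assoc _ _ _
              rw [this]
              exact Subgroup.mul_mem_sup ha (N₂.mul_mem hc' (N₂.inv_mem ⟨a, ha, rfl⟩))
            have h4 : ξ c ∈ N₃ ⊓ (N₁ ⊔ N₂) := ⟨h1, h3⟩
            rw [hbot, Subgroup.mem_bot] at h4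
            have hc1 : c = 1 := by simpa using h4
            rw [hc1, map_one, mul_one, mul_one] at hm1
            have h5 : a ∈ N₁ ⊓ N₂ := ⟨ha, by rw [← hm1]; exact ⟨a, ha, rfl⟩⟩
            rw [h12i, Subgroup.mem_bot] at h5
            rw [Subgroup.mem_bot, h5, hc1, mul_one]
          have h1 := card_mul_card_le_of_inf_eq_bot' hfx
          have h2 := card_mul_card_le_of_inf_eq_bot h12i
          rw [hc2, hN₁4] at h2
          rw [← hcard] at h1
          have h3 : Nat.card (N₁ ⊔ N₂ : Subgroup M) ≤ 4 := Nat.le_of_mul_le_mul_left h1 hfpos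
          omega
        have h1 := hmin' (N₃ ⊓ (N₁ ⊔ N₂)) N₃ (hN₃inv.inf (hN₁inv.sup hN₂inv)) hne inf_le_left hc3
        rw [← h1]; exact inf_le_right
      -- now `N₃ = ⊥`, a contradiction
      apply hN₃ne
      rw [eq_bot_iff]
      intro n₃ hn₃
      obtain ⟨a, ha, c, hc', rfl⟩ := Subgroup.mem_sup.1 (hN₃le hn₃)
      have h1 : ρ b (a * c) ∈ N₃ := hN₃inv b _ hn₃
      rw [map_mul, hb a ha] at h1
      have h2 : ρ b c * c⁻¹ ∈ N₃ := by
        have : ρ b c * c⁻¹ = (a * ρ b c) * (a * c)⁻¹ := by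
          rw [mul_inv, mul_mul_mul_comm, mul_inv_cancel, one_mul]
        rw [this]
        exact N₃.mul_mem h1 (N₃.inv_mem hn₃)
      have h3 : ρ b c * c⁻¹ ∈ N₂ ⊓ N₃ := ⟨N₂.mul_mem (hN₂inv b c hc') (N₂.inv_mem hc'), h2⟩
      rw [h23i, Subgroup.mem_bot, mul_inv_eq_one] at h3
      have hc1 : c = 1 := hfree c hc' h3
      rw [hc1, mul_one] at hn₃ ⊢
      have h4 : a ∈ N₃ ⊓ N₁ := ⟨hn₃, ha⟩
      rw [h31i] at h4
      exact h4
    -- (iii) trivial on `N₂` implies trivial on `N₃`
    have hC3 : ∀ b : B, (∀ n ∈ N₂, ρ b n = n) → ∀ n ∈ N₃, ρ b n = n := by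
      intro b hb
      obtain ⟨b', hb'⟩ := hS.norm_inv b
      have h1 : ∀ n ∈ N₁, ρ b' n = n := by
        intro n hn
        rw [← hb']
        show ξ⁻¹ (ρ b (ξ n)) = n
        rw [hb (ξ n) ⟨n, hn, rfl⟩]
        simp
      have h2 := hC2 b' h1
      rintro _ ⟨n, hn, rfl⟩
      have h3 := h2 n hn
      rw [← hb'] at h3
      have h4 : ξ⁻¹ (ρ b (ξ n)) = n := h3
      have h5 := congrArg ξ h4
      simpa using h5
    refine ⟨N₁, hN₁inv, hN₁ne, hfpf₁, ?_⟩
    intro b hb
    have hb2 := hC2 b hb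
    have hb3 := hC3 b hb2
    ext m
    have hm : m ∈ N₁ ⊔ N₂ ⊔ N₃ := by rw [hT]; exact Subgroup.mem_top _
    obtain ⟨ab, hab, c, hc', rfl⟩ := Subgroup.mem_sup.1 hm
    obtain ⟨a, ha, d, hd, rfl⟩ := Subgroup.mem_sup.1 hab
    show ρ b (a * d * c) = a * d * c
    rw [map_mul, map_mul, hb a ha, hb2 d hd, hb3 c hc']

end Cfsg.Agent.Helper18.N5
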