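import Mathlib
import Cfsg.Agent.Lib.Helper18.N5L1
import Cfsg.Agent.Lib.Helper19.CoprimeAbelian

/-!
# Reduction to the irreducible case and Theorem A (helper18, S4404)
-/

set_option autoImplicit false
set_option linter.style.haveILetI false

namespace Cfsg.Agent.Helper18.N5

open Cfsg.Agent.Helper19

variable {M : Type*} [CommGroup M] [Finite M] {B : Type*} [Group B]

/-- the group generated by `ρ(B)` and `ξ` -/
def gen (ρ : B →* MulAut M) (ξ : MulAut M) : Subgroup (MulAut M) :=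
  Subgroup.closure (Set.range ρ ∪ {ξ})

theorem inv_gen {ρ : B →* MulAut M} {ξ : MulAut M} {N : Subgroup M} (h : InvS ρ N)
    (hξ : ∀ n ∈ N, ξ n ∈ N) (hξ' : ∀ n ∈ N, ξ⁻¹ n ∈ N) :
    ∀ g ∈ gen ρ ξ, ∀ n ∈ N, g n ∈ N := by
  have key : ∀ g ∈ gen ρ ξ, (∀ n ∈ N, g n ∈ N) ∧ (∀ n ∈ N, g⁻¹ n ∈ N) := by
    intro g hg
    unfold gen at hg
    induction hg using Subgroup.closure_induction with
    | mem x hx =>
      rcases hx with ⟨b, rfl⟩ | hx
      · refine ⟨h b, ?_⟩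
        rw [← map_inv]; exact h b⁻¹
      · rw [Set.mem_singleton_iff] at hx
        subst hx
        exact ⟨hξ, hξ'⟩
    | one => exact ⟨fun n hn => hn, fun n hn => by simpa using hn⟩
    | mul x y _ _ hx hy =>
      refine ⟨fun n hn => hx.1 _ (hy.1 n hn), fun n hn => ?_⟩
      rw [mul_inv_rev]
      exact hy.2 _ (hx.2 n hn)
    | inv x _ hx =>
      refine ⟨hx.2, ?_⟩
      rw [inv_inv]; exact hx.1
  exact fun g hg => (key g hg).1

theorem Setup.cube_apply {ρ : B →* MulAut M} {ξ : MulAut M} (hS : Setup ρ ξ) (m : M) :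
    ξ (ξ (ξ m)) = m := by
  have := congrArg (fun f : MulAut M => f m) hS.cube
  simpa [pow_succ, MulAut.mul_apply] using this

theorem Setup.inv_apply {ρ : B →* MulAut M} {ξ : MulAut M} (hS : Setup ρ ξ) (m : M) :
    ξ⁻¹ m = ξ (ξ m) := by
  rw [hS.inv_eq_sq, pow_two, MulAut.mul_apply]

/-- `fixS ξ ⊓ comm ξ = ⊥` -/
theorem Setup.fix_inf_comm {ρ : B →* MulAut M} {ξ : MulAut M} (hS : Setup ρ ξ) :
    fixS ξ ⊓ comm ξ = ⊥ := by
  rw [eq_bot_iff]
  rintro v ⟨hv1, hv2⟩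
  have hv1' : v ∈ fixS ξ := hv1
  rw [mem_fixS] at hv1'
  obtain ⟨m, rfl⟩ := mem_comm.1 hv2
  rw [Subgroup.mem_bot]
  -- v * ξ v * ξ² v = 1
  have h1 : (ξ m * m⁻¹) * ξ (ξ m * m⁻¹) * ξ (ξ (ξ m * m⁻¹)) = 1 := by
    simp only [map_mul, map_inv, hS.cube_apply]
    have : ξ m * m⁻¹ * (ξ (ξ m) * (ξ m)⁻¹) * (m * (ξ (ξ m))⁻¹) =
        (ξ m * (ξ m)⁻¹) * (m⁻¹ * m) * (ξ (ξ m) * (ξ (ξ m))⁻¹) := by
      ac_rfl
    rw [this]; simp
  rw [hv1', hv1'] at h1
  -- v³ = 1 and v² = 1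
  have h2 := hS.exp2 (ξ m * m⁻¹)
  have h3 : (ξ m * m⁻¹) ^ 3 = 1 := by rw [pow_succ, pow_two]; exact h1
  have h4 : (ξ m * m⁻¹) ^ 3 = ξ m * m⁻¹ := by rw [pow_succ, h2, one_mul]
  rw [← h4, h3]

/-- **Reduction to the irreducible case.** -/
theorem exists_irr (ρ : B →* MulAut M) (ξ : MulAut M) (hS : Setup ρ ξ)
    (L : Subgroup (MulAut M)) (hL : Odd (Nat.card L)) (hρL : ∀ b, ρ b ∈ L) (hξL : ξ ∈ L) :
    ∃ M₀ : Subgroup M, ∃ (h1 : InvS ρ M₀) (h2 : ∀ n ∈ M₀, ξ n ∈ M₀)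
      (h3 : ∀ n ∈ M₀, ξ⁻¹ n ∈ M₀),
      comm ξ ≤ M₀ ∧ Setup (resHom ρ M₀ h1) (resAut ξ M₀ h2 h3) ∧
        Irr (resHom ρ M₀ h1) (resAut ξ M₀ h2 h3) := by
  classical
  haveI : Finite (MulAut M) := Finite.of_injective (fun f : MulAut M => (f : M → M))
    (fun f g h => MulEquiv.ext (congrFun h))
  have hM := hS.exp2
  -- `ξ` is not the identity
  have hξne : ¬ ∀ n ∈ (⊤ : Subgroup M), ξ n = n := by
    intro h
    have : comm ξ = ⊥ := by
      rw [eq_bot_iff]
      intro v hv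
      obtain ⟨m, rfl⟩ := mem_comm.1 hv
      rw [Subgroup.mem_bot, h m (Subgroup.mem_top _), mul_inv_cancel]
    have h4 := hS.card4
    rw [this, Subgroup.card_bot] at h4
    omega
  -- a minimal invariant subgroup on which `ξ` is non-trivial
  let P : Subgroup M → Prop := fun N =>
    InvS ρ N ∧ (∀ n ∈ N, ξ n ∈ N) ∧ ¬ ∀ n ∈ N, ξ n = n
  have hne : ∃ N, P N :=
    ⟨⊤, fun _ _ _ => Subgroup.mem_top _, fun _ _ => Subgroup.mem_top _, hξne⟩
  obtain ⟨M₀, hM₀, hmin⟩ := exists_minimalFor_of_wellFoundedLT P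
    (fun N : Subgroup M => Nat.card N) hne
  have hmin' : ∀ N : Subgroup M, InvS ρ N → (∀ n ∈ N, ξ n ∈ N) → Nat.card N < Nat.card M₀ →
      ∀ n ∈ N, ξ n = n := by
    intro N hN1 hN2 hlt
    by_contra hcon
    exact (not_le.2 hlt) (hmin ⟨hN1, hN2, hcon⟩ hlt.le)
  obtain ⟨h1, h2, hnt⟩ := hM₀
  have h3 : ∀ n ∈ M₀, ξ⁻¹ n ∈ M₀ := by
    intro n hn
    rw [hS.inv_apply]
    exact h2 _ (h2 n hn)
  -- the commutator of `ξ` on `M₀`
  set U : Subgroup M := M₀.map (cHom ξ) with hU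
  have hUM₀ : U ≤ M₀ := by
    rintro _ ⟨n, hn, rfl⟩
    exact M₀.mul_mem (h2 n hn) (M₀.inv_mem hn)
  have hUc : U ≤ comm ξ := by
    rintro _ ⟨n, _, rfl⟩
    exact ⟨n, rfl⟩
  have hUξ : ∀ u ∈ U, ξ u ∈ U := by
    rintro _ ⟨n, hn, rfl⟩
    refine ⟨ξ n, h2 n hn, ?_⟩
    simp only [cHom_apply, map_mul, map_inv]
  have hUne : U ≠ ⊥ := by
    intro h
    apply hnt
    intro n hn
    have : cHom ξ n ∈ U := ⟨n, hn, rfl⟩
    rw [h, Subgroup.mem_bot, cHom_apply, mul_inv_eq_one] at this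
    exact this
  have hUeq : U = comm ξ := by
    apply Subgroup.eq_of_le_of_card_ge hUc
    rw [hS.card4]
    -- card U ∣ 4, ≠ 1, ≠ 2
    have hdvd : Nat.card U ∣ 4 := by
      rw [← hS.card4]; exact Subgroup.card_dvd_of_le hUc
    have h1' : Nat.card U ≠ 1 := fun h => hUne (Subgroup.card_eq_one.1 h)
    have h2' : Nat.card U ≠ 2 := by
      intro hc2
      -- the unique nonidentity element is fixed by ξ
      obtain ⟨u, huU, hu1⟩ : ∃ u ∈ U, u ≠ 1 := by
        by_contra hcon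
        push Not at hcon
        apply hUne
        rw [eq_bot_iff]
        intro u hu
        rw [Subgroup.mem_bot]; exact hcon u hu
      have hfix : ξ u = u := by
        by_contra hne'
        have hξu1 : ξ u ≠ 1 := by
          intro h; exact hu1 (by simpa using h)
        have ha : u ∉ ({1} : Finset M) := by simp [hu1]
        have hb : ξ u ∉ insert u ({1} : Finset M) := by simp [hne', hξu1]
        have hcard3 : (insert (ξ u) (insert u ({1} : Finset M))).card = 3 := by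
          rw [Finset.card_insert_of_notMem hb, Finset.card_insert_of_notMem ha,
            Finset.card_singleton]
        have hsub : ((insert (ξ u) (insert u ({1} : Finset M)) : Finset M) : Set M) ⊆
            (U : Set M) := by
          intro y hy
          simp only [Finset.coe_insert, Finset.coe_singleton, Set.mem_insert_iff,
            Set.mem_singleton_iff] at hy
          rcases hy with rfl | rfl | rfl
          · exact hUξ _ huU
          · exact huU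
          · exact U.one_mem
        have h6 := Set.ncard_le_ncard hsub (Set.toFinite _)
        rw [Set.ncard_coe_finset, hcard3, ← Nat.card_coe_set_eq] at h6
        have h7 : Nat.card (↥(U : Set M)) = Nat.card U := rfl
        omega
      have : u ∈ fixS ξ ⊓ comm ξ := ⟨mem_fixS.2 hfix, hUc huU⟩
      rw [hS.fix_inf_comm, Subgroup.mem_bot] at this
      exact hu1 this
    have hle : Nat.card U ≤ 4 := Nat.le_of_dvd (by norm_num) hdvd
    have hpos : 0 < Nat.card U := Nat.card_pos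
    interval_cases h : Nat.card U
    · exact absurd rfl h1'
    · exact absurd rfl h2'
    · norm_num at hdvd
    · exact le_refl _
  have hcommM₀ : comm ξ ≤ M₀ := hUeq ▸ hUM₀
  refine ⟨M₀, h1, h2, h3, hcommM₀, ?_, ?_⟩
  · -- the restricted setup
    refine ⟨fun m => Subtype.ext (by simpa using hM m), ?_, ?_, ?_⟩
    · ext n
      show ξ (ξ (ξ (n : M))) = n
      exact hS.cube_apply _
    · intro b
      obtain ⟨b', hb'⟩ := hS.norm b
      refine ⟨b', ?_⟩
      ext n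
      show ξ (ρ b (ξ⁻¹ (n : M))) = ρ b' n
      rw [← hb']; rfl
    · -- card of the restricted commutator
      have : (comm (resAut ξ M₀ h2 h3)).map M₀.subtype = U := by
        ext y
        constructor
        · rintro ⟨_, ⟨n, rfl⟩, rfl⟩
          exact ⟨n, n.2, rfl⟩
        · rintro ⟨n, hn, rfl⟩
          exact ⟨_, ⟨⟨n, hn⟩, rfl⟩, rfl⟩
      rw [← Subgroup.card_map_of_injective M₀.subtype_injective, this, hUeq, hS.card4]
  · -- irreducibility
    intro N' hN'1 hN'2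
    by_contra hcon
    push Not at hcon
    obtain ⟨hN'bot, hN'top⟩ := hcon
    set N : Subgroup M := N'.map M₀.subtype with hN
    have hNM₀ : N ≤ M₀ := Subgroup.map_subtype_le _
    have hNinv : InvS ρ N := by
      rintro b _ ⟨n, hn, rfl⟩
      exact ⟨_, hN'1 b n hn, rfl⟩
    have hNξ : ∀ n ∈ N, ξ n ∈ N := by
      rintro _ ⟨n, hn, rfl⟩
      exact ⟨_, hN'2 n hn, rfl⟩
    have hNξ' : ∀ n ∈ N, ξ⁻¹ n ∈ N := by
      intro n hn
      rw [hS.inv_apply]
      exact hNξ _ (hNξ n hn)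
    have hNne : N ≠ M₀ := by
      intro h
      apply hN'top
      rw [eq_top_iff]
      intro n _
      have : (n : M) ∈ N := by rw [h]; exact n.2
      obtain ⟨n', hn', hnn'⟩ := this
      have : n' = n := Subtype.ext hnn'
      rwa [← this]
    have hNlt : Nat.card N < Nat.card M₀ := by
      by_contra hge
      push Not at hge
      exact hNne (Subgroup.eq_of_le_of_card_ge hNM₀ hge)
    have hNtriv := hmin' N hNinv hNξ hNlt
    -- Maschke
    set Γ := gen ρ ξ with hΓ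
    have hΓL : Γ ≤ L := by
      rw [hΓ]; unfold gen
      rw [Subgroup.closure_le]
      rintro x (⟨b, rfl⟩ | hx)
      · exact hρL b
      · rw [Set.mem_singleton_iff] at hx; rw [hx]; exact hξL
    have hco : (Nat.card Γ).Coprime 2 := by
      have h1' : Nat.card Γ ∣ Nat.card L := Subgroup.card_dvd_of_le hΓL
      have h2' : Odd (Nat.card Γ) := Odd.of_dvd_nat hL h1'
      exact Nat.Coprime.symm (Nat.coprime_two_left.2 h2')
    have hρΓ : ∀ b, ρ b ∈ Γ := fun b => Subgroup.subset_closure (Or.inl ⟨b, rfl⟩)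
    have hξΓ : ξ ∈ Γ := Subgroup.subset_closure (Or.inr rfl)
    have hM₀Γ : CoAb.Inv Γ M₀ := fun g n hn => inv_gen h1 h2 h3 g g.2 n hn
    have hNΓ : CoAb.Inv Γ N := fun g n hn => inv_gen hNinv hNξ hNξ' g g.2 n hn
    haveI : Fact (Nat.Prime 2) := ⟨Nat.prime_two⟩
    obtain ⟨N'', hN''inv, hN''le, hinf, hsup⟩ :=
      CoAb.exists_inv_compl_rel (Γ := Γ) (p := 2) hco hM₀Γ (fun b _ => hM b) hNΓ hNM₀
    have hN''1 : InvS ρ N'' := fun b n hn => hN''inv ⟨ρ b, hρΓ b⟩ n hn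
    have hN''2 : ∀ n ∈ N'', ξ n ∈ N'' := fun n hn => hN''inv ⟨ξ, hξΓ⟩ n hn
    have hN''ne : N'' ≠ M₀ := by
      intro h
      rw [h, inf_eq_left.2 hNM₀] at hinf
      apply hN'bot
      rw [eq_bot_iff]
      intro n hn
      have : (n : M) ∈ N := ⟨n, hn, rfl⟩
      rw [hinf, Subgroup.mem_bot] at this
      rw [Subgroup.mem_bot]; exact Subtype.ext this
    have hN''lt : Nat.card N'' < Nat.card M₀ := by
      by_contra hge
      push Not at hge
      exact hN''ne (Subgroup.eq_of_le_of_card_ge hN''le hge)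
    have hN''triv := hmin' N'' hN''1 hN''2 hN''lt
    apply hnt
    intro n hn
    rw [← hsup] at hn
    obtain ⟨a, ha, c, hc, rfl⟩ := Subgroup.mem_sup.1 hn
    rw [map_mul, hNtriv a ha, hN''triv c hc]

/-- **Theorem A.** -/
theorem thmA [Finite B] (ρ : B →* MulAut M) (ξ : MulAut M) (hc : ∀ a b : B, a * b = b * a)
    {r : ℕ} (hr : r.Prime) (hr2 : r ≠ 2) (hexp : ∀ b : B, b ^ r = 1) (hS : Setup ρ ξ)
    (L : Subgroup (MulAut M)) (hL : Odd (Nat.card L)) (hρL : ∀ b, ρ b ∈ L) (hξL : ξ ∈ L) :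
    ∃ K : Subgroup B, K.index ≤ r ∧ ∀ k ∈ K, ∀ v ∈ comm ξ, ρ k v = v := by
  obtain ⟨M₀, h1, h2, h3, hle, hS₀, hI₀⟩ := exists_irr ρ ξ hS L hL hρL hξL
  refine ⟨(resHom ρ M₀ h1).ker, lemma1 _ _ hc hr hr2 hexp hS₀ hI₀, ?_⟩
  intro k hk v hv
  exact (mem_ker_resHom ρ M₀ h1 k).1 hk v (hle hv)

end Cfsg.Agent.Helper18.N5
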