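import Mathlib
import Cfsg.Agent.Lib.Helper18.N5A
import Cfsg.Agent.S0065

/-!
# Lemma 2 (irreducible `p`-group case) and Theorem B (helper18, S4404)
-/

set_option autoImplicit false
set_option linter.style.haveILetI false

namespace Cfsg.Agent.Helper18.N5

variable {M : Type*} [CommGroup M] [Finite M]

/-- common fixed points of a set of automorphisms -/
def fixedBy (X : Set (MulAut M)) : Subgroup M where
  carrier := {m | ∀ g ∈ X, g m = m}
  mul_mem' := fun {a b} ha hb g hg => by rw [map_mul, ha g hg, hb g hg]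
  one_mem' := fun g _ => map_one g
  inv_mem' := fun {a} ha g hg => by rw [map_inv, ha g hg]

theorem mem_fixedBy {X : Set (MulAut M)} {m : M} : m ∈ fixedBy X ↔ ∀ g ∈ X, g m = m := Iff.rfl

/-- a nontrivial subgroup of a finite `p`-group contains an element of order `p` -/
theorem exists_orderOf_eq_prime {G : Type*} [Group G] [Finite G] {p : ℕ} [hp : Fact p.Prime]
    (hG : IsPGroup p G) (N : Subgroup G) (hN : N ≠ ⊥) : ∃ c ∈ N, orderOf c = p := by
  have hNp : IsPGroup p N := hG.to_subgroup N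
  obtain ⟨n, hn⟩ := IsPGroup.iff_card.1 hNp
  have hn0 : n ≠ 0 := by
    intro h
    rw [h, pow_zero] at hn
    exact hN (Subgroup.card_eq_one.1 hn)
  have hdvd : p ∣ Nat.card N := by rw [hn]; exact dvd_pow_self p hn0
  obtain ⟨c, hc⟩ := exists_prime_orderOf_dvd_card' (G := N) p hdvd
  exact ⟨c, c.2, by rw [← hc]; exact (Subgroup.orderOf_coe c)⟩

/-- **Lemma 2.** -/
theorem lemma2 {P : Type*} [Group P] [Finite P] (ρ : P →* MulAut M) (ξ : MulAut M) {p : ℕ}
    (hp : p.Prime) (hp5 : 5 ≤ p) (hP : IsPGroup p P) (hS : Setup ρ ξ) (hI : Irr ρ ξ)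
    (L : Subgroup (MulAut M)) (hL : Odd (Nat.card L)) (hρL : ∀ b, ρ b ∈ L) (hξL : ξ ∈ L) :
    ρ.ker.index ≤ p := by
  classical
  haveI : Fact p.Prime := ⟨hp⟩
  haveI : Finite (MulAut M) := Finite.of_injective (fun f : MulAut M => (f : M → M))
    (fun f g h => MulEquiv.ext (congrFun h))
  have hp2 : p ≠ 2 := by omega
  rw [Subgroup.index_ker]
  set R : Subgroup (MulAut M) := ρ.range with hR
  have hRp : IsPGroup p R := hP.of_surjective ρ.rangeRestrict ρ.rangeRestrict_surjective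
  by_cases hRbot : R = ⊥
  · rw [hRbot, Subgroup.card_bot]; exact hp.one_lt.le
  have hRnorm : ∀ g ∈ R, ξ * g * ξ⁻¹ ∈ R := by
    rintro _ ⟨b, rfl⟩
    obtain ⟨b', hb'⟩ := hS.norm b
    exact ⟨b', hb'.symm⟩
  have hRnorm' : ∀ g ∈ R, ξ⁻¹ * g * ξ ∈ R := by
    rintro _ ⟨b, rfl⟩
    obtain ⟨b', hb'⟩ := hS.norm_inv b
    exact ⟨b', hb'.symm⟩
  -- `Ω`: central elements of `R` of order dividing `p`
  let Ω : Subgroup (MulAut M) :=
    { carrier := {z | z ∈ R ∧ (∀ g ∈ R, g * z = z * g) ∧ z ^ p = 1}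
      mul_mem' := by
        rintro z w ⟨hz1, hz2, hz3⟩ ⟨hw1, hw2, hw3⟩
        refine ⟨R.mul_mem hz1 hw1, ?_, ?_⟩
        · intro g hg
          rw [← mul_assoc, hz2 g hg, mul_assoc, hw2 g hg, mul_assoc]
        · have : Commute z w := (hz2 w hw1).symm
          rw [this.mul_pow, hz3, hw3, one_mul]
      one_mem' := ⟨R.one_mem, fun g _ => by rw [mul_one, one_mul], one_pow _⟩
      inv_mem' := by
        rintro z ⟨hz1, hz2, hz3⟩
        refine ⟨R.inv_mem hz1, ?_, by rw [inv_pow, hz3, inv_one]⟩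
        intro g hg
        have := hz2 g hg
        calc g * z⁻¹ = z⁻¹ * (z * g) * z⁻¹ := by group
          _ = z⁻¹ * (g * z) * z⁻¹ := by rw [this]
          _ = z⁻¹ * g := by group }
  have hΩmem : ∀ z, z ∈ Ω ↔ z ∈ R ∧ (∀ g ∈ R, g * z = z * g) ∧ z ^ p = 1 := fun _ => Iff.rfl
  -- conjugation invariance
  have hΩξ : ∀ z ∈ Ω, ξ * z * ξ⁻¹ ∈ Ω := by
    rintro z ⟨hz1, hz2, hz3⟩
    refine ⟨hRnorm z hz1, ?_, by rw [conj_pow, hz3, mul_one, mul_inv_cancel]⟩
    intro g hg
    have h1 := hz2 _ (hRnorm' g hg)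
    calc g * (ξ * z * ξ⁻¹) = ξ * ((ξ⁻¹ * g * ξ) * z) * ξ⁻¹ := by group
      _ = ξ * (z * (ξ⁻¹ * g * ξ)) * ξ⁻¹ := by rw [h1]
      _ = ξ * z * ξ⁻¹ * g := by group
  have hΩξ' : ∀ z ∈ Ω, ξ⁻¹ * z * ξ ∈ Ω := by
    rintro z ⟨hz1, hz2, hz3⟩
    refine ⟨hRnorm' z hz1, ?_, ?_⟩
    · intro g hg
      have h1 := hz2 _ (hRnorm g hg)
      calc g * (ξ⁻¹ * z * ξ) = ξ⁻¹ * ((ξ * g * ξ⁻¹) * z) * ξ := by group
        _ = ξ⁻¹ * (z * (ξ * g * ξ⁻¹)) * ξ := by rw [h1]
        _ = ξ⁻¹ * z * ξ * g := by group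
    · have : ξ⁻¹ * z * ξ = ξ⁻¹ * z * ξ⁻¹⁻¹ := by rw [inv_inv]
      rw [this, conj_pow, hz3, mul_one, inv_inv, inv_mul_cancel]
  -- `Ω ≠ ⊥`
  have hcen : ∀ c : R, c ∈ Subgroup.center R → ∀ g ∈ R, g * (c : MulAut M) = (c : MulAut M) * g := by
    intro c hc g hg
    have := Subgroup.mem_center_iff.1 hc ⟨g, hg⟩
    exact congrArg Subtype.val this
  have hΩne : ∃ z ∈ Ω, z ≠ 1 := by
    haveI : Nontrivial R := (Subgroup.nontrivial_iff_ne_bot R).2 hRbot
    haveI := hRp.center_nontrivial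
    have hcne : Subgroup.center R ≠ ⊥ := (Subgroup.nontrivial_iff_ne_bot _).1 inferInstance
    obtain ⟨c, hc, hcp⟩ := exists_orderOf_eq_prime hRp (Subgroup.center R) hcne
    refine ⟨(c : MulAut M), ⟨c.2, hcen c hc, ?_⟩, ?_⟩
    · have : c ^ p = 1 := by rw [← hcp]; exact pow_orderOf_eq_one c
      have := congrArg Subtype.val this
      simpa using this
    · intro h
      have : c = 1 := Subtype.ext h
      rw [this, orderOf_one] at hcp
      exact hp.one_lt.ne hcp
  -- Theorem A for `Ω`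
  have hSΩ : Setup Ω.subtype ξ :=
    ⟨hS.exp2, hS.cube, fun z => ⟨⟨ξ * z * ξ⁻¹, hΩξ z z.2⟩, rfl⟩, hS.card4⟩
  have hΩc : ∀ a b : Ω, a * b = b * a := fun a b => Subtype.ext ((b.2.2.1 a a.2.1))
  have hΩexp : ∀ b : Ω, b ^ p = 1 := fun b => Subtype.ext (by simpa using b.2.2.2)
  obtain ⟨K, hKidx, hK⟩ := thmA Ω.subtype ξ hΩc hp hp2 hΩexp hSΩ L hL
    (fun z => by
      obtain ⟨b, hb⟩ := z.2.1
      show (z : MulAut M) ∈ L
      rw [← hb]; exact hρL b) hξL
  -- fixed points of central, `ξ`-stable sets are invariant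
  have hfixinv : ∀ X : Set (MulAut M), X ⊆ Ω → (∀ z ∈ X, ξ⁻¹ * z * ξ ∈ X) →
      InvS ρ (fixedBy X) ∧ ∀ n ∈ fixedBy X, ξ n ∈ fixedBy X := by
    intro X hXΩ hXξ
    constructor
    · intro b m hm z hz
      have h1 := (hXΩ hz).2.1 (ρ b) ⟨b, rfl⟩
      have h2 := congrArg (fun f : MulAut M => f m) h1
      simp only [MulAut.mul_apply] at h2
      rw [← h2, hm z hz]
    · intro m hm z hz
      have h1 := hm _ (hXξ z hz)
      simp only [MulAut.mul_apply] at h1
      have h2 := congrArg ξ h1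
      simpa using h2
  -- `Ω₀`: elements of `Ω` fixing `comm ξ` pointwise
  let X₀ : Set (MulAut M) := {z | z ∈ Ω ∧ ∀ v ∈ comm ξ, z v = v}
  have hX₀ : fixedBy X₀ = ⊤ := by
    obtain ⟨h1, h2⟩ := hfixinv X₀ (fun z hz => hz.1) (by
      rintro z ⟨hz1, hz2⟩
      refine ⟨hΩξ' z hz1, fun v hv => ?_⟩
      simp only [MulAut.mul_apply]
      rw [hz2 _ (map_mem_comm hv)]
      simp)
    rcases hI _ h1 h2 with h | h
    · exfalso
      have hle : comm ξ ≤ fixedBy X₀ := fun v hv z hz => hz.2 v hv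
      rw [h, le_bot_iff] at hle
      have := hS.card4
      rw [hle, Subgroup.card_bot] at this
      omega
    · exact h
  have hX₀triv : ∀ z ∈ X₀, z = 1 := by
    intro z hz
    ext m
    have : m ∈ fixedBy X₀ := by rw [hX₀]; exact Subgroup.mem_top _
    exact this z hz
  have hKbot : K = ⊥ := by
    rw [eq_bot_iff]
    intro k hk
    rw [Subgroup.mem_bot]
    apply Subtype.ext
    exact hX₀triv _ ⟨k.2, hK k hk⟩
  have hΩcard : Nat.card Ω ≤ p := by
    rw [hKbot, Subgroup.index_bot] at hKidx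
    exact hKidx
  -- every non-identity element of `Ω` is fixed-point-free
  have hΩfpf : ∀ w ∈ Ω, w ≠ 1 → fixS w = ⊥ := by
    intro w hw hw1
    -- `Ω = zpowers w`
    have hordw : orderOf w = p := by
      have h1 : orderOf w ∣ p := orderOf_dvd_of_pow_eq_one hw.2.2
      rcases (Nat.dvd_prime hp).1 h1 with h | h
      · exact absurd (orderOf_eq_one_iff.1 h) hw1
      · exact h
    have hzp : Subgroup.zpowers w = Ω := by
      apply Subgroup.eq_of_le_of_card_ge
      · rw [Subgroup.zpowers_le]; exact hw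
      · rw [Nat.card_zpowers, hordw]; exact hΩcard
    obtain ⟨h1, h2⟩ := hfixinv (Ω : Set (MulAut M)) (fun z hz => hz) (fun z hz => hΩξ' z hz)
    have hle : fixS w ≤ fixedBy (Ω : Set (MulAut M)) := by
      intro m hm z hz
      rw [mem_fixS] at hm
      have hz' : z ∈ Subgroup.zpowers w := by rw [hzp]; exact hz
      obtain ⟨k, rfl⟩ := Subgroup.mem_zpowers_iff.1 hz'
      -- powers of `w` fix `m`
      have hpos : ∀ j : ℕ, (w ^ j) m = m := by
        intro j
        induction j with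
        | zero => simp
        | succ j ih => rw [pow_succ, MulAut.mul_apply, hm, ih]
      have hinv : w⁻¹ m = m := by
        calc w⁻¹ m = w⁻¹ (w m) := by rw [hm]
          _ = m := by simp
      have hneg : ∀ j : ℕ, ((w⁻¹) ^ j) m = m := by
        intro j
        induction j with
        | zero => simp
        | succ j ih => rw [pow_succ, MulAut.mul_apply, hinv, ih]
      rcases Int.eq_nat_or_neg k with ⟨j, rfl | rfl⟩
      · rw [zpow_natCast]; exact hpos j
      · rw [zpow_neg, zpow_natCast, ← inv_pow]; exact hneg j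
    rcases hI _ h1 h2 with h | h
    · rw [eq_bot_iff, ← h]; exact hle
    · exfalso
      apply hw1
      ext m
      have : m ∈ fixedBy (Ω : Set (MulAut M)) := by rw [h]; exact Subgroup.mem_top _
      exact this w hw
  obtain ⟨z, hzΩ, hz1⟩ := hΩne
  have hzR : z ∈ R := hzΩ.1
  -- `ξ` does not commute with `z`
  have hncomm : ξ * z ≠ z * ξ := by
    intro hcomm
    have hcomm' : ∀ m : M, ξ (z m) = z (ξ m) := fun m => by
      have := congrArg (fun f : MulAut M => f m) hcomm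
      simpa [MulAut.mul_apply] using this
    -- `z` maps `comm ξ` into itself
    have hzV : ∀ v ∈ comm ξ, z v ∈ comm ξ := by
      intro v hv
      obtain ⟨m, rfl⟩ := mem_comm.1 hv
      exact mem_comm.2 ⟨z m, by rw [map_mul, map_inv, hcomm']⟩
    have hzVk : ∀ (k : ℕ), ∀ v ∈ comm ξ, (z ^ k) v ∈ comm ξ := by
      intro k
      induction k with
      | zero => intro v hv; simpa using hv
      | succ k ih => intro v hv; rw [pow_succ, MulAut.mul_apply]; exact ih _ (hzV v hv)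
    -- pick `v ≠ 1`
    obtain ⟨v, hv, hv1⟩ : ∃ v ∈ comm ξ, v ≠ 1 := by
      by_contra hcon
      push Not at hcon
      have : comm ξ = ⊥ := by
        rw [eq_bot_iff]; intro v hv; rw [Subgroup.mem_bot]; exact hcon v hv
      have h4 := hS.card4
      rw [this, Subgroup.card_bot] at h4
      omega
    have hordz : orderOf z = p := by
      have h1 : orderOf z ∣ p := orderOf_dvd_of_pow_eq_one hzΩ.2.2
      rcases (Nat.dvd_prime hp).1 h1 with h | h
      · exact absurd (orderOf_eq_one_iff.1 h) hz1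
      · exact h
    let f : Fin 5 → comm ξ := fun i => ⟨(z ^ (i : ℕ)) v, hzVk i v hv⟩
    have hf : Function.Injective f := by
      intro i j hij
      have hij' : (z ^ (i : ℕ)) v = (z ^ (j : ℕ)) v := congrArg Subtype.val hij
      by_contra hne
      -- wlog i < j
      have key : ∀ a b : ℕ, a < b → b < 5 → (z ^ a) v = (z ^ b) v → False := by
        intro a b hab hb5 hab'
        have h1 : (z ^ (b - a)) v = v := by
          have h2 : z ^ b = z ^ a * z ^ (b - a) := by
            rw [← pow_add]; congr 1; omega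
          rw [h2, MulAut.mul_apply] at hab'
          exact ((z ^ a).injective hab').symm
        have h3 : z ^ (b - a) ≠ 1 := by
          intro h
          have := orderOf_dvd_of_pow_eq_one h
          rw [hordz] at this
          have := Nat.le_of_dvd (by omega) this
          omega
        have h4 : z ^ (b - a) ∈ Ω := Ω.pow_mem hzΩ _
        have h5 : v ∈ fixS (z ^ (b - a)) := mem_fixS.2 h1
        rw [hΩfpf _ h4 h3, Subgroup.mem_bot] at h5
        exact hv1 h5
      rcases lt_or_gt_of_ne (fun h => hne (Fin.ext h)) with h | h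
      · exact key i j h j.2 hij'
      · exact key j i h i.2 hij'.symm
    have := Nat.card_le_card_of_injective f hf
    rw [Nat.card_eq_fintype_card, Fintype.card_fin, hS.card4] at this
    omega
  -- two conjugates of `fixS ξ` meet trivially
  set η : MulAut M := z⁻¹ * ξ * z with hη
  have hfixη : fixS η = (fixS ξ).map (z⁻¹ : MulAut M).toMonoidHom := by
    ext m
    rw [mem_fixS]
    constructor
    · intro hm
      refine ⟨z m, mem_fixS.2 ?_, by simp⟩
      have : z (η m) = z m := by rw [hm]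
      simpa [hη, MulAut.mul_apply] using this
    · rintro ⟨m', hm'0, rfl⟩
      have hm' : m' ∈ fixS ξ := hm'0
      rw [mem_fixS] at hm'
      show z⁻¹ (ξ (z (z⁻¹ m'))) = z⁻¹ m'
      simp [hm']
  have hcardη : Nat.card (fixS η) = Nat.card (fixS ξ) := by
    rw [hfixη]; exact Subgroup.card_map_of_injective (z⁻¹ : MulAut M).injective
  have hinf : fixS ξ ⊓ fixS η = ⊥ := by
    have hw : ξ⁻¹ * z⁻¹ * ξ * z ∈ Ω := Ω.mul_mem (hΩξ' _ (Ω.inv_mem hzΩ)) hzΩ
    have hw1 : ξ⁻¹ * z⁻¹ * ξ * z ≠ 1 := by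
      intro h
      apply hncomm
      calc ξ * z = z * ξ * (ξ⁻¹ * z⁻¹ * ξ * z) := by group
        _ = z * ξ := by rw [h, mul_one]
    rw [eq_bot_iff, ← hΩfpf _ hw hw1]
    rintro m ⟨hm1, hm2⟩
    have hm1' : m ∈ fixS ξ := hm1
    have hm2' : m ∈ fixS η := hm2
    rw [mem_fixS] at hm1' hm2' ⊢
    have h1 : ξ⁻¹ m = m := by
      calc ξ⁻¹ m = ξ⁻¹ (ξ m) := by rw [hm1']
        _ = m := by simp
    have h2 : z⁻¹ (ξ (z m)) = m := hm2'
    show ξ⁻¹ (z⁻¹ (ξ (z m))) = m
    rw [h2, h1]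
  have hcardM : Nat.card M ≤ 16 := by
    have h1 := card_mul_card_le_of_inf_eq_bot' hinf
    have h2 := hS.card_eq
    rw [hcardη] at h1
    have hpos : 0 < Nat.card (fixS ξ) := Nat.card_pos
    have h3 : Nat.card (fixS ξ) ≤ 4 := by
      rw [← h2] at h1
      exact Nat.le_of_mul_le_mul_left h1 hpos
    omega
  -- the stabilizer of a non-identity point is trivial
  obtain ⟨m, hm1⟩ : ∃ m : M, m ≠ 1 := by
    by_contra hcon
    push Not at hcon
    apply hz1
    ext m
    rw [hcon m, map_one]; rfl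
  let zR : R := ⟨z, hzR⟩
  set St : Subgroup R := MulAction.stabilizer R m with hSt
  have hzSt : zR ∉ St := by
    intro h
    have h1 : z m = m := MulAction.mem_stabilizer_iff.1 h
    have h2 : m ∈ fixS z := mem_fixS.2 h1
    rw [hΩfpf z hzΩ hz1, Subgroup.mem_bot] at h2
    exact hm1 h2
  have hidx : St.index = p := by
    obtain ⟨n, hn⟩ := hRp.index St
    have hn0 : n ≠ 0 := by
      intro h
      rw [h, pow_zero, Subgroup.index_eq_one] at hn
      apply hzSt
      rw [hn]; exact Subgroup.mem_top _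
    have hle : St.index ≤ 15 := by
      rw [hSt, MulAction.index_stabilizer]
      have hsub : MulAction.orbit R m ⊆ {x : M | x ≠ 1} := by
        rintro _ ⟨g, rfl⟩
        show (g : MulAut M) m ≠ 1
        intro h
        exact hm1 (by simpa using h)
      have h1 := Set.ncard_le_ncard hsub (Set.toFinite _)
      have h2 : ({x : M | x ≠ 1} : Set M).ncard = Nat.card M - 1 := by
        have : ({x : M | x ≠ 1} : Set M) = ({1} : Set M)ᶜ := by ext; simp
        rw [this, Set.ncard_compl, Set.ncard_singleton]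
      omega
    have hn1 : n = 1 := by
      by_contra hne
      have h2 : 2 ≤ n := by omega
      have h3 : p ^ 2 ≤ p ^ n := Nat.pow_le_pow_right hp.pos h2
      have h4 : 25 ≤ p ^ 2 := by nlinarith
      omega
    rw [hn, hn1, pow_one]
  have hRcard : ∃ k, k ≠ 0 ∧ Nat.card R = p ^ k := by
    obtain ⟨k, hk⟩ := IsPGroup.iff_card.1 hRp
    refine ⟨k, ?_, hk⟩
    intro h
    rw [h, pow_zero] at hk
    exact hRbot (Subgroup.card_eq_one.1 hk)
  obtain ⟨k, hk0, hk⟩ := hRcard
  have hStn : St.Normal := by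
    apply Subgroup.normal_of_index_eq_minFac_card
    rw [hidx, hk, Nat.pow_minFac hk0, hp.minFac_eq]
  have hStbot : St = ⊥ := by
    by_contra hne
    haveI : Group.IsNilpotent R := hRp.isNilpotent
    have h1 := Cfsg.Agent.S0065.result St hne
    obtain ⟨c, hc, hcp⟩ := exists_orderOf_eq_prime hRp _ h1
    have hcΩ : (c : MulAut M) ∈ Ω := by
      refine ⟨c.2, hcen c hc.2, ?_⟩
      have : c ^ p = 1 := by rw [← hcp]; exact pow_orderOf_eq_one c
      have := congrArg Subtype.val this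
      simpa using this
    have hc1 : (c : MulAut M) ≠ 1 := by
      intro h
      have : c = 1 := Subtype.ext h
      rw [this, orderOf_one] at hcp
      exact hp.one_lt.ne hcp
    have h2 : (c : MulAut M) m = m := MulAction.mem_stabilizer_iff.1 hc.1
    have h3 : m ∈ fixS (c : MulAut M) := mem_fixS.2 h2
    rw [hΩfpf _ hcΩ hc1, Subgroup.mem_bot] at h3
    exact hm1 h3
  have : Nat.card R = p := by
    rw [← Subgroup.index_bot, ← hStbot, hidx]
  exact this.le

/-- **Theorem B.** -/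
theorem thmB {P : Type*} [Group P] [Finite P] (ρ : P →* MulAut M) (ξ : MulAut M) {p : ℕ}
    (hp : p.Prime) (hp5 : 5 ≤ p) (hP : IsPGroup p P) (hS : Setup ρ ξ)
    (L : Subgroup (MulAut M)) (hL : Odd (Nat.card L)) (hρL : ∀ b, ρ b ∈ L) (hξL : ξ ∈ L) :
    ∃ K : Subgroup P, K.index ≤ p ∧ ∀ k ∈ K, ∀ v ∈ comm ξ, ρ k v = v := by
  classical
  haveI : Finite (MulAut M) := Finite.of_injective (fun f : MulAut M => (f : M → M))
    (fun f g h => MulEquiv.ext (congrFun h))
  obtain ⟨M₀, h1, h2, h3, hle, hS₀, hI₀⟩ := exists_irr ρ ξ hS L hL hρL hξL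
  set Γ := gen ρ ξ with hΓ
  have hΓL : Γ ≤ L := by
    rw [hΓ]; unfold gen
    rw [Subgroup.closure_le]
    rintro x (⟨b, rfl⟩ | hx)
    · exact hρL b
    · rw [Set.mem_singleton_iff] at hx; rw [hx]; exact hξL
  have hρΓ : ∀ b, ρ b ∈ Γ := fun b => Subgroup.subset_closure (Or.inl ⟨b, rfl⟩)
  have hξΓ : ξ ∈ Γ := Subgroup.subset_closure (Or.inr rfl)
  have hΓinv : ∀ g : Γ, ∀ n ∈ M₀, Γ.subtype g n ∈ M₀ := fun g n hn =>
    inv_gen h1 h2 h3 g g.2 n hn
  set L₀ : Subgroup (MulAut M₀) := (resHom Γ.subtype M₀ hΓinv).range with hL₀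
  have hL₀odd : Odd (Nat.card L₀) := by
    have h4 : Nat.card L₀ ∣ Nat.card Γ := Subgroup.card_range_dvd _
    have h5 : Nat.card Γ ∣ Nat.card L := Subgroup.card_dvd_of_le hΓL
    exact Odd.of_dvd_nat hL (h4.trans h5)
  have hρL₀ : ∀ b, resHom ρ M₀ h1 b ∈ L₀ := by
    intro b
    refine ⟨⟨ρ b, hρΓ b⟩, ?_⟩
    ext n
    rfl
  have hξL₀ : resAut ξ M₀ h2 h3 ∈ L₀ := by
    refine ⟨⟨ξ, hξΓ⟩, ?_⟩
    ext n
    rfl
  refine ⟨(resHom ρ M₀ h1).ker, lemma2 _ _ hp hp5 hP hS₀ hI₀ L₀ hL₀odd hρL₀ hξL₀, ?_⟩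
  intro k hk v hv
  exact (mem_ker_resHom ρ M₀ h1 k).1 hk v (hle hv)

end Cfsg.Agent.Helper18.N5
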