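import Mathlib
import Cfsg.Agent.Lib.Helper18.N5Irr

/-!
# Bridge between the abstract setup of `N5Irr` and conjugation on a normal abelian subgroup
(helper18, S4404)
-/

set_option autoImplicit false
set_option linter.style.haveILetI false

namespace Cfsg.Agent.Helper18.N5

section abstractPart

variable {M : Type*} [CommGroup M]

/-- automorphisms `g` with `g m * m⁻¹ ∈ comm ξ` for all `m` -/
def stabComm (ξ : MulAut M) : Subgroup (MulAut M) where
  carrier := {g | ∀ m, g m * m⁻¹ ∈ comm ξ}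
  one_mem' := fun m => by
    show (1 : MulAut M) m * m⁻¹ ∈ comm ξ
    rw [MulAut.one_apply, mul_inv_cancel]; exact Subgroup.one_mem _
  mul_mem' := by
    intro g h hg hh m
    have h1 : (g * h) m * m⁻¹ = (g (h m) * (h m)⁻¹) * (h m * m⁻¹) := by
      rw [MulAut.mul_apply]; group
    show (g * h) m * m⁻¹ ∈ comm ξ
    rw [h1]
    exact Subgroup.mul_mem _ (hg _) (hh _)
  inv_mem' := by
    intro g hg m
    have h1 : g⁻¹ m * m⁻¹ = (g (g⁻¹ m) * (g⁻¹ m)⁻¹)⁻¹ := by
      rw [MulAut.apply_inv_self]; group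
    show g⁻¹ m * m⁻¹ ∈ comm ξ
    rw [h1]
    exact Subgroup.inv_mem _ (hg _)

theorem self_mem_stabComm (ξ : MulAut M) : ξ ∈ stabComm ξ := fun m => mem_comm.2 ⟨m, rfl⟩

theorem zpow_apply_mul_inv_mem (ξ : MulAut M) (k : ℤ) (m : M) : (ξ ^ k) m * m⁻¹ ∈ comm ξ :=
  (Subgroup.zpow_mem _ (self_mem_stabComm ξ) k) m

end abstractPart

section concretePart

open scoped IsMulCommutative
open scoped commutatorElement

variable {S : Type*} [Group S] (M : Subgroup S) [M.Normal] [IsMulCommutative M]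

/-- the conjugation action on `M` -/
abbrev cj : S →* MulAut M := MulAut.conjNormal

theorem cj_apply (s : S) (m : M) : ((cj M s m : M) : S) = s * m * s⁻¹ :=
  MulAut.conjNormal_apply s m

theorem map_comm_eq (x : S) :
    (comm (cj M x)).map M.subtype = ⁅Subgroup.zpowers x, M⁆ := by
  apply le_antisymm
  · rintro _ ⟨v, hv, rfl⟩
    obtain ⟨m, rfl⟩ := mem_comm.1 hv
    have h1 : M.subtype (cj M x m * m⁻¹) = ⁅x, (m : S)⁆ := by
      rw [commutatorElement_def, map_mul, map_inv, Subgroup.subtype_apply,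
        Subgroup.subtype_apply, cj_apply]
    rw [h1]
    exact Subgroup.commutator_mem_commutator (Subgroup.mem_zpowers x) m.2
  · rw [Subgroup.commutator_le]
    intro g₁ hg₁ g₂ hg₂
    obtain ⟨k, rfl⟩ := Subgroup.mem_zpowers_iff.1 hg₁
    refine ⟨(cj M x ^ k) ⟨g₂, hg₂⟩ * (⟨g₂, hg₂⟩ : M)⁻¹, zpow_apply_mul_inv_mem _ _ _, ?_⟩
    have h2 : (cj M x) ^ k = cj M (x ^ k) := (map_zpow _ _ _).symm
    rw [commutatorElement_def, h2, map_mul, map_inv, Subgroup.subtype_apply,
      Subgroup.subtype_apply, cj_apply]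

theorem card_comm_eq [Finite S] (x : S) :
    Nat.card (comm (cj M x)) = Nat.card ↥⁅Subgroup.zpowers x, M⁆ := by
  rw [← map_comm_eq M x]
  exact (Subgroup.card_map_of_injective M.subtype_injective).symm

theorem mem_centralizer_of_fix (x s : S) (h : ∀ v ∈ comm (cj M x), cj M s v = v) :
    s ∈ Subgroup.centralizer ((⁅Subgroup.zpowers x, M⁆ : Subgroup S) : Set S) := by
  rw [Subgroup.mem_centralizer_iff]
  intro w hw
  rw [SetLike.mem_coe, ← map_comm_eq M x] at hw
  obtain ⟨v, hv, rfl⟩ := hw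
  have h1 := congrArg (fun t : M => (t : S)) (h v hv)
  simp only [cj_apply] at h1
  show (v : S) * s = s * v
  exact (mul_inv_eq_iff_eq_mul.1 h1).symm

theorem setup_of [Finite S] (x : S) (hM2 : ∀ a ∈ M, a ^ 2 = 1)
    (hx3 : x ^ 3 ∈ Subgroup.centralizer (M : Set S))
    (h4 : Nat.card ↥⁅Subgroup.zpowers x, M⁆ = 4) (D : Subgroup S)
    (hD : ∀ d ∈ D, x * d * x⁻¹ ∈ D) :
    Setup ((cj M).comp D.subtype) (cj M x) where
  exp2 := fun m => Subtype.ext (by
    rw [Subgroup.coe_pow]; exact hM2 _ m.2)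
  cube := by
    rw [← map_pow]
    ext m
    rw [cj_apply, MulAut.one_apply]
    have := (Subgroup.mem_centralizer_iff.1 hx3) m m.2
    rw [← this]; group
  norm := fun b => ⟨⟨x * b * x⁻¹, hD _ b.2⟩, by
    simp only [MonoidHom.comp_apply, Subgroup.subtype_apply]
    rw [← map_inv, ← map_mul, ← map_mul]⟩
  card4 := by rw [card_comm_eq, h4]

end concretePart

end Cfsg.Agent.Helper18.N5
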