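import Mathlib
import Cfsg.Prelude.Def_CaseTheorems
import Cfsg.Agent.Lib.Helper18.N5C
import Cfsg.Agent.Lib.Helper18.N5A
import Cfsg.Agent.S0100

/-!
# S4404, case of 3-rank at least three (helper18)
-/

set_option autoImplicit false
set_option linter.style.haveILetI false

namespace Cfsg.Agent.Helper18.N5

/-- final counting step -/
theorem not_cyclic_of_index_le {S : Type*} [Group S] [Finite S] (C F D : Subgroup S) (hFD : F ≤ D)
    {r : ℕ} (hr : r.Prime) (hexp : ∀ a ∈ F, a ^ r = 1) (hcard : Nat.card F = r ^ 3)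
    (K : Subgroup ↥D) (hK : K.index ≤ r) (hKC : ∀ k ∈ K, (k : S) ∈ C) :
    ¬ IsCyclic ↥(F ⊓ C) := by
  intro hcyc
  set E : Subgroup ↥D := F.subgroupOf D with hEdef
  have hE : Nat.card E = r ^ 3 := by
    rw [← hcard]; exact Nat.card_congr (Subgroup.subgroupOfEquivOfLe hFD).toEquiv
  have h1 : K.relIndex E ≤ K.index := by
    have := Subgroup.relIndex_le_of_le_right (H := K) (K := E) (L := ⊤) le_top
      (by rw [Subgroup.relIndex_top_right]; exact Subgroup.index_ne_zero_of_finite)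
    rwa [Subgroup.relIndex_top_right] at this
  have h2 : Nat.card (K ⊓ E : Subgroup ↥D) * K.relIndex E = Nat.card E := by
    have h3 := Subgroup.card_mul_index ((K ⊓ E).subgroupOf E)
    rw [Subgroup.inf_subgroupOf_right] at h3
    have h4 : Nat.card (K.subgroupOf E) = Nat.card (K ⊓ E : Subgroup ↥D) := by
      rw [← Subgroup.inf_subgroupOf_right]
      exact Nat.card_congr (Subgroup.subgroupOfEquivOfLe inf_le_right).toEquiv
    rw [h4] at h3
    exact h3
  have h5 : (K ⊓ E).map D.subtype ≤ F ⊓ C := by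
    rintro _ ⟨k, ⟨hkK, hkE⟩, rfl⟩
    exact ⟨hkE, hKC k hkK⟩
  have h6 : Nat.card (K ⊓ E : Subgroup ↥D) ≤ Nat.card ↥(F ⊓ C) := by
    rw [← Subgroup.card_map_of_injective D.subtype_injective]
    exact Subgroup.card_le_of_le h5
  obtain ⟨g, hg⟩ := hcyc.exists_generator
  have h7 : Nat.card ↥(F ⊓ C) = orderOf g := (orderOf_eq_card_of_forall_mem_zpowers hg).symm
  have h8 : orderOf g ≤ r := by
    apply Nat.le_of_dvd hr.pos
    apply orderOf_dvd_of_pow_eq_one
    apply Subtype.ext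
    rw [Subgroup.coe_pow]
    exact hexp _ g.2.1
  have h9 : r ^ 3 ≤ r * r := by
    calc r ^ 3 = Nat.card (K ⊓ E : Subgroup ↥D) * K.relIndex E := by rw [h2, hE]
      _ ≤ r * r := Nat.mul_le_mul (by omega) (h1.trans hK)
  have h10 : 2 ≤ r := hr.two_le
  nlinarith [Nat.pow_le_pow_left h10 3]

theorem pRankLE_of_injective {G G' : Type*} [Group G] [Group G'] {p k : ℕ} (f : G' →* G)
    (hf : Function.Injective f) (h : Cfsg.PRankLE p k G) : Cfsg.PRankLE p k G' := by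
  intro A hA hAe
  haveI := hA
  have h1 := h (A.map f) inferInstance (by
    rintro _ ⟨a, ha, rfl⟩; rw [← map_pow, hAe a ha, map_one])
  rwa [Subgroup.card_map_of_injective hf] at h1

open scoped IsMulCommutative
open Pointwise

theorem odd_card_of_dvd_prime_pow {n p k : ℕ} (hp : p.Prime) (hp2 : p ≠ 2) (h : n ∣ p ^ k) :
    Odd n := by
  obtain ⟨j, -, rfl⟩ := (Nat.dvd_prime_pow hp).1 h
  exact (hp.odd_of_ne_two hp2).pow

theorem case1 {S : Type*} [Group S] [Finite S] (M : Subgroup S) [M.Normal] [IsMulCommutative M]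
    (hM2 : ∀ a ∈ M, a ^ 2 = 1) (x : S) (hx : IsPGroup 3 (Subgroup.zpowers x))
    (hx3 : x ^ 3 ∈ Subgroup.centralizer (M : Set S))
    (h4 : Nat.card ↥⁅Subgroup.zpowers x, M⁆ = 4) (hrk : ¬ Cfsg.PRankLE 3 2 S) :
    ∃ F : Subgroup S, IsMulCommutative F ∧ (∀ a ∈ F, a ^ 3 = 1) ∧ Nat.card F = 3 ^ 3 ∧
      ¬ IsCyclic ↥(F ⊓ Subgroup.centralizer ((⁅Subgroup.zpowers x, M⁆ : Subgroup S) : Set S)) := by
  classical
  haveI : Fact (Nat.Prime 3) := ⟨Nat.prime_three⟩
  unfold Cfsg.PRankLE at hrk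
  push Not at hrk
  obtain ⟨A₀, hA₀c, hA₀e, hA₀card⟩ := hrk
  haveI := hA₀c
  obtain ⟨T, hT⟩ := hx.exists_le_sylow
  have hA₀p : IsPGroup 3 A₀ := fun a => ⟨1, by
    rw [pow_one]; exact Subtype.ext (by rw [Subgroup.coe_pow]; exact hA₀e a a.2)⟩
  obtain ⟨T', hT'⟩ := hA₀p.exists_le_sylow
  obtain ⟨g, hg⟩ := MulAction.exists_smul_eq S T' T
  set A₁ : Subgroup S := A₀.map (MulAut.conj g).toMonoidHom with hA₁
  have hA₁T : A₁ ≤ T := by
    rintro _ ⟨a, ha, rfl⟩
    have h1 : (MulAut.conj g • a) ∈ MulAut.conj g • (T' : Subgroup S) :=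
      Subgroup.smul_mem_pointwise_smul _ _ _ (hT' ha)
    rw [← Sylow.coe_subgroup_smul, hg] at h1
    exact h1
  have hA₁e : ∀ a ∈ A₁, a ^ 3 = 1 := by
    rintro _ ⟨a, ha, rfl⟩
    rw [← map_pow, hA₀e a ha, map_one]
  have hA₁card : Nat.card A₁ = Nat.card A₀ :=
    Subgroup.card_map_of_injective (MulAut.conj g).injective
  set A₂ : Subgroup ↥(T : Subgroup S) := A₁.subgroupOf (T : Subgroup S) with hA₂
  have hA₂card : Nat.card A₂ = Nat.card A₁ :=
    Nat.card_congr (Subgroup.subgroupOfEquivOfLe hA₁T).toEquiv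
  have hA₂e : ∀ a ∈ A₂, a ^ 3 = 1 := by
    intro a ha
    apply Subtype.ext
    rw [Subgroup.coe_pow]
    exact hA₁e _ ha
  have hex : ∃ A : Subgroup ↥(T : Subgroup S), A.Normal ∧ IsMulCommutative A ∧ (∀ a ∈ A, a ^ 3 = 1) ∧
      Nat.card A = 3 ^ 3 := by
    by_contra hno
    push Not at hno
    have := Cfsg.Agent.S0100.result (P := ↥(T : Subgroup S)) (p := 3) (by norm_num) T.isPGroup'
      (fun A hAn hAc hAe => hno A hAn hAc hAe) A₂ inferInstance hA₂e
    rw [hA₂card, hA₁card] at this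
    omega
  obtain ⟨A, hAn, hAc, hAe, hAcard⟩ := hex
  haveI := hAc
  set A' : Subgroup S := A.map (T : Subgroup S).subtype with hA'
  have hxT : x ∈ (T : Subgroup S) := hT (Subgroup.mem_zpowers x)
  have hA'e : ∀ a ∈ A', a ^ 3 = 1 := by
    rintro _ ⟨a, ha, rfl⟩
    rw [← map_pow, hAe a ha, map_one]
  have hA'card : Nat.card A' = 3 ^ 3 := by
    rw [← hAcard]; exact Subgroup.card_map_of_injective (Subgroup.subtype_injective _)
  have hA'T : A' ≤ T := by
    rintro _ ⟨a, -, rfl⟩; exact a.2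
  have hD : ∀ d ∈ A', x * d * x⁻¹ ∈ A' := by
    rintro _ ⟨a, ha, rfl⟩
    exact ⟨⟨x, hxT⟩ * a * ⟨x, hxT⟩⁻¹, hAn.conj_mem a ha ⟨x, hxT⟩, rfl⟩
  have hS := setup_of M x hM2 hx3 h4 A' hD
  have hLodd : Odd (Nat.card ((T : Subgroup S).map (cj M))) := by
    obtain ⟨n, hn⟩ := T.isPGroup'.exists_card_eq
    apply odd_card_of_dvd_prime_pow Nat.prime_three (by norm_num) (k := n)
    rw [← hn]
    exact Subgroup.card_map_dvd _ _
  obtain ⟨K, hK, hKfix⟩ := thmA ((cj M).comp A'.subtype) (cj M x)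
    (fun a b => mul_comm a b) Nat.prime_three (by norm_num)
    (fun b => Subtype.ext (by rw [Subgroup.coe_pow]; exact hA'e _ b.2)) hS
    ((T : Subgroup S).map (cj M)) hLodd
    (fun b => Subgroup.mem_map_of_mem _ (hA'T b.2)) (Subgroup.mem_map_of_mem _ hxT)
  refine ⟨A', inferInstance, hA'e, hA'card, ?_⟩
  exact not_cyclic_of_index_le _ A' A' le_rfl Nat.prime_three hA'e hA'card K hK
    (fun k hk => mem_centralizer_of_fix M x (k : S) (fun v hv => hKfix k hk v hv))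

end Cfsg.Agent.Helper18.N5
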