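import Mathlib
import Cfsg.Prelude.Def_CaseTheorems
import Cfsg.Agent.Lib.Helper18.N5D
import Cfsg.Agent.Lib.Helper18.N5B
import Cfsg.Agent.S0004
import Cfsg.Agent.S0005
import Cfsg.Agent.S0071
import Cfsg.Agent.S0640

/-!
# S4404, case of 3-rank at most two (helper18)
-/

set_option autoImplicit false
set_option linter.style.haveILetI false

namespace Cfsg.Agent.Helper18.N5

open scoped IsMulCommutative
open Pointwise

/-- arithmetic: split off the `{3, p}`-part of a positive integer -/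
theorem exists_split (N₀ : ℕ) (hN₀ : N₀ ≠ 0) {p : ℕ} (hp : p.Prime) (hp3 : p ≠ 3) :
    ∃ a b n : ℕ, N₀ = (3 ^ a * p ^ b) * n ∧ (3 ^ a * p ^ b).Coprime n ∧ Nat.Coprime 3 n ∧
      Nat.Coprime p n := by
  obtain ⟨a, ha⟩ : ∃ a, a = N₀.factorization 3 := ⟨_, rfl⟩
  obtain ⟨b, hb⟩ : ∃ b, b = N₀.factorization p := ⟨_, rfl⟩
  have h3 : 3 ^ a ∣ N₀ := ha ▸ Nat.ordProj_dvd N₀ 3
  have hpd : p ^ b ∣ N₀ := hb ▸ Nat.ordProj_dvd N₀ p
  have hna : ¬ 3 ^ (a + 1) ∣ N₀ := ha ▸ Nat.pow_succ_factorization_not_dvd hN₀ Nat.prime_three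
  have hnb : ¬ p ^ (b + 1) ∣ N₀ := hb ▸ Nat.pow_succ_factorization_not_dvd hN₀ hp
  clear ha hb
  have hcop : Nat.Coprime (3 ^ a) (p ^ b) :=
    Nat.Coprime.pow _ _ ((Nat.coprime_primes Nat.prime_three hp).2 (Ne.symm hp3))
  obtain ⟨n, hn⟩ := Nat.Coprime.mul_dvd_of_dvd_of_dvd hcop h3 hpd
  have hn3 : ¬ 3 ∣ n := by
    rintro ⟨k, rfl⟩
    exact hna ⟨p ^ b * k, by rw [hn]; ring⟩
  have hnp : ¬ p ∣ n := by
    rintro ⟨k, rfl⟩
    exact hnb ⟨3 ^ a * k, by rw [hn]; ring⟩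
  refine ⟨a, b, n, hn, ?_, (Nat.Prime.coprime_iff_not_dvd Nat.prime_three).2 hn3,
    (Nat.Prime.coprime_iff_not_dvd hp).2 hnp⟩
  apply Nat.Coprime.mul_left
  · exact Nat.Coprime.pow_left _ ((Nat.Prime.coprime_iff_not_dvd Nat.prime_three).2 hn3)
  · exact Nat.Coprime.pow_left _ ((Nat.Prime.coprime_iff_not_dvd hp).2 hnp)

/-- a group of order `3^a p^b`, `p ≥ 5`, of `3`-rank at most two has a normal Sylow `p`-subgroup
with quotient a `3`-group -/
theorem exists_normal_pgroup {H : Type*} [Group H] [Finite H] {p a b : ℕ} (hp : p.Prime)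
    (hp5 : 5 ≤ p) (hcard : Nat.card H = 3 ^ a * p ^ b) (hrk : Cfsg.PRankLE 3 2 H) :
    ∃ N : Subgroup H, N.Normal ∧ IsPGroup p N ∧ ∃ t, N.index = 3 ^ t := by
  classical
  haveI : Fact (Nat.Prime 3) := ⟨Nat.prime_three⟩
  have hp3 : p ≠ 3 := by omega
  obtain ⟨TH⟩ := (inferInstance : Nonempty (Sylow 3 H))
  have hfrob : ∀ W : Subgroup H, W ≤ (TH : Subgroup H) →
      ∀ g ∈ Subgroup.normalizer (W : Set H), Nat.Coprime (orderOf g) 3 →
      g ∈ Subgroup.centralizer (W : Set H) := by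
    intro W hW g hg hcop
    have hWp : IsPGroup 3 ↥W := TH.isPGroup'.to_le hW
    have hWrk : Cfsg.PRankLE 3 2 ↥W := pRankLE_of_injective W.subtype W.subtype_injective hrk
    set α : MulAut ↥W := W.normalizerMonoidHom ⟨g, hg⟩ with hα
    have h1 : orderOf α ∣ orderOf g := by
      have := orderOf_map_dvd W.normalizerMonoidHom (⟨g, hg⟩ : Subgroup.normalizer (W : Set H))
      rwa [Subgroup.orderOf_mk] at this
    have h2 : orderOf g ∣ p ^ b := by
      have h3 : orderOf g ∣ 3 ^ a * p ^ b := hcard ▸ orderOf_dvd_natCard g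
      exact Nat.Coprime.dvd_of_dvd_mul_left (Nat.Coprime.pow_right _ hcop) h3
    have h3 : α = 1 := by
      obtain ⟨j, -, hj⟩ := (Nat.dvd_prime_pow hp).1 (h1.trans h2)
      rcases Nat.eq_zero_or_pos j with rfl | hjpos
      · rw [pow_zero] at hj; exact orderOf_eq_one_iff.1 hj
      · exfalso
        have h4 : p ∣ Nat.card (MulAut ↥W) := by
          have : p ∣ orderOf α := by rw [hj]; exact dvd_pow_self p hjpos.ne'
          exact this.trans (orderOf_dvd_natCard α)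
        have := Cfsg.Agent.S0640.result (p := 3) (R := ↥W) (by norm_num) hWp hWrk p hp hp3 h4
        omega
    have h4 : (⟨g, hg⟩ : Subgroup.normalizer (W : Set H)) ∈ W.normalizerMonoidHom.ker := by
      rw [MonoidHom.mem_ker]; exact h3
    rw [Subgroup.normalizerMonoidHom_ker, Subgroup.mem_subgroupOf] at h4
    exact h4
  obtain ⟨N, hNn, hNc⟩ := (Cfsg.Agent.S0071.result TH).2 hfrob
  refine ⟨N, hNn, ?_, ?_⟩
  · have h1 : (TH : Subgroup H).index = Nat.card N := hNc.index_eq_card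
    have h2 : ¬ 3 ∣ Nat.card N := by rw [← h1]; exact TH.not_dvd_index
    have h3 : Nat.card N ∣ 3 ^ a * p ^ b := hcard ▸ Subgroup.card_subgroup_dvd_card N
    have h4 : Nat.card N ∣ p ^ b :=
      Nat.Coprime.dvd_of_dvd_mul_left
        (Nat.Coprime.pow_right _ ((Nat.Prime.coprime_iff_not_dvd Nat.prime_three).2 h2).symm) h3
    exact IsPGroup.of_card_dvd_pow h4
  · have h1 : N.index = Nat.card (TH : Subgroup H) := hNc.symm.index_eq_card
    obtain ⟨t, ht⟩ := TH.isPGroup'.exists_card_eq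
    exact ⟨t, h1.trans ht⟩

theorem case2 {S : Type*} [Group S] [Finite S] [Group.IsSolvable S] (M : Subgroup S) [M.Normal]
    [IsMulCommutative M]
    (hM2 : ∀ a ∈ M, a ^ 2 = 1) (x : S) (hx : IsPGroup 3 (Subgroup.zpowers x))
    (hx3 : x ^ 3 ∈ Subgroup.centralizer (M : Set S))
    (h4 : Nat.card ↥⁅Subgroup.zpowers x, M⁆ = 4) (hrk : Cfsg.PRankLE 3 2 S)
    (p : ℕ) (hp : p.Prime) (hp2 : p ≠ 2) (E : Subgroup S) [IsMulCommutative E]
    (hEe : ∀ a ∈ E, a ^ p = 1) (hE3 : Nat.card E = p ^ 3) :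
    ∃ F : Subgroup S, IsMulCommutative F ∧ (∀ a ∈ F, a ^ p = 1) ∧ Nat.card F = p ^ 3 ∧
      ¬ IsCyclic ↥(F ⊓ Subgroup.centralizer ((⁅Subgroup.zpowers x, M⁆ : Subgroup S) : Set S)) := by
  classical
  haveI : Fact (Nat.Prime 3) := ⟨Nat.prime_three⟩
  have hp3 : p ≠ 3 := by
    rintro rfl
    have := hrk E inferInstance hEe
    rw [hE3] at this
    omega
  have hp5 : 5 ≤ p := by
    by_contra h
    push Not at h
    have h2 := hp.two_le
    interval_cases p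
    · exact hp2 rfl
    · exact hp3 rfl
    · exact absurd hp (by norm_num)
  obtain ⟨a, b, n, hG, hmn, hn3, hnp⟩ := exists_split (Nat.card S) Nat.card_pos.ne' hp hp3
  have hxc : (Nat.card (Subgroup.zpowers x)).Coprime n := by
    obtain ⟨k, hk⟩ := hx.exists_card_eq
    rw [hk]; exact Nat.Coprime.pow_left _ hn3
  obtain ⟨H, hHcard, hxH'⟩ :=
    Cfsg.Agent.S0005.result (3 ^ a * p ^ b) n hG hmn (Subgroup.zpowers x) hxc
  have hEc : (Nat.card E).Coprime n := by rw [hE3]; exact Nat.Coprime.pow_left _ hnp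
  obtain ⟨H', hH'card, hEH'⟩ := Cfsg.Agent.S0005.result (3 ^ a * p ^ b) n hG hmn E hEc
  obtain ⟨g, hg⟩ := Cfsg.Agent.S0004.result (3 ^ a * p ^ b) n hG hmn H' H hH'card hHcard
  set E₁ : Subgroup S := E.map (MulAut.conj g).toMonoidHom with hE₁
  have hE₁H : E₁ ≤ H := by
    rintro _ ⟨e, he, rfl⟩
    have h1 : MulAut.conj g • e ∈ MulAut.conj g • H' :=
      Subgroup.smul_mem_pointwise_smul _ _ _ (hEH' he)
    rw [hg] at h1
    exact h1
  have hE₁e : ∀ a ∈ E₁, a ^ p = 1 := by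
    rintro _ ⟨e, he, rfl⟩
    rw [← map_pow, hEe e he, map_one]
  have hE₁card : Nat.card E₁ = p ^ 3 := by
    rw [← hE3]; exact Subgroup.card_map_of_injective (MulAut.conj g).injective
  have hxH : x ∈ H := hxH' (Subgroup.mem_zpowers x)
  have hHrk : Cfsg.PRankLE 3 2 ↥H := pRankLE_of_injective H.subtype H.subtype_injective hrk
  obtain ⟨N, hNn, hNp, t, hNt⟩ := exists_normal_pgroup (H := ↥H) hp hp5 hHcard hHrk
  set Np : Subgroup S := N.map H.subtype with hNpdef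
  have hNpP : IsPGroup p ↥Np := hNp.map H.subtype
  have hNpH : Np ≤ H := by
    rintro _ ⟨a, -, rfl⟩; exact a.2
  have hD : ∀ d ∈ Np, x * d * x⁻¹ ∈ Np := by
    rintro _ ⟨a, ha, rfl⟩
    exact ⟨⟨x, hxH⟩ * a * ⟨x, hxH⟩⁻¹, hNn.conj_mem a ha ⟨x, hxH⟩, rfl⟩
  have hE₁Np : E₁ ≤ Np := by
    intro e he
    have heH : e ∈ H := hE₁H he
    refine ⟨⟨e, heH⟩, ?_, rfl⟩
    haveI := hNn
    rw [SetLike.mem_coe, ← QuotientGroup.eq_one_iff]
    have h1 : ((⟨e, heH⟩ : ↥H) : ↥H ⧸ N) ^ p = 1 := by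
      rw [← QuotientGroup.mk_pow]
      have : (⟨e, heH⟩ : ↥H) ^ p = 1 := Subtype.ext (by rw [Subgroup.coe_pow]; exact hE₁e e he)
      rw [this]; rfl
    have h2 : ((⟨e, heH⟩ : ↥H) : ↥H ⧸ N) ^ (3 ^ t) = 1 := by
      rw [← hNt, Subgroup.index_eq_card]; exact pow_card_eq_one'
    have h3 : orderOf ((⟨e, heH⟩ : ↥H) : ↥H ⧸ N) ∣ Nat.gcd p (3 ^ t) :=
      Nat.dvd_gcd (orderOf_dvd_of_pow_eq_one h1) (orderOf_dvd_of_pow_eq_one h2)
    have h4' : Nat.gcd p (3 ^ t) = 1 :=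
      Nat.Coprime.pow_right _ ((Nat.coprime_primes hp Nat.prime_three).2 hp3)
    rw [h4', Nat.dvd_one, orderOf_eq_one_iff] at h3
    exact h3
  have hS := setup_of M x hM2 hx3 h4 Np hD
  have hLodd : Odd (Nat.card (H.map (cj M))) := by
    have h1 : Nat.card (H.map (cj M)) ∣ 3 ^ a * p ^ b := hHcard ▸ Subgroup.card_map_dvd _ _
    exact Odd.of_dvd_nat (Odd.mul (Odd.pow (by decide)) (Odd.pow (hp.odd_of_ne_two hp2))) h1
  obtain ⟨K, hK, hKfix⟩ := thmB ((cj M).comp Np.subtype) (cj M x) hp hp5 hNpP hS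
    (H.map (cj M)) hLodd (fun b => Subgroup.mem_map_of_mem _ (hNpH b.2))
    (Subgroup.mem_map_of_mem _ hxH)
  refine ⟨E₁, inferInstance, hE₁e, hE₁card, ?_⟩
  exact not_cyclic_of_index_le _ E₁ Np hE₁Np hp hE₁e hE₁card K hK
    (fun k hk => mem_centralizer_of_fix M x (k : S) (fun v hv => hKfix k hk v hv))

end Cfsg.Agent.Helper18.N5
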