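import Mathlib
import Cfsg.Agent.Lib.Helper21.N9KDefs

/-!
# S3702 GROUP (helper18): the `K0`-level facts behind the blocks CENT and COUNTS (all by enumeration)
-/

set_option autoImplicit false
set_option linter.unusedSectionVars false
set_option linter.unusedVariables false

namespace Cfsg.Agent.Helper21.N9

open Cfsg Cfsg.Agent.Helper16

/-- the exponent `k` with `(z a)^k ∈ J0 ∖ 1` -/
def cntk_pw : Fin 9 → ℕ := ![1, 1, 1, 4, 4, 4, 4, 3, 3]

theorem cntk_Wj_pow : ∀ i j k : Fin 3, Wj i j k ^ 3 = 1 := by decide +kernel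

theorem cntk_Wj_comm (i j k i' j' k' : Fin 3) : Wj i j k * Wj i' j' k' = Wj i' j' k' * Wj i j k := by
  rw [Wj_mul, Wj_mul, add_comm i, add_comm j, add_comm k]

theorem cntk_Wj_inj {i j k i' j' k' : Fin 3} (h : Wj i j k = Wj i' j' k') : i = i' ∧ j = j' ∧ k = k' := by
  have := Wk_injective h
  simp only [Prod.mk.injEq] at this
  exact ⟨this.1, this.2.1, this.2.2.1⟩

theorem cntk_Wj_one : Wj 0 0 0 = 1 := by decide +kernel

/-- the power of the representative lies in `J0 ∖ 1` -/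
theorem cntk_pow_mem : ∀ a : Fin 9, CK.z a ^ cntk_pw a ∈ J0 ∧ CK.z a ^ cntk_pw a ≠ 1 := by
  decide +kernel

/-- the representatives of the three classes of `J0 ∖ 1` -/
theorem cntk_z0 : CK.z 0 = Wj 1 0 0 := by decide +kernel
theorem cntk_z1 : CK.z 1 = Wj 1 1 0 := by decide +kernel
theorem cntk_z2 : CK.z 2 = Wj 1 1 1 := by decide +kernel

/-- the 3-elements of `C_K0(t1)` lie in `J0` -/
theorem cntk_three0 : ∀ q : Idx, Wk q ^ 3 = 1 → Wk q * Wj 1 0 0 = Wj 1 0 0 * Wk q → Wk q ∈ J0 := by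
  decide +kernel

/-- the 3-elements of `C_K0(t1 t2)` lie in `J0` -/
theorem cntk_three1 : ∀ q : Idx, Wk q ^ 3 = 1 → Wk q * Wj 1 1 0 = Wj 1 1 0 * Wk q → Wk q ∈ J0 := by
  decide +kernel

/-- orders of the centralizers in `K0` of the nine representatives -/
theorem cntk_cent : ∀ a : Fin 9,
    Fintype.card {q : Idx // Wk q * CK.z a = CK.z a * Wk q} = TC648.cz a := by
  decide +kernel

/-- elements of `J0 ∖ 1` are `K0`-conjugate to the representative of their weight -/
theorem cntk_conjJ : ∀ i j k : Fin 3, ¬ (i = 0 ∧ j = 0 ∧ k = 0) →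
    ∃ q : Idx, Wk q * CK.z (TC648.clsJ i j k) * (Wk q)⁻¹ = Wj i j k := by
  decide +kernel

end Cfsg.Agent.Helper21.N9
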