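import Mathlib
import Cfsg.Agent.Lib.Lead.M11T5

/-!
# Counting conjugating pairs: the general (finset) form (helper18)

If the pairs of conjugates `(x', y')` of `(x, y)` with `x' y' = z` are exactly the members of a finite set `S`,
then the number of conjugating pairs `(c₁, c₂)` with `(c₁ x c₁⁻¹)(c₂ y c₂⁻¹) = z` is `|S| |C(x)| |C(y)|`.
(The case `|S| = 1` is `Cfsg.Agent.Helper8.S3805.CC.card_pairs_eq`.)
-/

set_option autoImplicit false
set_option linter.unusedSectionVars false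

namespace Cfsg.Agent.Helper18.Pairs

universe u

variable {G : Type u} [Group G] [Finite G]

theorem card_pairs_finset [DecidableEq G] (x y z : G) (S : Finset (G × G))
    (hS : ∀ q ∈ S, (∃ c : G, c * x * c⁻¹ = q.1) ∧ (∃ c : G, c * y * c⁻¹ = q.2))
    (h : ∀ c : G × G, (c.1 * x * c.1⁻¹) * (c.2 * y * c.2⁻¹) = z ↔
      (c.1 * x * c.1⁻¹, c.2 * y * c.2⁻¹) ∈ S) :
    Nat.card {c : G × G // (c.1 * x * c.1⁻¹) * (c.2 * y * c.2⁻¹) = z} =
      S.card * (Nat.card (Subgroup.centralizer ({x} : Set G)) *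
        Nat.card (Subgroup.centralizer ({y} : Set G))) := by
  classical
  have e : {c : G × G // (c.1 * x * c.1⁻¹) * (c.2 * y * c.2⁻¹) = z} ≃
      Σ q : {q : G × G // q ∈ S}, ({c : G // c * x * c⁻¹ = q.1.1} × {c : G // c * y * c⁻¹ = q.1.2}) :=
    { toFun := fun c => ⟨⟨(c.1.1 * x * c.1.1⁻¹, c.1.2 * y * c.1.2⁻¹), (h c.1).mp c.2⟩,
        (⟨c.1.1, rfl⟩, ⟨c.1.2, rfl⟩)⟩
      invFun := fun d => ⟨(d.2.1.1, d.2.2.1), by
        rw [h]
        have h1 := d.2.1.2
        have h2 := d.2.2.2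
        simp only [h1, h2]
        exact d.1.2⟩
      left_inv := fun c => by rfl
      right_inv := fun d => by
        obtain ⟨⟨⟨q1, q2⟩, hq⟩, ⟨c1, hc1⟩, ⟨c2, hc2⟩⟩ := d
        simp only at hc1 hc2
        subst hc1
        subst hc2
        rfl }
  rw [Nat.card_congr e, Nat.card_sigma]
  have hf : ∀ q : {q : G × G // q ∈ S},
      Nat.card ({c : G // c * x * c⁻¹ = q.1.1} × {c : G // c * y * c⁻¹ = q.1.2}) =
        Nat.card (Subgroup.centralizer ({x} : Set G)) * Nat.card (Subgroup.centralizer ({y} : Set G)) := by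
    intro q
    rw [Nat.card_prod, Cfsg.Agent.Helper17.M11.T5.card_fib x q.1.1 (hS q.1 q.2).1,
      Cfsg.Agent.Helper17.M11.T5.card_fib y q.1.2 (hS q.1 q.2).2]
  simp only [hf]
  rw [Finset.sum_const, smul_eq_mul]
  congr 1
  simp

end Cfsg.Agent.Helper18.Pairs
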