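import Mathlib
import Cfsg.Agent.Lib.Helper18.Higman333

/-!
# Mixed (3,3,3) triangles for a strongly closed abelian subgroup `J ≤ H` with `C_G(j) ≤ H` (helper18)

Setting of S3702 (G6): `J ≤ H ≤ G`, `J` abelian of exponent 3, `C_G(j) ≤ H` for `j ∈ J^#`, `J` strongly closed in `H`
with respect to `G`.  If `x = g u g⁻¹`, `y = g' v g'⁻¹` with `u, v ∈ J^#` not `G`-conjugate, `x y ∈ J^#`, and the
3-elements of `C_H(u)` lie in `J` (or those of `C_H(v)`), then `x, y ∈ J`.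
-/

set_option autoImplicit false
set_option linter.unusedVariables false
set_option linter.unusedSectionVars false

namespace Cfsg.Agent.Helper18.TriMixed

universe u

variable {G : Type u} [Group G] [Finite G]

theorem orderOf_three_of_mem {x : G} (h3 : x ^ 3 = 1) (h1 : x ≠ 1) : orderOf x = 3 := by
  have : Fact (Nat.Prime 3) := ⟨Nat.prime_three⟩
  exact orderOf_eq_prime h3 h1

theorem conj_ne_one {g u : G} (h1 : u ≠ 1) : g * u * g⁻¹ ≠ 1 := by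
  intro h
  apply h1
  have e : u = g⁻¹ * (g * u * g⁻¹) * g := by group
  rw [e, h]; group

theorem conj_cube {g u : G} (h3 : u ^ 3 = 1) : (g * u * g⁻¹) ^ 3 = 1 := by
  rw [conj_pow, h3]; group

/-- the core: the element `x` comes from `u` whose 3-elements of `C_H(u)` lie in `J` -/
theorem tri_core (H J : Subgroup G)
    (hcomm : ∀ a ∈ J, ∀ b ∈ J, a * b = b * a) (hJ3 : ∀ j ∈ J, j ^ 3 = 1)
    (hC : ∀ j ∈ J, j ≠ 1 → Subgroup.centralizer ({j} : Set G) ≤ H)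
    (hsc : ∀ x ∈ J, ∀ g : G, g * x * g⁻¹ ∈ H → g * x * g⁻¹ ∈ J)
    {u v : G} (hu : u ∈ J) (hv : v ∈ J) (hu1 : u ≠ 1) (hv1 : v ≠ 1)
    (h3u : ∀ a ∈ H, a ^ 3 = 1 → a * u = u * a → a ∈ J)
    (g g' : G) (hnc : ¬ IsConj (g * u * g⁻¹) (g' * v * g'⁻¹))
    (hz : (g * u * g⁻¹) * (g' * v * g'⁻¹) ∈ J) (hz1 : (g * u * g⁻¹) * (g' * v * g'⁻¹) ≠ 1) :
    g * u * g⁻¹ ∈ J ∧ g' * v * g'⁻¹ ∈ J := by
  set x : G := g * u * g⁻¹ with hx_def
  set y : G := g' * v * g'⁻¹ with hy_def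
  have hx3 : orderOf x = 3 := orderOf_three_of_mem (conj_cube (hJ3 u hu)) (conj_ne_one hu1)
  have hy3 : orderOf y = 3 := orderOf_three_of_mem (conj_cube (hJ3 v hv)) (conj_ne_one hv1)
  obtain ⟨a₀, ha1, ha3, hax, hay⟩ :=
    Cfsg.Agent.Helper18.Higman333.exists_central_three hx3 hy3 (hJ3 _ hz) hnc
  -- b₀ = g⁻¹ a₀ g commutes with u
  set b₀ : G := g⁻¹ * a₀ * g with hb_def
  have hb1 : b₀ ≠ 1 := by
    have := conj_ne_one (g := g⁻¹) ha1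
    rwa [inv_inv] at this
  have hb3 : b₀ ^ 3 = 1 := by
    have := conj_cube (g := g⁻¹) ha3
    rwa [inv_inv] at this
  have hbu : b₀ * u = u * b₀ := by
    have e1 : b₀ * u = g⁻¹ * (a₀ * x) * g := by rw [hb_def, hx_def]; group
    have e2 : u * b₀ = g⁻¹ * (x * a₀) * g := by rw [hb_def, hx_def]; group
    rw [e1, e2, hax]
  have hbH : b₀ ∈ H := by
    apply hC u hu hu1
    rw [Subgroup.mem_centralizer_singleton_iff]
    exact hbu
  have hbJ : b₀ ∈ J := h3u b₀ hbH hb3 hbu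
  -- z' = g⁻¹ z g lies in J
  set z : G := x * y with hz_def
  have haz : a₀ * z = z * a₀ := by
    calc a₀ * z = (a₀ * x) * y := by rw [hz_def]; group
      _ = (x * a₀) * y := by rw [hax]
      _ = x * (a₀ * y) := by group
      _ = x * (y * a₀) := by rw [hay]
      _ = z * a₀ := by rw [hz_def]; group
  set z' : G := g⁻¹ * z * g with hz'_def
  have hz'b : z' * b₀ = b₀ * z' := by
    have e1 : z' * b₀ = g⁻¹ * (z * a₀) * g := by rw [hz'_def, hb_def]; group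
    have e2 : b₀ * z' = g⁻¹ * (a₀ * z) * g := by rw [hz'_def, hb_def]; group
    rw [e1, e2, haz]
  have hz'H : z' ∈ H := by
    apply hC b₀ hbJ hb1
    rw [Subgroup.mem_centralizer_singleton_iff]
    exact hz'b
  have hz'J : z' ∈ J := by
    have := hsc z hz g⁻¹
    rw [inv_inv] at this
    exact this hz'H
  have hzz' : z = g * z' * g⁻¹ := by rw [hz'_def]; group
  -- conjugation by g maps J into J
  have hgJ : ∀ j ∈ J, g * j * g⁻¹ ∈ J := by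
    intro j hj
    apply hsc j hj g
    apply hC z hz hz1
    rw [Subgroup.mem_centralizer_singleton_iff]
    have hc := hcomm j hj z' hz'J
    calc g * j * g⁻¹ * z = g * (j * z') * g⁻¹ := by rw [hzz']; group
      _ = g * (z' * j) * g⁻¹ := by rw [hc]
      _ = z * (g * j * g⁻¹) := by rw [hzz']; group
  have hxJ : x ∈ J := hgJ u hu
  have haJ : a₀ ∈ J := by
    have := hgJ b₀ hbJ
    have e : g * b₀ * g⁻¹ = a₀ := by rw [hb_def]; group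
    rwa [e] at this
  have hyH : y ∈ H := by
    apply hC a₀ haJ ha1
    rw [Subgroup.mem_centralizer_singleton_iff]
    exact hay
  exact ⟨hxJ, hsc v hv g' hyH⟩

/-- PIECE (G6), first form: the 3-elements of `C_H(u)` lie in `J` -/
theorem tri_left (H J : Subgroup G)
    (hcomm : ∀ a ∈ J, ∀ b ∈ J, a * b = b * a) (hJ3 : ∀ j ∈ J, j ^ 3 = 1)
    (hC : ∀ j ∈ J, j ≠ 1 → Subgroup.centralizer ({j} : Set G) ≤ H)
    (hsc : ∀ x ∈ J, ∀ g : G, g * x * g⁻¹ ∈ H → g * x * g⁻¹ ∈ J)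
    {u v : G} (hu : u ∈ J) (hv : v ∈ J) (hu1 : u ≠ 1) (hv1 : v ≠ 1)
    (h3u : ∀ a ∈ H, a ^ 3 = 1 → a * u = u * a → a ∈ J)
    (hnc : ¬ IsConj u v) (g g' : G)
    (hz : (g * u * g⁻¹) * (g' * v * g'⁻¹) ∈ J) (hz1 : (g * u * g⁻¹) * (g' * v * g'⁻¹) ≠ 1) :
    g * u * g⁻¹ ∈ J ∧ g' * v * g'⁻¹ ∈ J := by
  apply tri_core H J hcomm hJ3 hC hsc hu hv hu1 hv1 h3u g g' _ hz hz1
  intro hh
  apply hnc
  have h1 : IsConj u (g * u * g⁻¹) := isConj_iff.mpr ⟨g, rfl⟩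
  have h2 : IsConj v (g' * v * g'⁻¹) := isConj_iff.mpr ⟨g', rfl⟩
  exact (h1.trans hh).trans h2.symm

/-- PIECE (G6), second form: the 3-elements of `C_H(v)` lie in `J` -/
theorem tri_right (H J : Subgroup G)
    (hcomm : ∀ a ∈ J, ∀ b ∈ J, a * b = b * a) (hJ3 : ∀ j ∈ J, j ^ 3 = 1)
    (hC : ∀ j ∈ J, j ≠ 1 → Subgroup.centralizer ({j} : Set G) ≤ H)
    (hsc : ∀ x ∈ J, ∀ g : G, g * x * g⁻¹ ∈ H → g * x * g⁻¹ ∈ J)
    {u v : G} (hu : u ∈ J) (hv : v ∈ J) (hu1 : u ≠ 1) (hv1 : v ≠ 1)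
    (h3v : ∀ a ∈ H, a ^ 3 = 1 → a * v = v * a → a ∈ J)
    (hnc : ¬ IsConj u v) (g g' : G)
    (hz : (g * u * g⁻¹) * (g' * v * g'⁻¹) ∈ J) (hz1 : (g * u * g⁻¹) * (g' * v * g'⁻¹) ≠ 1) :
    g * u * g⁻¹ ∈ J ∧ g' * v * g'⁻¹ ∈ J := by
  -- pass to inverses: y⁻¹ x⁻¹ = (x y)⁻¹
  have hvi : v⁻¹ ∈ J := J.inv_mem hv
  have hui : u⁻¹ ∈ J := J.inv_mem hu
  have hvi1 : v⁻¹ ≠ 1 := by simpa using hv1
  have hui1 : u⁻¹ ≠ 1 := by simpa using hu1
  have h3vi : ∀ a ∈ H, a ^ 3 = 1 → a * v⁻¹ = v⁻¹ * a → a ∈ J := by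
    intro a ha ha3 hc
    apply h3v a ha ha3
    calc a * v = v * (v⁻¹ * a) * v := by group
      _ = v * (a * v⁻¹) * v := by rw [hc]
      _ = v * a := by group
  have hnc' : ¬ IsConj v⁻¹ u⁻¹ := by
    intro hh
    apply hnc
    obtain ⟨c, hc⟩ := isConj_iff.mp hh
    refine isConj_iff.mpr ⟨c⁻¹, ?_⟩
    have : u = c * v * c⁻¹ := by
      have h1 : u⁻¹ = (c * v * c⁻¹)⁻¹ := by rw [← hc]; group
      exact inv_injective h1
    rw [this]; group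
  have e : (g' * v⁻¹ * g'⁻¹) * (g * u⁻¹ * g⁻¹) = ((g * u * g⁻¹) * (g' * v * g'⁻¹))⁻¹ := by group
  have hz' : (g' * v⁻¹ * g'⁻¹) * (g * u⁻¹ * g⁻¹) ∈ J := by rw [e]; exact J.inv_mem hz
  have hz1' : (g' * v⁻¹ * g'⁻¹) * (g * u⁻¹ * g⁻¹) ≠ 1 := by
    rw [e]
    exact inv_ne_one.mpr hz1
  obtain ⟨h1, h2⟩ := tri_left H J hcomm hJ3 hC hsc hvi hui hvi1 hui1 h3vi hnc' g' g hz' hz1'
  constructor
  · have : g * u * g⁻¹ = (g * u⁻¹ * g⁻¹)⁻¹ := by group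
    rw [this]; exact J.inv_mem h2
  · have : g' * v * g'⁻¹ = (g' * v⁻¹ * g'⁻¹)⁻¹ := by group
    rw [this]; exact J.inv_mem h1

end Cfsg.Agent.Helper18.TriMixed
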