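import Mathlib
import Cfsg.Agent.Lib.Helper21.N9KDefs
import Cfsg.Agent.Lib.Helper18.N9CountsK
import Cfsg.Agent.Lib.Helper18.TriMixed
import Cfsg.Agent.Lib.Helper18.PairsFinset

/-!
# S3702 GROUP (helper18): blocks CENT and COUNTS

For `c : Cfg H J` (the configuration of the statement) and `C = mapCfg c.ι m hcard hm`:
* `cent_all` : `|C_G(C.z a)| = cz a` for the nine representatives;
* `cnt_ffe ... cnt_evv` : the seven mixed class constants of `TC648.Facts`.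
-/

set_option autoImplicit false
set_option linter.unusedSectionVars false
set_option linter.unusedVariables false

namespace Cfsg.Agent.Helper21.N9

open Cfsg Cfsg.Agent.Helper16

universe u

section Basic

variable {G : Type u} [Group G] {H J : Subgroup G} (c : Cfg H J)

theorem cnt_ι_injective : Function.Injective c.ι := by
  intro x y h
  have h1 : (c.e.symm x : ↥H) = c.e.symm y := Subtype.ext h
  exact c.e.symm.injective h1

theorem cnt_ι_mem_H (x : ↥K0) : c.ι x ∈ H := (c.e.symm x).2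

theorem cnt_ι_mem_J (x : ↥K0) : c.ι x ∈ J ↔ x ∈ J0 := by
  have h := c.hJ (c.e.symm x)
  rw [c.e.apply_symm_apply] at h
  exact h

theorem cnt_exists_of_mem_H {h : G} (hh : h ∈ H) : ∃ x : ↥K0, c.ι x = h :=
  ⟨c.e ⟨h, hh⟩, by rw [Cfg.ι_apply, c.e.symm_apply_apply]⟩

theorem cnt_exists_of_mem_J {j : G} (hj : j ∈ J) : ∃ i₁ i₂ i₃ : Fin 3, c.ι (Wj i₁ i₂ i₃) = j := by
  obtain ⟨x, rfl⟩ := cnt_exists_of_mem_H c (c.hJH hj)
  rw [cnt_ι_mem_J, mem_J0_iff] at hj
  obtain ⟨i, j, k, rfl⟩ := hj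
  exact ⟨i, j, k, rfl⟩

theorem cnt_Wj_mem (i j k : Fin 3) : c.ι (Wj i j k) ∈ J :=
  (cnt_ι_mem_J c _).mpr ((mem_J0_iff _).mpr ⟨i, j, k, rfl⟩)

include c in
theorem cnt_J_comm : ∀ a ∈ J, ∀ b ∈ J, a * b = b * a := by
  intro a ha b hb
  obtain ⟨i, j, k, rfl⟩ := cnt_exists_of_mem_J c ha
  obtain ⟨i', j', k', rfl⟩ := cnt_exists_of_mem_J c hb
  rw [← map_mul, ← map_mul, cntk_Wj_comm]

include c in
theorem cnt_J_cube : ∀ j ∈ J, j ^ 3 = 1 := by
  intro a ha
  obtain ⟨i, j, k, rfl⟩ := cnt_exists_of_mem_J c ha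
  rw [← map_pow, cntk_Wj_pow, map_one]

theorem cnt_ι_ne_one {x : ↥K0} (hx : x ≠ 1) : c.ι x ≠ 1 := by
  intro h
  apply hx
  apply cnt_ι_injective c
  rw [h, map_one]

end Basic

section Cent

variable {G : Type u} [Group G] {H J : Subgroup G} (c : Cfg H J)

/-- if `C_G(ι x) ≤ H` then `C_G(ι x)` is the image of `C_K0(x)` -/
theorem cnt_card_centralizer (x : ↥K0)
    (hle : Subgroup.centralizer ({c.ι x} : Set G) ≤ H) :
    Nat.card (Subgroup.centralizer ({c.ι x} : Set G)) = Nat.card {y : ↥K0 // y * x = x * y} := by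
  refine Nat.card_congr
    { toFun := fun g => ⟨c.e ⟨g.1, hle g.2⟩, ?_⟩
      invFun := fun y => ⟨c.ι y.1, ?_⟩
      left_inv := ?_
      right_inv := ?_ }
  · have hg := g.2
    rw [Subgroup.mem_centralizer_singleton_iff] at hg
    apply cnt_ι_injective c
    rw [map_mul, map_mul]
    have e1 : c.ι (c.e ⟨g.1, hle g.2⟩) = g.1 := by rw [Cfg.ι_apply, c.e.symm_apply_apply]
    rw [e1]
    exact hg
  · rw [Subgroup.mem_centralizer_singleton_iff, ← map_mul, ← map_mul, y.2]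
  · intro g
    apply Subtype.ext
    simp only
    rw [Cfg.ι_apply, c.e.symm_apply_apply]
  · intro y
    apply Subtype.ext
    simp only
    apply cnt_ι_injective c
    rw [Cfg.ι_apply, c.e.symm_apply_apply]

/-- `C_G(ι (CK.z a)) ≤ H` for the nine representatives -/
theorem cnt_centralizer_le (a : Fin 9) : Subgroup.centralizer ({c.ι (CK.z a)} : Set G) ≤ H := by
  obtain ⟨hm, h1⟩ := cntk_pow_mem a
  have hJ : c.ι (CK.z a ^ cntk_pw a) ∈ J := (cnt_ι_mem_J c _).mpr hm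
  have hne : c.ι (CK.z a ^ cntk_pw a) ≠ 1 := cnt_ι_ne_one c h1
  refine le_trans ?_ (c.hC _ hJ hne)
  intro g hg
  rw [Subgroup.mem_centralizer_singleton_iff] at hg ⊢
  rw [map_pow]
  exact (Commute.pow_right (show Commute g (c.ι (CK.z a)) from hg) _).eq

theorem cnt_card_centralizer_z (a : Fin 9) :
    Nat.card (Subgroup.centralizer ({c.ι (CK.z a)} : Set G)) = TC648.cz a := by
  rw [cnt_card_centralizer c _ (cnt_centralizer_le c a), card_subtype_K0]
  exact cntk_cent a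

/-- PIECE CENT -/
theorem cent_all (m : ℕ) (hcard : Nat.card G = 648 * m) (hm : m % 27 = 1) (a : Fin 9) :
    Nat.card (Subgroup.centralizer ({(mapCfg c.ι m hcard hm).z a} : Set G)) = TC648.cz a := by
  rw [mapCfg_z]
  exact cnt_card_centralizer_z c a

end Cent

section Counts

/-- vectors of `F_3^3` -/
abbrev cnt_V : Type := Fin 3 × Fin 3 × Fin 3

/-- the element of `J0` attached to a vector -/
def cnt_Wv (v : cnt_V) : ↥K0 := Wj v.1 v.2.1 v.2.2

/-- the class index of a vector -/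
def cnt_cls (v : cnt_V) : Fin 9 := TC648.clsJ v.1 v.2.1 v.2.2

/-- the indices `0, 1, 2` of the three classes of `J0 ∖ 1` inside `Fin 9` -/
def cnt_R (a : Fin 3) : Fin 9 := ⟨a.1, by omega⟩

/-- the vectors `e1`, `e1 + e2`, `e1 + e2 + e3` -/
def cnt_vrep : Fin 3 → cnt_V := ![(1, 0, 0), (1, 1, 0), (1, 1, 1)]

/-- the pairs of vectors counted by the class constant `n(a, b; c)` -/
def cnt_vecs (a b cc : Fin 3) : Finset (cnt_V × cnt_V) :=
  Finset.univ.filter (fun p : cnt_V × cnt_V =>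
    p.1 ≠ 0 ∧ p.2 ≠ 0 ∧ cnt_cls p.1 = cnt_R a ∧ cnt_cls p.2 = cnt_R b ∧ p.1 + p.2 = cnt_vrep cc)

theorem cnt_Wv_mul (v w : cnt_V) : cnt_Wv v * cnt_Wv w = cnt_Wv (v + w) := Wj_mul _ _ _ _ _ _

theorem cnt_Wv_injective : Function.Injective cnt_Wv := by
  intro v w h
  obtain ⟨h1, h2, h3⟩ := cntk_Wj_inj h
  exact Prod.ext h1 (Prod.ext h2 h3)

theorem cnt_Wv_zero : cnt_Wv 0 = 1 := cntk_Wj_one

theorem cnt_z_rep : ∀ a : Fin 3, CK.z (cnt_R a) = cnt_Wv (cnt_vrep a) := by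
  intro a
  fin_cases a
  · exact cntk_z0
  · exact cntk_z1
  · exact cntk_z2

theorem cnt_vrep_ne : ∀ a : Fin 3, cnt_vrep a ≠ 0 := by decide

theorem cnt_cls_range : ∀ v : cnt_V, ∃ w : Fin 3, cnt_cls v = cnt_R w := by decide

theorem cnt_cz_inj : ∀ a b : Fin 3, TC648.cz (cnt_R a) = TC648.cz (cnt_R b) → a = b := by decide

theorem cnt_ne_zero_iff (v : cnt_V) : v ≠ 0 ↔ ¬ (v.1 = 0 ∧ v.2.1 = 0 ∧ v.2.2 = 0) := by
  constructor
  · intro h hh
    apply h
    exact Prod.ext hh.1 (Prod.ext hh.2.1 hh.2.2)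
  · intro h hh
    apply h
    rw [hh]
    exact ⟨rfl, rfl, rfl⟩

variable {G : Type u} [Group G] [Finite G] {H J : Subgroup G} (c : Cfg H J)

theorem cnt_card_centralizer_conj (x g : G) :
    Nat.card (Subgroup.centralizer ({g * x * g⁻¹} : Set G)) =
      Nat.card (Subgroup.centralizer ({x} : Set G)) := by
  refine Nat.card_congr
    { toFun := fun a => ⟨g⁻¹ * a.1 * g, ?_⟩
      invFun := fun a => ⟨g * a.1 * g⁻¹, ?_⟩
      left_inv := ?_
      right_inv := ?_ }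
  · have ha := a.2
    rw [Subgroup.mem_centralizer_singleton_iff] at ha ⊢
    calc g⁻¹ * a.1 * g * x = g⁻¹ * (a.1 * (g * x * g⁻¹)) * g := by group
      _ = g⁻¹ * ((g * x * g⁻¹) * a.1) * g := by rw [ha]
      _ = x * (g⁻¹ * a.1 * g) := by group
  · have ha := a.2
    rw [Subgroup.mem_centralizer_singleton_iff] at ha ⊢
    calc g * a.1 * g⁻¹ * (g * x * g⁻¹) = g * (a.1 * x) * g⁻¹ := by group
      _ = g * (x * a.1) * g⁻¹ := by rw [ha]
      _ = g * x * g⁻¹ * (g * a.1 * g⁻¹) := by group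
  · intro a
    apply Subtype.ext
    simp only
    group
  · intro a
    apply Subtype.ext
    simp only
    group

/-- a nonzero vector gives a conjugate of the representative of its class -/
theorem cnt_conj_rep (v : cnt_V) (hv : v ≠ 0) :
    ∃ g : G, g * c.ι (CK.z (cnt_cls v)) * g⁻¹ = c.ι (cnt_Wv v) := by
  obtain ⟨q, hq⟩ := cntk_conjJ v.1 v.2.1 v.2.2 ((cnt_ne_zero_iff v).mp hv)
  refine ⟨c.ι (Wk q), ?_⟩
  rw [← map_inv, ← map_mul, ← map_mul]
  exact congrArg c.ι hq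

theorem cnt_card_centralizer_Wv (v : cnt_V) (hv : v ≠ 0) :
    Nat.card (Subgroup.centralizer ({c.ι (cnt_Wv v)} : Set G)) = TC648.cz (cnt_cls v) := by
  obtain ⟨g, hg⟩ := cnt_conj_rep c v hv
  rw [← hg, cnt_card_centralizer_conj, cnt_card_centralizer_z]

/-- PIECE CTL (by-product): a `G`-conjugate of the representative of weight `a` lying in `J` has weight `a` -/
theorem cnt_cls_of_conj (a : Fin 3) (g : G) (v : cnt_V) (hv : v ≠ 0)
    (h : g * c.ι (CK.z (cnt_R a)) * g⁻¹ = c.ι (cnt_Wv v)) : cnt_cls v = cnt_R a := by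
  have h1 := cnt_card_centralizer_Wv c v hv
  rw [← h, cnt_card_centralizer_conj, cnt_card_centralizer_z] at h1
  obtain ⟨w, hw⟩ := cnt_cls_range v
  rw [hw] at h1 ⊢
  rw [cnt_cz_inj a w h1]

/-- by-product: the representatives of the three weights are pairwise non-conjugate in `G` -/
theorem cnt_nconj (a b : Fin 3) (hab : a ≠ b) :
    ¬ IsConj (c.ι (CK.z (cnt_R a))) (c.ι (CK.z (cnt_R b))) := by
  intro h
  obtain ⟨g, hg⟩ := isConj_iff.mp h
  apply hab
  apply cnt_cz_inj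
  rw [← cnt_card_centralizer_z c (cnt_R a), ← cnt_card_centralizer_z c (cnt_R b), ← hg,
    cnt_card_centralizer_conj]

theorem cnt_three_le (p : ↥K0)
    (hp : ∀ q : Idx, Wk q ^ 3 = 1 → Wk q * p = p * Wk q → Wk q ∈ J0) :
    ∀ a ∈ H, a ^ 3 = 1 → a * c.ι p = c.ι p * a → a ∈ J := by
  intro a ha ha3 hcomm
  obtain ⟨y, rfl⟩ := cnt_exists_of_mem_H c ha
  rw [cnt_ι_mem_J]
  obtain ⟨q, rfl⟩ := Wk_surjective y
  apply hp q
  · apply cnt_ι_injective c
    rw [map_pow, ha3, map_one]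
  · apply cnt_ι_injective c
    rw [map_mul, map_mul, hcomm]

/-- the 3-elements of `C_H(z)` lie in `J` for the representatives of weight 1 and 2 -/
theorem cnt_three (a : Fin 3) (ha : a ≠ 2) :
    ∀ x ∈ H, x ^ 3 = 1 → x * c.ι (CK.z (cnt_R a)) = c.ι (CK.z (cnt_R a)) * x → x ∈ J := by
  fin_cases a
  · have e : CK.z (cnt_R 0) = Wj 1 0 0 := cntk_z0
    simp only [Fin.zero_eta] 
    rw [e]
    exact cnt_three_le c _ cntk_three0
  · have e : CK.z (cnt_R 1) = Wj 1 1 0 := cntk_z1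
    simp only [Fin.mk_one]
    rw [e]
    exact cnt_three_le c _ cntk_three1
  · exact absurd rfl ha

/-- both conjugates lie in `J` (mixed TRI) -/
theorem cnt_tri (a b cc : Fin 3) (hab : a ≠ b) (h2 : a ≠ 2 ∨ b ≠ 2) (g g' : G)
    (h : (g * c.ι (CK.z (cnt_R a)) * g⁻¹) * (g' * c.ι (CK.z (cnt_R b)) * g'⁻¹) = c.ι (CK.z (cnt_R cc))) :
    g * c.ι (CK.z (cnt_R a)) * g⁻¹ ∈ J ∧ g' * c.ι (CK.z (cnt_R b)) * g'⁻¹ ∈ J := by
  have hza : c.ι (CK.z (cnt_R a)) ∈ J := by rw [cnt_z_rep]; exact cnt_Wj_mem c _ _ _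
  have hzb : c.ι (CK.z (cnt_R b)) ∈ J := by rw [cnt_z_rep]; exact cnt_Wj_mem c _ _ _
  have hzc : c.ι (CK.z (cnt_R cc)) ∈ J := by rw [cnt_z_rep]; exact cnt_Wj_mem c _ _ _
  have hne : ∀ d : Fin 3, c.ι (CK.z (cnt_R d)) ≠ 1 := by
    intro d
    apply cnt_ι_ne_one c
    rw [cnt_z_rep, ← cnt_Wv_zero]
    intro hh
    exact cnt_vrep_ne d (cnt_Wv_injective hh)
  have hz : (g * c.ι (CK.z (cnt_R a)) * g⁻¹) * (g' * c.ι (CK.z (cnt_R b)) * g'⁻¹) ∈ J := by
    rw [h]; exact hzc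
  have hz1 : (g * c.ι (CK.z (cnt_R a)) * g⁻¹) * (g' * c.ι (CK.z (cnt_R b)) * g'⁻¹) ≠ 1 := by
    rw [h]; exact hne cc
  rcases h2 with h2 | h2
  · exact Cfsg.Agent.Helper18.TriMixed.tri_left H J (cnt_J_comm c) (cnt_J_cube c) c.hC c.hsc hza hzb
      (hne a) (hne b) (cnt_three c a h2) (cnt_nconj c a b hab) g g' hz hz1
  · exact Cfsg.Agent.Helper18.TriMixed.tri_right H J (cnt_J_comm c) (cnt_J_cube c) c.hC c.hsc hza hzb
      (hne a) (hne b) (cnt_three c b h2) (cnt_nconj c a b hab) g g' hz hz1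

/-- the general mixed class constant -/
theorem cnt_gen (a b cc : Fin 3) (hab : a ≠ b) (h2 : a ≠ 2 ∨ b ≠ 2) :
    Nat.card {p : G × G // (p.1 * c.ι (CK.z (cnt_R a)) * p.1⁻¹) * (p.2 * c.ι (CK.z (cnt_R b)) * p.2⁻¹) =
        c.ι (CK.z (cnt_R cc))} =
      (cnt_vecs a b cc).card * (TC648.cz (cnt_R a) * TC648.cz (cnt_R b)) := by
  classical
  set f : cnt_V × cnt_V → G × G := fun p => (c.ι (cnt_Wv p.1), c.ι (cnt_Wv p.2)) with hf
  have hfinj : Function.Injective f := by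
    intro p q hpq
    simp only [hf, Prod.mk.injEq] at hpq
    exact Prod.ext (cnt_Wv_injective (cnt_ι_injective c hpq.1)) (cnt_Wv_injective (cnt_ι_injective c hpq.2))
  have key := Cfsg.Agent.Helper18.Pairs.card_pairs_finset (c.ι (CK.z (cnt_R a))) (c.ι (CK.z (cnt_R b)))
    (c.ι (CK.z (cnt_R cc))) ((cnt_vecs a b cc).image f) ?_ ?_
  · rw [key, Finset.card_image_of_injective _ hfinj, cnt_card_centralizer_z, cnt_card_centralizer_z]
  · -- members of S are pairs of conjugates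
    intro q hq
    obtain ⟨p, hp, rfl⟩ := Finset.mem_image.mp hq
    simp only [cnt_vecs, Finset.mem_filter, Finset.mem_univ, true_and] at hp
    obtain ⟨hp1, hp2, hc1, hc2, -⟩ := hp
    constructor
    · obtain ⟨g, hg⟩ := cnt_conj_rep c p.1 hp1
      rw [hc1] at hg
      exact ⟨g, hg⟩
    · obtain ⟨g, hg⟩ := cnt_conj_rep c p.2 hp2
      rw [hc2] at hg
      exact ⟨g, hg⟩
  · intro p
    constructor
    · intro h
      obtain ⟨hx, hy⟩ := cnt_tri c a b cc hab h2 p.1 p.2 h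
      obtain ⟨i, j, k, hv⟩ := cnt_exists_of_mem_J c hx
      obtain ⟨i', j', k', hv'⟩ := cnt_exists_of_mem_J c hy
      have hne : ∀ d : Fin 3, c.ι (CK.z (cnt_R d)) ≠ 1 := by
        intro d
        apply cnt_ι_ne_one c
        rw [cnt_z_rep, ← cnt_Wv_zero]
        intro hh
        exact cnt_vrep_ne d (cnt_Wv_injective hh)
      have hv0 : ((i, j, k) : cnt_V) ≠ 0 := by
        intro h0
        have e1 : c.ι (cnt_Wv (i, j, k)) = 1 := by rw [h0, cnt_Wv_zero, map_one]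
        have e2 : p.1 * c.ι (CK.z (cnt_R a)) * p.1⁻¹ = 1 := by rw [← hv]; exact e1
        apply hne a
        calc c.ι (CK.z (cnt_R a)) = p.1⁻¹ * (p.1 * c.ι (CK.z (cnt_R a)) * p.1⁻¹) * p.1 := by group
          _ = 1 := by rw [e2]; group
      have hv0' : ((i', j', k') : cnt_V) ≠ 0 := by
        intro h0
        have e1 : c.ι (cnt_Wv (i', j', k')) = 1 := by rw [h0, cnt_Wv_zero, map_one]
        have e2 : p.2 * c.ι (CK.z (cnt_R b)) * p.2⁻¹ = 1 := by rw [← hv']; exact e1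
        apply hne b
        calc c.ι (CK.z (cnt_R b)) = p.2⁻¹ * (p.2 * c.ι (CK.z (cnt_R b)) * p.2⁻¹) * p.2 := by group
          _ = 1 := by rw [e2]; group
      have hc1 : cnt_cls (i, j, k) = cnt_R a := cnt_cls_of_conj c a p.1 (i, j, k) hv0 hv.symm
      have hc2 : cnt_cls (i', j', k') = cnt_R b := cnt_cls_of_conj c b p.2 (i', j', k') hv0' hv'.symm
      have hsum : ((i, j, k) : cnt_V) + (i', j', k') = cnt_vrep cc := by
        apply cnt_Wv_injective
        apply cnt_ι_injective c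
        rw [← cnt_Wv_mul, map_mul, ← cnt_z_rep]
        change c.ι (Wj i j k) * c.ι (Wj i' j' k') = _
        rw [hv, hv', h]
      apply Finset.mem_image.mpr
      refine ⟨((i, j, k), (i', j', k')), ?_, ?_⟩
      · simp only [cnt_vecs, Finset.mem_filter, Finset.mem_univ, true_and]
        exact ⟨hv0, hv0', hc1, hc2, hsum⟩
      · simp only [hf]
        change (c.ι (Wj i j k), c.ι (Wj i' j' k')) = _
        rw [hv, hv']
    · intro h
      obtain ⟨q, hq, hqe⟩ := Finset.mem_image.mp h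
      simp only [cnt_vecs, Finset.mem_filter, Finset.mem_univ, true_and] at hq
      obtain ⟨-, -, -, -, hsum⟩ := hq
      simp only [hf, Prod.mk.injEq] at hqe
      rw [← hqe.1, ← hqe.2, ← map_mul, cnt_Wv_mul, hsum, cnt_z_rep]

theorem cnt_vecs_card : (cnt_vecs 0 1 0).card = 4 ∧ (cnt_vecs 0 1 1).card = 2 ∧ (cnt_vecs 0 1 2).card = 3 ∧
    (cnt_vecs 0 2 0).card = 0 ∧ (cnt_vecs 0 2 2).card = 3 ∧ (cnt_vecs 1 2 1).card = 4 ∧
    (cnt_vecs 1 2 2).card = 3 := by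
  decide +kernel

variable (m : ℕ) (hcard : Nat.card G = 648 * m) (hm : m % 27 = 1)

/-- the general count in terms of `mapCfg` -/
theorem cnt_map (a b cc : Fin 3) (hab : a ≠ b) (h2 : a ≠ 2 ∨ b ≠ 2) :
    Nat.card {p : G × G // (p.1 * (mapCfg c.ι m hcard hm).z (cnt_R a) * p.1⁻¹) *
        (p.2 * (mapCfg c.ι m hcard hm).z (cnt_R b) * p.2⁻¹) = (mapCfg c.ι m hcard hm).z (cnt_R cc)} =
      (cnt_vecs a b cc).card * (TC648.cz (cnt_R a) * TC648.cz (cnt_R b)) := by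
  simp only [mapCfg_z]
  exact cnt_gen c a b cc hab h2

/-- PIECE COUNTS -/
theorem cnt_ffe : Nat.card {p : G × G // (p.1 * (mapCfg c.ι m hcard hm).z 0 * p.1⁻¹) *
    (p.2 * (mapCfg c.ι m hcard hm).z 1 * p.2⁻¹) = (mapCfg c.ι m hcard hm).z 0} = 23328 := by
  have h := cnt_map c m hcard hm 0 1 0 (by decide) (by decide)
  rw [cnt_vecs_card.1] at h
  exact h

theorem cnt_fee : Nat.card {p : G × G // (p.1 * (mapCfg c.ι m hcard hm).z 0 * p.1⁻¹) *
    (p.2 * (mapCfg c.ι m hcard hm).z 1 * p.2⁻¹) = (mapCfg c.ι m hcard hm).z 1} = 11664 := by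
  have h := cnt_map c m hcard hm 0 1 1 (by decide) (by decide)
  rw [cnt_vecs_card.2.1] at h
  exact h

theorem cnt_fev : Nat.card {p : G × G // (p.1 * (mapCfg c.ι m hcard hm).z 0 * p.1⁻¹) *
    (p.2 * (mapCfg c.ι m hcard hm).z 1 * p.2⁻¹) = (mapCfg c.ι m hcard hm).z 2} = 17496 := by
  have h := cnt_map c m hcard hm 0 1 2 (by decide) (by decide)
  rw [cnt_vecs_card.2.2.1] at h
  exact h

theorem cnt_fvf : Nat.card {p : G × G // (p.1 * (mapCfg c.ι m hcard hm).z 0 * p.1⁻¹) *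
    (p.2 * (mapCfg c.ι m hcard hm).z 2 * p.2⁻¹) = (mapCfg c.ι m hcard hm).z 0} = 0 := by
  have h := cnt_map c m hcard hm 0 2 0 (by decide) (by decide)
  rw [cnt_vecs_card.2.2.2.1] at h
  exact h

theorem cnt_fvv : Nat.card {p : G × G // (p.1 * (mapCfg c.ι m hcard hm).z 0 * p.1⁻¹) *
    (p.2 * (mapCfg c.ι m hcard hm).z 2 * p.2⁻¹) = (mapCfg c.ι m hcard hm).z 2} = 26244 := by
  have h := cnt_map c m hcard hm 0 2 2 (by decide) (by decide)
  rw [cnt_vecs_card.2.2.2.2.1] at h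
  exact h

theorem cnt_eve : Nat.card {p : G × G // (p.1 * (mapCfg c.ι m hcard hm).z 1 * p.1⁻¹) *
    (p.2 * (mapCfg c.ι m hcard hm).z 2 * p.2⁻¹) = (mapCfg c.ι m hcard hm).z 1} = 17496 := by
  have h := cnt_map c m hcard hm 1 2 1 (by decide) (by decide)
  rw [cnt_vecs_card.2.2.2.2.2.1] at h
  exact h

theorem cnt_evv : Nat.card {p : G × G // (p.1 * (mapCfg c.ι m hcard hm).z 1 * p.1⁻¹) *
    (p.2 * (mapCfg c.ι m hcard hm).z 2 * p.2⁻¹) = (mapCfg c.ι m hcard hm).z 2} = 13122 := by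
  have h := cnt_map c m hcard hm 1 2 2 (by decide) (by decide)
  rw [cnt_vecs_card.2.2.2.2.2.2] at h
  exact h

end Counts

end Cfsg.Agent.Helper21.N9
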