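import Mathlib
import Cfsg.Agent.Lib.Helper21.N9KDefs

/-!
# S3702 GROUP piece KCONJF (helper18): the `K0`-classes of the elements `t1^i t2^j t3^k r^l` (`i ≠ 0`)
-/

set_option autoImplicit false
set_option linter.unusedSectionVars false
set_option linter.unusedVariables false

namespace Cfsg.Agent.Helper21.N9

open Cfsg Cfsg.Agent.Helper16

theorem kconjf_idx : ∀ (i j k : Fin 3) (l : Fin 4), i ≠ 0 →
    ∃ q : Idx, Wk q * (CK.wJ i j k * CK.r ^ (l : ℕ)) * (Wk q)⁻¹ = CK.z (TC648.clsF i j k l) := by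
  decide +kernel

/-- PIECE S3702-GR-KCONJF -/
theorem conjF_K0 : ∀ (i j k : Fin 3) (l : Fin 4), i ≠ 0 →
    IsConj (CK.wJ i j k * CK.r ^ (l : ℕ)) (CK.z (TC648.clsF i j k l)) := by
  intro i j k l hi
  rw [isConj_iff, exists_K0]
  exact kconjf_idx i j k l hi

end Cfsg.Agent.Helper21.N9
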