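import Mathlib
import Cfsg.Agent.Lib.Helper26.NSEDefs

/-!
# S3431 piece NSE0A4 (helper18): the set of order-class sizes of `A₄` is `{1, 3, 8}`
-/

set_option autoImplicit false

namespace Cfsg.Agent.Helper26.NSE

namespace NSE0A4

/-- every element of `A₄` has order `1`, `2` or `3` -/
theorem orderOf_cases (g : ↥(alternatingGroup (Fin 4))) :
    orderOf g = 1 ∨ orderOf g = 2 ∨ orderOf g = 3 := by
  haveI : Fact (Nat.Prime 2) := ⟨Nat.prime_two⟩
  haveI : Fact (Nat.Prime 3) := ⟨Nat.prime_three⟩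
  have h : g = 1 ∨ (g ^ 2 = 1 ∧ g ≠ 1) ∨ (g ^ 3 = 1 ∧ g ≠ 1) := by
    revert g
    decide
  rcases h with h | h | h
  · left
    rw [h, orderOf_one]
  · right
    left
    exact orderOf_eq_prime_iff.2 h
  · right
    right
    exact orderOf_eq_prime_iff.2 h

theorem card_one : Nat.card {g : ↥(alternatingGroup (Fin 4)) // orderOf g = 1} = 1 := by
  rw [Nat.card_congr (Equiv.subtypeEquivRight
    (fun g : ↥(alternatingGroup (Fin 4)) => orderOf_eq_one_iff))]
  rw [Nat.card_eq_fintype_card]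
  decide

theorem card_two : Nat.card {g : ↥(alternatingGroup (Fin 4)) // orderOf g = 2} = 3 := by
  haveI : Fact (Nat.Prime 2) := ⟨Nat.prime_two⟩
  rw [Nat.card_congr (Equiv.subtypeEquivRight
    (fun g : ↥(alternatingGroup (Fin 4)) => orderOf_eq_prime_iff (p := 2)))]
  rw [Nat.card_eq_fintype_card]
  decide

theorem card_three : Nat.card {g : ↥(alternatingGroup (Fin 4)) // orderOf g = 3} = 8 := by
  haveI : Fact (Nat.Prime 3) := ⟨Nat.prime_three⟩
  rw [Nat.card_congr (Equiv.subtypeEquivRight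
    (fun g : ↥(alternatingGroup (Fin 4)) => orderOf_eq_prime_iff (p := 3)))]
  rw [Nat.card_eq_fintype_card]
  decide

end NSE0A4

/-- PIECE NSE0A4. -/
theorem nse_A4 : ((fun m : ℕ => Nat.card {g : ↥(alternatingGroup (Fin 4)) // orderOf g = m}) ''
    Set.range (orderOf : ↥(alternatingGroup (Fin 4)) → ℕ)) = {1, 3, 8} := by
  ext v
  constructor
  · rintro ⟨m, ⟨g, rfl⟩, rfl⟩
    rcases NSE0A4.orderOf_cases g with h | h | h
    · simp only [h, NSE0A4.card_one]
      simp
    · simp only [h, NSE0A4.card_two]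
      simp
    · simp only [h, NSE0A4.card_three]
      simp
  · intro hv
    simp only [Set.mem_insert_iff, Set.mem_singleton_iff] at hv
    rcases hv with rfl | rfl | rfl
    · exact ⟨1, ⟨1, orderOf_one⟩, NSE0A4.card_one⟩
    · obtain ⟨⟨g, hg⟩⟩ : Nonempty {g : ↥(alternatingGroup (Fin 4)) // orderOf g = 2} :=
        (Nat.card_pos_iff.1 (by rw [NSE0A4.card_two]; norm_num)).1
      exact ⟨2, ⟨g, hg⟩, NSE0A4.card_two⟩
    · obtain ⟨⟨g, hg⟩⟩ : Nonempty {g : ↥(alternatingGroup (Fin 4)) // orderOf g = 3} :=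
        (Nat.card_pos_iff.1 (by rw [NSE0A4.card_three]; norm_num)).1
      exact ⟨3, ⟨g, hg⟩, NSE0A4.card_three⟩

end Cfsg.Agent.Helper26.NSE
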