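import Mathlib
import Cfsg.Agent.S0991
import Cfsg.Agent.Lib.Helper3.SmallOrd

/-!
# A simple group of order 2520 with a subgroup of index 7 is `A₇` (helper18, pre-work for S0984)
-/

set_option autoImplicit false

namespace Cfsg.Agent.Helper18.O2520

variable {G : Type*} [Group G] [Finite G] [IsSimpleGroup G]

theorem card_alt7 : Nat.card (alternatingGroup (Fin 7)) = 2520 := by
  have h := two_mul_card_alternatingGroup (α := Fin 7)
  rw [Fintype.card_perm, Fintype.card_fin] at h
  rw [Nat.card_eq_fintype_card]
  have : Nat.factorial 7 = 5040 := by decide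
  omega

theorem iso_of_index_seven (h : Nat.card G = 2520) (H : Subgroup G) (hH : H.index = 7) :
    Nonempty (G ≃* alternatingGroup (Fin 7)) := by
  have hG : ∃ x y : G, x * y ≠ y * x :=
    Cfsg.Agent.Lead.nonabelian_of_not_prime (by rw [h]; norm_num)
  have hG' : ¬ IsMulCommutative G := by
    intro hc
    obtain ⟨x, y, hxy⟩ := hG
    exact hxy (hc.is_comm.comm x y)
  have hHtop : H ≠ ⊤ := by
    intro ht
    rw [ht, Subgroup.index_top] at hH
    omega
  have key := Cfsg.Agent.S0991.result hG' H hHtop
  rw [hH] at key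
  obtain ⟨f, hf⟩ := key
  have hbij : Function.Bijective f :=
    hf.bijective_of_nat_card_le (by rw [card_alt7, h])
  exact ⟨MulEquiv.ofBijective f hbij⟩

end Cfsg.Agent.Helper18.O2520
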