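import Mathlib

/-!
# Fixed points of an element of `N(P)` on the Sylow `p`-subgroups when `C(P)` is regular on the others
(helper18; used for the order-2520 Sylow analysis, S0984)
-/

set_option autoImplicit false

namespace Cfsg.Agent.Helper18.RegFix

variable {G : Type*} [Group G] [Finite G]

/-- If `C = C(P)` acts regularly on the Sylow `p`-subgroups other than `P` (semiregular and
`|C| + 1 = n_p`), then an element `u` of `N(P)` fixes either only `P`, or exactly `1 + |C_C(u)|`
Sylow `p`-subgroups. -/
theorem card_fixedBy_normalizer {p : ℕ} [Fact p.Prime] (P : Sylow p G)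
    (hreg : ∀ c ∈ Subgroup.centralizer ((P : Subgroup G) : Set G), c ≠ 1 →
      ∀ Q : Sylow p G, c • Q = Q → Q = P)
    (hcard : Nat.card (Subgroup.centralizer ((P : Subgroup G) : Set G)) + 1 = Nat.card (Sylow p G))
    {u : G} (hu : u ∈ Subgroup.normalizer ((P : Subgroup G) : Set G)) :
    Nat.card (MulAction.fixedBy (Sylow p G) u) = 1 ∨
    Nat.card (MulAction.fixedBy (Sylow p G) u) =
      1 + Nat.card ↥(Subgroup.centralizer ((P : Subgroup G) : Set G) ⊓
        Subgroup.centralizer ({u} : Set G)) := by
  classical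
  set C := Subgroup.centralizer ((P : Subgroup G) : Set G) with hC
  have hCN : C ≤ Subgroup.normalizer ((P : Subgroup G) : Set G) :=
    Subgroup.centralizer_le_normalizer _
  have hCnorm : ∀ c ∈ C, u * c * u⁻¹ ∈ C := fun c hc =>
    (Subgroup.normal_subgroupOf_iff hCN).1
      (Subgroup.normal_subgroupOf_centralizer_normalizer _) c u hc hu
  have hfixP : ∀ g ∈ Subgroup.normalizer ((P : Subgroup G) : Set G), g • P = P := fun g hg =>
    Sylow.smul_eq_iff_mem_normalizer.2 hg
  have huP : u • P = P := hfixP u hu
  -- the set of fixed points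
  set F : Set (Sylow p G) := MulAction.fixedBy (Sylow p G) u with hF
  have hPF : P ∈ F := huP
  have hFS : F = insert P (F \ {P}) := by
    ext Q
    simp only [Set.mem_insert_iff, Set.mem_sdiff, Set.mem_singleton_iff]
    constructor
    · intro hQ
      by_cases h : Q = P
      · exact Or.inl h
      · exact Or.inr ⟨hQ, h⟩
    · rintro (h | h)
      · rw [h]; exact hPF
      · exact h.1
  have hFcard : Nat.card ↥F = (F \ {P}).ncard + 1 := by
    rw [Nat.card_coe_set_eq, hFS, Set.ncard_insert_of_notMem (by simp) (Set.toFinite _)]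
    congr 1
    rw [← hFS]
  by_cases hne : ∃ β : Sylow p G, u • β = β ∧ β ≠ P
  · right
    obtain ⟨β, hβu, hβP⟩ := hne
    have hβmove : ∀ c ∈ C, c • β ≠ P := by
      intro c hc h
      apply hβP
      have h1 : c⁻¹ • (c • β) = c⁻¹ • P := by rw [h]
      rw [inv_smul_smul, hfixP _ (Subgroup.inv_mem _ (hCN hc))] at h1
      exact h1
    have hsemireg : ∀ c ∈ C, c • β = β → c = 1 := by
      intro c hc h
      by_contra h1
      exact hβP (hreg c hc h1 β h)
    -- the orbit map of `C` onto the other Sylow subgroups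
    let g : ↥C → {Q : Sylow p G // Q ≠ P} := fun c => ⟨(c : G) • β, hβmove c c.2⟩
    have hginj : Function.Injective g := by
      intro c c' h
      have h1 : (c : G) • β = (c' : G) • β := congrArg Subtype.val h
      have h2 : ((c' : G)⁻¹ * (c : G)) • β = β := by rw [mul_smul, h1, inv_smul_smul]
      have h3 := hsemireg _ (C.mul_mem (C.inv_mem c'.2) c.2) h2
      apply Subtype.ext
      exact (inv_mul_eq_one.1 h3).symm
    have hTcard : Nat.card {Q : Sylow p G // Q ≠ P} = Nat.card ↥C := by
      have h1 : Nat.card {Q : Sylow p G // Q ≠ P} = ({P}ᶜ : Set (Sylow p G)).ncard := rfl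
      have h2 := Set.ncard_add_ncard_compl ({P} : Set (Sylow p G))
      rw [Set.ncard_singleton] at h2
      omega
    have hgbij : Function.Bijective g :=
      hginj.bijective_of_nat_card_le (le_of_eq hTcard)
    -- the bijection `C_C(u) ≃ F \ {P}`
    set D := C ⊓ Subgroup.centralizer ({u} : Set G) with hD
    have hDmem : ∀ d : ↥D, (d : G) • β ∈ F \ {P} := by
      intro d
      have hdC : (d : G) ∈ C := (Subgroup.mem_inf.1 d.2).1
      have hdu : (d : G) ∈ Subgroup.centralizer ({u} : Set G) := (Subgroup.mem_inf.1 d.2).2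
      have hcomm : u * (d : G) = (d : G) * u := (Subgroup.mem_centralizer_singleton_iff.1 hdu).symm
      refine ⟨?_, hβmove _ hdC⟩
      show u • ((d : G) • β) = (d : G) • β
      rw [← mul_smul, hcomm, mul_smul, hβu]
    let f : ↥D → ↥(F \ {P}) := fun d => ⟨(d : G) • β, hDmem d⟩
    have hfinj : Function.Injective f := by
      intro d d' h
      have h1 : (d : G) • β = (d' : G) • β := congrArg Subtype.val h
      have h2 : ((d' : G)⁻¹ * (d : G)) • β = β := by rw [mul_smul, h1, inv_smul_smul]
      have h3 := hsemireg _ (C.mul_mem (C.inv_mem (Subgroup.mem_inf.1 d'.2).1)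
        (Subgroup.mem_inf.1 d.2).1) h2
      apply Subtype.ext
      exact (inv_mul_eq_one.1 h3).symm
    have hfsurj : Function.Surjective f := by
      rintro ⟨Q, hQF, hQP⟩
      have hQP' : Q ≠ P := hQP
      obtain ⟨c, hc⟩ := hgbij.2 ⟨Q, hQP'⟩
      have hcQ : (c : G) • β = Q := congrArg Subtype.val hc
      have huQ : u • Q = Q := hQF
      -- `c⁻¹ * (u * c * u⁻¹)` fixes `β`
      have hfix : ((c : G)⁻¹ * (u * (c : G) * u⁻¹)) • β = β := by
        have hu' : u⁻¹ • β = β := by
          have := congrArg (fun z => u⁻¹ • z) hβu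
          simpa using this.symm
        rw [mul_smul, mul_smul, mul_smul, hu', hcQ, huQ, ← hcQ, inv_smul_smul]
      have h1 := hsemireg _ (C.mul_mem (C.inv_mem c.2) (hCnorm _ c.2)) hfix
      have h2 : u * (c : G) * u⁻¹ = (c : G) := (inv_mul_eq_one.1 h1).symm
      have hcu : (c : G) ∈ Subgroup.centralizer ({u} : Set G) := by
        rw [Subgroup.mem_centralizer_singleton_iff]
        calc (c : G) * u = u * (c : G) * u⁻¹ * u := by rw [h2]
          _ = u * (c : G) := by group
      refine ⟨⟨(c : G), Subgroup.mem_inf.2 ⟨c.2, hcu⟩⟩, ?_⟩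
      apply Subtype.ext
      exact hcQ
    have hcardD : Nat.card ↥D = (F \ {P}).ncard := by
      rw [← Nat.card_coe_set_eq]
      exact Nat.card_congr (Equiv.ofBijective f ⟨hfinj, hfsurj⟩)
    rw [hFcard, hcardD, add_comm]
  · left
    have hempty : F \ {P} = ∅ := by
      ext Q
      simp only [Set.mem_sdiff, Set.mem_singleton_iff, Set.mem_empty_iff_false, iff_false, not_and,
        not_not]
      intro hQ
      by_contra h
      exact hne ⟨Q, hQ, h⟩
    rw [hFcard, hempty, Set.ncard_empty]

end Cfsg.Agent.Helper18.RegFix
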