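import Mathlib
import Cfsg.Agent.Lib.Helper3.SmallOrd
import Cfsg.Agent.Lib.Lead.PermTools
import Cfsg.Agent.Lib.Helper27.SylowSieve
import Cfsg.Agent.Lib.Helper18.O2520RegFix

/-!
# Sylow 7-subgroups of a simple group of order 2520 (helper18, pre-work for S0984)

`n_7 = 120`, `|N(P)| = 21`, `C(P) = P`.
-/

set_option autoImplicit false

namespace Cfsg.Agent.Helper18.O2520

open Cfsg.Agent.Helper3.SmallOrd

variable {G : Type*} [Group G] [Finite G] [IsSimpleGroup G]

omit [IsSimpleGroup G] in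
theorem pow_smul_eq_of_smul_eq {X : Type*} [MulAction G X] {c : G} {Q : X} (h : c • Q = Q) (k : ℕ) :
    (c ^ k) • Q = Q := by
  have hc : c ∈ MulAction.stabilizer G Q := MulAction.mem_stabilizer_iff.2 h
  exact MulAction.mem_stabilizer_iff.1 (Subgroup.pow_mem _ hc k)

/-- A nonidentity element of `C(P)`, `|C(P)| = 35`, `n_7 = 36`, fixes no Sylow `7`-subgroup other than `P`. -/
theorem reg36 (hG : ∃ x y : G, x * y ≠ y * x) (hp7 : 7 ∣ Nat.card G) (P : Sylow 7 G)
    (hP : ∀ R : Sylow 7 G, Nat.card (R : Subgroup G) = 7)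
    (hn : Nat.card (Sylow 7 G) = 36)
    (hc : Nat.card (Subgroup.centralizer ((P : Subgroup G) : Set G)) = 35) :
    ∀ c ∈ Subgroup.centralizer ((P : Subgroup G) : Set G), c ≠ 1 →
      ∀ Q : Sylow 7 G, c • Q = Q → Q = P := by
  haveI : Fact (Nat.Prime 7) := ⟨by norm_num⟩
  haveI : Fact (Nat.Prime 5) := ⟨by norm_num⟩
  intro c hcC hc1 Q hQ
  have hCN : Subgroup.centralizer ((P : Subgroup G) : Set G) ≤
      Subgroup.normalizer ((P : Subgroup G) : Set G) := Subgroup.centralizer_le_normalizer _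
  have hord : orderOf c ∣ 35 := by
    have h1 : orderOf (⟨c, hcC⟩ : Subgroup.centralizer ((P : Subgroup G) : Set G)) ∣
        Nat.card (Subgroup.centralizer ((P : Subgroup G) : Set G)) := orderOf_dvd_natCard _
    rw [hc, ← Subgroup.orderOf_coe] at h1
    exact h1
  have hne1 : orderOf c ≠ 1 := by
    rw [Ne, orderOf_eq_one_iff]; exact hc1
  obtain ⟨q, hq, hqd⟩ := Nat.exists_prime_and_dvd hne1
  have hq35 : q ∣ 5 * 7 := hqd.trans hord
  have hord0 : orderOf c ≠ 0 := by
    intro h0; rw [h0] at hord; omega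
  set c' := c ^ (orderOf c / q) with hc'
  have hc'o : orderOf c' = q := orderOf_pow_orderOf_div hord0 hqd
  have hc'C : c' ∈ Subgroup.centralizer ((P : Subgroup G) : Set G) := Subgroup.pow_mem _ hcC _
  have hc'Q : c' • Q = Q := pow_smul_eq_of_smul_eq hQ _
  have hc'1 : c' ≠ 1 := by
    intro h1
    rw [h1, orderOf_one] at hc'o
    exact hq.one_lt.ne hc'o
  have hc'q : c' ^ q = 1 := by rw [← hc'o]; exact pow_orderOf_eq_one _
  rcases (Nat.Prime.dvd_mul hq).1 hq35 with h5 | h7
  · -- `q = 5`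
    have hq5 : q = 5 := (Nat.prime_dvd_prime_iff_eq hq (by norm_num)).1 h5
    rw [hq5] at hc'q
    obtain ⟨x, hx⟩ := exists_prime_orderOf_dvd_card' (G := (P : Subgroup G)) 7 (by rw [hP P])
    have hxp : orderOf (x : G) = 7 := by rw [Subgroup.orderOf_coe]; exact hx
    have hx1 : (x : G) ≠ 1 := by
      intro h1
      rw [h1, orderOf_one] at hxp
      omega
    have hxx : (x : G) ^ 7 ^ 1 = 1 := by
      rw [pow_one]
      have := pow_orderOf_eq_one (x : G)
      rwa [hxp] at this
    have hcomm : Commute c' (x : G) :=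
      ((Subgroup.mem_centralizer_iff.1 hc'C) (x : G) x.2).symm
    have ha := Cfsg.Agent.Helper27.FixT.card_modEq_card_fixedBy (X := Sylow 7 G) (p := 5)
      (k := 1) c' (by rw [pow_one]; exact hc'q)
    have hb := Cfsg.Agent.Helper27.FixT.card_fixedBy_modEq_one_of_commute (X := Sylow 7 G)
      (p := 7) (k := 1) c' (x : G) hcomm hxx P
      (Sylow.smul_eq_iff_mem_normalizer.2 (hCN hc'C))
      (Sylow.smul_eq_iff_mem_normalizer.2 (Subgroup.le_normalizer x.2))
      (by
        intro R _ hxR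
        exact (Cfsg.Agent.Helper27.Ord.sylow_eq_of_mem_normalizer P R (hP P) (hP R) x.2 hx1
          (Sylow.smul_eq_iff_mem_normalizer.1 hxR)).symm)
    have hle : Nat.card (MulAction.fixedBy (Sylow 7 G) c') ≤ Nat.card (Sylow 7 G) :=
      Finite.card_subtype_le _
    rw [hn] at ha hle
    have hlt : Nat.card (MulAction.fixedBy (Sylow 7 G) c') ≠ 36 := by
      intro heq
      have hall : ∀ R : Sylow 7 G, c' • R = R := by
        intro R
        by_contra hR
        have h1 := Finite.card_subtype_lt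
          (p := fun R : Sylow 7 G => R ∈ MulAction.fixedBy (Sylow 7 G) c') (x := R) hR
        have h2 : Nat.card {R : Sylow 7 G // R ∈ MulAction.fixedBy (Sylow 7 G) c'} = 36 := heq
        rw [h2, hn] at h1
        exact lt_irrefl _ h1
      have hNt := Cfsg.Agent.Lead.sylow_normalizer_ne_top hG hp7 P
      exact hc'1 (Cfsg.Agent.Helper27.FixT.eq_one_of_forall_smul_eq (X := Sylow 7 G)
        (Cfsg.Agent.Helper27.Ord.exists_smul_sylow_ne P hNt) c' hall)
    have hf1 : Nat.card (MulAction.fixedBy (Sylow 7 G) c') = 1 := by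
      have h1 : Nat.card (MulAction.fixedBy (Sylow 7 G) c') % 7 = 1 % 7 := hb
      have h2 : 36 % 5 = Nat.card (MulAction.fixedBy (Sylow 7 G) c') % 5 := ha
      omega
    have hsub := (Nat.card_eq_one_iff_unique.1 hf1).1
    have hPm : P ∈ MulAction.fixedBy (Sylow 7 G) c' :=
      Sylow.smul_eq_iff_mem_normalizer.2 (hCN hc'C)
    have hQm : Q ∈ MulAction.fixedBy (Sylow 7 G) c' := hc'Q
    have := hsub.elim ⟨Q, hQm⟩ ⟨P, hPm⟩
    exact congrArg Subtype.val this
  · -- `q = 7`
    have hq7 : q = 7 := (Nat.prime_dvd_prime_iff_eq hq (by norm_num)).1 h7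
    rw [hq7] at hc'q
    have hc'P : c' ∈ (P : Subgroup G) :=
      Cfsg.Agent.Lead.mem_sylow_of_mem_normalizer_of_pow P (hCN hc'C) (k := 1)
        (by rw [pow_one]; exact hc'q)
    exact (Cfsg.Agent.Helper27.Ord.sylow_eq_of_mem_normalizer P Q (hP P) (hP Q) hc'P hc'1
      (Sylow.smul_eq_iff_mem_normalizer.1 hc'Q)).symm

/-- The case `n_7 = 36` is impossible. -/
theorem case36 (hG : ∃ x y : G, x * y ≠ y * x) (hG2 : 2 < Nat.card G) (hp7 : 7 ∣ Nat.card G)
    (P : Sylow 7 G) (hP : ∀ R : Sylow 7 G, Nat.card (R : Subgroup G) = 7)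
    (hn : Nat.card (Sylow 7 G) = 36)
    (hc : Nat.card (Subgroup.centralizer ((P : Subgroup G) : Set G)) = 35)
    (hN : Nat.card (Subgroup.normalizer ((P : Subgroup G) : Set G)) = 70) : False := by
  haveI : Fact (Nat.Prime 7) := ⟨by norm_num⟩
  haveI : Fact (Nat.Prime 2) := ⟨by norm_num⟩
  have hreg := reg36 hG hp7 P hP hn hc
  have hCN : Subgroup.centralizer ((P : Subgroup G) : Set G) ≤
      Subgroup.normalizer ((P : Subgroup G) : Set G) := Subgroup.centralizer_le_normalizer _
  -- an involution of `N(P)`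
  obtain ⟨u, hu⟩ := exists_prime_orderOf_dvd_card'
    (G := Subgroup.normalizer ((P : Subgroup G) : Set G)) 2 (by rw [hN]; norm_num)
  have huo : orderOf (u : G) = 2 := by rw [Subgroup.orderOf_coe]; exact hu
  have hu2 : (u : G) ^ 2 = 1 := by
    have := pow_orderOf_eq_one (u : G)
    rwa [huo] at this
  have hu1 : (u : G) ≠ 1 := by
    intro h1
    rw [h1, orderOf_one] at huo
    omega
  have huC : (u : G) ∉ Subgroup.centralizer ((P : Subgroup G) : Set G) := by
    intro huC
    have h1 : orderOf (⟨(u : G), huC⟩ : Subgroup.centralizer ((P : Subgroup G) : Set G)) ∣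
        Nat.card (Subgroup.centralizer ((P : Subgroup G) : Set G)) := orderOf_dvd_natCard _
    rw [hc, ← Subgroup.orderOf_coe] at h1
    simp only at h1
    rw [huo] at h1
    omega
  have hfix := Cfsg.Agent.Helper18.RegFix.card_fixedBy_normalizer P hreg (by rw [hc, hn]) u.2
  have hpar := Cfsg.Agent.Lead.involution_even_of_simple hG2 (X := Sylow 7 G) (u : G) hu2
  rw [hn] at hpar
  -- the order of `D = C ∩ C(u)`
  set D := Subgroup.centralizer ((P : Subgroup G) : Set G) ⊓
    Subgroup.centralizer ({(u : G)} : Set G) with hD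
  have hDdvd : Nat.card ↥D ∣ 35 := by
    rw [← hc]
    exact Subgroup.card_dvd_of_le inf_le_left
  have hD7 : ¬ 7 ∣ Nat.card ↥D := by
    intro h7
    obtain ⟨v, hv⟩ := exists_prime_orderOf_dvd_card' (G := ↥D) 7 h7
    have hvo : orderOf (v : G) = 7 := by rw [Subgroup.orderOf_coe]; exact hv
    have hvC : (v : G) ∈ Subgroup.centralizer ((P : Subgroup G) : Set G) :=
      (Subgroup.mem_inf.1 v.2).1
    have hvu : (v : G) ∈ Subgroup.centralizer ({(u : G)} : Set G) := (Subgroup.mem_inf.1 v.2).2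
    have hv7 : (v : G) ^ 7 ^ 1 = 1 := by
      rw [pow_one]
      have := pow_orderOf_eq_one (v : G)
      rwa [hvo] at this
    have hvP : (v : G) ∈ (P : Subgroup G) :=
      Cfsg.Agent.Lead.mem_sylow_of_mem_normalizer_of_pow P (hCN hvC) hv7
    have hv1 : (v : G) ≠ 1 := by
      intro h1
      rw [h1, orderOf_one] at hvo
      omega
    have hcomm : Commute (u : G) (v : G) := by
      have := Subgroup.mem_centralizer_singleton_iff.1 hvu
      exact this.symm
    exact huC (Cfsg.Agent.Lead.mem_centralizer_of_commute_of_prime_card (P : Subgroup G) (hP P)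
      hvP hv1 hcomm)
  have hDcases : Nat.card ↥D = 1 ∨ Nat.card ↥D = 5 := by
    have hmem : Nat.card ↥D ∈ Nat.divisors 35 := Nat.mem_divisors.2 ⟨hDdvd, by norm_num⟩
    have h35 : Nat.divisors 35 = {1, 5, 7, 35} := by decide
    rw [h35] at hmem
    simp only [Finset.mem_insert, Finset.mem_singleton] at hmem
    rcases hmem with h | h | h | h
    · exact Or.inl h
    · exact Or.inr h
    · exact absurd (by rw [h]) hD7
    · exact absurd (by rw [h]; norm_num) hD7
  rcases hfix with hf | hf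
  · rw [hf] at hpar
    exact absurd hpar (by decide)
  · rcases hDcases with hd | hd
    · rw [hf, hd] at hpar
      exact absurd hpar (by decide)
    · rw [hf, hd] at hpar
      exact absurd hpar (by decide)

/-- Sylow `7`-subgroups of a simple group of order `2520`. -/
theorem syl7 (h : Nat.card G = 2520) (P : Sylow 7 G) :
    Nat.card (Sylow 7 G) = 120 ∧
    Nat.card (P : Subgroup G) = 7 ∧
    Nat.card (Subgroup.normalizer ((P : Subgroup G) : Set G)) = 21 ∧
    Nat.card (Subgroup.centralizer ((P : Subgroup G) : Set G)) = 7 ∧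
    Subgroup.centralizer ((P : Subgroup G) : Set G) = (P : Subgroup G) := by
  have hG : ∃ x y : G, x * y ≠ y * x :=
    Cfsg.Agent.Lead.nonabelian_of_not_prime (by rw [h]; norm_num)
  have hG2 : 2 < Nat.card G := by rw [h]; norm_num
  haveI : Fact (Nat.Prime 7) := ⟨by norm_num⟩
  obtain ⟨hd, hm, hn1, hf, hPN⟩ :=
    basic hG (p := 7) (a := 1) (m := 360) Nat.one_pos (by rw [h]; norm_num) (by norm_num)
  have hP' : ∀ R : Sylow 7 G, Nat.card (R : Subgroup G) = 7 := fun R => by
    have := (hPN R).1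
    rwa [pow_one] at this
  have hp7 : 7 ∣ Nat.card G := by rw [h]; norm_num
  have hk := Cfsg.Agent.Lead.relIndex_centralizer_normalizer_dvd P (hP' P)
  have hk1 : (Subgroup.centralizer ((P : Subgroup G) : Set G)).relIndex
      (Subgroup.normalizer ((P : Subgroup G) : Set G)) ≠ 1 := by
    intro h1
    exact Cfsg.Agent.S0073.not_normalizer_le_centralizer hG P hp7 (Subgroup.relIndex_eq_one.1 h1)
  have hck := Cfsg.Agent.Helper27.Ord.card_centralizer_mul_relIndex (P : Subgroup G)
  have hq : ∀ q, q.Prime → q ∣ Nat.card (Subgroup.centralizer ((P : Subgroup G) : Set G)) →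
      ∃ f, f < Nat.card (Sylow 7 G) ∧ f % q = Nat.card (Sylow 7 G) % q ∧ f % 7 = 1 ∧
        (q = 2 → ((Nat.card (Sylow 7 G) - f) / 2) % 2 = 0) := by
    intro q hq hqc
    have : Fact q.Prime := ⟨hq⟩
    exact Cfsg.Agent.Helper27.Sieve.exists_fixed_count hG hG2 hp7 P hP' hqc
  have hNP := (hPN P).2
  have hPle : (P : Subgroup G) ≤ Subgroup.centralizer ((P : Subgroup G) : Set G) := by
    have hcyc : IsCyclic (P : Subgroup G) := isCyclic_of_prime_card (hP' P)
    intro a ha
    rw [Subgroup.mem_centralizer_iff]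
    intro b hb
    have hab : (⟨b, hb⟩ : (P : Subgroup G)) * ⟨a, ha⟩ = ⟨a, ha⟩ * ⟨b, hb⟩ :=
      (IsCyclic.commGroup (α := (P : Subgroup G))).mul_comm _ _
    exact congrArg Subtype.val hab
  obtain ⟨n, hn⟩ : ∃ n, n = Nat.card (Sylow 7 G) := ⟨_, rfl⟩
  obtain ⟨k, hkdef⟩ : ∃ k, k = (Subgroup.centralizer ((P : Subgroup G) : Set G)).relIndex
      (Subgroup.normalizer ((P : Subgroup G) : Set G)) := ⟨_, rfl⟩
  obtain ⟨c, hcdef⟩ : ∃ c, c = Nat.card (Subgroup.centralizer ((P : Subgroup G) : Set G)) :=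
    ⟨_, rfl⟩
  rw [← hn] at hd hm hn1 hNP hq
  rw [← hkdef] at hk hk1 hck
  rw [← hcdef] at hck hq
  rw [h] at hNP
  have hk' : k ≤ 6 := Nat.le_of_dvd (by norm_num) hk
  have hcases : n = 8 ∨ n = 15 ∨ n = 36 ∨ n = 120 := by
    have hmem : n ∈ Nat.divisors 360 := Nat.mem_divisors.2 ⟨hd, by norm_num⟩
    simp only [Nat.divisors_ofNat] at hmem
    simp only [Finset.mem_insert, Finset.mem_singleton] at hmem
    omega
  rcases hcases with rfl | rfl | rfl | rfl
  · -- n = 8
    exfalso
    have hN : Nat.card (Subgroup.normalizer ((P : Subgroup G) : Set G)) = 315 := by omega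
    rw [hN] at hck
    have hqc : 5 ∣ c := by
      interval_cases k <;> omega
    obtain ⟨f, hf1, hf2, hf3, -⟩ := hq 5 (by norm_num) hqc
    omega
  · -- n = 15
    exfalso
    have hN : Nat.card (Subgroup.normalizer ((P : Subgroup G) : Set G)) = 168 := by omega
    rw [hN] at hck
    have hqc : 2 ∣ c := by
      interval_cases k <;> omega
    obtain ⟨f, hf1, hf2, hf3, hf4⟩ := hq 2 Nat.prime_two hqc
    have hf5 := hf4 rfl
    omega
  · -- n = 36
    exfalso
    have hN : Nat.card (Subgroup.normalizer ((P : Subgroup G) : Set G)) = 70 := by omega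
    rw [hN] at hck
    have hk2 : k = 2 ∧ c = 35 := by
      interval_cases k <;> omega
    exact case36 hG hG2 hp7 P hP' hn.symm (by rw [← hcdef]; exact hk2.2) hN
  · -- n = 120
    have hN : Nat.card (Subgroup.normalizer ((P : Subgroup G) : Set G)) = 21 := by omega
    rw [hN] at hck
    have hk3 : k = 3 ∧ c = 7 := by
      interval_cases k <;> omega
    have hc7 : Nat.card (Subgroup.centralizer ((P : Subgroup G) : Set G)) = 7 := by
      rw [← hcdef]; exact hk3.2
    refine ⟨hn.symm, hP' P, hN, hc7, ?_⟩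
    symm
    apply Subgroup.eq_of_le_of_card_ge hPle
    rw [hc7, hP' P]

end Cfsg.Agent.Helper18.O2520
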