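import Mathlib
import Cfsg.Agent.Lib.Helper18.MajorTwo9

/-!
# Parity of Galois traces of Hermitian forms at `2`-power roots of unity
(helper18's shared library)
-/

set_option autoImplicit false
set_option linter.unusedSectionVars false
set_option linter.style.haveILetI false

namespace Cfsg.Agent.Helper18.OlssonTwo

open scoped ComplexConjugate
open Cfsg Cfsg.Agent.Helper23.Blk Cfsg.Agent.Helper24 Cfsg.Agent.Helper18.MajorTwo

section Parity

variable {I : Type*} [Fintype I]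

/-- a symmetric integer matrix with zero diagonal has even total sum -/
theorem even_sum_symm [DecidableEq I] (f : I → I → ℤ) (hsymm : ∀ i i', f i i' = f i' i)
    (hdiag : ∀ i, f i i = 0) (s : Finset I) :
    (2 : ℤ) ∣ ∑ i ∈ s, ∑ i' ∈ s, f i i' := by
  induction s using Finset.induction_on with
  | empty => simp
  | insert a s ha ih =>
    rw [Finset.sum_insert ha, Finset.sum_insert ha, hdiag a, zero_add]
    have h1 : ∑ i ∈ s, ∑ i' ∈ insert a s, f i i' =
        ∑ i ∈ s, f a i + ∑ i ∈ s, ∑ i' ∈ s, f i i' := by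
      rw [← Finset.sum_add_distrib]
      apply Finset.sum_congr rfl
      intro i _
      rw [Finset.sum_insert ha, hsymm i a]
    rw [h1]
    obtain ⟨c, hc⟩ := ih
    refine ⟨∑ i ∈ s, f a i + c, ?_⟩
    rw [hc]
    ring

/-- the quadratic form and the sum over the pairs with equal labels have the same parity -/
theorem qf_sub_eqSum_even {X : Type*} [DecidableEq X] {N : I → I → ℤ}
    (hsymm : ∀ i i', N i i' = N i' i) (a : I → ℤ) (f : I → X) :
    (2 : ℤ) ∣ qf N a - eqSum N a f := by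
  classical
  have h1 : qf N a - eqSum N a f =
      ∑ i ∈ (Finset.univ : Finset I), ∑ i' ∈ (Finset.univ : Finset I),
        (if f i = f i' then 0 else a i * a i' * N i i') := by
    unfold qf bf eqSum
    rw [← Finset.sum_sub_distrib]
    apply Finset.sum_congr rfl
    intro i _
    rw [← Finset.sum_sub_distrib]
    apply Finset.sum_congr rfl
    intro i' _
    by_cases h : f i = f i'
    · rw [if_pos h, if_pos h, sub_self]
    · rw [if_neg h, if_neg h, sub_zero]
  rw [h1]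
  apply even_sum_symm
  · intro i i'
    by_cases h : f i = f i'
    · rw [if_pos h, if_pos h.symm]
    · rw [if_neg h, if_neg (fun h' => h h'.symm), hsymm i i']
      ring
  · intro i
    rw [if_pos rfl]

end Parity

section Trace

variable {I : Type*} [Fintype I]

set_option maxHeartbeats 1600000 in
/-- the Galois trace of the Hermitian form at `(a_i μ_i)`, `μ_i` roots of unity of `p`-power
order -/
theorem sum_hfc_pow_eq {p j : ℕ} (hp : p.Prime) (hj : 0 < j) (N : I → I → ℤ)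
    (a : I → ℤ) (μ : I → ℂ) (hμ : ∀ i, μ i ^ (p ^ j) = 1) :
    ∑ k ∈ (Finset.range (p ^ j)).filter (fun k => Nat.Coprime k (p ^ j)),
        hfc N (fun i => (a i : ℂ) * μ i ^ k) (fun i => (a i : ℂ) * μ i ^ k) =
      ((p ^ j : ℕ) : ℂ) * (eqSum N a μ : ℂ) -
        ((p ^ (j - 1) : ℕ) : ℂ) * (eqSum N a (fun i => μ i ^ p) : ℂ) := by
  classical
  obtain ⟨J, hJ⟩ : ∃ J : Finset ℕ,
      J = (Finset.range (p ^ j)).filter (fun k => Nat.Coprime k (p ^ j)) := ⟨_, rfl⟩
  rw [← hJ]
  unfold hfc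
  rw [Finset.sum_comm]
  have h1 : ∀ i, ∑ k ∈ J, ∑ i', ((a i : ℂ) * μ i ^ k) * conj ((a i' : ℂ) * μ i' ^ k) *
      (N i i' : ℂ) = ∑ i', ((a i : ℂ) * (a i' : ℂ) * (N i i' : ℂ)) *
        ∑ k ∈ J, (μ i * conj (μ i')) ^ k := by
    intro i
    rw [Finset.sum_comm]
    apply Finset.sum_congr rfl
    intro i' _
    rw [Finset.mul_sum]
    apply Finset.sum_congr rfl
    intro k _
    rw [map_mul, map_pow, map_intCast, mul_pow]
    ring
  rw [Finset.sum_congr rfl (fun i _ => h1 i)]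
  unfold eqSum
  push_cast
  rw [Finset.mul_sum, Finset.mul_sum, ← Finset.sum_sub_distrib]
  apply Finset.sum_congr rfl
  intro i _
  rw [Finset.mul_sum, Finset.mul_sum, ← Finset.sum_sub_distrib]
  apply Finset.sum_congr rfl
  intro i' _
  rw [hJ, sum_coprime_mul_conj_pow hp hj (hμ i) (hμ i')]
  by_cases h1 : μ i = μ i'
  · have h2 : μ i ^ p = μ i' ^ p := by rw [h1]
    rw [if_pos h1, if_pos h2, if_pos h1, if_pos h2]
    push_cast
    ring
  · by_cases h2 : μ i ^ p = μ i' ^ p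
    · rw [if_neg h1, if_pos h2, if_neg h1, if_pos h2]
      push_cast
      ring
    · rw [if_neg h1, if_neg h2, if_neg h1, if_neg h2]
      push_cast
      ring

/-- **parity of the trace at `2`-power roots of unity**: the Galois trace of the Hermitian form
of a symmetric integer matrix at `(a_i μ_i)` is `2^(j-1) T` with `T ≡ q(a)` modulo `2` -/
theorem trace_two_parity {j : ℕ} (hj : 0 < j) {N : I → I → ℤ}
    (hsymm : ∀ i i', N i i' = N i' i) (a : I → ℤ) (μ : I → ℂ)
    (hμ : ∀ i, μ i ^ (2 ^ j) = 1) :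
    ∃ T : ℤ, ∑ k ∈ (Finset.range (2 ^ j)).filter (fun k => Nat.Coprime k (2 ^ j)),
        hfc N (fun i => (a i : ℂ) * μ i ^ k) (fun i => (a i : ℂ) * μ i ^ k) =
          ((2 ^ (j - 1) : ℕ) : ℂ) * (T : ℂ) ∧ (2 : ℤ) ∣ T - qf N a := by
  classical
  refine ⟨2 * eqSum N a μ - eqSum N a (fun i => μ i ^ 2), ?_, ?_⟩
  · rw [sum_hfc_pow_eq Nat.prime_two hj N a μ hμ]
    have hpj : (2 ^ j : ℕ) = 2 ^ (j - 1) * 2 := by
      rw [← pow_succ]
      congr 1
      omega
    rw [hpj]
    push_cast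
    ring
  · obtain ⟨c, hc⟩ := qf_sub_eqSum_even hsymm a (fun i => μ i ^ 2)
    refine ⟨eqSum N a μ - eqSum N a (fun i => μ i ^ 2) - c, ?_⟩
    linarith

end Trace

section Local

variable {I : Type*} [Fintype I] {M : Ideal AlgInt} {p : ℕ}

/-- modulo the local ideal the Hermitian form at `(a_i μ_i)` is the quadratic form at `a` -/
theorem hfc_sub_qf_mem (hM : IsPModular p M) {j : ℕ} (N : I → I → ℤ) (a : I → ℤ) (μ : I → ℂ)
    (hμ : ∀ i, μ i ^ (p ^ j) = 1) :
    MemLocalIdeal M (hfc N (fun i => (a i : ℂ) * μ i) (fun i => (a i : ℂ) * μ i) -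
      ((qf N a : ℤ) : ℂ)) := by
  haveI hMp : M.IsPrime := hM.2.1.isPrime
  have h1 : hfc N (fun i => (a i : ℂ) * μ i) (fun i => (a i : ℂ) * μ i) - ((qf N a : ℤ) : ℂ) =
      ∑ i, ∑ i', ((a i * a i' * N i i' : ℤ) : ℂ) * (μ i * conj (μ i') - 1) := by
    unfold hfc qf bf
    push_cast
    rw [← Finset.sum_sub_distrib]
    apply Finset.sum_congr rfl
    intro i _
    rw [← Finset.sum_sub_distrib]
    apply Finset.sum_congr rfl
    intro i' _
    rw [map_mul, map_intCast]
    ring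
  rw [h1]
  apply memLocalIdeal_sum
  intro i _
  apply memLocalIdeal_sum
  intro i' _
  apply memLocalIdeal_mul_left (memLocalRing_intCast _)
  apply memLocalIdeal_sub_one_of_pow_eq_one hM (k := j)
  rw [mul_pow, ← map_pow, hμ i, hμ i', map_one, mul_one]

end Local

section Arith

/-- the counting argument: odd integers `a_i` with `k₀ ≤ Q a_i` and `∑ a_i ≤ Q l` -/
theorem olsson_arith {ι : Type*} (S : Finset ι) (a : ι → ℤ) (Q l : ℕ) (hQ : 0 < Q)
    (hodd : ∀ i ∈ S, ¬ (2 : ℤ) ∣ a i) (h1 : ∀ i ∈ S, (S.card : ℤ) ≤ (Q : ℤ) * a i)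
    (h2 : ∑ i ∈ S, a i ≤ (Q : ℤ) * (l : ℤ)) :
    (Odd (Nat.sqrt l) → S.card ≤ Nat.sqrt l * Q) ∧
      (¬ Odd (Nat.sqrt l) → (Nat.sqrt l + 1) * S.card ≤ l * Q) ∧
      (l ≤ 3 → S.card ≤ Q) := by
  obtain ⟨s, hs⟩ : ∃ s : ℕ, s = Nat.sqrt l := ⟨_, rfl⟩
  rw [← hs]
  have hs1 : s * s ≤ l := by
    rw [hs]
    exact Nat.sqrt_le l
  have hs2 : l < (s + 1) * (s + 1) := by
    rw [hs]
    exact Nat.lt_succ_sqrt l
  obtain ⟨k, hk⟩ : ∃ k : ℕ, k = S.card := ⟨_, rfl⟩
  rw [← hk] at h1 ⊢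
  have hQz : (0 : ℤ) < (Q : ℤ) := by exact_mod_cast hQ
  -- a lower bound for all `a i` gives a bound for `k`
  have hlow : ∀ t : ℤ, (∀ i ∈ S, t ≤ a i) → (k : ℤ) * t ≤ (Q : ℤ) * (l : ℤ) := by
    intro t ht
    have h3 : ∑ i ∈ S, t ≤ ∑ i ∈ S, a i := Finset.sum_le_sum ht
    rw [Finset.sum_const, ← hk, nsmul_eq_mul] at h3
    linarith
  have hA : Odd s → k ≤ s * Q := by
    intro hodd_s
    by_contra hcon
    push Not at hcon
    have hcz : ((s * Q : ℕ) : ℤ) < (k : ℤ) := by exact_mod_cast hcon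
    push_cast at hcz
    have hge : ∀ i ∈ S, (s : ℤ) + 2 ≤ a i := by
      intro i hi
      have h3 := h1 i hi
      have h4 : (s : ℤ) < a i := by
        by_contra h5
        push Not at h5
        have : (Q : ℤ) * a i ≤ (Q : ℤ) * (s : ℤ) := mul_le_mul_of_nonneg_left h5 hQz.le
        linarith
      have h6 : a i ≠ (s : ℤ) + 1 := by
        intro h7
        apply hodd i hi
        rw [h7]
        obtain ⟨m, hm⟩ := hodd_s
        refine ⟨(m : ℤ) + 1, ?_⟩
        rw [hm]
        push_cast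
        ring
      omega
    have h8 := hlow ((s : ℤ) + 2) hge
    have h9 : (l : ℤ) ≤ (s : ℤ) * ((s : ℤ) + 2) := by
      have : (l : ℤ) < ((s : ℤ) + 1) * ((s : ℤ) + 1) := by exact_mod_cast hs2
      nlinarith
    have h10 : (k : ℤ) * ((s : ℤ) + 2) ≤ ((Q : ℤ) * (s : ℤ)) * ((s : ℤ) + 2) := by
      calc (k : ℤ) * ((s : ℤ) + 2) ≤ (Q : ℤ) * (l : ℤ) := h8
        _ ≤ (Q : ℤ) * ((s : ℤ) * ((s : ℤ) + 2)) := mul_le_mul_of_nonneg_left h9 hQz.le
        _ = ((Q : ℤ) * (s : ℤ)) * ((s : ℤ) + 2) := by ring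
    have h11 : (0 : ℤ) < (s : ℤ) + 2 := by positivity
    have h12 := le_of_mul_le_mul_right h10 h11
    linarith
  have hB : ¬ Odd s → (s + 1) * k ≤ l * Q := by
    intro heven_s
    have heven : Even s := Nat.not_odd_iff_even.1 heven_s
    by_cases hsmall : (k : ℤ) ≤ ((s : ℤ) - 1) * (Q : ℤ)
    · have h3 : ((s : ℤ) + 1) * (k : ℤ) ≤ ((s : ℤ) + 1) * (((s : ℤ) - 1) * (Q : ℤ)) :=
        mul_le_mul_of_nonneg_left hsmall (by positivity)
      have h4 : ((s : ℤ) + 1) * (((s : ℤ) - 1) * (Q : ℤ)) ≤ (l : ℤ) * (Q : ℤ) := by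
        have : ((s : ℤ) + 1) * ((s : ℤ) - 1) ≤ (l : ℤ) := by
          have : (s : ℤ) * (s : ℤ) ≤ (l : ℤ) := by exact_mod_cast hs1
          nlinarith
        calc ((s : ℤ) + 1) * (((s : ℤ) - 1) * (Q : ℤ)) =
            (((s : ℤ) + 1) * ((s : ℤ) - 1)) * (Q : ℤ) := by ring
          _ ≤ (l : ℤ) * (Q : ℤ) := mul_le_mul_of_nonneg_right this hQz.le
      have h5 : (((s + 1) * k : ℕ) : ℤ) ≤ ((l * Q : ℕ) : ℤ) := by
        push_cast
        linarith
      exact_mod_cast h5
    · push Not at hsmall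
      have hge : ∀ i ∈ S, (s : ℤ) + 1 ≤ a i := by
        intro i hi
        have h3 := h1 i hi
        have h4 : (s : ℤ) - 1 < a i := by
          by_contra h5
          push Not at h5
          have : (Q : ℤ) * a i ≤ (Q : ℤ) * ((s : ℤ) - 1) := mul_le_mul_of_nonneg_left h5 hQz.le
          linarith
        have h6 : a i ≠ (s : ℤ) := by
          intro h7
          apply hodd i hi
          rw [h7]
          obtain ⟨m, hm⟩ := heven
          refine ⟨(m : ℤ), ?_⟩
          rw [hm]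
          push_cast
          ring
        omega
      have h8 := hlow ((s : ℤ) + 1) hge
      have h5 : (((s + 1) * k : ℕ) : ℤ) ≤ ((l * Q : ℕ) : ℤ) := by
        push_cast
        linarith
      exact_mod_cast h5
  refine ⟨hA, hB, ?_⟩
  intro hl
  by_cases hl0 : l = 0
  · have hs0 : s = 0 := by
      rw [hs, hl0]
      rfl
    have h3 := hB (by rw [hs0]; decide)
    rw [hs0, hl0] at h3
    omega
  · have hs1' : s = 1 := by
      have h3 : 1 ≤ s := by
        by_contra h4
        have : s = 0 := by omega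
        rw [this] at hs2
        omega
      have h4 : s < 2 := by
        by_contra h5
        push Not at h5
        have : 2 * 2 ≤ s * s := Nat.mul_le_mul h5 h5
        omega
      omega
    have h3 := hA (by rw [hs1']; decide)
    rw [hs1'] at h3
    omega

end Arith

end Cfsg.Agent.Helper18.OlssonTwo
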