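import Mathlib
import Cfsg.Agent.Lib.Helper18.OlssonTwo1

/-!
# Characters of height zero in a `2`-block and an arbitrary subsection
(helper18's shared library)
-/

set_option autoImplicit false
set_option linter.unusedSectionVars false
set_option linter.style.haveILetI false

namespace Cfsg.Agent.Helper18.OlssonTwo

open scoped ComplexConjugate
open Cfsg Cfsg.Agent.Helper23.Blk Cfsg.Agent.Helper24 Cfsg.Agent.Helper18.MajorTwo

universe u

section Main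

variable {G : Type u} [Group G] [Fintype G] {M : Ideal AlgInt}

set_option maxHeartbeats 6400000 in
/-- **`k₀(B)` for a `2`-block and a subsection `(u, e)`**: with `l = l(e)`, `q` the defect of `e`
and `s = ⌊√l⌋`: `k₀ ≤ s 2^q` for odd `s`, `(s+1) k₀ ≤ l 2^q` for even `s` -/
theorem card_height_zero_le (hM : IsPModular 2 M) {u : G}
    (hu : ∃ k : ℕ, orderOf u = 2 ^ k) (H : Subgroup G) [Fintype H]
    (hH : H = Subgroup.centralizer ({u} : Set G)) {B : Set (IrrCharacter G)}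
    {e : Set (IrrCharacter H)} (hind : IsInducedBlock M H e B)
    (S : Finset (IrrCharacter G))
    (hS : ∀ χ, χ ∈ S ↔ χ ∈ B ∧ blockHeight 2 B (χ : G → ℂ) = 0) :
    (Odd (Nat.sqrt (blockRank 2 e)) →
        S.card ≤ Nat.sqrt (blockRank 2 e) * 2 ^ blockDefect 2 e) ∧
      (¬ Odd (Nat.sqrt (blockRank 2 e)) →
        (Nat.sqrt (blockRank 2 e) + 1) * S.card ≤ blockRank 2 e * 2 ^ blockDefect 2 e) ∧
      (blockRank 2 e ≤ 3 → S.card ≤ 2 ^ blockDefect 2 e) := by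
  classical
  haveI : Fact (Nat.Prime 2) := ⟨Nat.prime_two⟩
  letI : Fintype (IrrCharacter G) := irrFintype
  letI : Fintype (IrrCharacter H) := irrFintype
  haveI hMp : M.IsPrime := hM.2.1.isPrime
  have hp : Nat.Prime 2 := Nat.prime_two
  have hB : IsPBlock M B := hind.2.1
  have he : IsPBlock M e := hind.1
  have huH : u ∈ H := by
    rw [hH]
    exact self_mem_centralizer_singleton u
  obtain ⟨Y, hY⟩ : ∃ Y : H, Y = ⟨u, huH⟩ := ⟨_, rfl⟩
  have hYu : (Y : G) = u := by rw [hY]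
  have hYc : Y ∈ Subgroup.center H := by
    rw [Subgroup.mem_center_iff]
    intro c
    apply Subtype.ext
    push_cast
    rw [hYu]
    have hc : (c : G) ∈ Subgroup.centralizer ({u} : Set G) := hH ▸ c.2
    exact (Subgroup.mem_centralizer_iff.1 hc u rfl).symm
  have hYn : orderOf Y = orderOf u := by
    rw [← Subgroup.orderOf_coe, hYu]
  obtain ⟨j0, hj0⟩ := hu
  obtain ⟨j, hjdef⟩ : ∃ j : ℕ, j = j0 + 1 := ⟨_, rfl⟩
  have hj : 0 < j := by omega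
  have hudvd : orderOf u ∣ 2 ^ j := by
    rw [hj0, hjdef]
    exact pow_dvd_pow 2 (Nat.le_succ j0)
  obtain ⟨J, hJ⟩ : ∃ J : Finset ℕ,
      J = (Finset.range (2 ^ j)).filter (fun k => Nat.Coprime k (2 ^ j)) := ⟨_, rfl⟩
  have hJcard : J.card = 2 ^ (j - 1) := by
    rw [hJ, card_filter_coprime hp hj]
    simp
  have hJcop : ∀ k ∈ J, Nat.Coprime k (orderOf u) := by
    intro k hk
    rw [hJ] at hk
    exact Nat.Coprime.coprime_dvd_right hudvd (Finset.mem_filter.1 hk).2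
  have hHk : ∀ k ∈ J, H = Subgroup.centralizer ({u ^ k} : Set G) := by
    intro k hk
    rw [hH, centralizer_singleton_pow_of_coprime (hJcop k hk)]
  have hzk : ∀ k ∈ J, ∃ i : ℕ, orderOf (u ^ k) = 2 ^ i := by
    intro k hk
    rw [Nat.Coprime.orderOf_pow (hJcop k hk).symm]
    exact ⟨j0, hj0⟩
  have hYk : ∀ k : ℕ, (((Y ^ k : H)) : G) = u ^ k := by
    intro k
    push_cast
    rw [hYu]
  -- the multiplicities
  have hdecomp : ∀ φ : IrrCharacter G, ∃ m : IrrCharacter H → ℕ,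
      ∀ ξ : IrrCharacter H,
        classInner (fun c : H => (φ : G → ℂ) (c : G)) (ξ : H → ℂ) = m ξ := by
    intro φ
    obtain ⟨hm, -⟩ := isCharacter_decomp
      (isCharacter_restrict H (isCharacter_of_isIrrCharacter φ.2))
    choose m hm using hm
    exact ⟨m, hm⟩
  choose a ha using hdecomp
  obtain ⟨aZ, haZdef⟩ : ∃ aZ : IrrCharacter G → IrrCharacter H → ℤ,
      aZ = fun (χ : IrrCharacter G) (ξ : IrrCharacter H) => (a χ ξ : ℤ) := ⟨_, rfl⟩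
  obtain ⟨lam, hlamdef⟩ : ∃ lam : IrrCharacter H → ℂ,
      lam = fun ξ : IrrCharacter H => cRatio (ξ : H → ℂ) Y := ⟨_, rfl⟩
  have hlam : ∀ ξ, lam ξ ^ (2 ^ j) = 1 := by
    intro ξ
    obtain ⟨t, ht⟩ := hudvd
    rw [hlamdef, ht, pow_mul, ← hYn]
    simp only
    rw [cRatio_pow_orderOf ξ.2 hYc, one_pow]
  obtain ⟨N, hN⟩ : ∃ N : IrrCharacter H → IrrCharacter H → ℤ, N = nRed 2 e := ⟨_, rfl⟩
  have hsymm : ∀ ξ ξ', N ξ ξ' = N ξ' ξ := by
    intro ξ ξ'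
    rw [hN]
    exact nRed_symm e ξ ξ'
  -- the contributions as values of the form
  have hcontrib : ∀ (k : ℕ) (χ ψ : IrrCharacter G),
      ((2 ^ blockDefect 2 e : ℕ) : ℂ) * contrib 2 H (u ^ k) e (χ : G → ℂ) (ψ : G → ℂ) =
      hfc N (vk aZ lam χ k) (vk aZ lam ψ k) := by
    intro k χ ψ
    have h1 := contrib_eq_sum hM H he (Subgroup.pow_mem _ hYc k) (a χ) (a ψ) (ha χ) (ha ψ)
    rw [hYk k] at h1
    rw [h1, hN]
    unfold hfc vk
    apply Finset.sum_congr rfl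
    intro ξ _
    apply Finset.sum_congr rfl
    intro ξ' _
    rw [cRatio_pow ξ.2 hYc, cRatio_pow ξ'.2 hYc, hlamdef, haZdef, map_mul, map_pow, map_intCast]
    push_cast
    ring
  obtain ⟨Q, hQ⟩ : ∃ Q : ℕ, Q = 2 ^ blockDefect 2 e := ⟨_, rfl⟩
  have hQpos : 0 < Q := by
    rw [hQ]
    exact pow_pos hp.pos _
  rw [← hQ] at hcontrib ⊢
  obtain ⟨l, hl⟩ : ∃ l : ℕ, l = blockRank 2 e := ⟨_, rfl⟩
  rw [← hl]
  -- the real diagonal values
  obtain ⟨r, hr⟩ : ∃ r : ℕ → IrrCharacter G → ℝ, r = fun (k : ℕ) (χ : IrrCharacter G) =>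
      (Q : ℝ) * pNorm 2 (etaPart H (u ^ k) e (χ : G → ℂ)) := ⟨_, rfl⟩
  have hr0 : ∀ k χ, 0 ≤ r k χ := by
    intro k χ
    rw [hr]
    exact mul_nonneg (Nat.cast_nonneg _) (pNorm_nonneg _)
  have hreal : ∀ (k : ℕ) (χ : IrrCharacter G),
      hfc N (vk aZ lam χ k) (vk aZ lam χ k) = ((r k χ : ℝ) : ℂ) := by
    intro k χ
    rw [← hcontrib, contrib_self_eq_pNorm, hr]
    push_cast
    rfl
  -- the rows
  have hrow : ∀ k ∈ J, ∀ χ : IrrCharacter G,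
      ∑ ψ : IrrCharacter G, ‖hfc N (vk aZ lam χ k) (vk aZ lam ψ k)‖ ^ 2 = (Q : ℝ) * r k χ := by
    intro k hk χ
    have h1 := sum_contrib_mul_conj hM (hzk k hk) H (hHk k hk) he (χ : G → ℂ)
    rw [contrib_self_eq_pNorm] at h1
    have h2 : ∀ ψ : IrrCharacter G, contrib 2 H (u ^ k) e (χ : G → ℂ) (ψ : G → ℂ) *
        conj (contrib 2 H (u ^ k) e (χ : G → ℂ) (ψ : G → ℂ)) =
        ((‖contrib 2 H (u ^ k) e (χ : G → ℂ) (ψ : G → ℂ)‖ ^ 2 : ℝ) : ℂ) := by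
      intro ψ
      rw [Complex.mul_conj']
      push_cast
      rfl
    rw [Finset.sum_congr rfl (fun ψ _ => h2 ψ), ← Complex.ofReal_sum] at h1
    have h3 : ∑ ψ : IrrCharacter G, ‖contrib 2 H (u ^ k) e (χ : G → ℂ) (ψ : G → ℂ)‖ ^ 2 =
        pNorm 2 (etaPart H (u ^ k) e (χ : G → ℂ)) := by exact_mod_cast h1
    have h4 : ∀ ψ : IrrCharacter G, ‖hfc N (vk aZ lam χ k) (vk aZ lam ψ k)‖ ^ 2 =
        (Q : ℝ) ^ 2 * ‖contrib 2 H (u ^ k) e (χ : G → ℂ) (ψ : G → ℂ)‖ ^ 2 := by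
      intro ψ
      rw [← hcontrib, norm_mul, mul_pow, Complex.norm_natCast]
    rw [Finset.sum_congr rfl (fun ψ _ => h4 ψ), ← Finset.mul_sum, h3, hr]
    ring
  -- the traces
  have hSB : S ⊆ Finset.univ.filter (fun χ : IrrCharacter G => χ ∈ B) := by
    intro χ hχ
    rw [Finset.mem_filter]
    exact ⟨Finset.mem_univ _, ((hS χ).1 hχ).1⟩
  have htrace : ∀ k ∈ J, ∑ χ ∈ S, r k χ ≤ (Q : ℝ) * (l : ℝ) := by
    intro k hk
    have h1 := sum_contrib_self hM (hzk k hk) H (hHk k hk) hind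
    rw [← Finset.sum_filter] at h1
    have h2 : ∑ χ ∈ Finset.univ.filter (fun χ : IrrCharacter G => χ ∈ B),
        contrib 2 H (u ^ k) e (χ : G → ℂ) (χ : G → ℂ) =
        ((∑ χ ∈ Finset.univ.filter (fun χ : IrrCharacter G => χ ∈ B),
          pNorm 2 (etaPart H (u ^ k) e (χ : G → ℂ)) : ℝ) : ℂ) := by
      rw [Complex.ofReal_sum]
      apply Finset.sum_congr rfl
      intro χ _
      rw [contrib_self_eq_pNorm]
    rw [h2] at h1
    have h3 : ∑ χ ∈ Finset.univ.filter (fun χ : IrrCharacter G => χ ∈ B),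
        pNorm 2 (etaPart H (u ^ k) e (χ : G → ℂ)) = (blockRank 2 e : ℝ) := by
      exact_mod_cast h1
    have h4 : ∑ χ ∈ Finset.univ.filter (fun χ : IrrCharacter G => χ ∈ B), r k χ =
        (Q : ℝ) * (l : ℝ) := by
      rw [hr, ← Finset.mul_sum, h3, hl]
    rw [← h4]
    exact Finset.sum_le_sum_of_subset_of_nonneg hSB (fun χ _ _ => hr0 k χ)
  -- the parity of the Galois traces
  have hT : ∀ χ : IrrCharacter G, ∃ T : ℤ,
      ∑ k ∈ J, r k χ = ((2 ^ (j - 1) : ℕ) : ℝ) * (T : ℝ) ∧ (2 : ℤ) ∣ T - qf N (aZ χ) := by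
    intro χ
    obtain ⟨T, hT1, hT2⟩ := trace_two_parity hj hsymm (aZ χ) lam hlam
    refine ⟨T, ?_, hT2⟩
    rw [← hJ] at hT1
    have h1 : ∑ k ∈ J, hfc N (fun i => (aZ χ i : ℂ) * lam i ^ k)
        (fun i => (aZ χ i : ℂ) * lam i ^ k) = ((∑ k ∈ J, r k χ : ℝ) : ℂ) := by
      rw [Complex.ofReal_sum]
      apply Finset.sum_congr rfl
      intro k _
      exact hreal k χ
    rw [h1] at hT1
    exact_mod_cast hT1
  choose T hT1 hT2 using hT
  -- height zero: the units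
  have hunit : ∀ χ ∈ S, ∀ ψ ∈ S, ¬ MemLocalIdeal M
      (hfc N (vk aZ lam χ 1) (vk aZ lam ψ 1)) := by
    intro χ hχ ψ hψ
    obtain ⟨hχB, hχh⟩ := (hS χ).1 hχ
    obtain ⟨hψB, hψh⟩ := (hS ψ).1 hψ
    have h1 := not_memLocalIdeal_pow_mul_contrib hM ⟨j0, hj0⟩ H hH hind hχB hψB hχh hψh
    rw [← hQ] at h1
    rw [← hcontrib, pow_one]
    exact h1
  have hvk1 : ∀ χ : IrrCharacter G, vk aZ lam χ 1 = fun i => (aZ χ i : ℂ) * lam i := by
    intro χ
    funext i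
    unfold vk
    rw [pow_one]
  have hodd : ∀ χ ∈ S, ¬ (2 : ℤ) ∣ T χ := by
    intro χ hχ hdvd
    have h1 := hunit χ hχ χ hχ
    have h2 := hfc_sub_qf_mem hM (j := j) N (aZ χ) lam hlam
    rw [← hvk1] at h2
    apply h1
    have h3 : (2 : ℤ) ∣ qf N (aZ χ) := by
      have := dvd_sub hdvd (hT2 χ)
      rwa [sub_sub_cancel] at this
    have h4 : MemLocalIdeal M ((qf N (aZ χ) : ℤ) : ℂ) :=
      (memLocalIdeal_intCast_iff hM _).2 (by exact_mod_cast h3)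
    have := memLocalIdeal_add h2 h4
    rwa [sub_add_cancel] at this
  -- the Galois averages of the off-diagonal entries
  have hoff : ∀ χ ∈ S, ∀ ψ ∈ S, (J.card : ℝ) ≤
      ∑ k ∈ J, ‖hfc N (vk aZ lam χ k) (vk aZ lam ψ k)‖ ^ 2 := by
    intro χ hχ ψ hψ
    have hne : (∑ x : IrrCharacter H × IrrCharacter H,
        ((aZ χ x.1 * aZ ψ x.2 * N x.1 x.2 : ℤ) : ℂ) * (lam x.1 * conj (lam x.2))) ≠ 0 := by
      intro h0
      apply hunit χ hχ ψ hψ
      have h1 := hfc_pow_eq_weighted N (aZ χ) (aZ ψ) lam 1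
      simp only [pow_one] at h1
      rw [hvk1, hvk1, h1, h0]
      exact memLocalIdeal_zero ne_top
    have hμ : ∀ x : IrrCharacter H × IrrCharacter H,
        (lam x.1 * conj (lam x.2)) ^ (2 ^ j) = 1 := by
      intro x
      rw [mul_pow, ← map_pow, hlam, hlam, map_one, mul_one]
    have h2 := Cfsg.Agent.Helper23.card_le_sum_normSq_weighted (pow_pos hp.pos j)
      (fun x : IrrCharacter H × IrrCharacter H => aZ χ x.1 * aZ ψ x.2 * N x.1 x.2)
      (fun x => lam x.1 * conj (lam x.2)) hμ hne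
    rw [← hJ] at h2
    refine h2.trans (le_of_eq ?_)
    apply Finset.sum_congr rfl
    intro k _
    have h3 := hfc_pow_eq_weighted N (aZ χ) (aZ ψ) lam k
    unfold vk
    rw [h3]
  -- the two inequalities for the arithmetic
  have hpow0 : (0 : ℝ) < ((2 ^ (j - 1) : ℕ) : ℝ) := by
    exact_mod_cast pow_pos hp.pos _
  have h1 : ∀ χ ∈ S, (S.card : ℤ) ≤ (Q : ℤ) * T χ := by
    intro χ hχ
    have e1 : (S.card : ℝ) * (J.card : ℝ) ≤
        ∑ ψ ∈ S, ∑ k ∈ J, ‖hfc N (vk aZ lam χ k) (vk aZ lam ψ k)‖ ^ 2 := by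
      have : ∑ ψ ∈ S, (J.card : ℝ) ≤
          ∑ ψ ∈ S, ∑ k ∈ J, ‖hfc N (vk aZ lam χ k) (vk aZ lam ψ k)‖ ^ 2 :=
        Finset.sum_le_sum (fun ψ hψ => hoff χ hχ ψ hψ)
      rwa [Finset.sum_const, nsmul_eq_mul] at this
    have e2 : ∑ ψ ∈ S, ∑ k ∈ J, ‖hfc N (vk aZ lam χ k) (vk aZ lam ψ k)‖ ^ 2 ≤
        ∑ k ∈ J, (Q : ℝ) * r k χ := by
      rw [Finset.sum_comm]
      apply Finset.sum_le_sum
      intro k hk
      rw [← hrow k hk χ]
      exact Finset.sum_le_sum_of_subset_of_nonneg (Finset.subset_univ S)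
        (fun ψ _ _ => sq_nonneg _)
    have e3 : ∑ k ∈ J, (Q : ℝ) * r k χ = (Q : ℝ) * (((2 ^ (j - 1) : ℕ) : ℝ) * (T χ : ℝ)) := by
      rw [← Finset.mul_sum, hT1 χ]
    have e4 : (S.card : ℝ) * ((2 ^ (j - 1) : ℕ) : ℝ) ≤
        ((Q : ℝ) * (T χ : ℝ)) * ((2 ^ (j - 1) : ℕ) : ℝ) := by
      rw [hJcard] at e1
      calc (S.card : ℝ) * ((2 ^ (j - 1) : ℕ) : ℝ) ≤ _ := e1
        _ ≤ _ := e2
        _ = _ := e3
        _ = _ := by ring
    have e5 : (S.card : ℝ) ≤ (Q : ℝ) * (T χ : ℝ) := le_of_mul_le_mul_right e4 hpow0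
    exact_mod_cast e5
  have h2 : ∑ χ ∈ S, T χ ≤ (Q : ℤ) * (l : ℤ) := by
    have e1 : ∑ χ ∈ S, ((2 ^ (j - 1) : ℕ) : ℝ) * (T χ : ℝ) ≤
        ∑ k ∈ J, (Q : ℝ) * (l : ℝ) := by
      rw [Finset.sum_congr rfl (fun χ _ => (hT1 χ).symm), Finset.sum_comm]
      exact Finset.sum_le_sum htrace
    rw [Finset.sum_const, hJcard, nsmul_eq_mul, ← Finset.mul_sum] at e1
    have e2 : (∑ χ ∈ S, (T χ : ℝ)) ≤ (Q : ℝ) * (l : ℝ) := le_of_mul_le_mul_left e1 hpow0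
    have e3 : ((∑ χ ∈ S, T χ : ℤ) : ℝ) ≤ (((Q : ℤ) * (l : ℤ) : ℤ) : ℝ) := by
      push_cast
      exact e2
    exact_mod_cast e3
  exact olsson_arith S T Q l hQpos hodd h1 h2

end Main

end Cfsg.Agent.Helper18.OlssonTwo
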