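import Mathlib
import Cfsg.Agent.Lib.Helper18.OlssonTwo2

/-!
# The power basis of the `2`-power cyclotomic integers is a local integral basis
(helper18's shared library)
-/

set_option autoImplicit false
set_option linter.unusedSectionVars false
set_option linter.style.haveILetI false

namespace Cfsg.Agent.Helper18.OlssonTwo

open scoped ComplexConjugate
open Cfsg Cfsg.Agent.Helper23.Blk Cfsg.Agent.Helper24 Cfsg.Agent.Helper18.MajorTwo
open Polynomial

section Basis

variable {M : Ideal AlgInt}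

theorem pow_half_eq_neg_one {ζ : ℂ} {j : ℕ} (hζ : IsPrimitiveRoot ζ (2 ^ (j + 1))) :
    ζ ^ (2 ^ j) = -1 := by
  have h1 : (ζ ^ (2 ^ j)) ^ 2 = 1 := by
    rw [← pow_mul, ← pow_succ]
    exact hζ.pow_eq_one
  have h2 : ζ ^ (2 ^ j) ≠ 1 := by
    apply hζ.pow_ne_one_of_pos_of_lt (pow_pos (by norm_num) j).ne'
    rw [pow_succ]
    have : 0 < 2 ^ j := pow_pos (by norm_num) j
    omega
  have h3 : (ζ ^ (2 ^ j) - 1) * (ζ ^ (2 ^ j) + 1) = 0 := by
    have : (ζ ^ (2 ^ j) - 1) * (ζ ^ (2 ^ j) + 1) = (ζ ^ (2 ^ j)) ^ 2 - 1 := by ring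
    rw [this, h1, sub_self]
  rcases mul_eq_zero.1 h3 with h | h
  · exact absurd (sub_eq_zero.1 h) h2
  · exact eq_neg_of_add_eq_zero_left h

/-- `2` is `(ζ - 1)^(2^j)` times a local integer, for a primitive `2^(j+1)`-th root of unity -/
theorem two_eq_pow_mul [hMp : M.IsPrime] :
    ∀ (j : ℕ) (ζ : ℂ), IsPrimitiveRoot ζ (2 ^ (j + 1)) →
      ∃ v : ℂ, MemLocalRing M v ∧ (2 : ℂ) = (ζ - 1) ^ (2 ^ j) * v := by
  intro j
  induction j with
  | zero =>
    intro ζ hζ
    have h1 : ζ = -1 := by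
      have := pow_half_eq_neg_one (j := 0) hζ
      simpa using this
    refine ⟨-1, memLocalRing_neg (memLocalRing_one ne_top), ?_⟩
    rw [h1]
    norm_num
  | succ j ih =>
    intro ζ hζ
    have hζ2 : IsPrimitiveRoot (ζ ^ 2) (2 ^ (j + 1)) := by
      have := hζ.pow_of_dvd (p := 2) (by norm_num) (dvd_pow_self 2 (by omega))
      rwa [pow_succ 2 (j + 1), Nat.mul_div_cancel _ (by norm_num : 0 < 2)] at this
    obtain ⟨v, hv, h2⟩ := ih (ζ ^ 2) hζ2
    have hneg := pow_half_eq_neg_one hζ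
    have hζR : MemLocalRing M ζ :=
      memLocalRing_of_pow_eq_one (pow_pos (by norm_num) (j + 1 + 1)) hζ.pow_eq_one
    obtain ⟨s, hs⟩ : ∃ s : ℂ, s = ∑ t ∈ Finset.range (2 ^ (j + 1) + 1), ζ ^ t := ⟨_, rfl⟩
    have hsR : MemLocalRing M s := by
      rw [hs]
      exact memLocalRing_sum _ _ (fun t _ => memLocalRing_pow hζR t)
    have h3 : ζ + 1 = -(s * (ζ - 1)) := by
      rw [hs, geom_sum_mul, pow_succ, hneg]
      ring
    have h4 : ζ ^ 2 - 1 = (ζ - 1) ^ 2 * (-s) := by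
      have : ζ ^ 2 - 1 = (ζ - 1) * (ζ + 1) := by ring
      rw [this, h3]
      ring
    refine ⟨(-s) ^ (2 ^ j) * v, memLocalRing_mul (memLocalRing_pow (memLocalRing_neg hsR) _) hv, ?_⟩
    rw [h2, h4, mul_pow, ← pow_mul, ← pow_succ']
    ring

/-- the inductive core: a combination of fewer than `n` powers of `τ` divisible by `τ^t` has
even coefficients -/
theorem dvd_of_sum_eq_pow_mul (hM : IsPModular 2 M) {τ v : ℂ} {n : ℕ}
    (hτ : MemLocalIdeal M τ) (hτ0 : τ ≠ 0) (hv : MemLocalRing M v)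
    (h2 : (2 : ℂ) = τ ^ n * v) :
    ∀ t ≤ n, ∀ c : ℕ → ℤ,
      (∃ r : ℂ, MemLocalRing M r ∧ ∑ m ∈ Finset.range t, (c m : ℂ) * τ ^ m = τ ^ t * r) →
      ∀ m < t, (2 : ℤ) ∣ c m := by
  haveI hMp : M.IsPrime := hM.2.1.isPrime
  have hτR : MemLocalRing M τ := memLocalRing_of_memLocalIdeal hτ
  intro t
  induction t with
  | zero =>
    intro _ c _ m hm
    omega
  | succ t ih =>
    intro ht c hex m hm
    obtain ⟨r, hr, heq⟩ := hex
    rw [Finset.sum_range_succ'] at heq
    obtain ⟨S', hS'⟩ : ∃ S' : ℂ, S' = ∑ m ∈ Finset.range t, (c (m + 1) : ℂ) * τ ^ m := ⟨_, rfl⟩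
    have hS'R : MemLocalRing M S' := by
      rw [hS']
      exact memLocalRing_sum _ _ (fun m _ =>
        memLocalRing_mul (memLocalRing_intCast _) (memLocalRing_pow hτR m))
    have h1 : ∑ m ∈ Finset.range t, (c (m + 1) : ℂ) * τ ^ (m + 1) = τ * S' := by
      rw [hS', Finset.mul_sum]
      apply Finset.sum_congr rfl
      intro m _
      rw [pow_succ]
      ring
    rw [h1, pow_zero, mul_one] at heq
    have hc0 : (c 0 : ℂ) = τ * (τ ^ t * r - S') := by
      have : (c 0 : ℂ) = τ ^ (t + 1) * r - τ * S' := by rw [← heq]; ring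
      rw [this, pow_succ]
      ring
    have hc0I : MemLocalIdeal M (c 0 : ℂ) := by
      rw [hc0]
      exact memLocalIdeal_mul_right hτ
        (memLocalRing_sub (memLocalRing_mul (memLocalRing_pow hτR t) hr) hS'R)
    have hdvd0 : (2 : ℤ) ∣ c 0 := by
      have := (memLocalIdeal_intCast_iff hM (c 0)).1 hc0I
      exact_mod_cast this
    obtain ⟨c', hc'⟩ := hdvd0
    have hc0' : (c 0 : ℂ) = τ ^ (t + 1) * (τ ^ (n - (t + 1)) * v * (c' : ℂ)) := by
      rw [hc']
      push_cast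
      rw [h2]
      have : τ ^ n = τ ^ (t + 1) * τ ^ (n - (t + 1)) := by
        rw [← pow_add]
        congr 1
        omega
      rw [this]
      ring
    have hS'eq : S' = τ ^ t * (r - τ ^ (n - (t + 1)) * v * (c' : ℂ)) := by
      have h5 : τ * S' = τ * (τ ^ t * (r - τ ^ (n - (t + 1)) * v * (c' : ℂ))) := by
        have : τ * S' = τ ^ (t + 1) * r - (c 0 : ℂ) := by rw [← heq]; ring
        rw [this, hc0', pow_succ]
        ring
      exact mul_left_cancel₀ hτ0 h5
    have hr' : MemLocalRing M (r - τ ^ (n - (t + 1)) * v * (c' : ℂ)) :=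
      memLocalRing_sub hr (memLocalRing_mul (memLocalRing_mul (memLocalRing_pow hτR _) hv)
        (memLocalRing_intCast _))
    have hih := ih (by omega) (fun m => c (m + 1)) ⟨_, hr', by rw [← hS', hS'eq]⟩
    rcases Nat.eq_zero_or_pos m with h0 | hpos
    · rw [h0, hc']
      exact dvd_mul_right 2 c'
    · obtain ⟨m', rfl⟩ : ∃ m', m = m' + 1 := ⟨m - 1, by omega⟩
      exact hih m' (by omega)

/-- **the power basis is a local integral basis at `2`**: if `f(ζ)/2` is a local integer, `f`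
an integer polynomial of degree less than `2^j`, `ζ` a primitive `2^(j+1)`-th root of unity, then
all coefficients of `f` are even -/
theorem two_dvd_coeff (hM : IsPModular 2 M) {ζ : ℂ} {j : ℕ}
    (hζ : IsPrimitiveRoot ζ (2 ^ (j + 1))) (f : ℤ[X]) (hdeg : f.natDegree < 2 ^ j)
    (h : MemLocalRing M (aeval ζ f / 2)) : ∀ i, (2 : ℤ) ∣ f.coeff i := by
  haveI hMp : M.IsPrime := hM.2.1.isPrime
  obtain ⟨v, hv, h2⟩ := two_eq_pow_mul (M := M) j ζ hζ
  have hτ : MemLocalIdeal M (ζ - 1) :=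
    memLocalIdeal_sub_one_of_pow_eq_one hM (k := j + 1) hζ.pow_eq_one
  have hτ0 : ζ - 1 ≠ 0 := by
    intro h0
    have h1 : ζ = 1 := sub_eq_zero.1 h0
    have := hζ.pow_ne_one_of_pos_of_lt (l := 1) (by norm_num)
      (by
        have : 1 < 2 ^ (j + 1) := Nat.one_lt_two_pow (by omega)
        exact this)
    rw [pow_one] at this
    exact this h1
  obtain ⟨F, hF⟩ : ∃ F : ℤ[X], F = taylor 1 f := ⟨_, rfl⟩
  have hFdeg : F.natDegree < 2 ^ j := by
    rw [hF, natDegree_taylor]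
    exact hdeg
  have heval : aeval ζ f = ∑ m ∈ Finset.range (2 ^ j), (F.coeff m : ℂ) * (ζ - 1) ^ m := by
    have h1 : aeval ζ f = eval (ζ - 1) (F.map (Int.castRingHom ℂ)) := by
      rw [hF, map_taylor, taylor_eval, map_one, sub_add_cancel, aeval_def, eval₂_eq_eval_map]
      rfl
    rw [h1, eval_eq_sum_range' (n := 2 ^ j) (by rw [natDegree_map_eq_of_injective
      (RingHom.injective_int (Int.castRingHom ℂ))]; exact hFdeg)]
    apply Finset.sum_congr rfl
    intro m _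
    rw [coeff_map]
    rfl
  have hex : ∃ r : ℂ, MemLocalRing M r ∧
      ∑ m ∈ Finset.range (2 ^ j), (F.coeff m : ℂ) * (ζ - 1) ^ m = (ζ - 1) ^ (2 ^ j) * r := by
    refine ⟨v * (aeval ζ f / 2), memLocalRing_mul hv h, ?_⟩
    rw [← heval]
    have : (ζ - 1) ^ (2 ^ j) * (v * (aeval ζ f / 2)) = ((ζ - 1) ^ (2 ^ j) * v) * (aeval ζ f / 2) := by
      ring
    rw [this, ← h2]
    ring
  have hFeven : ∀ m, (2 : ℤ) ∣ F.coeff m := by
    intro m
    by_cases hm : m < 2 ^ j
    · exact dvd_of_sum_eq_pow_mul hM hτ hτ0 hv h2 (2 ^ j) le_rfl (fun m => F.coeff m) hex m hm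
    · rw [coeff_eq_zero_of_natDegree_lt (by omega)]
      exact dvd_zero 2
  -- transfer the parity through the Taylor shift
  have hFmap : F.map (Int.castRingHom (ZMod 2)) = 0 := by
    ext m
    rw [coeff_map, coeff_zero]
    obtain ⟨c, hc⟩ := hFeven m
    rw [hc, map_mul]
    have : (Int.castRingHom (ZMod 2)) 2 = 0 := rfl
    rw [this, zero_mul]
  have hfmap : f.map (Int.castRingHom (ZMod 2)) = 0 := by
    rw [hF, map_taylor] at hFmap
    exact (taylor_eq_zero _ _).1 hFmap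
  intro i
  have h1 : ((f.coeff i : ℤ) : ZMod 2) = 0 := by
    have := congrArg (fun g : (ZMod 2)[X] => g.coeff i) hfmap
    simpa [coeff_map] using this
  exact (ZMod.intCast_zmod_eq_zero_iff_dvd (f.coeff i) 2).1 h1

end Basis

end Cfsg.Agent.Helper18.OlssonTwo
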