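import Mathlib
import Cfsg.Agent.Lib.Helper18.OlssonTwo3

/-!
# Galois traces of real integer combinations of `2`-power roots of unity, `2`-adically
(helper18's shared library)
-/

set_option autoImplicit false
set_option linter.unusedSectionVars false
set_option linter.style.haveILetI false

namespace Cfsg.Agent.Helper18.OlssonTwo

open scoped ComplexConjugate
open Cfsg Cfsg.Agent.Helper23.Blk Cfsg.Agent.Helper24 Cfsg.Agent.Helper18.MajorTwo
open Polynomial

section Coeff

variable {M : Ideal AlgInt}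

/-- iterated form of `two_dvd_coeff` -/
theorem pow_dvd_coeff (hM : IsPModular 2 M) {ζ : ℂ} {j : ℕ}
    (hζ : IsPrimitiveRoot ζ (2 ^ (j + 1))) :
    ∀ (h : ℕ) (f : ℤ[X]), f.natDegree < 2 ^ j →
      MemLocalRing M (aeval ζ f / ((2 ^ h : ℕ) : ℂ)) → ∀ i, ((2 ^ h : ℕ) : ℤ) ∣ f.coeff i := by
  haveI hMp : M.IsPrime := hM.2.1.isPrime
  intro h
  induction h with
  | zero =>
    intro f _ _ i
    simp
  | succ h ih =>
    intro f hdeg hR i
    have h2 : MemLocalRing M (aeval ζ f / 2) := by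
      have : aeval ζ f / 2 = ((2 ^ h : ℕ) : ℂ) * (aeval ζ f / ((2 ^ (h + 1) : ℕ) : ℂ)) := by
        push_cast
        rw [pow_succ]
        field_simp
      rw [this]
      exact memLocalRing_mul (memLocalRing_natCast _) hR
    have heven := two_dvd_coeff hM hζ f hdeg h2
    obtain ⟨f', hf'⟩ := (C_dvd_iff_dvd_coeff (2 : ℤ) f).2 heven
    have hdeg' : f'.natDegree < 2 ^ j := by
      rw [hf', natDegree_C_mul (by norm_num : (2 : ℤ) ≠ 0)] at hdeg
      exact hdeg
    have hval : aeval ζ f = 2 * aeval ζ f' := by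
      rw [hf', map_mul, aeval_C]
      simp
    have hR' : MemLocalRing M (aeval ζ f' / ((2 ^ h : ℕ) : ℂ)) := by
      have : aeval ζ f' / ((2 ^ h : ℕ) : ℂ) = aeval ζ f / ((2 ^ (h + 1) : ℕ) : ℂ) := by
        rw [hval]
        push_cast
        rw [pow_succ]
        field_simp
      rw [this]
      exact hR
    obtain ⟨c, hc⟩ := ih f' hdeg' hR' i
    refine ⟨c, ?_⟩
    rw [hf', coeff_C_mul, hc]
    push_cast
    ring

/-- the powers `ζ^i`, `i < 2^j`, are linearly independent over the integers -/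
theorem eq_zero_of_aeval_eq_zero (hM : IsPModular 2 M) {ζ : ℂ} {j : ℕ}
    (hζ : IsPrimitiveRoot ζ (2 ^ (j + 1))) (f : ℤ[X]) (hdeg : f.natDegree < 2 ^ j)
    (h0 : aeval ζ f = 0) : f = 0 := by
  haveI hMp : M.IsPrime := hM.2.1.isPrime
  ext i
  rw [coeff_zero]
  obtain ⟨h, hh⟩ : ∃ h : ℕ, h = (f.coeff i).natAbs := ⟨_, rfl⟩
  have h1 := pow_dvd_coeff hM hζ h f hdeg (by rw [h0, zero_div]; exact memLocalRing_zero ne_top) i
  apply Int.eq_zero_of_abs_lt_dvd h1
  have h2 : h < 2 ^ h := Nat.lt_two_pow_self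
  have h3 : |f.coeff i| = (h : ℤ) := by rw [hh, Int.natCast_natAbs]
  rw [h3]
  exact_mod_cast h2

/-- a real value `f(ζ)` has `f(1) = f(0)` -/
theorem eval_one_eq_coeff_zero_of_real (hM : IsPModular 2 M) {ζ : ℂ} {j : ℕ}
    (hζ : IsPrimitiveRoot ζ (2 ^ (j + 1))) (f : ℤ[X]) (hdeg : f.natDegree < 2 ^ j)
    (hreal : conj (aeval ζ f) = aeval ζ f) : f.eval 1 = f.coeff 0 := by
  classical
  obtain ⟨n, hn⟩ : ∃ n : ℕ, n = 2 ^ j := ⟨_, rfl⟩
  rw [← hn] at hdeg
  have hnpos : 0 < n := by rw [hn]; exact pow_pos (by norm_num) j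
  have hneg : ζ ^ n = -1 := by rw [hn]; exact pow_half_eq_neg_one hζ
  have hone : ζ ^ (2 * n) = 1 := by
    rw [hn, ← pow_succ']
    exact hζ.pow_eq_one
  have hnorm : ‖ζ‖ = 1 :=
    Complex.norm_eq_one_of_pow_eq_one hζ.pow_eq_one (pow_pos (by norm_num) (j + 1)).ne'
  have hconj : conj ζ = ζ⁻¹ := (Complex.inv_eq_conj hnorm).symm
  have hζ0 : ζ ≠ 0 := by
    intro h0
    rw [h0, norm_zero] at hnorm
    exact zero_ne_one hnorm
  obtain ⟨g, hg⟩ : ∃ g : ℤ[X], g = ∑ i ∈ Finset.range n,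
      (if i = 0 then C (f.coeff 0) else C (-(f.coeff i)) * X ^ (n - i)) := ⟨_, rfl⟩
  have hgdeg : g.natDegree < n := by
    have : g.natDegree ≤ n - 1 := by
      rw [hg]
      apply natDegree_sum_le_of_forall_le
      intro i hi
      by_cases h0 : i = 0
      · rw [if_pos h0, natDegree_C]
        omega
      · rw [if_neg h0]
        refine (natDegree_C_mul_X_pow_le _ _).trans ?_
        omega
    omega
  have hgval : aeval ζ g = conj (aeval ζ f) := by
    rw [hg, map_sum, aeval_eq_sum_range' hdeg, map_sum]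
    apply Finset.sum_congr rfl
    intro i hi
    rw [Finset.mem_range] at hi
    by_cases h0 : i = 0
    · rw [if_pos h0, h0, aeval_C, pow_zero]
      simp
    · rw [if_neg h0, map_mul, aeval_C, map_pow, aeval_X]
      have h1 : ζ ^ (n - i) * ζ ^ i = -1 := by
        rw [← pow_add, Nat.sub_add_cancel hi.le, hneg]
      have h2 : conj ζ ^ i = -(ζ ^ (n - i)) := by
        rw [hconj, inv_pow]
        apply inv_eq_of_mul_eq_one_right
        have : ζ ^ i * -ζ ^ (n - i) = -(ζ ^ (n - i) * ζ ^ i) := by ring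
        rw [this, h1, neg_neg]
      simp only [zsmul_eq_mul, map_mul, map_pow, map_intCast, eq_intCast, Int.cast_neg]
      rw [h2]
      ring
  have hfg : f = g := by
    have h0 : aeval ζ (f - g) = 0 := by
      rw [map_sub, hgval, hreal, sub_self]
    have hd : (f - g).natDegree < n := by
      refine lt_of_le_of_lt (natDegree_sub_le _ _) ?_
      exact max_lt hdeg hgdeg
    rw [hn] at hd
    exact sub_eq_zero.1 (eq_zero_of_aeval_eq_zero hM hζ (f - g) hd h0)
  have hf1 : f.eval 1 = ∑ i ∈ Finset.range n, f.coeff i := by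
    rw [eval_eq_sum_range' hdeg]
    simp
  have hg1 : g.eval 1 = ∑ i ∈ Finset.range n, (if i = 0 then f.coeff 0 else -(f.coeff i)) := by
    rw [hg, eval_finset_sum]
    apply Finset.sum_congr rfl
    intro i _
    by_cases h0 : i = 0
    · rw [if_pos h0, if_pos h0, eval_C]
    · rw [if_neg h0, if_neg h0]
      simp
  have hsum : f.eval 1 + g.eval 1 = 2 * f.coeff 0 := by
    rw [hf1, hg1, ← Finset.sum_add_distrib]
    obtain ⟨n', rfl⟩ : ∃ n', n = n' + 1 := ⟨n - 1, by omega⟩
    rw [Finset.sum_range_succ']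
    have : ∑ i ∈ Finset.range n', (f.coeff (i + 1) +
        (if i + 1 = 0 then f.coeff 0 else -(f.coeff (i + 1)))) = 0 := by
      apply Finset.sum_eq_zero
      intro i _
      rw [if_neg (Nat.succ_ne_zero i)]
      ring
    rw [this, if_pos rfl]
    ring
  rw [← hfg] at hsum
  linarith

/-- `f(ζ) ≡ f(1)` modulo the local ideal -/
theorem aeval_sub_eval_one_mem (hM : IsPModular 2 M) {ζ : ℂ} {j : ℕ}
    (hζ : IsPrimitiveRoot ζ (2 ^ (j + 1))) (f : ℤ[X]) :
    MemLocalIdeal M (aeval ζ f - ((f.eval 1 : ℤ) : ℂ)) := by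
  haveI hMp : M.IsPrime := hM.2.1.isPrime
  have h1 : aeval ζ f - ((f.eval 1 : ℤ) : ℂ) =
      ∑ i ∈ Finset.range (f.natDegree + 1), (f.coeff i : ℂ) * (ζ ^ i - 1) := by
    rw [aeval_eq_sum_range, eval_eq_sum_range]
    push_cast
    rw [← Finset.sum_sub_distrib]
    apply Finset.sum_congr rfl
    intro i _
    simp only [zsmul_eq_mul, one_pow, mul_one]
    ring
  rw [h1]
  apply memLocalIdeal_sum
  intro i _
  apply memLocalIdeal_mul_left (memLocalRing_intCast _)
  apply memLocalIdeal_sub_one_of_pow_eq_one hM (k := j + 1)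
  rw [← pow_mul, mul_comm, pow_mul, hζ.pow_eq_one, one_pow]

end Coeff

end Cfsg.Agent.Helper18.OlssonTwo
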