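import Mathlib
import Cfsg.Agent.Lib.Helper18.OlssonTwo4

/-!
# The `2`-adic size of the Galois trace of a real integer combination of `2`-power roots of unity
(helper18's shared library)
-/

set_option autoImplicit false
set_option linter.unusedSectionVars false
set_option linter.style.haveILetI false

namespace Cfsg.Agent.Helper18.OlssonTwo

open scoped ComplexConjugate
open Cfsg Cfsg.Agent.Helper23.Blk Cfsg.Agent.Helper24 Cfsg.Agent.Helper18.MajorTwo
open Polynomial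

section Poly

variable {M : Ideal AlgInt}

/-- an integer combination of `2^(j+1)`-th roots of unity as a polynomial of degree less than
`2^j` in a primitive root, compatibly with the odd powers -/
theorem exists_poly {ζ : ℂ} {j : ℕ} (hζ : IsPrimitiveRoot ζ (2 ^ (j + 1)))
    {ι : Type*} [Fintype ι] (w : ι → ℤ) (μ : ι → ℂ) (hμ : ∀ x, μ x ^ (2 ^ (j + 1)) = 1) :
    ∃ f : ℤ[X], f.natDegree < 2 ^ j ∧
      ∀ k : ℕ, Odd k → aeval (ζ ^ k) f = ∑ x, (w x : ℂ) * μ x ^ k := by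
  classical
  haveI : NeZero (2 ^ (j + 1)) := ⟨(pow_pos (by norm_num) (j + 1)).ne'⟩
  have hex : ∀ x, ∃ e < 2 ^ (j + 1), ζ ^ e = μ x := fun x => hζ.eq_pow_of_pow_eq_one (hμ x)
  choose e he1 he2 using hex
  have hneg : ζ ^ (2 ^ j) = -1 := pow_half_eq_neg_one hζ
  have hpos : 0 < 2 ^ j := pow_pos (by norm_num) j
  refine ⟨∑ x, (if e x < 2 ^ j then C (w x) * X ^ (e x) else C (-(w x)) * X ^ (e x - 2 ^ j)),
    ?_, ?_⟩
  · have : (∑ x, (if e x < 2 ^ j then C (w x) * X ^ (e x)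
        else C (-(w x)) * X ^ (e x - 2 ^ j))).natDegree ≤ 2 ^ j - 1 := by
      apply natDegree_sum_le_of_forall_le
      intro x _
      by_cases hx : e x < 2 ^ j
      · rw [if_pos hx]
        refine (natDegree_C_mul_X_pow_le _ _).trans ?_
        omega
      · rw [if_neg hx]
        refine (natDegree_C_mul_X_pow_le _ _).trans ?_
        have := he1 x
        rw [pow_succ] at this
        omega
    omega
  · intro k hk
    rw [map_sum]
    apply Finset.sum_congr rfl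
    intro x _
    by_cases hx : e x < 2 ^ j
    · rw [if_pos hx, map_mul, aeval_C, map_pow, aeval_X, ← he2 x, ← pow_mul, ← pow_mul,
        mul_comm k]
      simp
    · rw [if_neg hx, map_mul, aeval_C, map_pow, aeval_X]
      have h1 : μ x = -(ζ ^ (e x - 2 ^ j)) := by
        rw [← he2 x]
        have : e x = (e x - 2 ^ j) + 2 ^ j := by omega
        conv_lhs => rw [this, pow_add, hneg]
        ring
      rw [h1, neg_pow, hk.neg_one_pow, ← pow_mul, ← pow_mul, mul_comm k]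
      simp

/-- the Galois trace of `f(ζ)` is `2^j` times the constant coefficient -/
theorem sum_aeval_pow {ζ : ℂ} {j : ℕ} (hζ : IsPrimitiveRoot ζ (2 ^ (j + 1)))
    (f : ℤ[X]) (hdeg : f.natDegree < 2 ^ j) :
    ∑ k ∈ (Finset.range (2 ^ (j + 1))).filter (fun k => Nat.Coprime k (2 ^ (j + 1))),
      aeval (ζ ^ k) f = ((2 ^ j : ℕ) : ℂ) * (f.coeff 0 : ℂ) := by
  classical
  have hp : Nat.Prime 2 := Nat.prime_two
  have hj : 0 < j + 1 := Nat.succ_pos j
  obtain ⟨J, hJ⟩ : ∃ J : Finset ℕ,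
      J = (Finset.range (2 ^ (j + 1))).filter (fun k => Nat.Coprime k (2 ^ (j + 1))) := ⟨_, rfl⟩
  rw [← hJ]
  have hpos : 0 < 2 ^ j := pow_pos (by norm_num) j
  have h1 : ∀ k ∈ J, aeval (ζ ^ k) f =
      ∑ i ∈ Finset.range (2 ^ j), (f.coeff i : ℂ) * (ζ ^ i) ^ k := by
    intro k _
    rw [aeval_eq_sum_range' hdeg]
    apply Finset.sum_congr rfl
    intro i _
    rw [← pow_mul, ← pow_mul, mul_comm k]
    simp
  rw [Finset.sum_congr rfl h1, Finset.sum_comm]
  have h2 : ∀ i ∈ Finset.range (2 ^ j), ∑ k ∈ J, (f.coeff i : ℂ) * (ζ ^ i) ^ k =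
      if i = 0 then ((2 ^ j : ℕ) : ℂ) * (f.coeff 0 : ℂ) else 0 := by
    intro i hi
    rw [Finset.mem_range] at hi
    rw [← Finset.mul_sum, hJ, filter_coprime_eq hp hj,
      Cfsg.Agent.Helper18.Schur.sum_pow_coprime hp hj (ζ ^ i)
        (by rw [← pow_mul, mul_comm, pow_mul, hζ.pow_eq_one, one_pow])]
    by_cases h0 : i = 0
    · rw [if_pos h0, h0, pow_zero, if_pos rfl, if_pos (one_pow 2)]
      have : j + 1 - 1 = j := by omega
      rw [this, pow_succ]
      push_cast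
      ring
    · rw [if_neg h0]
      have hne1 : ζ ^ i ≠ 1 := by
        apply hζ.pow_ne_one_of_pos_of_lt h0
        rw [pow_succ]
        omega
      have hne2 : (ζ ^ i) ^ 2 ≠ 1 := by
        rw [← pow_mul]
        apply hζ.pow_ne_one_of_pos_of_lt (by omega)
        rw [pow_succ]
        omega
      rw [if_neg hne1, if_neg hne2]
      ring
  rw [Finset.sum_congr rfl h2, Finset.sum_ite_eq' (Finset.range (2 ^ j)) 0,
    if_pos (Finset.mem_range.2 hpos)]

/-- **the `2`-adic size of a real Galois trace**: if `γ = ∑ w_x μ_x` is real, `γ/2^h` a local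
integer and the trace of `γ` is `2^j T`, then `2^h` divides `T` and `T/2^h ≡ γ/2^h` modulo the
local ideal -/
theorem trace_div_pow (hM : IsPModular 2 M) {j : ℕ} {ι : Type*} [Fintype ι] (w : ι → ℤ)
    (μ : ι → ℂ) (hμ : ∀ x, μ x ^ (2 ^ (j + 1)) = 1) (h : ℕ) (T : ℤ)
    (hT : ∑ k ∈ (Finset.range (2 ^ (j + 1))).filter (fun k => Nat.Coprime k (2 ^ (j + 1))),
      ∑ x, (w x : ℂ) * μ x ^ k = ((2 ^ j : ℕ) : ℂ) * (T : ℂ))
    (hreal : conj (∑ x, (w x : ℂ) * μ x) = ∑ x, (w x : ℂ) * μ x)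
    (hdiv : MemLocalRing M ((∑ x, (w x : ℂ) * μ x) / ((2 ^ h : ℕ) : ℂ))) :
    ∃ T' : ℤ, T = ((2 ^ h : ℕ) : ℤ) * T' ∧
      MemLocalIdeal M ((∑ x, (w x : ℂ) * μ x) / ((2 ^ h : ℕ) : ℂ) - (T' : ℂ)) := by
  classical
  haveI hMp : M.IsPrime := hM.2.1.isPrime
  obtain ⟨ζ, hζ⟩ : ∃ ζ : ℂ, IsPrimitiveRoot ζ (2 ^ (j + 1)) :=
    ⟨_, Complex.isPrimitiveRoot_exp _ (pow_pos (by norm_num : 0 < 2) (j + 1)).ne'⟩
  obtain ⟨f, hdeg, hf⟩ := exists_poly hζ w μ hμ
  have hf1 : aeval ζ f = ∑ x, (w x : ℂ) * μ x := by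
    have := hf 1 odd_one
    simpa using this
  -- the trace
  have htr := sum_aeval_pow hζ f hdeg
  have hodd : ∀ k ∈ (Finset.range (2 ^ (j + 1))).filter
      (fun k => Nat.Coprime k (2 ^ (j + 1))), Odd k := by
    intro k hk
    have h1 := (Finset.mem_filter.1 hk).2
    rw [Nat.coprime_pow_right_iff (Nat.succ_pos j)] at h1
    exact Nat.coprime_two_right.1 h1
  rw [Finset.sum_congr rfl (fun k hk => hf k (hodd k hk)), hT] at htr
  have h2j : ((2 ^ j : ℕ) : ℂ) ≠ 0 := by exact_mod_cast (pow_pos (by norm_num) j).ne'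
  have hTc : T = f.coeff 0 := by
    have := mul_left_cancel₀ h2j htr
    exact_mod_cast this
  -- divisibility of the coefficients
  rw [← hf1] at hdiv hreal
  have hcoef := pow_dvd_coeff hM hζ h f hdeg hdiv
  obtain ⟨f', hf'⟩ := (C_dvd_iff_dvd_coeff (((2 ^ h : ℕ) : ℤ)) f).2 hcoef
  have h2h : (((2 ^ h : ℕ) : ℤ)) ≠ 0 := by exact_mod_cast (pow_pos (by norm_num) h).ne'
  have h2hc : ((2 ^ h : ℕ) : ℂ) ≠ 0 := by exact_mod_cast (pow_pos (by norm_num) h).ne'
  have hdeg' : f'.natDegree < 2 ^ j := by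
    rw [hf', natDegree_C_mul h2h] at hdeg
    exact hdeg
  have hval : aeval ζ f = ((2 ^ h : ℕ) : ℂ) * aeval ζ f' := by
    rw [hf', map_mul, aeval_C]
    simp
  have hval' : aeval ζ f' = aeval ζ f / ((2 ^ h : ℕ) : ℂ) := by
    rw [hval]
    field_simp
  have hreal' : conj (aeval ζ f') = aeval ζ f' := by
    rw [hval', map_div₀, hreal, Complex.conj_natCast]
  have h1 := eval_one_eq_coeff_zero_of_real hM hζ f' hdeg' hreal'
  have h2 := aeval_sub_eval_one_mem hM hζ f'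
  refine ⟨f'.coeff 0, ?_, ?_⟩
  · rw [hTc, hf', coeff_C_mul]
  · rw [← hf1, ← hval', ← h1]
    exact h2

end Poly

end Cfsg.Agent.Helper18.OlssonTwo
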