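import Mathlib
import Cfsg.Agent.Lib.Helper18.OlssonTwo5

/-!
# The averaged diagonal contributions of a major subsection of a `2`-block
(helper18's shared library)
-/

set_option autoImplicit false
set_option linter.unusedSectionVars false
set_option linter.style.haveILetI false

namespace Cfsg.Agent.Helper18.OlssonTwo

open scoped ComplexConjugate
open Cfsg Cfsg.Agent.Helper23.Blk Cfsg.Agent.Helper24 Cfsg.Agent.Helper18.MajorTwo

universe u

section Swap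

variable {I X : Type*} [Fintype I]

/-- the entry `(χ, ψ)` at the root of unity `λ` is the entry `(ψ, χ)` at `λ⁻¹ = λ^(n-1)` -/
theorem hfc_vk_swap {N : I → I → ℤ} (hsymm : ∀ i i', N i i' = N i' i) (a : X → I → ℤ)
    (lam : I → ℂ) {n : ℕ} (hn : 0 < n) (hlam : ∀ i, lam i ^ n = 1) (χ ψ : X) :
    hfc N (vk a lam χ 1) (vk a lam ψ 1) = hfc N (vk a lam ψ (n - 1)) (vk a lam χ (n - 1)) := by
  have hnorm : ∀ i, ‖lam i‖ = 1 := fun i =>
    Complex.norm_eq_one_of_pow_eq_one (hlam i) hn.ne'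
  have hinv : ∀ i, lam i ^ (n - 1) = conj (lam i) := by
    intro i
    have h0 : lam i ≠ 0 := by
      intro h
      have := hnorm i
      rw [h, norm_zero] at this
      exact zero_ne_one this
    have h1 : lam i ^ (n - 1) * lam i = 1 := by
      rw [← pow_succ, Nat.sub_add_cancel hn, hlam i]
    have h2 : conj (lam i) * lam i = 1 := by
      rw [← Complex.inv_eq_conj (hnorm i), inv_mul_cancel₀ h0]
    exact mul_right_cancel₀ h0 (h1.trans h2.symm)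
  unfold hfc vk
  rw [Finset.sum_comm]
  apply Finset.sum_congr rfl
  intro i' _
  apply Finset.sum_congr rfl
  intro i _
  rw [hinv i, hinv i', pow_one, pow_one, hsymm i i', map_mul, map_mul, map_intCast, map_intCast,
    Complex.conj_conj]
  ring

end Swap

section Data

variable {G : Type u} [Group G] [Fintype G] {M : Ideal AlgInt}

set_option maxHeartbeats 12800000 in
/-- **the averaged diagonal contributions `T_χ` of a major subsection of a `2`-block** -/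
theorem major_two_data (hM : IsPModular 2 M) {u : G}
    (hu : ∃ k : ℕ, orderOf u = 2 ^ k) (H : Subgroup G) [Fintype H]
    (hH : H = Subgroup.centralizer ({u} : Set G)) {B : Set (IrrCharacter G)}
    {e : Set (IrrCharacter H)} (hind : IsInducedBlock M H e B)
    (hdef : blockDefect 2 e = blockDefect 2 B) :
    ∃ T : IrrCharacter G → ℤ,
      (∀ S : Finset (IrrCharacter G), (∀ χ, χ ∈ S ↔ χ ∈ B) →
        ∑ χ ∈ S, T χ = ((2 ^ blockDefect 2 B * blockRank 2 e : ℕ) : ℤ)) ∧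
      (∀ χ ∈ B, 0 < T χ) ∧
      (∀ χ ∈ B, blockHeight 2 B (χ : G → ℂ) = 0 → ¬ (2 : ℤ) ∣ T χ) ∧
      (∀ χ ∈ B, 1 ≤ blockHeight 2 B (χ : G → ℂ) →
        ((2 ^ (blockHeight 2 B (χ : G → ℂ) + 1) : ℕ) : ℤ) ∣ T χ) ∧
      (∀ χ ∈ B, blockHeight 2 B (χ : G → ℂ) = 0 → ∀ S : Finset (IrrCharacter G),
        (∀ ψ ∈ S, ψ ∈ B) → χ ∉ S →
        T χ ^ 2 + ∑ ψ ∈ S, ((4 ^ blockHeight 2 B (ψ : G → ℂ) : ℕ) : ℤ) ≤
          ((2 ^ blockDefect 2 B : ℕ) : ℤ) * T χ) ∧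
      (∀ χ ∈ B, ∀ ψ₀ ∈ B, blockHeight 2 B (ψ₀ : G → ℂ) = 0 → ψ₀ ≠ χ →
        T χ ^ 2 + ((4 ^ blockHeight 2 B (χ : G → ℂ) : ℕ) : ℤ) ≤
          ((2 ^ blockDefect 2 B : ℕ) : ℤ) * T χ) := by
  classical
  haveI : Fact (Nat.Prime 2) := ⟨Nat.prime_two⟩
  letI : Fintype (IrrCharacter G) := irrFintype
  letI : Fintype (IrrCharacter H) := irrFintype
  haveI hMp : M.IsPrime := hM.2.1.isPrime
  have hp : Nat.Prime 2 := Nat.prime_two
  have hB : IsPBlock M B := hind.2.1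
  have he : IsPBlock M e := hind.1
  have huH : u ∈ H := by
    rw [hH]
    exact self_mem_centralizer_singleton u
  obtain ⟨Y, hY⟩ : ∃ Y : H, Y = ⟨u, huH⟩ := ⟨_, rfl⟩
  have hYu : (Y : G) = u := by rw [hY]
  have hYc : Y ∈ Subgroup.center H := by
    rw [Subgroup.mem_center_iff]
    intro c
    apply Subtype.ext
    push_cast
    rw [hYu]
    have hc : (c : G) ∈ Subgroup.centralizer ({u} : Set G) := hH ▸ c.2
    exact (Subgroup.mem_centralizer_iff.1 hc u rfl).symm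
  have hYn : orderOf Y = orderOf u := by
    rw [← Subgroup.orderOf_coe, hYu]
  obtain ⟨j0, hj0⟩ := hu
  obtain ⟨n, hn⟩ : ∃ n : ℕ, n = 2 ^ (j0 + 1) := ⟨_, rfl⟩
  have hnpos : 0 < n := by rw [hn]; exact pow_pos hp.pos _
  have hudvd : orderOf u ∣ n := by
    rw [hj0, hn]
    exact pow_dvd_pow 2 (Nat.le_succ j0)
  obtain ⟨J, hJ⟩ : ∃ J : Finset ℕ,
      J = (Finset.range n).filter (fun k => Nat.Coprime k n) := ⟨_, rfl⟩
  have hJcard : J.card = 2 ^ j0 := by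
    rw [hJ, hn, card_filter_coprime hp (Nat.succ_pos j0)]
    simp
  have hJcop : ∀ k ∈ J, Nat.Coprime k (orderOf u) := by
    intro k hk
    rw [hJ] at hk
    exact Nat.Coprime.coprime_dvd_right hudvd (Finset.mem_filter.1 hk).2
  have hHk : ∀ k ∈ J, H = Subgroup.centralizer ({u ^ k} : Set G) := by
    intro k hk
    rw [hH, centralizer_singleton_pow_of_coprime (hJcop k hk)]
  have hzk : ∀ k ∈ J, ∃ i : ℕ, orderOf (u ^ k) = 2 ^ i := by
    intro k hk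
    rw [Nat.Coprime.orderOf_pow (hJcop k hk).symm]
    exact ⟨j0, hj0⟩
  have hYk : ∀ k : ℕ, (((Y ^ k : H)) : G) = u ^ k := by
    intro k
    push_cast
    rw [hYu]
  have h1J : 1 ∈ J := by
    rw [hJ, Finset.mem_filter, Finset.mem_range]
    refine ⟨?_, Nat.coprime_one_left n⟩
    rw [hn]
    exact Nat.one_lt_two_pow (by omega)
  have hlastJ : n - 1 ∈ J := by
    rw [hJ, Finset.mem_filter, Finset.mem_range]
    refine ⟨by omega, ?_⟩
    rw [hn, Nat.coprime_pow_right_iff (Nat.succ_pos j0), Nat.coprime_two_right]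
    have h2 : 2 ∣ 2 ^ (j0 + 1) := dvd_pow_self 2 (by omega)
    obtain ⟨c, hc⟩ := h2
    refine ⟨c - 1, ?_⟩
    have hcpos : 0 < c := by
      rcases Nat.eq_zero_or_pos c with h0 | h0
      · rw [h0, mul_zero] at hc
        exact absurd hc (pow_pos hp.pos _).ne'
      · exact h0
    omega
  -- the multiplicities
  have hdecomp : ∀ φ : IrrCharacter G, ∃ m : IrrCharacter H → ℕ,
      ∀ ξ : IrrCharacter H,
        classInner (fun c : H => (φ : G → ℂ) (c : G)) (ξ : H → ℂ) = m ξ := by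
    intro φ
    obtain ⟨hm, -⟩ := isCharacter_decomp
      (isCharacter_restrict H (isCharacter_of_isIrrCharacter φ.2))
    choose m hm using hm
    exact ⟨m, hm⟩
  choose a ha using hdecomp
  obtain ⟨aZ, haZdef⟩ : ∃ aZ : IrrCharacter G → IrrCharacter H → ℤ,
      aZ = fun (χ : IrrCharacter G) (ξ : IrrCharacter H) => (a χ ξ : ℤ) := ⟨_, rfl⟩
  obtain ⟨lam, hlamdef⟩ : ∃ lam : IrrCharacter H → ℂ,
      lam = fun ξ : IrrCharacter H => cRatio (ξ : H → ℂ) Y := ⟨_, rfl⟩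
  have hlam : ∀ ξ, lam ξ ^ n = 1 := by
    intro ξ
    obtain ⟨t, ht⟩ := hudvd
    rw [hlamdef, ht, pow_mul, ← hYn]
    simp only
    rw [cRatio_pow_orderOf ξ.2 hYc, one_pow]
  obtain ⟨N, hN⟩ : ∃ N : IrrCharacter H → IrrCharacter H → ℤ, N = nRed 2 e := ⟨_, rfl⟩
  have hsymm : ∀ ξ ξ', N ξ ξ' = N ξ' ξ := by
    intro ξ ξ'
    rw [hN]
    exact nRed_symm e ξ ξ'
  obtain ⟨Q, hQ⟩ : ∃ Q : ℕ, Q = 2 ^ blockDefect 2 B := ⟨_, rfl⟩
  have hQe : Q = 2 ^ blockDefect 2 e := by rw [hQ, hdef]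
  have hQpos : 0 < Q := by
    rw [hQ]
    exact pow_pos hp.pos _
  have hQR : (0 : ℝ) < (Q : ℝ) := by exact_mod_cast hQpos
  -- the contributions as values of the form
  have hcontrib : ∀ (k : ℕ) (χ ψ : IrrCharacter G),
      ((Q : ℕ) : ℂ) * contrib 2 H (u ^ k) e (χ : G → ℂ) (ψ : G → ℂ) =
      hfc N (vk aZ lam χ k) (vk aZ lam ψ k) := by
    intro k χ ψ
    have h1 := contrib_eq_sum hM H he (Subgroup.pow_mem _ hYc k) (a χ) (a ψ) (ha χ) (ha ψ)
    rw [hYk k, ← hQe] at h1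
    rw [h1, hN]
    unfold hfc vk
    apply Finset.sum_congr rfl
    intro ξ _
    apply Finset.sum_congr rfl
    intro ξ' _
    rw [cRatio_pow ξ.2 hYc, cRatio_pow ξ'.2 hYc, hlamdef, haZdef, map_mul, map_pow, map_intCast]
    push_cast
    ring
  rw [← hQ]
  obtain ⟨l, hl⟩ : ∃ l : ℕ, l = blockRank 2 e := ⟨_, rfl⟩
  rw [← hl]
  obtain ⟨ht, hht⟩ : ∃ ht : IrrCharacter G → ℕ,
      ht = fun χ : IrrCharacter G => blockHeight 2 B (χ : G → ℂ) := ⟨_, rfl⟩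
  have hhtχ : ∀ χ : IrrCharacter G, blockHeight 2 B (χ : G → ℂ) = ht χ := by
    intro χ
    rw [hht]
  simp only [hhtχ]
  -- the real diagonal values
  obtain ⟨r, hr⟩ : ∃ r : ℕ → IrrCharacter G → ℝ, r = fun (k : ℕ) (χ : IrrCharacter G) =>
      (Q : ℝ) * pNorm 2 (etaPart H (u ^ k) e (χ : G → ℂ)) := ⟨_, rfl⟩
  have hr0 : ∀ k χ, 0 ≤ r k χ := by
    intro k χ
    rw [hr]
    exact mul_nonneg (Nat.cast_nonneg _) (pNorm_nonneg _)
  have hreal : ∀ (k : ℕ) (χ : IrrCharacter G),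
      hfc N (vk aZ lam χ k) (vk aZ lam χ k) = ((r k χ : ℝ) : ℂ) := by
    intro k χ
    rw [← hcontrib, contrib_self_eq_pNorm, hr]
    push_cast
    rfl
  -- the rows
  have hrow : ∀ k ∈ J, ∀ χ : IrrCharacter G,
      ∑ ψ : IrrCharacter G, ‖hfc N (vk aZ lam χ k) (vk aZ lam ψ k)‖ ^ 2 = (Q : ℝ) * r k χ := by
    intro k hk χ
    have h1 := sum_contrib_mul_conj hM (hzk k hk) H (hHk k hk) he (χ : G → ℂ)
    rw [contrib_self_eq_pNorm] at h1
    have h2 : ∀ ψ : IrrCharacter G, contrib 2 H (u ^ k) e (χ : G → ℂ) (ψ : G → ℂ) *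
        conj (contrib 2 H (u ^ k) e (χ : G → ℂ) (ψ : G → ℂ)) =
        ((‖contrib 2 H (u ^ k) e (χ : G → ℂ) (ψ : G → ℂ)‖ ^ 2 : ℝ) : ℂ) := by
      intro ψ
      rw [Complex.mul_conj']
      push_cast
      rfl
    rw [Finset.sum_congr rfl (fun ψ _ => h2 ψ), ← Complex.ofReal_sum] at h1
    have h3 : ∑ ψ : IrrCharacter G, ‖contrib 2 H (u ^ k) e (χ : G → ℂ) (ψ : G → ℂ)‖ ^ 2 =
        pNorm 2 (etaPart H (u ^ k) e (χ : G → ℂ)) := by exact_mod_cast h1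
    have h4 : ∀ ψ : IrrCharacter G, ‖hfc N (vk aZ lam χ k) (vk aZ lam ψ k)‖ ^ 2 =
        (Q : ℝ) ^ 2 * ‖contrib 2 H (u ^ k) e (χ : G → ℂ) (ψ : G → ℂ)‖ ^ 2 := by
      intro ψ
      rw [← hcontrib, norm_mul, mul_pow, Complex.norm_natCast]
    rw [Finset.sum_congr rfl (fun ψ _ => h4 ψ), ← Finset.mul_sum, h3, hr]
    ring
  -- the traces
  have htrace : ∀ k ∈ J, ∑ χ ∈ Finset.univ.filter (fun χ : IrrCharacter G => χ ∈ B), r k χ =
      (Q : ℝ) * (l : ℝ) := by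
    intro k hk
    have h1 := sum_contrib_self hM (hzk k hk) H (hHk k hk) hind
    rw [← Finset.sum_filter] at h1
    have h2 : ∑ χ ∈ Finset.univ.filter (fun χ : IrrCharacter G => χ ∈ B),
        contrib 2 H (u ^ k) e (χ : G → ℂ) (χ : G → ℂ) =
        ((∑ χ ∈ Finset.univ.filter (fun χ : IrrCharacter G => χ ∈ B),
          pNorm 2 (etaPart H (u ^ k) e (χ : G → ℂ)) : ℝ) : ℂ) := by
      rw [Complex.ofReal_sum]
      apply Finset.sum_congr rfl
      intro χ _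
      rw [contrib_self_eq_pNorm]
    rw [h2] at h1
    have h3 : ∑ χ ∈ Finset.univ.filter (fun χ : IrrCharacter G => χ ∈ B),
        pNorm 2 (etaPart H (u ^ k) e (χ : G → ℂ)) = (blockRank 2 e : ℝ) := by
      exact_mod_cast h1
    rw [hr, ← Finset.mul_sum, h3, hl]
  -- the Galois traces
  have hTex : ∀ χ : IrrCharacter G, ∃ T : ℤ,
      ∑ k ∈ J, r k χ = ((2 ^ j0 : ℕ) : ℝ) * (T : ℝ) ∧
      ∑ k ∈ J, ∑ x : IrrCharacter H × IrrCharacter H,
        ((aZ χ x.1 * aZ χ x.2 * N x.1 x.2 : ℤ) : ℂ) * (lam x.1 * conj (lam x.2)) ^ k =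
        ((2 ^ j0 : ℕ) : ℂ) * (T : ℂ) := by
    intro χ
    have hlam' : ∀ i, lam i ^ (2 ^ (j0 + 1)) = 1 := by
      intro i
      rw [← hn]
      exact hlam i
    obtain ⟨T, hT1, -⟩ := trace_two_parity (Nat.succ_pos j0) hsymm (aZ χ) lam hlam'
    rw [← hn, ← hJ] at hT1
    have hj : j0 + 1 - 1 = j0 := by omega
    rw [hj] at hT1
    refine ⟨T, ?_, ?_⟩
    · have h1 : ∑ k ∈ J, hfc N (fun i => (aZ χ i : ℂ) * lam i ^ k)
          (fun i => (aZ χ i : ℂ) * lam i ^ k) = ((∑ k ∈ J, r k χ : ℝ) : ℂ) := by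
        rw [Complex.ofReal_sum]
        apply Finset.sum_congr rfl
        intro k _
        exact hreal k χ
      rw [h1] at hT1
      exact_mod_cast hT1
    · rw [← hT1]
      apply Finset.sum_congr rfl
      intro k _
      exact (hfc_pow_eq_weighted N (aZ χ) (aZ χ) lam k).symm
  choose T hT1 hT2 using hTex
  have hpow0 : (0 : ℝ) < ((2 ^ j0 : ℕ) : ℝ) := by
    exact_mod_cast pow_pos hp.pos _
  have hvk1 : ∀ χ : IrrCharacter G, vk aZ lam χ 1 = fun i => (aZ χ i : ℂ) * lam i := by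
    intro χ
    funext i
    unfold vk
    rw [pow_one]
  -- the valuations
  have hval : ∀ k ∈ J, ∀ ψ₀ ∈ B, ht ψ₀ = 0 → ∀ χ ∈ B,
      MemLocalRing M (hfc N (vk aZ lam ψ₀ k) (vk aZ lam χ k) / ((2 ^ ht χ : ℕ) : ℂ)) ∧
      ¬ MemLocalIdeal M (hfc N (vk aZ lam ψ₀ k) (vk aZ lam χ k) / ((2 ^ ht χ : ℕ) : ℂ)) := by
    intro k hk ψ₀ hψ₀ hh χ hχ
    rw [hht] at hh
    have h1 := pow_mul_contrib_div_pow_height hM (hzk k hk) H (hHk k hk) hind hdef hψ₀ hχ hh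
    rw [← hQ, hcontrib] at h1
    rw [hht]
    exact h1
  have hne : ∀ k ∈ J, ∀ ψ₀ ∈ B, ht ψ₀ = 0 → ∀ χ ∈ B,
      hfc N (vk aZ lam ψ₀ k) (vk aZ lam χ k) ≠ 0 := by
    intro k hk ψ₀ hψ₀ hh χ hχ h0
    apply (hval k hk ψ₀ hψ₀ hh χ hχ).2
    rw [h0, zero_div]
    exact memLocalIdeal_zero ne_top
  -- the Galois averages of the squares of the off-diagonal entries
  have hoff : ∀ ψ₀ ∈ B, ht ψ₀ = 0 → ∀ χ ∈ B,
      (J.card : ℝ) * ((4 ^ ht χ : ℕ) : ℝ) ≤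
        ∑ k ∈ J, ‖hfc N (vk aZ lam ψ₀ k) (vk aZ lam χ k)‖ ^ 2 := by
    intro ψ₀ hψ₀ hh χ hχ
    have hμ : ∀ x : IrrCharacter H × IrrCharacter H,
        (lam x.1 * conj (lam x.2)) ^ n = 1 := by
      intro x
      rw [mul_pow, ← map_pow, hlam, hlam, map_one, mul_one]
    have hform : ∀ k, hfc N (vk aZ lam ψ₀ k) (vk aZ lam χ k) =
        ∑ x : IrrCharacter H × IrrCharacter H,
          ((aZ ψ₀ x.1 * aZ χ x.2 * N x.1 x.2 : ℤ) : ℂ) * (lam x.1 * conj (lam x.2)) ^ k := by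
      intro k
      unfold vk
      exact hfc_pow_eq_weighted N (aZ ψ₀) (aZ χ) lam k
    have hloc : ∀ k ∈ (Finset.range n).filter (fun k => Nat.Coprime k n),
        MemLocalRing M ((∑ x : IrrCharacter H × IrrCharacter H,
          ((aZ ψ₀ x.1 * aZ χ x.2 * N x.1 x.2 : ℤ) : ℂ) * (lam x.1 * conj (lam x.2)) ^ k) /
          ((2 ^ ht χ : ℕ) : ℂ)) := by
      intro k hk
      rw [← hJ] at hk
      rw [← hform]
      exact (hval k hk ψ₀ hψ₀ hh χ hχ).1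
    have hne1 : (∑ x : IrrCharacter H × IrrCharacter H,
        ((aZ ψ₀ x.1 * aZ χ x.2 * N x.1 x.2 : ℤ) : ℂ) * (lam x.1 * conj (lam x.2))) ≠ 0 := by
      have h1 := hne 1 h1J ψ₀ hψ₀ hh χ hχ
      rw [hform 1] at h1
      simpa using h1
    have hkey := card_mul_pow_le_sum_norm_weighted hM hnpos
      (fun x : IrrCharacter H × IrrCharacter H => aZ ψ₀ x.1 * aZ χ x.2 * N x.1 x.2)
      (fun x => lam x.1 * conj (lam x.2)) hμ (ht χ) hloc hne1
    rw [← hJ] at hkey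
    have hkey' : (J.card : ℝ) * (2 : ℝ) ^ ht χ ≤
        ∑ k ∈ J, ‖hfc N (vk aZ lam ψ₀ k) (vk aZ lam χ k)‖ := by
      refine le_trans (le_of_eq ?_) (hkey.trans (le_of_eq ?_))
      · norm_num
      · apply Finset.sum_congr rfl
        intro k _
        rw [hform k]
    have hcs := sq_sum_le_card_mul_sum_sq (s := J)
      (f := fun k => ‖hfc N (vk aZ lam ψ₀ k) (vk aZ lam χ k)‖)
    have hJR : (0 : ℝ) < (J.card : ℝ) := by
      rw [hJcard]
      exact_mod_cast pow_pos hp.pos _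
    have hA : ((J.card : ℝ) * (2 : ℝ) ^ ht χ) ^ 2 ≤
        (J.card : ℝ) * ∑ k ∈ J, ‖hfc N (vk aZ lam ψ₀ k) (vk aZ lam χ k)‖ ^ 2 := by
      calc ((J.card : ℝ) * (2 : ℝ) ^ ht χ) ^ 2 ≤
            (∑ k ∈ J, ‖hfc N (vk aZ lam ψ₀ k) (vk aZ lam χ k)‖) ^ 2 := by
              apply pow_le_pow_left₀ _ hkey'
              positivity
        _ ≤ _ := hcs
    have hB' : (J.card : ℝ) * ((J.card : ℝ) * ((4 ^ ht χ : ℕ) : ℝ)) ≤
        (J.card : ℝ) * ∑ k ∈ J, ‖hfc N (vk aZ lam ψ₀ k) (vk aZ lam χ k)‖ ^ 2 := by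
      refine le_trans (le_of_eq ?_) hA
      push_cast
      have : (4 : ℝ) ^ ht χ = ((2 : ℝ) ^ ht χ) ^ 2 := by
        rw [← pow_mul, mul_comm, pow_mul]
        norm_num
      rw [this]
      ring
    exact le_of_mul_le_mul_left hB' hJR
  have hnormsymm : ∀ (k : ℕ) (χ ψ : IrrCharacter G),
      ‖hfc N (vk aZ lam χ k) (vk aZ lam ψ k)‖ = ‖hfc N (vk aZ lam ψ k) (vk aZ lam χ k)‖ := by
    intro k χ ψ
    rw [hfc_conj_symm hsymm (vk aZ lam χ k) (vk aZ lam ψ k), Complex.norm_conj]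
  -- the diagonal: the square of the average is at most the average of the squares
  have hdiag : ∀ χ : IrrCharacter G, (J.card : ℝ) * ((T χ : ℝ)) ^ 2 ≤
      ∑ k ∈ J, ‖hfc N (vk aZ lam χ k) (vk aZ lam χ k)‖ ^ 2 := by
    intro χ
    have hcs := sq_sum_le_card_mul_sum_sq (s := J) (f := fun k => r k χ)
    rw [hT1 χ, ← hJcard] at hcs
    have hJR : (0 : ℝ) < (J.card : ℝ) := by
      rw [hJcard]
      exact_mod_cast pow_pos hp.pos _
    have h1 : ∀ k ∈ J, ‖hfc N (vk aZ lam χ k) (vk aZ lam χ k)‖ ^ 2 = r k χ ^ 2 := by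
      intro k _
      rw [hreal, Complex.norm_real, Real.norm_eq_abs, sq_abs]
    rw [Finset.sum_congr rfl h1]
    have h2 : (J.card : ℝ) * ((J.card : ℝ) * (T χ : ℝ) ^ 2) ≤
        (J.card : ℝ) * ∑ k ∈ J, r k χ ^ 2 := by
      refine le_trans (le_of_eq ?_) hcs
      ring
    exact le_of_mul_le_mul_left h2 hJR
  -- the general row inequality
  have hrowT : ∀ (χ : IrrCharacter G) (S : Finset (IrrCharacter G)), χ ∉ S →
      (c : IrrCharacter G → ℕ) →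
      (∀ ψ ∈ S, (J.card : ℝ) * (c ψ : ℝ) ≤
        ∑ k ∈ J, ‖hfc N (vk aZ lam χ k) (vk aZ lam ψ k)‖ ^ 2) →
      T χ ^ 2 + ∑ ψ ∈ S, (c ψ : ℤ) ≤ (Q : ℤ) * T χ := by
    intro χ S hχS c hc
    have hJR : (0 : ℝ) < (J.card : ℝ) := by
      rw [hJcard]
      exact_mod_cast pow_pos hp.pos _
    have e1 : (J.card : ℝ) * ((T χ : ℝ) ^ 2 + ∑ ψ ∈ S, (c ψ : ℝ)) ≤
        ∑ ψ ∈ insert χ S, ∑ k ∈ J, ‖hfc N (vk aZ lam χ k) (vk aZ lam ψ k)‖ ^ 2 := by
      rw [Finset.sum_insert hχS, mul_add, Finset.mul_sum]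
      exact add_le_add (hdiag χ) (Finset.sum_le_sum hc)
    have e2 : ∑ ψ ∈ insert χ S, ∑ k ∈ J, ‖hfc N (vk aZ lam χ k) (vk aZ lam ψ k)‖ ^ 2 ≤
        ∑ k ∈ J, (Q : ℝ) * r k χ := by
      rw [Finset.sum_comm]
      apply Finset.sum_le_sum
      intro k hk
      rw [← hrow k hk χ]
      exact Finset.sum_le_sum_of_subset_of_nonneg (Finset.subset_univ _)
        (fun ψ _ _ => sq_nonneg _)
    have e3 : ∑ k ∈ J, (Q : ℝ) * r k χ = (J.card : ℝ) * ((Q : ℝ) * (T χ : ℝ)) := by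
      rw [← Finset.mul_sum, hT1 χ, hJcard]
      ring
    have e4 : (T χ : ℝ) ^ 2 + ∑ ψ ∈ S, (c ψ : ℝ) ≤ (Q : ℝ) * (T χ : ℝ) := by
      apply le_of_mul_le_mul_left _ hJR
      calc _ ≤ _ := e1
        _ ≤ _ := e2
        _ = _ := e3
    have e5 : ((T χ ^ 2 + ∑ ψ ∈ S, (c ψ : ℤ) : ℤ) : ℝ) ≤ (((Q : ℤ) * T χ : ℤ) : ℝ) := by
      push_cast
      exact e4
    exact_mod_cast e5
  -- the local integrality of the diagonal
  have hT2' : ∀ χ : IrrCharacter G, ∑ k ∈ (Finset.range (2 ^ (j0 + 1))).filter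
      (fun k => Nat.Coprime k (2 ^ (j0 + 1))), ∑ x : IrrCharacter H × IrrCharacter H,
        ((aZ χ x.1 * aZ χ x.2 * N x.1 x.2 : ℤ) : ℂ) * (lam x.1 * conj (lam x.2)) ^ k =
        ((2 ^ j0 : ℕ) : ℂ) * (T χ : ℂ) := by
    intro χ
    rw [← hn, ← hJ]
    exact hT2 χ
  have hμ' : ∀ x : IrrCharacter H × IrrCharacter H,
      (lam x.1 * conj (lam x.2)) ^ (2 ^ (j0 + 1)) = 1 := by
    intro x
    rw [← hn, mul_pow, ← map_pow, hlam, hlam, map_one, mul_one]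
  have hform1 : ∀ χ : IrrCharacter G, hfc N (vk aZ lam χ 1) (vk aZ lam χ 1) =
      ∑ x : IrrCharacter H × IrrCharacter H,
        ((aZ χ x.1 * aZ χ x.2 * N x.1 x.2 : ℤ) : ℂ) * (lam x.1 * conj (lam x.2)) := by
    intro χ
    have h1 := hfc_pow_eq_weighted N (aZ χ) (aZ χ) lam 1
    simp only [pow_one] at h1
    rw [hvk1]
    exact h1
  have hreal1 : ∀ χ : IrrCharacter G, conj (∑ x : IrrCharacter H × IrrCharacter H,
      ((aZ χ x.1 * aZ χ x.2 * N x.1 x.2 : ℤ) : ℂ) * (lam x.1 * conj (lam x.2))) =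
      ∑ x : IrrCharacter H × IrrCharacter H,
        ((aZ χ x.1 * aZ χ x.2 * N x.1 x.2 : ℤ) : ℂ) * (lam x.1 * conj (lam x.2)) := by
    intro χ
    rw [← hform1, hreal, Complex.conj_ofReal]
  -- an element of height zero
  obtain ⟨ψ₁, hψ₁, hh₁⟩ := exists_height_zero hM hB
  have hh₁' : ht ψ₁ = 0 := by rw [hht]; exact hh₁
  refine ⟨T, ?_, ?_, ?_, ?_, ?_, ?_⟩
  · -- the sum
    intro S hS
    have hSeq : S = Finset.univ.filter (fun χ : IrrCharacter G => χ ∈ B) := by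
      ext χ
      rw [hS χ, Finset.mem_filter]
      simp
    have e1 : ∑ χ ∈ S, ((2 ^ j0 : ℕ) : ℝ) * (T χ : ℝ) = ∑ k ∈ J, (Q : ℝ) * (l : ℝ) := by
      rw [Finset.sum_congr rfl (fun χ _ => (hT1 χ).symm), Finset.sum_comm, hSeq]
      exact Finset.sum_congr rfl htrace
    rw [Finset.sum_const, hJcard, nsmul_eq_mul, ← Finset.mul_sum] at e1
    have e2 : (∑ χ ∈ S, (T χ : ℝ)) = (Q : ℝ) * (l : ℝ) := by
      have h2 : ((2 ^ j0 : ℕ) : ℝ) ≠ 0 := hpow0.ne'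
      exact mul_left_cancel₀ h2 e1
    have e3 : ((∑ χ ∈ S, T χ : ℤ) : ℝ) = (((Q * l : ℕ) : ℤ) : ℝ) := by
      push_cast
      exact e2
    exact_mod_cast e3
  · -- positivity
    intro χ hχ
    have h1 : ∀ k ∈ J, 0 < r k χ := by
      intro k hk
      have h2 := hne k hk ψ₁ hψ₁ hh₁' χ hχ
      have h3 : 0 < ‖hfc N (vk aZ lam χ k) (vk aZ lam ψ₁ k)‖ ^ 2 := by
        rw [hnormsymm]
        exact pow_pos (norm_pos_iff.2 h2) 2
      have h4 := Finset.single_le_sum (f := fun ψ : IrrCharacter G =>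
        ‖hfc N (vk aZ lam χ k) (vk aZ lam ψ k)‖ ^ 2) (fun ψ _ => sq_nonneg _)
        (Finset.mem_univ ψ₁)
      rw [hrow k hk χ] at h4
      by_contra hcon
      push Not at hcon
      have : (Q : ℝ) * r k χ ≤ 0 := mul_nonpos_of_nonneg_of_nonpos hQR.le hcon
      linarith
    have h2 : 0 < ∑ k ∈ J, r k χ :=
      Finset.sum_pos h1 ⟨1, h1J⟩
    rw [hT1 χ] at h2
    have h3 : (0 : ℝ) < (T χ : ℝ) := by
      by_contra hcon
      push Not at hcon
      have : ((2 ^ j0 : ℕ) : ℝ) * (T χ : ℝ) ≤ 0 := mul_nonpos_of_nonneg_of_nonpos hpow0.le hcon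
      linarith
    exact_mod_cast h3
  · -- height zero: odd
    intro χ hχ hh hdvd
    have hunit := (hval 1 h1J χ hχ hh χ hχ).2
    have hR := (hval 1 h1J χ hχ hh χ hχ).1
    rw [hh, pow_zero, Nat.cast_one, div_one, hform1] at hunit hR
    have hR' : MemLocalRing M ((∑ x : IrrCharacter H × IrrCharacter H,
        ((aZ χ x.1 * aZ χ x.2 * N x.1 x.2 : ℤ) : ℂ) * (lam x.1 * conj (lam x.2))) /
        ((2 ^ 0 : ℕ) : ℂ)) := by
      rw [pow_zero, Nat.cast_one, div_one]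
      exact hR
    obtain ⟨T', hTT', hmem⟩ := trace_div_pow hM
      (fun x : IrrCharacter H × IrrCharacter H => aZ χ x.1 * aZ χ x.2 * N x.1 x.2)
      (fun x => lam x.1 * conj (lam x.2)) hμ' 0 (T χ) (hT2' χ) (hreal1 χ) hR'
    rw [pow_zero, Nat.cast_one, div_one] at hmem
    rw [pow_zero, Nat.cast_one, one_mul] at hTT'
    apply hunit
    have h4 : MemLocalIdeal M ((T' : ℤ) : ℂ) :=
      (memLocalIdeal_intCast_iff hM _).2 (by rw [← hTT']; exact_mod_cast hdvd)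
    have := memLocalIdeal_add hmem h4
    rwa [sub_add_cancel] at this
  · -- positive height
    intro χ hχ hh
    -- the off-diagonal entry with an element of height zero
    have hswap := hfc_vk_swap hsymm aZ lam hnpos hlam χ ψ₁
    have hoffR := (hval (n - 1) hlastJ ψ₁ hψ₁ hh₁' χ hχ).1
    rw [← hswap] at hoffR
    -- the congruence of the normalized contributions
    have hs : SameBlock M (χ : G → ℂ) (ψ₁ : G → ℂ) := sameBlock_of_mem hB hχ hψ₁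
    have hcong := memLocalIdeal_contrib_div_sub hM ⟨j0, hj0⟩ H hH he
      (isCharacter_of_isIrrCharacter χ.2) hs
    have hc1 : ∀ ψ : IrrCharacter G, contrib 2 H u e (χ : G → ℂ) (ψ : G → ℂ) =
        hfc N (vk aZ lam χ 1) (vk aZ lam ψ 1) / (Q : ℂ) := by
      intro ψ
      have h1 := hcontrib 1 χ ψ
      rw [pow_one] at h1
      rw [← h1]
      have : ((Q : ℕ) : ℂ) ≠ 0 := by exact_mod_cast hQpos.ne'
      field_simp
    rw [hc1 χ, hc1 ψ₁] at hcong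
    obtain ⟨ρχ, hρχ⟩ : ∃ ρχ : ℂ, ρχ = rhoFac 2 B χ := ⟨_, rfl⟩
    obtain ⟨ρ₁, hρ₁⟩ : ∃ ρ₁ : ℂ, ρ₁ = rhoFac 2 B ψ₁ := ⟨_, rfl⟩
    have hρχ1 := rhoFac_div_pow_height hM hχ
    have hρ₁1 := rhoFac_div_pow_height hM hψ₁
    rw [hh₁, pow_zero, Nat.cast_one, div_one, ← hρ₁] at hρ₁1
    rw [← hρχ, hhtχ] at hρχ1
    have hQ0 : ((Q : ℕ) : ℂ) ≠ 0 := by exact_mod_cast hQpos.ne'
    have hG0 : (Nat.card G : ℂ) ≠ 0 := by exact_mod_cast (Nat.card_pos (α := G)).ne'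
    have hχ1 : (χ : G → ℂ) 1 ≠ 0 := irr_one_ne_zero χ.2
    have hψ1 : (ψ₁ : G → ℂ) 1 ≠ 0 := irr_one_ne_zero ψ₁.2
    have hρχ0 : ρχ ≠ 0 := by
      rw [hρχ]
      unfold rhoFac
      rw [← hQ]
      exact div_ne_zero (mul_ne_zero hQ0 hχ1) hG0
    have hρ₁0 : ρ₁ ≠ 0 := by
      rw [hρ₁]
      unfold rhoFac
      rw [← hQ]
      exact div_ne_zero (mul_ne_zero hQ0 hψ1) hG0
    have hX1 : (Nat.card G : ℂ) * (hfc N (vk aZ lam χ 1) (vk aZ lam χ 1) / (Q : ℂ)) /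
        (χ : G → ℂ) 1 = hfc N (vk aZ lam χ 1) (vk aZ lam χ 1) / ρχ := by
      rw [hρχ]
      unfold rhoFac
      rw [← hQ]
      field_simp
    have hX2 : (Nat.card G : ℂ) * (hfc N (vk aZ lam χ 1) (vk aZ lam ψ₁ 1) / (Q : ℂ)) /
        (ψ₁ : G → ℂ) 1 = hfc N (vk aZ lam χ 1) (vk aZ lam ψ₁ 1) / ρ₁ := by
      rw [hρ₁]
      unfold rhoFac
      rw [← hQ]
      field_simp
    rw [hX1, hX2] at hcong
    have h2pow : ((2 ^ ht χ : ℕ) : ℂ) ≠ 0 := by exact_mod_cast (pow_pos hp.pos _).ne'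
    have h2I : MemLocalIdeal M ((2 ^ ht χ : ℕ) : ℂ) := by
      rw [hht] at hh ⊢
      simp only at hh ⊢
      obtain ⟨m, hm⟩ : ∃ m, blockHeight 2 B (χ : G → ℂ) = m + 1 := ⟨_, (Nat.succ_pred_eq_of_pos hh).symm⟩
      rw [hm, pow_succ]
      push_cast
      exact memLocalIdeal_mul_left (memLocalRing_pow (memLocalRing_natCast 2) m)
        (by exact_mod_cast memLocalIdeal_prime hM)
    have hX2I : MemLocalIdeal M (hfc N (vk aZ lam χ 1) (vk aZ lam ψ₁ 1) / ρ₁) := by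
      have : hfc N (vk aZ lam χ 1) (vk aZ lam ψ₁ 1) / ρ₁ =
          ((2 ^ ht χ : ℕ) : ℂ) * ((hfc N (vk aZ lam χ 1) (vk aZ lam ψ₁ 1) /
            ((2 ^ ht χ : ℕ) : ℂ)) * ρ₁⁻¹) := by
        field_simp
      rw [this]
      exact memLocalIdeal_mul_right h2I
        (memLocalRing_mul hoffR (memLocalRing_inv hρ₁1.1 hρ₁1.2))
    have hX1I : MemLocalIdeal M (hfc N (vk aZ lam χ 1) (vk aZ lam χ 1) / ρχ) := by
      have := memLocalIdeal_add hcong hX2I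
      rwa [sub_add_cancel] at this
    have hγI : MemLocalIdeal M (hfc N (vk aZ lam χ 1) (vk aZ lam χ 1) /
        ((2 ^ ht χ : ℕ) : ℂ)) := by
      have : hfc N (vk aZ lam χ 1) (vk aZ lam χ 1) / ((2 ^ ht χ : ℕ) : ℂ) =
          (hfc N (vk aZ lam χ 1) (vk aZ lam χ 1) / ρχ) * (ρχ / ((2 ^ ht χ : ℕ) : ℂ)) := by
        field_simp
      rw [this]
      exact memLocalIdeal_mul_right hX1I hρχ1.1
    rw [hform1] at hγI
    obtain ⟨T', hTT', hmem⟩ := trace_div_pow hM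
      (fun x : IrrCharacter H × IrrCharacter H => aZ χ x.1 * aZ χ x.2 * N x.1 x.2)
      (fun x => lam x.1 * conj (lam x.2)) hμ' (ht χ) (T χ) (hT2' χ) (hreal1 χ)
      (memLocalRing_of_memLocalIdeal hγI)
    have hT'I : MemLocalIdeal M ((T' : ℤ) : ℂ) := by
      have := memLocalIdeal_sub hγI hmem
      rwa [sub_sub_cancel] at this
    have hT'dvd : (2 : ℤ) ∣ T' := by
      have := (memLocalIdeal_intCast_iff hM T').1 hT'I
      exact_mod_cast this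
    obtain ⟨c, hc⟩ := hT'dvd
    refine ⟨c, ?_⟩
    rw [hTT', hc, pow_succ]
    push_cast
    ring
  · -- the row of an element of height zero
    intro χ hχ hh S hSB hχS
    have h1 := hrowT χ S hχS (fun ψ => 4 ^ ht ψ) (fun ψ hψ => hoff χ hχ hh ψ (hSB ψ hψ))
    exact h1
  · -- the row of an arbitrary element
    intro χ hχ ψ₀ hψ₀ hh0 hne0
    have hχS : χ ∉ ({ψ₀} : Finset (IrrCharacter G)) := by
      rw [Finset.mem_singleton]
      exact fun h => hne0 h.symm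
    have h1 := hrowT χ {ψ₀} hχS (fun _ => 4 ^ ht χ) (by
      intro ψ hψ
      rw [Finset.mem_singleton] at hψ
      rw [hψ]
      have h2 := hoff ψ₀ hψ₀ hh0 χ hχ
      refine h2.trans (le_of_eq ?_)
      apply Finset.sum_congr rfl
      intro k _
      rw [hnormsymm])
    rw [Finset.sum_singleton] at h1
    exact h1

end Data

end Cfsg.Agent.Helper18.OlssonTwo
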