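import Mathlib

/-!
# Arithmetic of the averaged diagonal contributions of a major subsection of a `2`-block
(helper18's shared library)
-/

set_option autoImplicit false
set_option linter.unusedSectionVars false
set_option linter.style.haveILetI false

namespace Cfsg.Agent.Helper18.OlssonTwo

/-- rank at most three: the weighted count is at most `3 * 2 ^ d` -/
theorem arith_rank_le_three {ι : Type*} [DecidableEq ι] (S : Finset ι) (T : ι → ℤ) (h : ι → ℕ)
    (d l : ℕ)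
    (h1 : ∑ χ ∈ S, T χ = ((2 ^ d * l : ℕ) : ℤ))
    (h2 : ∀ χ ∈ S, 0 < T χ)
    (h3 : ∀ χ ∈ S, h χ = 0 → ¬ (2 : ℤ) ∣ T χ)
    (h4 : ∀ χ ∈ S, 1 ≤ h χ → ((2 ^ (h χ + 1) : ℕ) : ℤ) ∣ T χ)
    (h5 : ∀ χ ∈ S, h χ = 0 → ∀ S' : Finset ι, S' ⊆ S → χ ∉ S' →
      T χ ^ 2 + ∑ ψ ∈ S', ((4 ^ h ψ : ℕ) : ℤ) ≤ ((2 ^ d : ℕ) : ℤ) * T χ)
    (hl : l ≤ 3) :
    3 * (S.filter (fun χ => h χ = 0)).card + 2 * ∑ χ ∈ S.filter (fun χ => 1 ≤ h χ), 2 ^ h χ ≤
      3 * 2 ^ d := by
  classical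
  have hLHS : 3 * (S.filter (fun χ => h χ = 0)).card +
      2 * ∑ χ ∈ S.filter (fun χ => 1 ≤ h χ), 2 ^ h χ
      = ∑ χ ∈ S, (if h χ = 0 then 3 else 2 * 2 ^ h χ) := by
    rw [← Finset.sum_filter_add_sum_filter_not S (fun χ => h χ = 0)]
    congr 1
    · rw [Finset.sum_congr rfl (fun χ hχ => if_pos (Finset.mem_filter.1 hχ).2), Finset.sum_const,
        smul_eq_mul, mul_comm]
    · rw [Finset.mul_sum]
      have hfil : S.filter (fun χ => 1 ≤ h χ) = S.filter (fun χ => ¬ h χ = 0) := by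
        apply Finset.filter_congr
        intro χ _
        omega
      rw [hfil]
      exact Finset.sum_congr rfl (fun χ hχ => (if_neg (Finset.mem_filter.1 hχ).2).symm)
  rw [hLHS]
  obtain ⟨A, hA⟩ : ∃ A : ℤ, A = ((2 ^ d : ℕ) : ℤ) := ⟨_, rfl⟩
  rw [← hA] at h5
  rw [Nat.cast_mul, ← hA] at h1
  have hApos : 1 ≤ A := by
    rw [hA]
    exact_mod_cast Nat.one_le_two_pow
  have hcast : ((∑ χ ∈ S, (if h χ = 0 then 3 else 2 * 2 ^ h χ) : ℕ) : ℤ) =
      ∑ χ ∈ S, ((if h χ = 0 then 3 else 2 * 2 ^ h χ : ℕ) : ℤ) := by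
    rw [Nat.cast_sum]
  have key : ((∑ χ ∈ S, (if h χ = 0 then 3 else 2 * 2 ^ h χ) : ℕ) : ℤ) ≤ 3 * A := by
    rw [hcast]
    by_cases hI : ∃ χ₀ ∈ S, h χ₀ = 0 ∧ T χ₀ = 1
    · obtain ⟨χ₀, hχ₀, hh0, hT0⟩ := hI
      have h5' := h5 χ₀ hχ₀ hh0 (S.erase χ₀) (Finset.erase_subset _ _) (Finset.notMem_erase _ _)
      rw [hT0] at h5'
      have hsum : ∑ ψ ∈ S, ((4 ^ h ψ : ℕ) : ℤ) ≤ A := by
        rw [← Finset.add_sum_erase S _ hχ₀, hh0]
        have : ((4 ^ 0 : ℕ) : ℤ) = 1 := by norm_num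
        rw [this]
        linarith
      calc ∑ χ ∈ S, ((if h χ = 0 then 3 else 2 * 2 ^ h χ : ℕ) : ℤ)
          ≤ ∑ χ ∈ S, 3 * ((4 ^ h χ : ℕ) : ℤ) := by
            apply Finset.sum_le_sum
            intro χ _
            have hnat : (if h χ = 0 then 3 else 2 * 2 ^ h χ : ℕ) ≤ 3 * 4 ^ h χ := by
              by_cases hh : h χ = 0
              · rw [if_pos hh, hh]
                norm_num
              · rw [if_neg hh]
                have h24 : 2 ^ h χ ≤ 4 ^ h χ := Nat.pow_le_pow_left (by norm_num) _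
                generalize 2 ^ h χ = a at h24 ⊢
                generalize 4 ^ h χ = b at h24 ⊢
                omega
            exact_mod_cast hnat
        _ = 3 * ∑ χ ∈ S, ((4 ^ h χ : ℕ) : ℤ) := by rw [Finset.mul_sum]
        _ ≤ 3 * A := by linarith
    · push Not at hI
      calc ∑ χ ∈ S, ((if h χ = 0 then 3 else 2 * 2 ^ h χ : ℕ) : ℤ)
          ≤ ∑ χ ∈ S, T χ := by
            apply Finset.sum_le_sum
            intro χ hχ
            by_cases hh : h χ = 0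
            · rw [if_pos hh]
              have hpos := h2 χ hχ
              have hodd := h3 χ hχ hh
              have hne := hI χ hχ hh
              push_cast
              omega
            · rw [if_neg hh]
              have hh' : 1 ≤ h χ := by omega
              have hle := Int.le_of_dvd (h2 χ hχ) (h4 χ hχ hh')
              have : ((2 ^ (h χ + 1) : ℕ) : ℤ) = ((2 * 2 ^ h χ : ℕ) : ℤ) := by
                rw [pow_succ, mul_comm]
              rw [← this]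
              exact hle
        _ = A * l := h1
        _ ≤ 3 * A := by
            have hl' : (l : ℤ) ≤ 3 := by exact_mod_cast hl
            nlinarith
  rw [hA] at key
  exact_mod_cast key

/-- `k ≤ l + 3` forces `k ≤ 2 ^ d` -/
theorem arith_card_sub_rank_le_three {ι : Type*} [DecidableEq ι] (S : Finset ι) (T : ι → ℤ)
    (h : ι → ℕ) (d l : ℕ)
    (h1 : ∑ χ ∈ S, T χ = ((2 ^ d * l : ℕ) : ℤ))
    (h2 : ∀ χ ∈ S, 0 < T χ)
    (h3 : ∀ χ ∈ S, h χ = 0 → ¬ (2 : ℤ) ∣ T χ)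
    (h4 : ∀ χ ∈ S, 1 ≤ h χ → ((2 ^ (h χ + 1) : ℕ) : ℤ) ∣ T χ)
    (h5 : ∀ χ ∈ S, h χ = 0 → ∀ S' : Finset ι, S' ⊆ S → χ ∉ S' →
      T χ ^ 2 + ∑ ψ ∈ S', ((4 ^ h ψ : ℕ) : ℤ) ≤ ((2 ^ d : ℕ) : ℤ) * T χ)
    (h6 : ∀ χ ∈ S, ∀ ψ₀ ∈ S, h ψ₀ = 0 → ψ₀ ≠ χ →
      T χ ^ 2 + ((4 ^ h χ : ℕ) : ℤ) ≤ ((2 ^ d : ℕ) : ℤ) * T χ)
    (h0 : S.Nonempty → ∃ χ ∈ S, h χ = 0)
    (hk : S.card ≤ l + 3) : S.card ≤ 2 ^ d := by
  classical
  obtain ⟨A, hA⟩ : ∃ A : ℤ, A = ((2 ^ d : ℕ) : ℤ) := ⟨_, rfl⟩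
  rw [← hA] at h5 h6
  rw [Nat.cast_mul, ← hA] at h1
  have hApos : 1 ≤ A := by
    rw [hA]
    exact_mod_cast Nat.one_le_two_pow
  by_cases hk2 : S.card ≤ 1
  · exact le_trans hk2 Nat.one_le_two_pow
  push Not at hk2
  have hne : S.Nonempty := Finset.card_pos.1 (by omega)
  obtain ⟨χ₁, hχ₁, hh1⟩ := h0 hne
  have herase : ∀ χ ∈ S, ((S.card : ℤ) - 1) ≤ ∑ ψ ∈ S.erase χ, ((4 ^ h ψ : ℕ) : ℤ) := by
    intro χ hχ
    have hc : ((S.erase χ).card : ℤ) = (S.card : ℤ) - 1 := by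
      rw [Finset.card_erase_of_mem hχ]
      have := Finset.card_pos.2 ⟨χ, hχ⟩
      omega
    rw [← hc]
    calc ((S.erase χ).card : ℤ) = ∑ ψ ∈ S.erase χ, (1 : ℤ) := by
          rw [Finset.sum_const, nsmul_eq_mul, mul_one]
      _ ≤ _ := Finset.sum_le_sum (fun ψ _ => by
          exact_mod_cast Nat.one_le_pow _ _ (by norm_num))
  by_cases hI : ∃ χ₀ ∈ S, h χ₀ = 0 ∧ T χ₀ = A - 1
  · obtain ⟨χ₀, hχ₀, hh0, hT0⟩ := hI
    have h5' := h5 χ₀ hχ₀ hh0 (S.erase χ₀) (Finset.erase_subset _ _) (Finset.notMem_erase _ _)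
    have he := herase χ₀ hχ₀
    rw [hT0] at h5'
    have hfin : (S.card : ℤ) ≤ A := by nlinarith
    rw [hA] at hfin
    exact_mod_cast hfin
  push Not at hI
  have hk2' : (2 : ℤ) ≤ S.card := by exact_mod_cast hk2
  have hge : ∀ χ ∈ S, 3 ≤ A - T χ := by
    intro χ hχ
    by_cases hh : h χ = 0
    · have h5' := h5 χ hχ hh (S.erase χ) (Finset.erase_subset _ _) (Finset.notMem_erase _ _)
      have he := herase χ hχ
      have hTpos := h2 χ hχ
      have hlt : T χ < A := by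
        by_contra hcon
        push Not at hcon
        nlinarith
      have hodd := h3 χ hχ hh
      have hne1 := hI χ hχ hh
      have hd : 1 ≤ d := by
        by_contra hd0
        push Not at hd0
        have hd00 : d = 0 := by omega
        rw [hA, hd00] at hlt
        norm_num at hlt
        omega
      have hAeven : (2 : ℤ) ∣ A := by
        rw [hA]
        obtain ⟨d', rfl⟩ := Nat.exists_eq_add_of_le hd
        refine ⟨((2 ^ d' : ℕ) : ℤ), ?_⟩
        push_cast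
        ring
      omega
    · have hh' : 1 ≤ h χ := by omega
      have h6' := h6 χ hχ χ₁ hχ₁ hh1 (by
        rintro rfl
        exact hh hh1)
      have hTpos := h2 χ hχ
      have h4' := h4 χ hχ hh'
      have h4dvd : (4 : ℤ) ∣ T χ := by
        refine dvd_trans ?_ h4'
        obtain ⟨m, hm⟩ := Nat.exists_eq_add_of_le hh'
        rw [hm]
        refine ⟨((2 ^ m : ℕ) : ℤ), ?_⟩
        push_cast
        ring
      have hpow : (1 : ℤ) ≤ ((4 ^ h χ : ℕ) : ℤ) := by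
        exact_mod_cast Nat.one_le_pow _ _ (by norm_num)
      have hlt : T χ < A := by
        by_contra hcon
        push Not at hcon
        nlinarith
      have hT4 : 4 ≤ T χ := Int.le_of_dvd hTpos h4dvd
      have hd : 2 ≤ d := by
        by_contra hd0
        push Not at hd0
        have hle2 : (2 : ℕ) ^ d ≤ 2 ^ 1 := Nat.pow_le_pow_right (by norm_num) (by omega)
        have hA2 : A ≤ 2 := by
          rw [hA]
          exact_mod_cast hle2
        omega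
      have hA4 : (4 : ℤ) ∣ A := by
        rw [hA]
        obtain ⟨d', rfl⟩ := Nat.exists_eq_add_of_le hd
        refine ⟨((2 ^ d' : ℕ) : ℤ), ?_⟩
        push_cast
        ring
      omega
  have hsum : 3 * (S.card : ℤ) ≤ ∑ χ ∈ S, (A - T χ) := by
    calc 3 * (S.card : ℤ) = ∑ χ ∈ S, (3 : ℤ) := by
          rw [Finset.sum_const, nsmul_eq_mul, mul_comm]
      _ ≤ _ := Finset.sum_le_sum hge
  rw [Finset.sum_sub_distrib, h1, Finset.sum_const, nsmul_eq_mul] at hsum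
  have hk' : (S.card : ℤ) ≤ l + 3 := by exact_mod_cast hk
  have hprod := mul_nonneg (sub_nonneg.2 hk') (le_trans zero_le_one hApos)
  have hfin : (S.card : ℤ) ≤ A := by nlinarith
  rw [hA] at hfin
  exact_mod_cast hfin

end Cfsg.Agent.Helper18.OlssonTwo
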