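import Mathlib
import Cfsg.Prelude.Def_Blocks
import Cfsg.Agent.Lib.Helper18.GaloisConj
import Cfsg.Agent.Lib.Helper18.CliffordCorr2
import Cfsg.Agent.Lib.Helper23.PrincipalQuot
import Cfsg.Agent.Lib.Helper24.OddIndexReal
import Cfsg.Agent.Lib.Helper24.CharLinear
import Cfsg.Agent.Lib.Helper5.Gallagher

/-!
# Characters fixed by a Galois automorphism of 2-power order over normal subgroups of odd index
(helper18's library), part 1: parity existence and the action on characters of the quotient
-/

set_option autoImplicit false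
set_option linter.style.haveILetI false
set_option linter.unusedVariables false
set_option linter.unusedSectionVars false

namespace Cfsg.Agent.Helper18.SigmaOdd

open Cfsg Cfsg.Agent.Helper24 Cfsg.Agent.Helper5 Cfsg.Agent.Helper23.Blk
open scoped ComplexConjugate

universe u

/-- a self-map of `2`-power order of a set of odd size has a fixed point -/
theorem exists_fixed_of_odd {X : Type*} [Fintype X] (f : X → X) (e : ℕ)
    (hf : ∀ x, f^[2 ^ e] x = x) (hodd : Odd (Fintype.card X)) : ∃ x, f x = x := by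
  classical
  haveI : Fact (Nat.Prime 2) := ⟨Nat.prime_two⟩
  let F : Function.End X := f
  have hF : F ^ 2 ^ e = 1 := by
    have hcoe : ((F ^ 2 ^ e : Function.End X) : X → X) = f^[2 ^ e] :=
      hom_coe_pow (fun g : Function.End X ↦ (g : X → X)) rfl (fun g h ↦ rfl) F (2 ^ e)
    have hid : ((F ^ 2 ^ e : Function.End X) : X → X) = (id : X → X) := by
      rw [hcoe]
      funext x
      exact hf x
    exact hid
  have hmod : Fintype.card X ≡ Fintype.card (Function.fixedPoints f) [MOD 2] :=
    Equiv.Perm.card_fixedPoints_modEq (p := 2) hF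
  have hne : Fintype.card (Function.fixedPoints f) ≠ 0 := by
    intro h0
    rw [h0] at hmod
    have h1 := Nat.odd_iff.1 hodd
    have h2 : Fintype.card X % 2 = 0 % 2 := hmod
    omega
  obtain ⟨x⟩ := Fintype.card_pos_iff.1 (Nat.pos_of_ne_zero hne)
  exact ⟨x.1, x.2⟩

section Quot

variable {G : Type u} [Group G] [Finite G]

/-- modulo a normal subgroup of odd index, `g ^ k` is the inverse of `g` -/
theorem pow_mul_mem (N : Subgroup G) [N.Normal] (hodd : Odd N.index) {k : ℕ}
    (hinv : ∀ g : G, Odd (orderOf g) → g ^ k = g⁻¹) (g : G) : g ^ k * g ∈ N := by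
  have ho : orderOf g ≠ 0 := (orderOf_pos g).ne'
  obtain ⟨i, m, hm, hom⟩ := Nat.exists_eq_two_pow_mul_odd ho
  have h2i0 : (2 : ℕ) ^ i ≠ 0 := by positivity
  have ho2 : orderOf (g ^ 2 ^ i) = m := by
    rw [orderOf_pow_of_dvd h2i0 (by rw [hom]; exact dvd_mul_right _ _), hom,
      Nat.mul_div_cancel_left _ (Nat.pos_of_ne_zero h2i0)]
  have h1 := hinv (g ^ 2 ^ i) (by rw [ho2]; exact hm)
  have h2 : (g ^ k * g) ^ 2 ^ i = 1 := by
    have h3 : g ^ k * g = g ^ (k + 1) := (pow_succ g k).symm
    rw [h3, ← pow_mul, mul_comm, pow_mul, pow_succ, h1, inv_mul_cancel]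
  have h4 : ((g ^ k * g : G) : G ⧸ N) ^ 2 ^ i = 1 := by
    rw [← QuotientGroup.mk_pow, h2]
    rfl
  have d1 := orderOf_dvd_of_pow_eq_one h4
  have d2 : orderOf ((g ^ k * g : G) : G ⧸ N) ∣ N.index := by
    rw [Subgroup.index_eq_card]
    exact orderOf_dvd_natCard _
  have hcop : Nat.Coprime (2 ^ i) N.index :=
    Nat.Coprime.pow_left i (Nat.coprime_two_left.2 hodd)
  have h5 : orderOf ((g ^ k * g : G) : G ⧸ N) = 1 :=
    Nat.eq_one_of_dvd_coprimes hcop d1 d2
  rw [orderOf_eq_one_iff] at h5
  exact (QuotientGroup.eq_one_iff _).1 h5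

/-- on characters of the quotient the power map acts as complex conjugation -/
theorem twist_eq_conj (N : Subgroup G) [N.Normal] (hodd : Odd N.index) {k : ℕ}
    (hinv : ∀ g : G, Odd (orderOf g) → g ^ k = g⁻¹) {β : G → ℂ} (hβ : IsCharacter G β)
    (hker : ∀ n ∈ N, β n = β 1) (g : G) : β (g ^ k) = conj (β g) := by
  have hmem : g * g ^ k ∈ charKer hβ := by
    rw [mem_charKer]
    have h1 : g * g ^ k = g ^ k * g := by
      rw [← pow_succ, ← pow_succ']
    rw [h1]
    exact hker _ (pow_mul_mem N hodd hinv g)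
  have h2 : g ^ k = g⁻¹ * (g * g ^ k) := by group
  rw [h2, char_mul_of_mem_charKer hβ hmem, irr_inv hβ]

end Quot

section Exist

variable {G : Type u} [Group G] [Fintype G]

/-- **Parity existence**: over a `σ`-fixed character of a normal subgroup of odd index lies a
`σ`-fixed irreducible character. -/
theorem exists_fixed_over (N : Subgroup G) [hN : N.Normal] [Fintype N]
    (hodd : Odd N.index) {k e : ℕ} (hcop : Nat.Coprime (Nat.card G) k)
    (hpow : ∀ g : G, g ^ (k ^ 2 ^ e) = g) (θ : IrrCharacter N)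
    (hθ : ∀ n : N, (θ : N → ℂ) (n ^ k) = (θ : N → ℂ) n) :
    ∃ χ : IrrCharacter G, classInner (fun n : N => (χ : G → ℂ) n) (θ : N → ℂ) ≠ 0 ∧
      ∀ g : G, (χ : G → ℂ) (g ^ k) = (χ : G → ℂ) g := by
  classical
  letI := irrFintype (G := G)
  letI := irrFintype (G := N)
  have hθc := isCharacter_of_isIrrCharacter θ.2
  have hmex : ∀ χ : IrrCharacter G, ∃ a : ℕ,
      classInner (fun n : N => (χ : G → ℂ) n) (θ : N → ℂ) = a := fun χ =>
    classInner_char_nat (isCharacter_restrict N (isCharacter_of_isIrrCharacter χ.2)) hθc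
  choose m hm using hmex
  set t := (inertia N (θ : N → ℂ)).index with ht
  obtain ⟨d, hd0, hd⟩ := irr_one_eq θ.2
  -- the degree identity
  have hkey : N.index = (∑ χ : IrrCharacter G, m χ ^ 2) * t := by
    have h1 := Helper24.indFun_one N (θ : N → ℂ)
    have h2 := congrFun (classFunction_expansion (isClassFunction_indFun N (θ : N → ℂ))) 1
    rw [h1] at h2
    simp only [Finset.sum_apply, Pi.smul_apply, smul_eq_mul] at h2
    have h3 : ∀ χ : IrrCharacter G,
        classInner (indFun N (θ : N → ℂ)) (χ : G → ℂ) * (χ : G → ℂ) 1 =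
          ((m χ ^ 2 * t : ℕ) : ℂ) * (θ : N → ℂ) 1 := by
      intro χ
      rw [frobenius_reciprocity N _ (isClassFunction_of_isIrrCharacter χ.2),
        ← classInner_conj_symm, hm χ, Complex.conj_natCast]
      by_cases h0 : m χ = 0
      · rw [h0]
        simp
      · have hcon : classInner (fun n : N => (χ : G → ℂ) n) (θ : N → ℂ) ≠ 0 := by
          rw [hm χ]
          exact_mod_cast h0
        rw [degree_eq_of_constituent N χ.2 θ.2 hcon, hm χ]
        push_cast
        ring
    rw [Finset.sum_congr rfl (fun χ _ => h3 χ), ← Finset.sum_mul] at h2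
    have hθ1 : (θ : N → ℂ) 1 ≠ 0 := by
      rw [hd]
      exact_mod_cast hd0.ne'
    have h4 := mul_right_cancel₀ hθ1 h2
    have h5 : ((N.index : ℕ) : ℂ) = ((∑ χ : IrrCharacter G, m χ ^ 2 * t : ℕ) : ℂ) := by
      rw [h4]
      push_cast
      rfl
    have h6 : N.index = ∑ χ : IrrCharacter G, m χ ^ 2 * t := by exact_mod_cast h5
    rw [h6, Finset.sum_mul]
  have hsumodd : Odd (∑ χ : IrrCharacter G, m χ ^ 2) := by
    rw [hkey] at hodd
    exact (Nat.odd_mul.1 hodd).1
  -- the set of characters with odd multiplicity has odd size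
  have hcardodd : Odd (Fintype.card {χ : IrrCharacter G // Odd (m χ)}) := by
    rw [Fintype.card_subtype]
    have h7 : ((∑ χ : IrrCharacter G, m χ ^ 2 : ℕ) : ZMod 2) =
        ((Finset.univ.filter (fun χ : IrrCharacter G => Odd (m χ))).card : ZMod 2) := by
      rw [Finset.natCast_card_filter]
      push_cast
      apply Finset.sum_congr rfl
      intro χ _
      by_cases ho : Odd (m χ)
      · rw [if_pos ho, ZMod.natCast_eq_one_iff_odd.2 ho, one_pow]
      · rw [if_neg ho, ZMod.natCast_eq_zero_iff_even.2 (Nat.not_odd_iff_even.1 ho)]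
        norm_num
    rw [← ZMod.natCast_eq_one_iff_odd, ← h7, ZMod.natCast_eq_one_iff_odd]
    exact hsumodd
  -- the action of `σ`
  have hcopN : Nat.Coprime (Nat.card N) k :=
    Nat.Coprime.coprime_dvd_left (Subgroup.card_subgroup_dvd_card N) hcop
  have hmtw : ∀ χ : IrrCharacter G, m (powTwist hcop χ) = m χ := by
    intro χ
    have h1 : classInner (fun n : N => (powTwist hcop χ : G → ℂ) n) (θ : N → ℂ) =
        classInner (fun n : N => (χ : G → ℂ) n) (θ : N → ℂ) := by
      have h2 : (θ : N → ℂ) = fun n : N => (θ : N → ℂ) (n ^ k) := by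
        funext n
        exact (hθ n).symm
      conv_lhs => rw [h2]
      exact classInner_comp_pow (fun n : N => (χ : G → ℂ) n) (θ : N → ℂ) hcopN
    rw [hm, hm] at h1
    exact_mod_cast h1
  let f : {χ : IrrCharacter G // Odd (m χ)} → {χ : IrrCharacter G // Odd (m χ)} := fun χ =>
    ⟨powTwist hcop χ.1, by rw [hmtw]; exact χ.2⟩
  have hiter : ∀ (j : ℕ) (χ : {χ : IrrCharacter G // Odd (m χ)}) (g : G),
      (((f^[j]) χ).1 : G → ℂ) g = ((χ.1 : IrrCharacter G) : G → ℂ) (g ^ k ^ j) := by
    intro j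
    induction j with
    | zero =>
      intro χ g
      rw [Function.iterate_zero, pow_zero, pow_one]
      rfl
    | succ j ih =>
      intro χ g
      rw [Function.iterate_succ_apply']
      show (powTwist hcop ((f^[j]) χ).1 : G → ℂ) g = _
      rw [powTwist_apply, ih, ← pow_mul, pow_succ' k j]
  obtain ⟨χ, hχ⟩ := exists_fixed_of_odd f e (by
    intro χ
    apply Subtype.ext
    apply Subtype.ext
    funext g
    rw [hiter, hpow]) hcardodd
  refine ⟨χ.1, ?_, ?_⟩
  · rw [hm]
    have : m χ.1 ≠ 0 := by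
      intro h0
      have := χ.2
      rw [h0] at this
      exact absurd this (by decide)
    exact_mod_cast this
  · intro g
    have h1 : ((f χ).1 : G → ℂ) g = ((χ.1 : IrrCharacter G) : G → ℂ) g := by rw [hχ]
    rw [← h1]
    rfl

end Exist

end Cfsg.Agent.Helper18.SigmaOdd
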