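import Mathlib
import Cfsg.Prelude.Def_Blocks
import Cfsg.Agent.Lib.Helper18.SigmaOdd1
import Cfsg.Agent.Lib.Helper5.RepExtend
import Cfsg.Agent.Lib.Helper24.CharAbelian
import Cfsg.Agent.S0856

/-!
# Characters fixed by a Galois automorphism of 2-power order over normal subgroups of odd index
(helper18's library), part 2: Gallagher wrappers, uniqueness and the cyclic step
-/

set_option autoImplicit false
set_option linter.style.haveILetI false
set_option linter.unusedVariables false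
set_option linter.unusedSectionVars false

namespace Cfsg.Agent.Helper18.SigmaOdd

open Cfsg Cfsg.Agent.Helper24 Cfsg.Agent.Helper5 Cfsg.Agent.Helper23.Blk
open scoped ComplexConjugate

universe u

variable {G : Type u} [Group G] [Fintype G]

/-- Gallagher, surjectivity: every irreducible character over the invariant `θ` is `β * χ₀` for
an extension `χ₀`, with `β` an irreducible character with `N` in its kernel. -/
theorem gallagher_surj (N : Subgroup G) [hN : N.Normal] [Fintype N] {θ : N → ℂ}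
    (hθ : IsIrrCharacter N θ)
    (hinv : ∀ (g : G) (n : N), θ ⟨g * n * g⁻¹, hN.conj_mem (n : G) n.2 g⟩ = θ n)
    {χ₀ : G → ℂ} (hχ₀ : IsIrrCharacter G χ₀) (hext : ∀ n : N, χ₀ n = θ n)
    {ψ : G → ℂ} (hψ : IsIrrCharacter G ψ)
    (hover : classInner (fun n : N => ψ n) θ ≠ 0) :
    ∃ β : G → ℂ, IsIrrCharacter G β ∧ (∀ n ∈ N, β n = β 1) ∧ ψ = β * χ₀ := by
  classical
  have hone : (fun _ : N => (1 : ℂ)) * θ = θ := by
    funext n
    simp
  have hbij := Cfsg.Agent.S0856.result N (fun _ : N => (1 : ℂ)) θ isIrrCharacter_one hθ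
    (fun g n => rfl) hinv (by rw [hone]; exact hθ) χ₀ hχ₀ hext
  have hmem : ψ ∈ {ψ : G → ℂ | IsIrrCharacter G ψ ∧
      classInner (indFun N ((fun _ : N => (1 : ℂ)) * θ)) ψ ≠ 0} := by
    refine ⟨hψ, ?_⟩
    rw [hone, frobenius_reciprocity N _ (isClassFunction_of_isIrrCharacter hψ),
      ← classInner_conj_symm]
    intro h
    apply hover
    have := congrArg conj h
    rwa [Complex.conj_conj, map_zero] at this
  obtain ⟨β, ⟨hβ, hβ1⟩, hβψ⟩ := hbij.surjOn hmem
  exact ⟨β, hβ, ntrivial_of_constituent_ind_one N hβ hβ1, hβψ.symm⟩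

/-- Gallagher, injectivity. -/
theorem gallagher_inj (N : Subgroup G) [hN : N.Normal] [Fintype N] {θ : N → ℂ}
    (hθ : IsIrrCharacter N θ)
    (hinv : ∀ (g : G) (n : N), θ ⟨g * n * g⁻¹, hN.conj_mem (n : G) n.2 g⟩ = θ n)
    {χ₀ : G → ℂ} (hχ₀ : IsIrrCharacter G χ₀) (hext : ∀ n : N, χ₀ n = θ n)
    {β₁ β₂ : G → ℂ} (h₁ : IsIrrCharacter G β₁) (h₂ : IsIrrCharacter G β₂)
    (hk₁ : ∀ n ∈ N, β₁ n = β₁ 1) (hk₂ : ∀ n ∈ N, β₂ n = β₂ 1)
    (heq : β₁ * χ₀ = β₂ * χ₀) : β₁ = β₂ := by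
  classical
  have hone : (fun _ : N => (1 : ℂ)) * θ = θ := by
    funext n
    simp
  have hbij := Cfsg.Agent.S0856.result N (fun _ : N => (1 : ℂ)) θ isIrrCharacter_one hθ
    (fun g n => rfl) hinv (by rw [hone]; exact hθ) χ₀ hχ₀ hext
  exact hbij.injOn ⟨h₁, constituent_ind_one_of_ntrivial N h₁ hk₁⟩
    ⟨h₂, constituent_ind_one_of_ntrivial N h₂ hk₂⟩ heq

/-- **Uniqueness, invariant case**: a `σ`-fixed extension is the only `σ`-fixed irreducible
character over an invariant `θ`, when the index is odd. -/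
theorem unique_of_extension (N : Subgroup G) [hN : N.Normal] [Fintype N]
    (hodd : Odd N.index) {k : ℕ} (hcop : Nat.Coprime (Nat.card G) k)
    (hinvk : ∀ g : G, Odd (orderOf g) → g ^ k = g⁻¹) {θ : N → ℂ}
    (hθ : IsIrrCharacter N θ)
    (hinv : ∀ (g : G) (n : N), θ ⟨g * n * g⁻¹, hN.conj_mem (n : G) n.2 g⟩ = θ n)
    {χ₀ : G → ℂ} (hχ₀ : IsIrrCharacter G χ₀) (hext : ∀ n : N, χ₀ n = θ n)
    (hfix₀ : ∀ g : G, χ₀ (g ^ k) = χ₀ g)
    {ψ : G → ℂ} (hψ : IsIrrCharacter G ψ) (hover : classInner (fun n : N => ψ n) θ ≠ 0)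
    (hfix : ∀ g : G, ψ (g ^ k) = ψ g) : ψ = χ₀ := by
  classical
  obtain ⟨β, hβ, hker, rfl⟩ := gallagher_surj N hθ hinv hχ₀ hext hψ hover
  have hβc := isCharacter_of_isIrrCharacter hβ
  -- the twist of `β`
  have hβσ : IsIrrCharacter G (fun g => β (g ^ k)) := isIrrCharacter_comp_pow hβ hcop
  have hkerσ : ∀ n ∈ N, (fun g => β (g ^ k)) n = (fun g => β (g ^ k)) 1 := by
    intro n hn
    show β (n ^ k) = β (1 ^ k)
    rw [one_pow]
    exact hker _ (N.pow_mem hn k)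
  have heq : (fun g => β (g ^ k)) * χ₀ = β * χ₀ := by
    funext g
    have h1 := hfix g
    simp only [Pi.mul_apply] at h1 ⊢
    rw [← h1, hfix₀ g]
  have hβfix := gallagher_inj N hθ hinv hχ₀ hext hβσ hβ hkerσ hker heq
  have hreal : ∀ g, conj (β g) = β g := by
    intro g
    rw [← twist_eq_conj N hodd hinvk hβc hker g]
    exact congrFun hβfix g
  have hcon : classInner (fun n : N => β n) (fun _ : N => (1 : ℂ)) ≠ 0 := by
    have h1 : classInner (fun n : N => β n) (fun _ : N => (1 : ℂ)) = β 1 := by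
      unfold classInner
      have h2 : ∀ n : N, β n * conj ((1 : ℂ)) = β 1 := by
        intro n
        rw [map_one, mul_one]
        exact hker n n.2
      rw [Finset.sum_congr rfl (fun n _ => h2 n), Finset.sum_const, Finset.card_univ,
        nsmul_eq_mul, Nat.card_eq_fintype_card, ← mul_assoc, inv_mul_cancel₀, one_mul]
      exact_mod_cast (Fintype.card_pos (α := N)).ne'
    rw [h1]
    obtain ⟨d, hd0, hd⟩ := irr_one_eq hβ
    rw [hd]
    exact_mod_cast hd0.ne'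
  have hβ1 := OddReal.eq_one_of_real_of_over_one N hodd ⟨β, hβ⟩ hreal hcon
  funext g
  have : β g = 1 := congrFun hβ1 g
  simp only [Pi.mul_apply]
  rw [this, one_mul]

/-- **The cyclic step**: over a cyclic quotient of odd order an invariant `σ`-fixed character has
a `σ`-fixed extension. -/
theorem exists_fixed_extension_cyclic (N : Subgroup G) [hN : N.Normal] [Fintype N]
    (hodd : Odd N.index) (hcyc : IsCyclic (G ⧸ N)) {k e : ℕ}
    (hcop : Nat.Coprime (Nat.card G) k) (hpow : ∀ g : G, g ^ (k ^ 2 ^ e) = g)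
    (θ : IrrCharacter N)
    (hinv : ∀ (g : G) (n : N),
      (θ : N → ℂ) ⟨g * n * g⁻¹, hN.conj_mem (n : G) n.2 g⟩ = (θ : N → ℂ) n)
    (hθ : ∀ n : N, (θ : N → ℂ) (n ^ k) = (θ : N → ℂ) n) :
    ∃ χ : IrrCharacter G, (∀ n : N, (χ : G → ℂ) n = (θ : N → ℂ) n) ∧
      ∀ g : G, (χ : G → ℂ) (g ^ k) = (χ : G → ℂ) g := by
  classical
  letI : Fintype (G ⧸ N) := Fintype.ofFinite _
  letI := irrFintype (G := G ⧸ N)
  obtain ⟨d, ρ, hρ, hρθ⟩ := θ.2
  have hinvρ : ∀ (g : G) (n : N), ρ.character (MulAut.conjNormal g n) = ρ.character n := by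
    intro g n
    rw [hρθ]
    exact hinv g n
  obtain ⟨ρ', hρ'⟩ := exists_extension_of_cyclic N hcyc ρ hρ hinvρ
  have hirr : ρ'.IsIrreducible := isIrreducible_of_restrict N ρ hρ ρ' hρ'
  have hξ₀ : IsIrrCharacter G ρ'.character := ⟨d, ρ', hirr, rfl⟩
  have hext₀ : ∀ n : N, ρ'.character n = (θ : N → ℂ) n := by
    intro n
    rw [← hρθ]
    unfold Representation.character
    rw [hρ' n]
  obtain ⟨χ, hover, hfix⟩ := exists_fixed_over N hodd hcop hpow θ hθ
  obtain ⟨β, hβ, hker, hχβ⟩ := gallagher_surj N θ.2 hinv hξ₀ hext₀ χ.2 hover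
  refine ⟨χ, ?_, hfix⟩
  -- `β` is linear
  obtain ⟨ψ, hψ, hβψ⟩ := exists_deflate N hβ hker
  have hcomm : ∀ a b : G ⧸ N, a * b = b * a := by
    intro a b
    obtain ⟨q, hq⟩ := hcyc.exists_generator
    obtain ⟨i, rfl⟩ := Subgroup.mem_zpowers_iff.1 (hq a)
    obtain ⟨j, rfl⟩ := Subgroup.mem_zpowers_iff.1 (hq b)
    rw [← zpow_add, ← zpow_add, add_comm]
  have hψ1 : ψ 1 = 1 := by
    rw [irr_one_eq_charDegree hψ, charDegree_eq_one_of_comm hcomm hψ, Nat.cast_one]
  have hβ1 : β 1 = 1 := by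
    rw [hβψ]
    show ψ ((1 : G) : G ⧸ N) = 1
    rw [QuotientGroup.mk_one, hψ1]
  intro n
  rw [hχβ]
  simp only [Pi.mul_apply]
  rw [hker n n.2, hβ1, one_mul, hext₀]

end Cfsg.Agent.Helper18.SigmaOdd
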