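import Mathlib
import Cfsg.Agent.Lib.Helper18.SigmaOdd2
import Cfsg.Agent.Lib.Helper24.CoprimeDegree
import Cfsg.Agent.Lib.Helper24.CharAbelian
import Cfsg.Agent.Lib.Helper24.CharHom

/-!
# Heights in `p`-solvable groups: Clifford-theoretic preliminaries (helper18)
-/

set_option autoImplicit false
set_option linter.unusedSectionVars false

namespace Cfsg.Agent.Helper18.PSolvHeight

open Cfsg Cfsg.Agent.Helper24
open scoped ComplexConjugate

universe u

section Gallagher

variable {X : Type u} [Group X] [Fintype X]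

/-- over an invariant irreducible character of a normal Hall subgroup with abelian quotient, all
irreducible characters have the same degree -/
theorem degree_eq_of_abelian_coprime (Y : Subgroup X) [hY : Y.Normal] [Fintype Y]
    (hcop : (Nat.card Y).Coprime Y.index) (hab : ∀ a b : X, (a * b)⁻¹ * (b * a) ∈ Y)
    {θ : Y → ℂ} (hθ : IsIrrCharacter Y θ)
    (hinv : ∀ (g : X) (n : Y), θ ⟨g * n * g⁻¹, hY.conj_mem (n : X) n.2 g⟩ = θ n)
    {η : X → ℂ} (hη : IsIrrCharacter X η) (hover : classInner (fun n : Y => η n) θ ≠ 0) :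
    η 1 = θ 1 := by
  classical
  obtain ⟨χ₀, hχ₀, hext⟩ := Cfsg.Agent.Helper24.CopDeg.exists_ext Y hcop hθ hinv
  obtain ⟨β, hβ, hβN, rfl⟩ :=
    Cfsg.Agent.Helper18.SigmaOdd.gallagher_surj Y hθ hinv hχ₀ hext hη hover
  obtain ⟨β', hβ', hβeq⟩ := exists_deflate Y hβ hβN
  haveI : Fintype (X ⧸ Y) := Fintype.ofFinite _
  letI : Fintype (IrrCharacter (X ⧸ Y)) := irrFintype
  have hcomm : ∀ a b : X ⧸ Y, a * b = b * a := by
    intro a b
    induction a using QuotientGroup.induction_on with
    | H a =>
      induction b using QuotientGroup.induction_on with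
      | H b =>
        rw [← QuotientGroup.mk_mul, ← QuotientGroup.mk_mul, QuotientGroup.eq]
        exact hab a b
  have h1 := charDegree_eq_one_of_comm hcomm hβ'
  have h2 : β' 1 = 1 := by
    rw [irr_one_eq_charDegree hβ', h1, Nat.cast_one]
  have h3 : β 1 = 1 := by
    rw [hβeq, Function.comp_apply, QuotientGroup.mk_one, h2]
  rw [Pi.mul_apply, h3, one_mul]
  have := hext 1
  rwa [Subgroup.coe_one] at this

end Gallagher

section Mid

variable {X : Type u} [Group X] [Fintype X]

/-- a constituent of the restriction to `Y` of a character of `X` lies under some irreducible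
constituent -/
theorem exists_mid_constituent (Y : Subgroup X) [Fintype Y] [Fintype (IrrCharacter X)]
    {φ : X → ℂ} (hφ : IsCharacter X φ) (θ : Y → ℂ)
    (h : classInner (fun n : Y => φ n) θ ≠ 0) :
    ∃ η : IrrCharacter X, classInner φ (η : X → ℂ) ≠ 0 ∧
      classInner (fun n : Y => (η : X → ℂ) n) θ ≠ 0 := by
  classical
  by_contra hcon
  push Not at hcon
  apply h
  obtain ⟨-, hdec⟩ := isCharacter_decomp hφ
  have h1 : (fun n : Y => φ n) = ∑ η : IrrCharacter X,
      classInner φ (η : X → ℂ) • (fun n : Y => (η : X → ℂ) n) := by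
    funext n
    conv_lhs => rw [hdec]
    simp only [Finset.sum_apply, Pi.smul_apply]
  rw [h1, classInner_sum_left]
  apply Finset.sum_eq_zero
  intro η _
  rw [classInner_smul_left]
  by_cases h2 : classInner φ (η : X → ℂ) = 0
  · rw [h2, zero_mul]
  · rw [hcon η h2, mul_zero]

end Mid

end Cfsg.Agent.Helper18.PSolvHeight
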