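import Mathlib
import Cfsg.Agent.Lib.Helper18.PSolvHeight1
import Cfsg.Agent.Lib.Helper5.RelDegree
import Cfsg.Agent.Lib.Helper23.PSolvable
import Cfsg.Agent.Lib.Helper10.Cores

/-!
# Heights in `p`-solvable groups: the invariant case (helper18)
-/

set_option autoImplicit false
set_option linter.unusedSectionVars false

namespace Cfsg.Agent.Helper18.PSolvHeight

open Cfsg Cfsg.Agent.Helper24
open scoped ComplexConjugate

universe u

section Invariant

variable {G : Type u} [Group G] [Fintype G]

set_option maxHeartbeats 1600000 in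
/-- if `θ` is an invariant irreducible character of a normal `p'`-subgroup `N` such that
`O_p(G/N)` contains its centralizer, then the `p`-part of the degree of any character over `θ`
is at most `|P : Z(P)|` -/
theorem factorization_degree_le (p : ℕ) [Fact p.Prime] (N : Subgroup G) [hN : N.Normal]
    [Fintype N] (hNcop : (Nat.card N).Coprime p)
    (hHH : Subgroup.centralizer ((pCore p (G ⧸ N) : Subgroup (G ⧸ N)) : Set (G ⧸ N)) ≤
      pCore p (G ⧸ N))
    {θ : N → ℂ} (hθ : IsIrrCharacter N θ)
    (hinv : ∀ (g : G) (n : N), θ ⟨g * n * g⁻¹, hN.conj_mem (n : G) n.2 g⟩ = θ n)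
    {χ : G → ℂ} (hχ : IsIrrCharacter G χ)
    (hover : classInner (fun n : N => χ n) θ ≠ 0) (P : Sylow p G) :
    (charDegree χ).factorization p ≤
      ((Subgroup.center (P : Subgroup G)).index).factorization p := by
  classical
  have hp : p.Prime := Fact.out
  haveI hQn : (pCore p (G ⧸ N)).Normal := Cfsg.Agent.Helper10.pCore_normal p
  obtain ⟨Zb, hZb⟩ : ∃ Zb : Subgroup (G ⧸ N), Zb = Subgroup.centralizer
      ((pCore p (G ⧸ N) : Subgroup (G ⧸ N)) : Set (G ⧸ N)) := ⟨_, rfl⟩
  haveI hZn : Zb.Normal := by
    rw [hZb]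
    infer_instance
  have hZQ : Zb ≤ pCore p (G ⧸ N) := by
    rw [hZb]
    exact hHH
  have hZp : IsPGroup p Zb := (Cfsg.Agent.Helper10.pCore_isPGroup p).to_le hZQ
  obtain ⟨m, hm⟩ := IsPGroup.iff_card.1 hZp
  have hZcomm : ∀ u ∈ Zb, ∀ v ∈ Zb, u * v = v * u := by
    intro u hu v hv
    rw [hZb, Subgroup.mem_centralizer_iff] at hu
    exact (hu v (hZQ hv)).symm
  obtain ⟨A, hA⟩ : ∃ A : Subgroup G, A = Zb.comap (QuotientGroup.mk' N) := ⟨_, rfl⟩
  haveI hAn : A.Normal := by
    rw [hA]
    exact Subgroup.Normal.comap hZn _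
  have hmemA : ∀ x : G, x ∈ A ↔ QuotientGroup.mk' N x ∈ Zb := by
    intro x
    rw [hA, Subgroup.mem_comap]
  have hNA : N ≤ A := by
    intro x hx
    rw [hmemA]
    have : QuotientGroup.mk' N x = 1 := (QuotientGroup.eq_one_iff x).2 hx
    rw [this]
    exact one_mem _
  haveI : Fintype A := Fintype.ofFinite A
  have hAidx : A.index = Zb.index := by
    rw [hA]
    exact Subgroup.index_comap_of_surjective Zb (QuotientGroup.mk'_surjective N)
  have hNidx : N.index = A.index * p ^ m := by
    rw [hAidx, ← hm, Subgroup.index_mul_card, Subgroup.index_eq_card]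
  have hcard : A.index * p ^ m * Nat.card N = Nat.card G := by
    rw [← hNidx, Subgroup.index_mul_card]
  have hA0 : A.index ≠ 0 := Subgroup.index_ne_zero_of_finite
  -- the subgroup `N` inside `A`
  obtain ⟨Y, hY⟩ : ∃ Y : Subgroup A, Y = N.subgroupOf A := ⟨_, rfl⟩
  haveI hYn : Y.Normal := by
    rw [hY]
    exact Subgroup.Normal.subgroupOf hN A
  haveI : Fintype Y := Fintype.ofFinite Y
  have hmemY : ∀ a : A, a ∈ Y ↔ (a : G) ∈ N := by
    intro a
    rw [hY, Subgroup.mem_subgroupOf]
  obtain ⟨e, he⟩ : ∃ e : Y ≃* N, ∀ y : Y, ((e y : N) : G) = ((y : A) : G) := by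
    subst hY
    exact ⟨Subgroup.subgroupOfEquivOfLe hNA, fun y => rfl⟩
  have hθ' : IsIrrCharacter Y (θ ∘ e) := Cfsg.Agent.Helper5.isIrrCharacter_comp_equiv e hθ
  have hYcard : Nat.card Y = Nat.card N := Nat.card_congr e.toEquiv
  have hYidx : Y.index = p ^ m := by
    have h1 : Y.index = N.relIndex A := by
      rw [hY]
      rfl
    have h2 := Subgroup.relIndex_mul_index hNA
    rw [hNidx, ← h1, mul_comm] at h2
    exact Nat.eq_of_mul_eq_mul_left (Nat.pos_of_ne_zero hA0) h2
  have hcopY : (Nat.card Y).Coprime Y.index := by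
    rw [hYcard, hYidx]
    exact Nat.Coprime.pow_right m hNcop
  have habY : ∀ a b : A, (a * b)⁻¹ * (b * a) ∈ Y := by
    intro a b
    rw [hmemY]
    apply (QuotientGroup.eq_one_iff _).1
    have ha := (hmemA a).1 a.2
    have hb := (hmemA b).1 b.2
    have h1 : QuotientGroup.mk' N (a : G) * QuotientGroup.mk' N (b : G) =
        QuotientGroup.mk' N (b : G) * QuotientGroup.mk' N (a : G) := hZcomm _ ha _ hb
    have h2 : (((a * b)⁻¹ * (b * a) : A) : G) = ((a : G) * (b : G))⁻¹ * ((b : G) * (a : G)) := by
      push_cast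
      rfl
    rw [h2]
    show QuotientGroup.mk' N (((a : G) * (b : G))⁻¹ * ((b : G) * (a : G))) = 1
    rw [map_mul, map_inv, map_mul, map_mul, h1, inv_mul_cancel]
  have hinvY : ∀ (g : A) (n : Y), (θ ∘ e) ⟨g * n * g⁻¹, hYn.conj_mem (n : A) n.2 g⟩ =
      (θ ∘ e) n := by
    intro g n
    rw [Function.comp_apply, Function.comp_apply, ← hinv (g : G) (e n)]
    congr 1
    apply Subtype.ext
    rw [he]
    simp only [he]
    push_cast
    rfl
  -- the intermediate constituent
  letI : Fintype (IrrCharacter A) := irrFintype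
  have hχA : IsCharacter A (fun a : A => χ a) :=
    isCharacter_restrict A (isCharacter_of_isIrrCharacter hχ)
  have hover' : classInner (fun n : Y => (fun a : A => χ a) n) (θ ∘ e) ≠ 0 := by
    have h1 : (fun n : Y => (fun a : A => χ a) n) = (fun n : N => χ n) ∘ e := by
      funext y
      rw [Function.comp_apply, he]
    rw [h1, Cfsg.Agent.Helper5.classInner_comp_equiv]
    exact hover
  obtain ⟨η, hη1, hη2⟩ := exists_mid_constituent Y hχA (θ ∘ e) hover'
  have hηdeg : (η : A → ℂ) 1 = θ 1 := by
    have := degree_eq_of_abelian_coprime Y hcopY habY hθ' hinvY η.2 hη2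
    rw [this, Function.comp_apply, map_one]
  obtain ⟨k, hk, hkdvd⟩ := Cfsg.Agent.Helper5.degree_eq_mul_of_constituent A hχ η.2 hη1
  rw [hηdeg] at hk
  have hdegχ : charDegree χ = k * charDegree θ := by
    have h1 : χ 1 = ((k * charDegree θ : ℕ) : ℂ) := by
      rw [hk, irr_one_eq_charDegree hθ]
      push_cast
      rfl
    exact charDegree_natCast _ h1
  have hθ0 : charDegree θ ≠ 0 := (charDegree_pos hθ).ne'
  have hk0 : k ≠ 0 := by
    rintro rfl
    have := charDegree_pos hχ
    rw [hdegχ, zero_mul] at this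
    exact lt_irrefl _ this
  have hθp : (charDegree θ).factorization p = 0 := by
    apply Nat.factorization_eq_zero_of_not_dvd
    intro hdvd
    have h1 := hdvd.trans (charDegree_dvd_card hθ)
    exact (Nat.Prime.coprime_iff_not_dvd hp).1 hNcop.symm h1
  have hNp : (Nat.card N).factorization p = 0 := by
    apply Nat.factorization_eq_zero_of_not_dvd
    exact (Nat.Prime.coprime_iff_not_dvd hp).1 hNcop.symm
  have hN0 : Nat.card N ≠ 0 := (Nat.card_pos).ne'
  have hpm0 : p ^ m ≠ 0 := pow_ne_zero _ hp.ne_zero
  have hfac1 : (charDegree χ).factorization p = k.factorization p := by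
    rw [hdegχ, Nat.factorization_mul hk0 hθ0, Finsupp.add_apply, hθp, add_zero]
  have hfac2 : k.factorization p ≤ A.index.factorization p :=
    (Nat.factorization_le_iff_dvd hk0 hA0).2 hkdvd p
  have hfac3 : A.index.factorization p + m = (Nat.card G).factorization p := by
    rw [← hcard, Nat.factorization_mul (Nat.mul_ne_zero hA0 hpm0) hN0,
      Nat.factorization_mul hA0 hpm0, Finsupp.add_apply, Finsupp.add_apply, hNp,
      hp.factorization_pow]
    simp
  -- the centre of `P`
  have hPcard : Nat.card (P : Subgroup G) = p ^ (Nat.card G).factorization p :=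
    P.card_eq_multiplicity
  have hcp : IsPGroup p (Subgroup.center (P : Subgroup G)) := P.2.to_subgroup _
  obtain ⟨z, hz⟩ := IsPGroup.iff_card.1 hcp
  have hci : (Subgroup.center (P : Subgroup G)).index * p ^ z =
      p ^ (Nat.card G).factorization p := by
    rw [← hz, Subgroup.index_mul_card, hPcard]
  have hci0 : (Subgroup.center (P : Subgroup G)).index ≠ 0 := Subgroup.index_ne_zero_of_finite
  have hpz0 : p ^ z ≠ 0 := pow_ne_zero _ hp.ne_zero
  have hfac4 : ((Subgroup.center (P : Subgroup G)).index).factorization p + z =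
      (Nat.card G).factorization p := by
    have := congrArg (fun n => n.factorization p) hci
    beta_reduce at this
    rw [Nat.factorization_mul hci0 hpz0, Finsupp.add_apply, hp.factorization_pow,
      hp.factorization_pow] at this
    simpa using this
  -- `Z(P)` embeds into `Zb`
  have hQP : pCore p (G ⧸ N) ≤ (P : Subgroup G).map (QuotientGroup.mk' N) := by
    have := Cfsg.Agent.Helper23.PSolv.pCore_le_sylow
      (P.mapSurjective (QuotientGroup.mk'_surjective N))
    rwa [Sylow.coe_mapSurjective] at this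
  have hzm : z ≤ m := by
    have hmapmem : ∀ x : Subgroup.center (P : Subgroup G),
        QuotientGroup.mk' N (((x : (P : Subgroup G)) : G)) ∈ Zb := by
      intro x
      rw [hZb, Subgroup.mem_centralizer_iff]
      intro q hq
      obtain ⟨y, hy, rfl⟩ := hQP hq
      have h1 := (Subgroup.mem_center_iff.1 x.2) ⟨y, hy⟩
      have h2 : y * ((x : (P : Subgroup G)) : G) = ((x : (P : Subgroup G)) : G) * y := by
        have := congrArg Subtype.val h1
        simpa using this
      rw [← map_mul, ← map_mul, h2]
    have hinj : Function.Injective (fun x : Subgroup.center (P : Subgroup G) =>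
        (⟨QuotientGroup.mk' N (((x : (P : Subgroup G)) : G)), hmapmem x⟩ : Zb)) := by
      intro x x' hxx
      have h1 : QuotientGroup.mk' N (((x : (P : Subgroup G)) : G)) =
          QuotientGroup.mk' N (((x' : (P : Subgroup G)) : G)) := congrArg Subtype.val hxx
      have h2 : (((x : (P : Subgroup G)) : G))⁻¹ * (((x' : (P : Subgroup G)) : G)) ∈ N := by
        apply (QuotientGroup.eq_one_iff _).1
        show QuotientGroup.mk' N _ = 1
        rw [map_mul, map_inv, h1, inv_mul_cancel]
      have h3 : (((x : (P : Subgroup G)) : G))⁻¹ * (((x' : (P : Subgroup G)) : G)) ∈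
          (P : Subgroup G) :=
        (P : Subgroup G).mul_mem ((P : Subgroup G).inv_mem (x : (P : Subgroup G)).2)
          (x' : (P : Subgroup G)).2
      have h4 : orderOf ((((x : (P : Subgroup G)) : G))⁻¹ * (((x' : (P : Subgroup G)) : G))) ∣
          Nat.card N := Subgroup.orderOf_dvd_natCard N h2
      obtain ⟨j, hj⟩ := (IsPGroup.iff_orderOf.1 P.2) ⟨_, h3⟩
      rw [Subgroup.orderOf_mk] at hj
      have h5 : j = 0 := by
        by_contra hj0
        have h6 : p ∣ Nat.card N := by
          apply Dvd.dvd.trans _ h4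
          rw [hj]
          exact dvd_pow_self p hj0
        exact (Nat.Prime.coprime_iff_not_dvd hp).1 hNcop.symm h6
      rw [h5, pow_zero, orderOf_eq_one_iff, inv_mul_eq_one] at hj
      apply Subtype.ext
      apply Subtype.ext
      exact hj
    have h7 := Nat.card_le_card_of_injective _ hinj
    rw [hz, hm] at h7
    exact (Nat.pow_le_pow_iff_right hp.one_lt).1 h7
  omega

end Invariant

end Cfsg.Agent.Helper18.PSolvHeight
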