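import Mathlib
import Cfsg.Agent.Lib.Helper18.PSolvHeight2
import Cfsg.Agent.S4435
import Cfsg.Agent.S4436
import Cfsg.Agent.S4492
import Cfsg.Agent.Lib.Helper23.BlockDefectZero
import Cfsg.Agent.Lib.Helper23.BlockDefectGroup2
import Cfsg.Agent.Lib.Helper23.PSolvable
import Cfsg.Agent.Lib.Helper22.PPrimeCore

/-!
# Heights in `p`-solvable groups are bounded by `|P : Z(P)|` (helper18)
-/

set_option autoImplicit false
set_option linter.unusedSectionVars false

namespace Cfsg.Agent.Helper18.PSolvHeight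

open Cfsg Cfsg.Agent.Helper24 Cfsg.Agent.Helper23.Blk
open scoped ComplexConjugate

universe u

section Center

theorem index_center_congr {H₁ H₂ : Type*} [Group H₁] [Group H₂] [Finite H₁] (e : H₁ ≃* H₂) :
    (Subgroup.center H₁).index = (Subgroup.center H₂).index := by
  haveI : Finite H₂ := Finite.of_equiv H₁ e.toEquiv
  have h1 := Subgroup.index_mul_card (Subgroup.center H₁)
  have h2 := Subgroup.index_mul_card (Subgroup.center H₂)
  have h3 : Nat.card H₁ = Nat.card H₂ := Nat.card_congr e.toEquiv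
  have h4 : Nat.card (Subgroup.center H₁) = Nat.card (Subgroup.center H₂) :=
    Nat.card_congr (Subgroup.centerCongr e).toEquiv
  rw [h3, h4, ← h2] at h1
  exact Nat.eq_of_mul_eq_mul_right Nat.card_pos h1

end Center

section Main

set_option maxHeartbeats 1600000 in
theorem height_le (p : ℕ) [Fact p.Prime] (M : Ideal AlgInt) (hM : IsPModular p M) :
    ∀ (n : ℕ) (G : Type u) [Group G] [Fintype G], Nat.card G = n → IsPSolvable p G →
      ∀ (B : Set (IrrCharacter G)), IsPBlock M B → ∀ P : Subgroup G, IsDefectGroup p M B P →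
      ∀ χ : IrrCharacter G, χ ∈ B →
        blockHeight p B (χ : G → ℂ) ≤ ((Subgroup.center P).index).factorization p := by
  intro n
  induction n using Nat.strong_induction_on with
  | _ n ih =>
  intro G _ _ hcard hsolv B hB P hP χ hχ
  classical
  haveI hMp : M.IsPrime := hM.2.1.isPrime
  have hp : p.Prime := hM.1
  obtain ⟨N, hNdef⟩ : ∃ N : Subgroup G, N = pPrimeCore p G := ⟨_, rfl⟩
  haveI hN : N.Normal := by
    rw [hNdef]
    exact Cfsg.Agent.Helper22.pPrimeCore_normal p
  haveI : Fintype N := Fintype.ofFinite N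
  have hNcop : (Nat.card N).Coprime p := by
    rw [hNdef]
    exact Cfsg.Agent.Helper22.card_pPrimeCore_coprime p
  -- a constituent of the restriction
  have hχN : IsCharacter N (fun n : N => (χ : G → ℂ) n) :=
    isCharacter_restrict N (isCharacter_of_isIrrCharacter χ.2)
  have hχN0 : (fun n : N => (χ : G → ℂ) n) ≠ 0 := by
    intro h
    have h1 := congrFun h 1
    simp only [Subgroup.coe_one, Pi.zero_apply] at h1
    rw [irr_one_eq_charDegree χ.2] at h1
    have := charDegree_pos χ.2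
    have h2 : charDegree (χ : G → ℂ) = 0 := by exact_mod_cast h1
    omega
  obtain ⟨θ₀, hθ₀, hover⟩ := Cfsg.Agent.Helper5.exists_constituent hχN hχN0
  obtain ⟨θ, hθ⟩ : ∃ θ : IrrCharacter N, (θ : N → ℂ) = θ₀ := ⟨⟨θ₀, hθ₀⟩, rfl⟩
  rw [← hθ] at hover
  -- the block of `θ`
  have hbθ : blockOf M (θ : N → ℂ) = {θ} := by
    rw [← not_dvd_iff_blockOf_eq_singleton hM θ]
    intro hdvd
    have h1 : Nat.card N / charDegree (θ : N → ℂ) ∣ Nat.card N :=
      Nat.div_dvd_of_dvd (charDegree_dvd_card θ.2)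
    exact (Nat.Prime.coprime_iff_not_dvd hp).1 hNcop.symm (hdvd.trans h1)
  have hb : IsPBlock M ({θ} : Set (IrrCharacter N)) := ⟨θ, hbθ.symm⟩
  -- the inertia group
  obtain ⟨T, hTdef⟩ : ∃ T : Subgroup G, T = Cfsg.Agent.Helper18.inertia N (θ : N → ℂ) :=
    ⟨_, rfl⟩
  haveI : Fintype T := Fintype.ofFinite T
  have hNT : N ≤ T := by
    rw [hTdef]
    exact Cfsg.Agent.Helper18.le_inertia N (isClassFunction_of_isIrrCharacter θ.2)
  have hTmem : ∀ g : G, g ∈ T ↔ Cfsg.Agent.Helper5.conjFun N g (θ : N → ℂ) = (θ : N → ℂ) := by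
    intro g
    rw [hTdef]
    exact Cfsg.Agent.Helper18.mem_inertia N _ g
  have hT : ∀ g : G, g ∈ T ↔ ∀ θ₁ ∈ ({θ} : Set (IrrCharacter N)), ∀ θ' : IrrCharacter N,
      (∀ n : N, (θ' : N → ℂ) n = (θ₁ : N → ℂ) ⟨g * n * g⁻¹, hN.conj_mem n n.2 g⟩) →
      θ' ∈ ({θ} : Set (IrrCharacter N)) := by
    intro g
    rw [hTmem]
    constructor
    · intro hg θ₁ hθ₁ θ' hθ'
      rw [Set.mem_singleton_iff] at hθ₁ ⊢
      subst hθ₁
      apply Subtype.ext
      funext n
      rw [hθ' n]
      have h1 := congrFun hg n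
      rwa [Cfsg.Agent.Helper5.conjFun_apply] at h1
    · intro h
      have h1 := h θ rfl (Cfsg.Agent.Helper18.conjIrr N g θ) (fun n => rfl)
      rw [Set.mem_singleton_iff] at h1
      exact congrArg Subtype.val h1
  by_cases hTtop : T = ⊤
  · -- the invariant case
    have hinv : ∀ (g : G) (n : N),
        (θ : N → ℂ) ⟨g * n * g⁻¹, hN.conj_mem n n.2 g⟩ = (θ : N → ℂ) n := by
      intro g n
      have hg : g ∈ T := by
        rw [hTtop]
        exact Subgroup.mem_top g
      have h1 := congrFun ((hTmem g).1 hg) n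
      rwa [Cfsg.Agent.Helper5.conjFun_apply] at h1
    obtain ⟨B₁, hB₁, hmem, -, hsyl⟩ := Cfsg.Agent.S4492.result p M hM hsolv N hNdef θ hinv
    have hBB : B = B₁ := isPBlock_eq_of_mem hB hB₁ hχ ((hmem χ).2 hover)
    obtain ⟨P₀, hP₀⟩ := hsyl P (hBB ▸ hP)
    have hHH : Subgroup.centralizer ((pCore p (G ⧸ N) : Subgroup (G ⧸ N)) : Set (G ⧸ N)) ≤
        pCore p (G ⧸ N) := by
      apply Cfsg.Agent.Helper23.PSolv.centralizer_pCore_le
        (Cfsg.Agent.Helper23.PSolv.isPSolvable_quotient N hsolv)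
      subst hNdef
      exact Cfsg.Agent.Helper23.PSolv.pPrimeCore_quotient_pPrimeCore p
    have h1 := factorization_degree_le p N hNcop hHH θ.2 hinv χ.2 hover P₀
    rw [hP₀]
    refine le_trans ?_ h1
    unfold blockHeight
    exact Nat.sub_le _ _
  · -- the Fong-Reynolds reduction
    have hlt : Nat.card T < n := by
      rw [← hcard]
      apply lt_of_le_of_ne (Subgroup.card_le_card_group T)
      intro h
      exact hTtop (Subgroup.eq_top_of_card_eq T h)
    obtain ⟨h35a, -, h35c⟩ := Cfsg.Agent.S4435.result p M hM N ({θ} : Set (IrrCharacter N)) hb T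
      hT hNT
    obtain ⟨B', hB', hcov', hind⟩ := h35c B hB ⟨χ, hχ, θ, rfl, hover⟩
    obtain ⟨B₂, hind₂, -, -, hmem₂⟩ := h35a B' hB' hcov'
    have hB₂ : B = B₂ := Cfsg.Agent.Helper18.FR.isInducedBlock_unique T hM hind hind₂
    obtain ⟨ψ, hψ, hχψ⟩ := (hmem₂ χ).1 (hB₂ ▸ hχ)
    obtain ⟨hdef, hht⟩ := Cfsg.Agent.S4436.result p M hM N ({θ} : Set (IrrCharacter N)) hb T
      hT hNT B' hB' hcov' B hind
    obtain ⟨χ', -, hχ'eq, hχ'ht⟩ := hht ψ hψ
    have hχχ' : χ' = χ := Subtype.ext (hχ'eq.trans hχψ.symm)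
    rw [hχχ'] at hχ'ht
    obtain ⟨D, hD⟩ := exists_isDefectGroup hM hB'
    have hih := ih (Nat.card T) hlt T rfl
      (Cfsg.Agent.Helper23.PSolv.isPSolvable_subgroup T hsolv) B' hB' D hD ψ hψ
    obtain ⟨c, hc⟩ := isDefectGroup_conj_of hM hB hP (hdef D hD)
    have e : D ≃* P :=
      ((D.equivMapOfInjective T.subtype T.subtype_injective).trans
        ((D.map T.subtype).equivMapOfInjective (MulAut.conj c).toMonoidHom
          (MulAut.conj c).injective)).trans (MulEquiv.subgroupCongr hc)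
    rw [hχ'ht, ← index_center_congr e]
    exact hih

end Main

end Cfsg.Agent.Helper18.PSolvHeight
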