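import Mathlib
import Cfsg.Agent.Lib.Helper18.SchurBound2

/-!
# Schur's bound: the main theorem (helper18)
-/

set_option autoImplicit false
set_option linter.unusedSectionVars false

namespace Cfsg.Agent.Helper18.Schur

open Cfsg Cfsg.Agent.Helper24 Cfsg.Agent.Helper23.Blk Cfsg.Agent.Helper18
open scoped ComplexConjugate Nat

universe u

section Main

variable {G : Type u} [Group G] [Fintype G]

theorem isGenChar_prod {H : Type u} [Group H] {ι : Type*} (s : Finset ι) (f : ι → H → ℂ)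
    (h : ∀ i ∈ s, IsGeneralizedCharacter H (f i)) :
    IsGeneralizedCharacter H (∏ i ∈ s, f i) := by
  classical
  induction s using Finset.induction_on with
  | empty =>
    rw [Finset.prod_empty]
    exact isGenChar_one
  | insert a s ha ih =>
    rw [Finset.prod_insert ha]
    exact isGenChar_mul (h a (Finset.mem_insert_self a s))
      (ih (fun i hi => h i (Finset.mem_insert_of_mem hi)))

set_option maxHeartbeats 3200000 in
theorem schur_bound (p : ℕ) (hp : p.Prime) (χ : G → ℂ) (hχ : IsCharacter G χ)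
    (hfaith : ∀ g : G, χ g = χ 1 → g = 1)
    (hrat : ∃ r : ℕ, 0 < r ∧ ¬ p ∣ r ∧ ∀ g : G, χ g ∈ IntermediateField.adjoin ℚ
      ({Complex.exp (2 * Real.pi * Complex.I / r)} : Set ℂ))
    (n : ℕ) (hn : charDegree χ = n) :
    (Nat.card G).factorization p ≤ ∑ i ∈ Finset.range (n + 1), n / ((p - 1) * p ^ i) := by
  classical
  haveI : Fact p.Prime := ⟨hp⟩
  obtain ⟨M, hM⟩ := Cfsg.Agent.Helper24.Glaub.exists_isPModular hp
  obtain ⟨r, hr, hpr, hmem⟩ := hrat
  obtain ⟨n', ρ, rfl⟩ := hχ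
  have hnn : n' = n := by
    rw [← hn, Cfsg.Agent.Helper23.charDegree_character_fin]
  subst hnn
  have hχ1 : ρ.character 1 = (n' : ℂ) := Cfsg.Agent.Helper23.character_one_fin n' ρ
  obtain ⟨a, ha⟩ : ∃ a, a = (Nat.card G).factorization p := ⟨_, rfl⟩
  rw [← ha]
  obtain ⟨m, hm⟩ : ∃ m, m = n' / (p - 1) := ⟨_, rfl⟩
  have hp1pos : 0 < p - 1 := by
    have := hp.one_lt
    omega
  -- the arithmetic conclusion
  suffices hdvd : p ^ a ∣ p ^ m * Nat.factorial m by
    have h1 : a ≤ (p ^ m * Nat.factorial m).factorization p :=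
      (hp.pow_dvd_iff_le_factorization
        (mul_ne_zero (pow_pos hp.pos m).ne' (Nat.factorial_pos m).ne')).1 hdvd
    rw [Nat.factorization_mul (pow_pos hp.pos m).ne' (Nat.factorial_pos m).ne',
      Finsupp.add_apply, hp.factorization_pow, Finsupp.single_eq_same] at h1
    have hlog : Nat.log p m < n' + 1 := by
      have h2 : Nat.log p m ≤ m := Nat.log_le_self p m
      have h3 : m ≤ n' := by
        rw [hm]
        exact Nat.div_le_self _ _
      omega
    rw [Nat.factorization_factorial hp hlog] at h1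
    have hsplit : ∑ i ∈ Finset.range (n' + 1), n' / ((p - 1) * p ^ i) =
        m + ∑ i ∈ Finset.Ico 1 (n' + 1), m / p ^ i := by
      rw [Finset.range_eq_Ico, Finset.sum_eq_sum_Ico_succ_bot (Nat.succ_pos n')]
      congr 1
      · rw [pow_zero, mul_one, hm]
      · apply Finset.sum_congr rfl
        intro i _
        rw [hm, Nat.div_div_eq_div_mul]
    rw [hsplit]
    exact h1
  -- the Sylow subgroup
  obtain ⟨P⟩ : Nonempty (Sylow p G) := inferInstance
  haveI : Fintype (P : Subgroup G) := Fintype.ofFinite _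
  letI : Fintype (IrrCharacter (P : Subgroup G)) := irrFintype
  have hPcard : Nat.card (P : Subgroup G) = p ^ a := by
    rw [ha]
    exact Sylow.card_eq_multiplicity P
  by_cases ha0 : a = 0
  · rw [ha0, pow_zero]
    exact one_dvd _
  have hapos : 0 < a := Nat.pos_of_ne_zero ha0
  -- values on the Sylow subgroup
  have hval : ∀ x : (P : Subgroup G), x ≠ 1 → ∃ s : ℕ, 1 ≤ s ∧ s ≤ m ∧
      ρ.character (x : G) = (n' : ℂ) - ((p * s : ℕ) : ℂ) := by
    intro x hx
    have hxpow : (x : G) ^ (p ^ a) = 1 := by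
      have h1 : x ^ (p ^ a) = 1 := by
        rw [← hPcard]
        exact pow_card_eq_one'
      have h2 : ((x ^ (p ^ a) : ↥(P : Subgroup G)) : G) = 1 := by
        rw [h1]
        rfl
      rw [Subgroup.coe_pow] at h2
      exact h2
    have hpow : (ρ (x : G)) ^ (p ^ a) = 1 := by
      rw [← map_pow, hxpow, map_one]
    obtain ⟨n'', b, μ, hμ, hb⟩ :=
      exists_eigenbasis_of_pow_eq_one (ρ (x : G)) (pow_pos hp.pos a) hpow
    have hnn' : n'' = n' := by
      have h1 := finrank_eq_of_basis b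
      rw [Module.finrank_fin_fun] at h1
      exact h1.symm
    subst hnn'
    have htr : ρ.character (x : G) = ∑ i, μ i := trace_eq_sum_of_eigenbasis b μ (ρ (x : G)) hb
    have hinv : ∀ j, ¬ p ∣ j → ∑ i, μ i ^ j = ∑ i, μ i := by
      intro j hj
      apply sum_pow_eq_of_mem_adjoin hp hr hpr hj μ hμ
      rw [← htr]
      exact hmem (x : G)
    have hne : ∑ i, μ i ≠ (n'' : ℂ) := by
      intro h
      apply hx
      have h1 : ρ.character (x : G) = ρ.character 1 := by rw [htr, h, hχ1]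
      exact Subtype.ext (hfaith (x : G) h1)
    obtain ⟨s, hs1, hs2, hs3⟩ := value_structure hM hapos μ hμ hinv hne
    refine ⟨s, hs1, ?_, by rw [htr, hs3]⟩
    rw [hm, Nat.le_div_iff_mul_le hp1pos, mul_comm]
    exact hs2
  -- the product
  obtain ⟨Φ, hΦdef⟩ : ∃ Φ : ↥(P : Subgroup G) → ℂ, Φ = ∏ s ∈ Finset.Icc 1 m,
      ((fun x : (P : Subgroup G) => ρ.character (x : G)) -
        (((n' : ℤ) - ((p * s : ℕ) : ℤ) : ℤ) : ℂ) • (fun _ : (P : Subgroup G) => (1 : ℂ))) :=
    ⟨_, rfl⟩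
  have hΦgc : IsGeneralizedCharacter (P : Subgroup G) Φ := by
    rw [hΦdef]
    apply isGenChar_prod
    intro s _
    apply isGenChar_sub
    · exact isGenChar_of_isCharacter (isCharacter_restrict (P : Subgroup G) ⟨n', ρ, rfl⟩)
    · exact isGenChar_intCast_smul _ isGenChar_one
  have hΦapply : ∀ x : (P : Subgroup G), Φ x = ∏ s ∈ Finset.Icc 1 m,
      (ρ.character (x : G) - ((n' : ℂ) - ((p * s : ℕ) : ℂ))) := by
    intro x
    rw [hΦdef, Finset.prod_apply]
    apply Finset.prod_congr rfl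
    intro s _
    rw [Pi.sub_apply, Pi.smul_apply, smul_eq_mul, mul_one]
    push_cast
    rfl
  have hΦ0 : ∀ x : (P : Subgroup G), x ≠ 1 → Φ x = 0 := by
    intro x hx
    obtain ⟨s, hs1, hs2, hs3⟩ := hval x hx
    rw [hΦapply]
    apply Finset.prod_eq_zero (Finset.mem_Icc.2 ⟨hs1, hs2⟩)
    rw [hs3, sub_self]
  have hΦ1 : Φ 1 = ((p ^ m * Nat.factorial m : ℕ) : ℂ) := by
    rw [hΦapply, Subgroup.coe_one, hχ1]
    have h1 : ∀ s ∈ Finset.Icc 1 m, ((n' : ℂ) - ((n' : ℂ) - ((p * s : ℕ) : ℂ))) =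
        (p : ℂ) * (s : ℂ) := by
      intro s _
      push_cast
      ring
    rw [Finset.prod_congr rfl h1, Finset.prod_mul_distrib, Finset.prod_const, Nat.card_Icc,
      Nat.add_sub_cancel]
    have h2 : ∏ s ∈ Finset.Icc 1 m, (s : ℂ) = ((Nat.factorial m : ℕ) : ℂ) := by
      rw [← Finset.prod_Ico_id_eq_factorial]
      push_cast
      rfl
    rw [h2]
    push_cast
    rfl
  -- the multiplicity of the principal character
  obtain ⟨t, ht⟩ := Cfsg.Agent.Helper8.genChar_inner_int hΦgc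
    (⟨fun _ => (1 : ℂ), isIrrCharacter_one⟩ : IrrCharacter (P : Subgroup G))
  have hPc0 : (Nat.card (P : Subgroup G) : ℂ) ≠ 0 := by
    exact_mod_cast (Nat.card_pos (α := (P : Subgroup G))).ne'
  have hsum : ∑ x : (P : Subgroup G), Φ x * conj (1 : ℂ) = ((p ^ m * Nat.factorial m : ℕ) : ℂ) := by
    rw [Finset.sum_eq_single (1 : (P : Subgroup G))]
    · rw [hΦ1, map_one, mul_one]
    · intro x _ hx
      rw [hΦ0 x hx, zero_mul]
    · intro h
      exact absurd (Finset.mem_univ _) h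
  unfold classInner at ht
  simp only at ht
  rw [hsum, hPcard] at ht
  have h5 : ((p ^ m * Nat.factorial m : ℕ) : ℂ) = ((p ^ a : ℕ) : ℂ) * (t : ℂ) := by
    have hq0 : ((p ^ a : ℕ) : ℂ) ≠ 0 := by exact_mod_cast (pow_pos hp.pos a).ne'
    rw [← ht, ← mul_assoc, mul_inv_cancel₀ hq0, one_mul]
  have h6 : ((p ^ m * Nat.factorial m : ℕ) : ℤ) = ((p ^ a : ℕ) : ℤ) * t := by exact_mod_cast h5
  have h7 : ((p ^ a : ℕ) : ℤ) ∣ ((p ^ m * Nat.factorial m : ℕ) : ℤ) := ⟨t, h6⟩
  exact Int.natCast_dvd_natCast.1 h7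

end Main

end Cfsg.Agent.Helper18.Schur
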