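import Mathlib
import Cfsg.Agent.Lib.Helper18.SchurBound3

/-!
# Schur's bound for a `p`-group with a power-invariant character, kernel allowed (helper18)
-/

set_option autoImplicit false
set_option linter.unusedSectionVars false

namespace Cfsg.Agent.Helper18.PSolvLin

open Cfsg Cfsg.Agent.Helper24 Cfsg.Agent.Helper23.Blk Cfsg.Agent.Helper18 Cfsg.Agent.Helper18.Schur
open scoped ComplexConjugate Nat

universe u

/-- the exponent in Schur's bound -/
def lam (p n : ℕ) : ℕ := ∑ i ∈ Finset.range (n + 1), n / ((p - 1) * p ^ i)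

theorem lam_mono (p : ℕ) {m n : ℕ} (h : m ≤ n) : lam p m ≤ lam p n := by
  unfold lam
  calc ∑ i ∈ Finset.range (m + 1), m / ((p - 1) * p ^ i)
      ≤ ∑ i ∈ Finset.range (m + 1), n / ((p - 1) * p ^ i) :=
        Finset.sum_le_sum (fun i _ => Nat.div_le_div_right h)
    _ ≤ ∑ i ∈ Finset.range (n + 1), n / ((p - 1) * p ^ i) :=
        Finset.sum_le_sum_of_subset (Finset.range_mono (by omega))

theorem pow_apply_eigen {V : Type*} [AddCommGroup V] [Module ℂ V] (f : Module.End ℂ V) (v : V)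
    (μ : ℂ) (h : f v = μ • v) (j : ℕ) : (f ^ j) v = μ ^ j • v := by
  induction j with
  | zero => simp
  | succ j ih =>
    rw [pow_succ, Module.End.mul_apply, h, map_smul, ih, smul_smul, pow_succ, mul_comm]

section Main

variable {P : Type u} [Group P] [Fintype P]

set_option maxHeartbeats 3200000 in
theorem schur_bound_pgroup (p : ℕ) (hp : p.Prime) (a : ℕ) (hPcard : Nat.card P = p ^ a)
    (Ψ : P → ℂ) (hΨ : IsCharacter P Ψ)
    (hinvΨ : ∀ (x : P) (j : ℕ), ¬ p ∣ j → Ψ (x ^ j) = Ψ x)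
    (n : ℕ) (hn : charDegree Ψ = n) :
    Nat.card P ≤ Nat.card {x : P // Ψ x = Ψ 1} * p ^ (lam p n) := by
  classical
  haveI : Fact p.Prime := ⟨hp⟩
  letI : Fintype (IrrCharacter P) := irrFintype
  obtain ⟨M, hM⟩ := Cfsg.Agent.Helper24.Glaub.exists_isPModular hp
  obtain ⟨n', ρ, rfl⟩ := hΨ
  have hnn : n' = n := by
    rw [← hn, Cfsg.Agent.Helper23.charDegree_character_fin]
  subst hnn
  have hχ1 : ρ.character 1 = (n' : ℂ) := Cfsg.Agent.Helper23.character_one_fin n' ρ
  obtain ⟨m, hm⟩ : ∃ m, m = n' / (p - 1) := ⟨_, rfl⟩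
  have hp1pos : 0 < p - 1 := by
    have := hp.one_lt
    omega
  obtain ⟨K, hK⟩ : ∃ K, K = Nat.card {x : P // ρ.character x = ρ.character 1} := ⟨_, rfl⟩
  rw [← hK]
  have hKpos : 0 < K := by
    rw [hK]
    haveI : Nonempty {x : P // ρ.character x = ρ.character 1} := ⟨⟨1, rfl⟩⟩
    exact Nat.card_pos
  have hlam : lam p n' = m + (Nat.factorial m).factorization p := by
    have hlog : Nat.log p m < n' + 1 := by
      have h2 : Nat.log p m ≤ m := Nat.log_le_self p m
      have h3 : m ≤ n' := by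
        rw [hm]
        exact Nat.div_le_self _ _
      omega
    rw [Nat.factorization_factorial hp hlog]
    unfold lam
    rw [Finset.range_eq_Ico, Finset.sum_eq_sum_Ico_succ_bot (Nat.succ_pos n')]
    congr 1
    · rw [pow_zero, mul_one, hm]
    · apply Finset.sum_congr rfl
      intro i _
      rw [hm, Nat.div_div_eq_div_mul]
  -- the arithmetic conclusion
  suffices hdvd : p ^ a ∣ K * (p ^ m * Nat.factorial m) by
    rw [hPcard]
    have hf0 : Nat.factorial m ≠ 0 := (Nat.factorial_pos m).ne'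
    have h1 := Nat.ordProj_mul_ordCompl_eq_self (Nat.factorial m) p
    have h2 : Nat.Coprime p (Nat.factorial m / p ^ (Nat.factorial m).factorization p) :=
      Nat.coprime_ordCompl hp hf0
    have h3 : K * (p ^ m * Nat.factorial m) =
        (K * p ^ (lam p n')) * (Nat.factorial m / p ^ (Nat.factorial m).factorization p) := by
      rw [hlam, pow_add]
      conv_lhs => rw [← h1]
      ring
    rw [h3] at hdvd
    have h4 : p ^ a ∣ K * p ^ (lam p n') :=
      Nat.Coprime.dvd_of_dvd_mul_right (Nat.Coprime.pow_left a h2) hdvd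
    exact Nat.le_of_dvd (Nat.mul_pos hKpos (pow_pos hp.pos _)) h4
  by_cases ha0 : a = 0
  · rw [ha0, pow_zero]
    exact one_dvd _
  have hapos : 0 < a := Nat.pos_of_ne_zero ha0
  -- values
  have hval : ∀ x : P, ρ.character x ≠ ρ.character 1 → ∃ s : ℕ, 1 ≤ s ∧ s ≤ m ∧
      ρ.character x = (n' : ℂ) - ((p * s : ℕ) : ℂ) := by
    intro x hx
    have hxpow : x ^ (p ^ a) = 1 := by
      rw [← hPcard]
      exact pow_card_eq_one'
    have hpow : (ρ x) ^ (p ^ a) = 1 := by
      rw [← map_pow, hxpow, map_one]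
    obtain ⟨n'', b, μ, hμ, hb⟩ :=
      exists_eigenbasis_of_pow_eq_one (ρ x) (pow_pos hp.pos a) hpow
    have hnn' : n'' = n' := by
      have h1 := finrank_eq_of_basis b
      rw [Module.finrank_fin_fun] at h1
      exact h1.symm
    subst hnn'
    have htr : ρ.character x = ∑ i, μ i := trace_eq_sum_of_eigenbasis b μ (ρ x) hb
    have hinv : ∀ j, ¬ p ∣ j → ∑ i, μ i ^ j = ∑ i, μ i := by
      intro j hj
      have h1 : ρ.character (x ^ j) = ∑ i, μ i ^ j := by
        have h2 : ρ (x ^ j) = (ρ x) ^ j := map_pow ρ x j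
        show LinearMap.trace ℂ _ (ρ (x ^ j)) = _
        rw [h2]
        exact trace_eq_sum_of_eigenbasis b (fun i => μ i ^ j) ((ρ x) ^ j)
          (fun i => pow_apply_eigen (ρ x) (b i) (μ i) (hb i) j)
      rw [← h1, ← htr]
      exact hinvΨ x j hj
    have hne : ∑ i, μ i ≠ (n'' : ℂ) := by
      intro h
      apply hx
      rw [htr, h, hχ1]
    obtain ⟨s, hs1, hs2, hs3⟩ := value_structure hM hapos μ hμ hinv hne
    refine ⟨s, hs1, ?_, by rw [htr, hs3]⟩
    rw [hm, Nat.le_div_iff_mul_le hp1pos, mul_comm]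
    exact hs2
  -- the product
  obtain ⟨Φ, hΦdef⟩ : ∃ Φ : P → ℂ, Φ = ∏ s ∈ Finset.Icc 1 m,
      ((fun x : P => ρ.character x) -
        (((n' : ℤ) - ((p * s : ℕ) : ℤ) : ℤ) : ℂ) • (fun _ : P => (1 : ℂ))) :=
    ⟨_, rfl⟩
  have hΦgc : IsGeneralizedCharacter P Φ := by
    rw [hΦdef]
    apply isGenChar_prod
    intro s _
    apply isGenChar_sub
    · exact isGenChar_of_isCharacter ⟨n', ρ, rfl⟩
    · exact isGenChar_intCast_smul _ isGenChar_one
  have hΦapply : ∀ x : P, Φ x = ∏ s ∈ Finset.Icc 1 m,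
      (ρ.character x - ((n' : ℂ) - ((p * s : ℕ) : ℂ))) := by
    intro x
    rw [hΦdef, Finset.prod_apply]
    apply Finset.prod_congr rfl
    intro s _
    rw [Pi.sub_apply, Pi.smul_apply, smul_eq_mul, mul_one]
    push_cast
    rfl
  have hΦ0 : ∀ x : P, ρ.character x ≠ ρ.character 1 → Φ x = 0 := by
    intro x hx
    obtain ⟨s, hs1, hs2, hs3⟩ := hval x hx
    rw [hΦapply]
    apply Finset.prod_eq_zero (Finset.mem_Icc.2 ⟨hs1, hs2⟩)
    rw [hs3, sub_self]
  have hΦ1 : ∀ x : P, ρ.character x = ρ.character 1 →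
      Φ x = ((p ^ m * Nat.factorial m : ℕ) : ℂ) := by
    intro x hx
    rw [hΦapply, hx, hχ1]
    have h1 : ∀ s ∈ Finset.Icc 1 m, ((n' : ℂ) - ((n' : ℂ) - ((p * s : ℕ) : ℂ))) =
        (p : ℂ) * (s : ℂ) := by
      intro s _
      push_cast
      ring
    rw [Finset.prod_congr rfl h1, Finset.prod_mul_distrib, Finset.prod_const, Nat.card_Icc,
      Nat.add_sub_cancel]
    have h2 : ∏ s ∈ Finset.Icc 1 m, (s : ℂ) = ((Nat.factorial m : ℕ) : ℂ) := by
      rw [← Finset.prod_Ico_id_eq_factorial]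
      push_cast
      rfl
    rw [h2]
    push_cast
    rfl
  -- the multiplicity of the principal character
  obtain ⟨t, ht⟩ := Cfsg.Agent.Helper8.genChar_inner_int hΦgc
    (⟨fun _ => (1 : ℂ), isIrrCharacter_one⟩ : IrrCharacter P)
  have hsum : ∑ x : P, Φ x * conj (1 : ℂ) =
      ((K * (p ^ m * Nat.factorial m) : ℕ) : ℂ) := by
    have h1 : ∀ x : P, Φ x * conj (1 : ℂ) =
        if ρ.character x = ρ.character 1 then ((p ^ m * Nat.factorial m : ℕ) : ℂ) else 0 := by
      intro x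
      rw [map_one, mul_one]
      by_cases hx : ρ.character x = ρ.character 1
      · rw [if_pos hx, hΦ1 x hx]
      · rw [if_neg hx, hΦ0 x hx]
    rw [Finset.sum_congr rfl (fun x _ => h1 x), ← Finset.sum_filter, Finset.sum_const,
      nsmul_eq_mul]
    have h2 : (Finset.univ.filter (fun x : P => ρ.character x = ρ.character 1)).card = K := by
      rw [hK, Nat.card_eq_fintype_card, Fintype.card_subtype]
    rw [h2]
    push_cast
    rfl
  unfold classInner at ht
  simp only at ht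
  rw [hsum, hPcard] at ht
  have h5 : ((K * (p ^ m * Nat.factorial m) : ℕ) : ℂ) = ((p ^ a : ℕ) : ℂ) * (t : ℂ) := by
    have hq0 : ((p ^ a : ℕ) : ℂ) ≠ 0 := by exact_mod_cast (pow_pos hp.pos a).ne'
    rw [← ht, mul_inv_cancel_left₀ hq0]
  have h6 : ((K * (p ^ m * Nat.factorial m) : ℕ) : ℤ) = ((p ^ a : ℕ) : ℤ) * t := by
    exact_mod_cast h5
  have h7 : ((p ^ a : ℕ) : ℤ) ∣ ((K * (p ^ m * Nat.factorial m) : ℕ) : ℤ) := ⟨t, h6⟩
  exact Int.natCast_dvd_natCast.1 h7

end Main

end Cfsg.Agent.Helper18.PSolvLin
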