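import Mathlib
import Cfsg.Prelude.Def_Blocks
import Cfsg.Agent.S0867
import Cfsg.Agent.Lib.Helper5.Clifford
import Cfsg.Agent.Lib.Helper5.DetChar
import Cfsg.Agent.Lib.Helper24.CoprimeDegree
import Cfsg.Agent.Lib.Helper24.CanonicalExt
import Cfsg.Agent.Lib.Helper18.CliffordCorr

/-!
# Canonical extensions, induced: the tools for `p`-solvable linear groups (helper18)
-/

set_option autoImplicit false
set_option linter.style.haveILetI false
set_option linter.unusedSectionVars false

namespace Cfsg.Agent.Helper18.PSolvLin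

open Cfsg Cfsg.Agent.Helper24 Cfsg.Agent.Helper18
open scoped ComplexConjugate

universe u

section Ext

variable {Γ : Type u} [Group Γ] [Finite Γ]

/-- **the canonical extension to the inertia group** is invariant under the power maps
`y ↦ y ^ k`, `k ≡ 1` modulo `|N|` and prime to the group order -/
theorem exists_canonical_extension {p : ℕ} [hp : Fact p.Prime] (N T : Subgroup Γ)
    [hN : N.Normal] (hNT : N ≤ T) (hNp : (Nat.card N).Coprime p) (a : ℕ)
    (hidx : N.relIndex T = p ^ a) (θ : N → ℂ) (hθ : IsIrrCharacter N θ)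
    (hθinv : ∀ x ∈ T, Helper5.conjFun N x θ = θ) :
    ∃ θh : T → ℂ, IsIrrCharacter T θh ∧ (∀ n : N, θh ⟨n, hNT n.2⟩ = θ n) ∧
      ∀ k : ℕ, (Nat.card T).Coprime k → k ≡ 1 [MOD Nat.card N] →
        ∀ y : T, θh (y ^ k) = θh y := by
  classical
  haveI : Fintype Γ := Fintype.ofFinite Γ
  haveI : Fintype N := Fintype.ofFinite N
  let e : N.subgroupOf T ≃* N := Subgroup.subgroupOfEquivOfLe hNT
  set ϑ : N.subgroupOf T → ℂ := θ ∘ e with hϑdef
  have hϑ : IsIrrCharacter (N.subgroupOf T) ϑ := Helper5.isIrrCharacter_comp_equiv e hθ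
  have hϑinv : ∀ (k : T) (n : N.subgroupOf T),
      ϑ ⟨k * n * k⁻¹, (inferInstance : (N.subgroupOf T).Normal).conj_mem (n : T) n.2 k⟩ =
        ϑ n := by
    intro k n
    have h1 := congrFun (hθinv (k : Γ) k.2) (e n)
    rw [Helper5.conjFun_apply] at h1
    rw [hϑdef, Function.comp_apply, Function.comp_apply, ← h1]
    congr 1
  obtain ⟨d, hdpos, hd⟩ := irr_one_eq hθ
  have hϑ1 : ϑ 1 = d := by
    rw [hϑdef, Function.comp_apply, map_one, hd]
  have hcardN : Nat.card (N.subgroupOf T) = Nat.card N := Nat.card_congr e.toEquiv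
  have hidx' : (N.subgroupOf T).index = p ^ a := hidx
  have hdetdvd : detOrder ϑ ∣ Nat.card N := by
    have h2 := Cfsg.Agent.Helper24.CopDeg.detOrder_dvd_card' (isCharacter_of_isIrrCharacter hϑ)
    rwa [hcardN] at h2
  have hcop : Nat.Coprime (N.subgroupOf T).index (detOrder ϑ * d) := by
    rw [hidx']
    apply Nat.Coprime.pow_left
    apply Nat.Coprime.mul_right
    · exact (Nat.Coprime.coprime_dvd_left hdetdvd hNp).symm
    · have h2 := charDegree_dvd_card hθ
      rw [charDegree_natCast d hd] at h2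
      exact (Nat.Coprime.coprime_dvd_left h2 hNp).symm
  obtain ⟨χ, ⟨hχ, hχN, hχo⟩, -⟩ :=
    Cfsg.Agent.S0867.result (N.subgroupOf T) ϑ hϑ hϑinv d hϑ1 hcop
  refine ⟨χ, hχ, ?_, ?_⟩
  · intro n
    have h1 := hχN (e.symm n)
    rw [hϑdef, Function.comp_apply, MulEquiv.apply_symm_apply] at h1
    rw [← h1]
    congr 1
  · intro k hk hk1 y
    have hres : IsIrrCharacter (N.subgroupOf T) (fun g : N.subgroupOf T => χ g) := by
      have : (fun g : N.subgroupOf T => χ g) = ϑ := funext hχN
      rw [this]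
      exact hϑ
    have hcop1 : (Nat.card (N.subgroupOf T)).Coprime (N.subgroupOf T).index := by
      rw [hcardN, hidx']
      exact Nat.Coprime.pow_right a hNp
    have hdet : (detOrder χ).Coprime (N.subgroupOf T).index := by
      rw [hχo, hidx']
      exact Nat.Coprime.pow_right a (Nat.Coprime.coprime_dvd_left hdetdvd hNp)
    have hk1' : k ≡ 1 [MOD Nat.card (N.subgroupOf T)] := by
      rw [hcardN]
      exact hk1
    exact Cfsg.Agent.Helper24.CanonExt.comp_pow_eq_of_canonical (N.subgroupOf T) hχ hres hcop1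
      hdet hk hk1' y

end Ext

section Ind

variable {Γ : Type u} [Group Γ] [Fintype Γ]

/-- the induced function inherits the invariance under power maps -/
theorem indFun_pow_invariant (T : Subgroup Γ) (ψ : T → ℂ) (k : ℕ)
    (hk : (Nat.card Γ).Coprime k) (hψ : ∀ y : T, ψ (y ^ k) = ψ y) (g : Γ) :
    indFun T ψ (g ^ k) = indFun T ψ g := by
  rw [indFun_apply, indFun_apply]
  congr 1
  apply Finset.sum_congr rfl
  intro x _
  have h1 : x⁻¹ * g ^ k * x = (x⁻¹ * g * x) ^ k := by
    have h0 := conj_pow (i := k) (a := x⁻¹) (b := g)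
    rw [inv_inv] at h0
    exact h0.symm
  rw [h1]
  obtain ⟨z, hz⟩ : ∃ z, z = x⁻¹ * g * x := ⟨_, rfl⟩
  rw [← hz]
  by_cases hzT : z ∈ T
  · rw [Cfsg.Agent.Helper24.extendByZero_of_mem T ψ hzT,
      Cfsg.Agent.Helper24.extendByZero_of_mem T ψ (T.pow_mem hzT k)]
    have h2 := hψ ⟨z, hzT⟩
    rw [← h2]
    congr 1
  · have hzk : z ^ k ∉ T := by
      intro h
      apply hzT
      have hcop : Nat.Coprime k (orderOf z) :=
        (Nat.Coprime.coprime_dvd_left (orderOf_dvd_natCard z) hk).symm
      obtain ⟨m, hm⟩ := exists_pow_eq_self_of_coprime hcop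
      rw [← hm]
      exact T.pow_mem h m
    rw [Cfsg.Agent.Helper24.extendByZero_of_not_mem T ψ hzT,
      Cfsg.Agent.Helper24.extendByZero_of_not_mem T ψ hzk]

variable (N : Subgroup Γ) [hN : N.Normal]

open Classical in
/-- the orbit of `θ`, as a finite set of irreducible characters -/
noncomputable def orbitSet [Fintype (IrrCharacter N)] (θ : N → ℂ) : Finset (IrrCharacter N) :=
  Finset.univ.filter (fun μ : IrrCharacter N => ∃ x : Γ, Helper5.conjFun N x θ = (μ : N → ℂ))

theorem mem_orbitSet [Fintype (IrrCharacter N)] (θ : N → ℂ) (μ : IrrCharacter N) :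
    μ ∈ orbitSet N θ ↔ ∃ x : Γ, Helper5.conjFun N x θ = (μ : N → ℂ) := by
  classical
  unfold orbitSet
  rw [Finset.mem_filter]
  exact ⟨fun h => h.2, fun h => ⟨Finset.mem_univ _, h⟩⟩

/-- the sum of all conjugates of `θ` is `|I(θ)|` times the orbit sum -/
theorem sum_conjFun_eq [Fintype (IrrCharacter N)]
    {θ : N → ℂ} (hθ : IsIrrCharacter N θ) :
    ∑ x : Γ, Helper5.conjFun N x θ =
      (Nat.card (inertia N θ) : ℂ) • ∑ μ ∈ orbitSet N θ, (μ : N → ℂ) := by
  classical
  let c : Γ → IrrCharacter N :=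
    fun x => ⟨Helper5.conjFun N x θ, Helper5.isIrrCharacter_conjFun N x hθ⟩
  have hsum : ∑ x : Γ, Helper5.conjFun N x θ =
      ∑ μ : IrrCharacter N, ((Finset.univ.filter (fun x : Γ => c x = μ)).card : ℂ) •
        (μ : N → ℂ) := by
    rw [← Finset.sum_fiberwise (Finset.univ) c (fun x => Helper5.conjFun N x θ)]
    refine Finset.sum_congr rfl fun μ _ => ?_
    have : ∀ x ∈ Finset.univ.filter (fun x : Γ => c x = μ),
        Helper5.conjFun N x θ = (μ : N → ℂ) := by
      intro x hx
      rw [Finset.mem_filter] at hx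
      rw [← hx.2]
    rw [Finset.sum_congr rfl this, Finset.sum_const, ← Nat.cast_smul_eq_nsmul ℂ]
  have hsub : ∑ μ ∈ orbitSet N θ, (μ : N → ℂ) =
      ∑ μ : IrrCharacter N, (if μ ∈ orbitSet N θ then (μ : N → ℂ) else 0) := by
    rw [Finset.sum_ite_mem, Finset.univ_inter]
  rw [hsum, hsub, Finset.smul_sum]
  refine Finset.sum_congr rfl fun μ _ => ?_
  by_cases hμ : μ ∈ orbitSet N θ
  · rw [if_pos hμ]
    obtain ⟨x₀, hx₀⟩ := (mem_orbitSet N θ μ).1 hμ
    have h2 : (Finset.univ.filter (fun x : Γ => c x = μ)).card = Nat.card (inertia N θ) := by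
      have h3 : Nat.card (inertia N θ) = Nat.card {x : Γ // Helper5.conjFun N x θ = θ} := rfl
      rw [h3, Nat.card_eq_fintype_card, Fintype.card_subtype]
      apply Finset.card_bij (fun x _ => x * x₀⁻¹)
      · intro x hx
        rw [Finset.mem_filter] at hx ⊢
        refine ⟨Finset.mem_univ _, ?_⟩
        have h3 : Helper5.conjFun N x θ = Helper5.conjFun N x₀ θ := by
          have := congrArg Subtype.val hx.2
          exact this.trans hx₀.symm
        rw [Helper5.conjFun_mul, h3, Helper5.conjFun_inv_conjFun]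
      · intro a _ b _ hab
        exact mul_right_cancel hab
      · intro y hy
        rw [Finset.mem_filter] at hy
        refine ⟨y * x₀, ?_, by rw [mul_inv_cancel_right]⟩
        rw [Finset.mem_filter]
        refine ⟨Finset.mem_univ _, ?_⟩
        apply Subtype.ext
        show Helper5.conjFun N (y * x₀) θ = (μ : N → ℂ)
        rw [Helper5.conjFun_mul, hy.2, hx₀]
    rw [h2]
  · rw [if_neg hμ]
    have h2 : (Finset.univ.filter (fun x : Γ => c x = μ)).card = 0 := by
      rw [Finset.card_eq_zero, Finset.filter_eq_empty_iff]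
      intro x _ hx
      exact hμ ((mem_orbitSet N θ μ).2 ⟨x, congrArg Subtype.val hx⟩)
    rw [h2]
    simp

/-- the restriction to `N` of the character induced from an extension of `θ` to its inertia
group is the orbit sum -/
theorem indFun_extension_restrict [Fintype (IrrCharacter N)]
    {θ : N → ℂ} (hθ : IsIrrCharacter N θ) (hNT : N ≤ inertia N θ)
    (θh : inertia N θ → ℂ) (hext : ∀ n : N, θh ⟨n, hNT n.2⟩ = θ n) (n : N) :
    indFun (inertia N θ) θh n = ∑ μ ∈ orbitSet N θ, (μ : N → ℂ) n := by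
  have h1 := congrFun (Helper5.indFun_restrict_normal N (inertia N θ) hNT θh) n
  have h2 : Helper5.resFun hNT θh = θ := by
    funext m
    rw [Helper5.resFun_apply]
    exact hext m
  rw [h2, sum_conjFun_eq N hθ, smul_smul] at h1
  have hT0 : (Nat.card (inertia N θ) : ℂ) ≠ 0 := by
    rw [Nat.cast_ne_zero]
    exact Nat.card_pos.ne'
  rw [inv_mul_cancel₀ hT0, one_smul, Finset.sum_apply] at h1
  exact h1

end Ind

end Cfsg.Agent.Helper18.PSolvLin
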