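import Mathlib
import Cfsg.Agent.Lib.Helper18.PSolvLin1
import Cfsg.Agent.Lib.Helper18.PSolvLin3
import Cfsg.Agent.Lib.Helper24.CharAlgebra
import Cfsg.Agent.Lib.Helper24.CharOrtho
import Cfsg.Agent.Lib.Helper22.PPrimeCore

/-!
# The character `Ψ` of `Γ = Q P` and the bound for coprime actions inside a linear group
(helper18)
-/

set_option autoImplicit false
set_option linter.style.haveILetI false
set_option linter.unusedSectionVars false

namespace Cfsg.Agent.Helper18.PSolvLin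

open Cfsg Cfsg.Agent.Helper24 Cfsg.Agent.Helper18
open scoped ComplexConjugate

universe u

theorem eq_of_re_eq_of_norm_le {z : ℂ} {d : ℝ} (h1 : z.re = d) (h2 : ‖z‖ ≤ d) : z = d := by
  have h3 : ‖z‖ ^ 2 = z.re * z.re + z.im * z.im := by
    rw [Complex.sq_norm, Complex.normSq_apply]
  have h4 : 0 ≤ ‖z‖ := norm_nonneg z
  have h6 : ‖z‖ ^ 2 ≤ d ^ 2 := pow_le_pow_left₀ h4 h2 2
  have h7 : z.im * z.im ≤ 0 := by
    rw [h3, h1] at h6
    nlinarith
  have h5 : z.im = 0 := mul_self_eq_zero.1 (le_antisymm h7 (mul_self_nonneg _))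
  apply Complex.ext
  · rw [Complex.ofReal_re]; exact h1
  · rw [Complex.ofReal_im]; exact h5

theorem char_one_eq_charDegree {H : Type u} [Group H] {φ : H → ℂ} (h : IsCharacter H φ) :
    φ 1 = (charDegree φ : ℂ) := by
  obtain ⟨n, ρ, rfl⟩ := h
  rw [Cfsg.Agent.Helper23.charDegree_character_fin, Cfsg.Agent.Helper23.character_one_fin]

theorem eq_of_sum_eq {H : Type u} [Group H] [Finite H] {ι : Type*} (s : Finset ι)
    (f : ι → H → ℂ) (hf : ∀ i ∈ s, IsCharacter H (f i)) (g : H)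
    (h : ∑ i ∈ s, f i g = ∑ i ∈ s, f i 1) : ∀ i ∈ s, f i g = f i 1 := by
  have hre_le : ∀ i ∈ s, (f i g).re ≤ (f i 1).re := by
    intro i hi
    have h1 := norm_le_charDegree (hf i hi) g
    have h2 : (f i 1).re = (charDegree (f i) : ℝ) := by
      rw [char_one_eq_charDegree (hf i hi), Complex.natCast_re]
    rw [h2]
    exact (Complex.re_le_norm _).trans h1
  have hsum : ∑ i ∈ s, (f i g).re = ∑ i ∈ s, (f i 1).re := by
    have := congrArg Complex.re h
    rwa [Complex.re_sum, Complex.re_sum] at this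
  intro i hi
  have h1 : (f i g).re = (f i 1).re := (Finset.sum_eq_sum_iff_of_le hre_le).1 hsum i hi
  have h2 : (f i 1).re = (charDegree (f i) : ℝ) := by
    rw [char_one_eq_charDegree (hf i hi), Complex.natCast_re]
  have h3 := eq_of_re_eq_of_norm_le (h1.trans h2) (norm_le_charDegree (hf i hi) g)
  rw [h3, char_one_eq_charDegree (hf i hi)]
  simp

section Construct

variable {Γ : Type u} [Group Γ] [Fintype Γ] (N : Subgroup Γ) [hN : N.Normal]

/-- conjugation on the irreducible characters of a normal subgroup -/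
def conjIrr (x : Γ) (μ : IrrCharacter N) : IrrCharacter N :=
  ⟨Helper5.conjFun N x μ.1, Helper5.isIrrCharacter_conjFun N x μ.2⟩

set_option maxHeartbeats 1600000 in
theorem exists_psi_aux {p : ℕ} [hp : Fact p.Prime] [Fintype (IrrCharacter N)]
    (hNp : (Nat.card N).Coprime p) (c : ℕ) (hidx : N.index = p ^ c) :
    ∀ (m : ℕ) (S : Finset (IrrCharacter N)), S.card = m →
      (∀ μ ∈ S, ∀ x : Γ, conjIrr N x μ ∈ S) →
      ∃ Ψ : Γ → ℂ, IsCharacter Γ Ψ ∧ (∀ n : N, Ψ n = ∑ μ ∈ S, (μ : N → ℂ) n) ∧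
        ∀ k : ℕ, (Nat.card Γ).Coprime k → k ≡ 1 [MOD Nat.card N] →
          ∀ y : Γ, Ψ (y ^ k) = Ψ y := by
  intro m
  induction m using Nat.strong_induction_on with
  | _ m ih =>
    intro S hcard hS
    classical
    by_cases hSe : S = ∅
    · subst hSe
      refine ⟨0, isCharacter_zero, ?_, ?_⟩
      · intro n
        simp
      · intro k _ _ y
        rfl
    · obtain ⟨θ, hθS⟩ := Finset.nonempty_iff_ne_empty.2 hSe
      obtain ⟨O, hO⟩ : ∃ O, O = orbitSet N θ.1 := ⟨_, rfl⟩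
      have hOS : O ⊆ S := by
        intro μ hμ
        rw [hO] at hμ
        obtain ⟨x, hx⟩ := (mem_orbitSet N θ.1 μ).1 hμ
        have h1 := hS θ hθS x
        have e : conjIrr N x θ = μ := Subtype.ext hx
        rwa [e] at h1
      have hθO : θ ∈ O := by
        rw [hO]
        exact (mem_orbitSet N θ.1 θ).2 ⟨1, Helper5.conjFun_one N θ.1⟩
      obtain ⟨S', hS'⟩ : ∃ S', S' = S \ O := ⟨_, rfl⟩
      have hS'card : S'.card < m := by
        rw [← hcard, hS']
        apply Finset.card_lt_card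
        rw [Finset.ssubset_iff_of_subset Finset.sdiff_subset]
        exact ⟨θ, hθS, fun h => (Finset.mem_sdiff.1 h).2 hθO⟩
      have hS'st : ∀ μ ∈ S', ∀ x : Γ, conjIrr N x μ ∈ S' := by
        intro μ hμ x
        rw [hS', Finset.mem_sdiff] at hμ ⊢
        refine ⟨hS μ hμ.1 x, ?_⟩
        intro h
        apply hμ.2
        rw [hO] at h ⊢
        obtain ⟨y, hy⟩ := (mem_orbitSet N θ.1 _).1 h
        have hy' : Helper5.conjFun N y θ.1 = Helper5.conjFun N x μ.1 := hy
        rw [mem_orbitSet]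
        refine ⟨y * x⁻¹, ?_⟩
        rw [Helper5.conjFun_mul, hy']
        exact Helper5.conjFun_inv_conjFun N x μ.1
      obtain ⟨Ψ', hΨ'c, hΨ'N, hΨ'k⟩ := ih S'.card hS'card S' rfl hS'st
      -- the inertia group
      have hNT : N ≤ inertia N θ.1 := le_inertia N (isClassFunction_of_isIrrCharacter θ.2)
      obtain ⟨a, ha⟩ : ∃ a, N.relIndex (inertia N θ.1) = p ^ a := by
        have h1 : N.relIndex (inertia N θ.1) ∣ N.index :=
          Subgroup.relIndex_dvd_index_of_normal N (inertia N θ.1)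
        rw [hidx] at h1
        obtain ⟨a, -, ha⟩ := (Nat.dvd_prime_pow hp.out).1 h1
        exact ⟨a, ha⟩
      obtain ⟨θh, hθh, hθhN, hθhk⟩ := exists_canonical_extension N (inertia N θ.1) hNT hNp a ha
        θ.1 θ.2 (fun x hx => (mem_inertia N θ.1 x).1 hx)
      refine ⟨Ψ' + indFun (inertia N θ.1) θh, isCharacter_add hΨ'c
        (isCharacter_indFun (inertia N θ.1) (isCharacter_of_isIrrCharacter hθh)), ?_, ?_⟩
      · intro n
        rw [Pi.add_apply, hΨ'N n, indFun_extension_restrict N θ.2 hNT θh hθhN n, hS', ← hO]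
        exact Finset.sum_sdiff hOS
      · intro k hk hk1 y
        rw [Pi.add_apply, Pi.add_apply, hΨ'k k hk hk1 y]
        congr 1
        apply indFun_pow_invariant (inertia N θ.1) θh k hk
        intro z
        apply hθhk k _ hk1 z
        exact Nat.Coprime.coprime_dvd_left (Subgroup.card_subgroup_dvd_card (inertia N θ.1)) hk

set_option maxHeartbeats 1600000 in
/-- **the character `Ψ`**: if `N` is a normal `p'`-subgroup of `p`-power index on which the
character `χ` is faithful, there is a character `Ψ` of degree at most `χ 1`, invariant under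
the power maps of exponent `k ≡ 1` modulo `|N|`, whose kernel centralizes `N` -/
theorem exists_char_of_faithful {p : ℕ} [hp : Fact p.Prime] (hNp : (Nat.card N).Coprime p)
    (c : ℕ) (hidx : N.index = p ^ c) (χ : Γ → ℂ) (hχ : IsCharacter Γ χ)
    (hfaith : ∀ g ∈ N, χ g = χ 1 → g = 1) :
    ∃ Ψ : Γ → ℂ, IsCharacter Γ Ψ ∧ charDegree Ψ ≤ charDegree χ ∧
      (∀ k : ℕ, (Nat.card Γ).Coprime k → k ≡ 1 [MOD Nat.card N] →
        ∀ y : Γ, Ψ (y ^ k) = Ψ y) ∧
      (∀ g : Γ, Ψ g = Ψ 1 → g ∈ Subgroup.centralizer (N : Set Γ)) := by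
  classical
  letI : Fintype N := Fintype.ofFinite N
  letI : Fintype (IrrCharacter N) := irrFintype
  obtain ⟨f, hf⟩ : ∃ f : N → ℂ, f = fun n : N => χ n := ⟨_, rfl⟩
  have hfc : IsCharacter N f := by
    rw [hf]
    exact isCharacter_restrict N hχ
  obtain ⟨hm, hdec⟩ := isCharacter_decomp hfc
  choose m hm using hm
  have hd : ∀ μ : IrrCharacter N, ∃ d : ℕ, 0 < d ∧ (μ : N → ℂ) 1 = d := fun μ => irr_one_eq μ.2
  choose d hdpos hd using hd
  obtain ⟨S, hS⟩ : ∃ S : Finset (IrrCharacter N), S = Finset.univ.filter (fun μ => m μ ≠ 0) :=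
    ⟨_, rfl⟩
  have hSst : ∀ μ ∈ S, ∀ x : Γ, conjIrr N x μ ∈ S := by
    intro μ hμ x
    rw [hS, Finset.mem_filter] at hμ ⊢
    refine ⟨Finset.mem_univ _, ?_⟩
    have h1 : classInner f ((conjIrr N x μ : IrrCharacter N) : N → ℂ) =
        classInner f (μ : N → ℂ) := by
      rw [hf]
      exact Helper5.classInner_restrict_conjFun N x (isClassFunction_of_isCharacter hχ) μ.1
    rw [hm, hm] at h1
    have h2 : m (conjIrr N x μ) = m μ := by exact_mod_cast h1
    rw [h2]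
    exact hμ.2
  obtain ⟨Ψ, hΨc, hΨN, hΨk⟩ := exists_psi_aux N hNp c hidx S.card S rfl hSst
  have hΨ1 : Ψ 1 = ((∑ μ ∈ S, d μ : ℕ) : ℂ) := by
    have h1 := hΨN 1
    rw [Subgroup.coe_one] at h1
    rw [h1]
    push_cast
    exact Finset.sum_congr rfl (fun μ _ => hd μ)
  have hf1 : f 1 = χ 1 := by
    rw [hf]
    show χ ((1 : N) : Γ) = χ 1
    rw [Subgroup.coe_one]
  have hχ1 : χ 1 = ((∑ μ : IrrCharacter N, m μ * d μ : ℕ) : ℂ) := by
    rw [← hf1]
    have h2 := congrFun hdec 1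
    rw [h2, Finset.sum_apply]
    push_cast
    apply Finset.sum_congr rfl
    intro μ _
    rw [Pi.smul_apply, smul_eq_mul, hm, hd]
  refine ⟨Ψ, hΨc, ?_, hΨk, ?_⟩
  · rw [charDegree_natCast _ hΨ1, charDegree_natCast _ hχ1]
    calc ∑ μ ∈ S, d μ ≤ ∑ μ ∈ S, m μ * d μ := by
          apply Finset.sum_le_sum
          intro μ hμ
          rw [hS, Finset.mem_filter] at hμ
          exact Nat.le_mul_of_pos_left _ (Nat.pos_of_ne_zero hμ.2)
      _ ≤ ∑ μ, m μ * d μ := Finset.sum_le_sum_of_subset (Finset.subset_univ S)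
  · have hker : ∀ g ∈ N, Ψ g = Ψ 1 → g = 1 := by
      intro g hg hgΨ
      apply hfaith g hg
      have h1 : ∑ μ ∈ S, (μ : N → ℂ) ⟨g, hg⟩ = ∑ μ ∈ S, (μ : N → ℂ) 1 := by
        rw [← hΨN ⟨g, hg⟩, ← hΨN 1, Subgroup.coe_one]
        exact hgΨ
      have h2 := eq_of_sum_eq S (fun μ => (μ : N → ℂ))
        (fun μ _ => isCharacter_of_isIrrCharacter μ.2) ⟨g, hg⟩ h1
      have h3 : f ⟨g, hg⟩ = f 1 := by
        have e1 := congrFun hdec ⟨g, hg⟩
        have e2 := congrFun hdec 1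
        rw [e1, e2, Finset.sum_apply, Finset.sum_apply]
        apply Finset.sum_congr rfl
        intro μ _
        rw [Pi.smul_apply, Pi.smul_apply]
        by_cases hμ : μ ∈ S
        · have := h2 μ hμ
          rw [this]
        · have h0 : m μ = 0 := by
            by_contra h
            apply hμ
            rw [hS, Finset.mem_filter]
            exact ⟨Finset.mem_univ _, h⟩
          rw [hm, h0]
          simp
      rw [hf1] at h3
      rw [← h3, hf]
    intro g hgΨ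
    rw [Subgroup.mem_centralizer_iff]
    intro n hn
    have hgK : g ∈ charKer hΨc := hgΨ
    haveI hKn := charKer_normal hΨc
    have h1 : g * n * g⁻¹ * n⁻¹ ∈ charKer hΨc := by
      have e : g * n * g⁻¹ * n⁻¹ = g * (n * g⁻¹ * n⁻¹) := by group
      rw [e]
      exact (charKer hΨc).mul_mem hgK (hKn.conj_mem g⁻¹ ((charKer hΨc).inv_mem hgK) n)
    have h2 : g * n * g⁻¹ * n⁻¹ ∈ N := N.mul_mem (hN.conj_mem n hn g) (N.inv_mem hn)
    have h3 := hker _ h2 ((mem_charKer hΨc _).1 h1)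
    calc n * g = (g * n * g⁻¹ * n⁻¹)⁻¹ * (g * n) := by group
      _ = g * n := by rw [h3, inv_one, one_mul]

end Construct

section Final

variable {G : Type u} [Group G] [Fintype G]

set_option maxHeartbeats 1600000 in
/-- **coprime action inside a linear group**: if `G` has a faithful character of degree `n` and
the `p`-subgroup `P` normalises the `p'`-subgroup `Q`, then `|P : C_P(Q)| ≤ p ^ λ_p(n)` -/
theorem card_le_of_faithful (p : ℕ) [hp : Fact p.Prime] (χ : G → ℂ) (hχ : IsCharacter G χ)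
    (hfaith : ∀ g : G, χ g = χ 1 → g = 1) (n : ℕ) (hn : charDegree χ = n) (Q P : Subgroup G)
    (hQ : (Nat.card Q).Coprime p) (hP : IsPGroup p P)
    (hPQ : P ≤ Subgroup.normalizer (Q : Set G)) :
    Nat.card P ≤
      Nat.card (P ⊓ Subgroup.centralizer (Q : Set G) : Subgroup G) * p ^ lam p n := by
  classical
  obtain ⟨Γ, hΓ⟩ : ∃ Γ : Subgroup G, Γ = P ⊔ Q := ⟨_, rfl⟩
  have hQΓ : Q ≤ Γ := by rw [hΓ]; exact le_sup_right
  have hPΓ : P ≤ Γ := by rw [hΓ]; exact le_sup_left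
  haveI hNn : (Q.subgroupOf Γ).Normal := by
    rw [hΓ]
    exact Subgroup.normal_subgroupOf_sup_of_le_normalizer hPQ
  haveI : Fintype Γ := Fintype.ofFinite Γ
  haveI : Fintype (P.subgroupOf Γ) := Fintype.ofFinite _
  have hNcard : Nat.card (Q.subgroupOf Γ) = Nat.card Q :=
    Nat.card_congr (Subgroup.subgroupOfEquivOfLe hQΓ).toEquiv
  have hP'card : Nat.card (P.subgroupOf Γ) = Nat.card P :=
    Nat.card_congr (Subgroup.subgroupOfEquivOfLe hPΓ).toEquiv
  obtain ⟨a, ha⟩ := IsPGroup.iff_card.mp hP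
  have hNp : (Nat.card (Q.subgroupOf Γ)).Coprime p := by rw [hNcard]; exact hQ
  obtain ⟨c, hc⟩ : ∃ c, (Q.subgroupOf Γ).index = p ^ c := by
    have h1 : P.subgroupOf Γ ⊔ Q.subgroupOf Γ = ⊤ := by
      rw [← Subgroup.subgroupOf_sup hPΓ hQΓ, ← hΓ, Subgroup.subgroupOf_self]
    have h2 := Helper22.card_sup_dvd_mul (P.subgroupOf Γ) (Q.subgroupOf Γ)
    rw [h1, Subgroup.card_top, ← (Q.subgroupOf Γ).card_mul_index, mul_comm (Nat.card _)
      (Nat.card _)] at h2
    have h3 : (Q.subgroupOf Γ).index ∣ Nat.card (P.subgroupOf Γ) :=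
      Nat.dvd_of_mul_dvd_mul_left Nat.card_pos h2
    rw [hP'card, ha] at h3
    obtain ⟨c, -, hc⟩ := (Nat.dvd_prime_pow hp.out).1 h3
    exact ⟨c, hc⟩
  have hχ' : IsCharacter Γ (fun x : Γ => χ x) := isCharacter_restrict Γ hχ
  have hdeg' : charDegree (fun x : Γ => χ x) = n := by
    rw [← hn]
    show ⌊(χ ((1 : Γ) : G)).re⌋₊ = ⌊(χ 1).re⌋₊
    rw [Subgroup.coe_one]
  have hfaith' : ∀ g ∈ Q.subgroupOf Γ, (fun x : Γ => χ x) g = (fun x : Γ => χ x) 1 → g = 1 := by
    intro g _ hg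
    apply Subtype.ext
    apply hfaith
    have : χ (g : G) = χ ((1 : Γ) : G) := hg
    rwa [Subgroup.coe_one] at this
  obtain ⟨Ψ, hΨc, hΨdeg, hΨk, hΨker⟩ :=
    exists_char_of_faithful (Q.subgroupOf Γ) hNp c hc (fun x : Γ => χ x) hχ' hfaith'
  rw [hdeg'] at hΨdeg
  -- the restriction to `P`
  obtain ⟨Ψ', hΨ'⟩ : ∃ Ψ' : P.subgroupOf Γ → ℂ, Ψ' = fun y : P.subgroupOf Γ => Ψ y :=
    ⟨_, rfl⟩
  have hΨ'c : IsCharacter (P.subgroupOf Γ) Ψ' := by
    rw [hΨ']
    exact isCharacter_restrict (P.subgroupOf Γ) hΨc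
  have hdegΨ' : charDegree Ψ' = charDegree Ψ := by
    rw [hΨ']
    show ⌊(Ψ ((1 : P.subgroupOf Γ) : Γ)).re⌋₊ = ⌊(Ψ 1).re⌋₊
    rw [Subgroup.coe_one]
  have hΓcard : Nat.card Γ = Nat.card (Q.subgroupOf Γ) * p ^ c := by
    rw [← hc]
    exact ((Q.subgroupOf Γ).card_mul_index).symm
  have hinv : ∀ (y : P.subgroupOf Γ) (j : ℕ), ¬ p ∣ j → Ψ' (y ^ j) = Ψ' y := by
    intro y j hj
    have hcopM : Nat.Coprime (p ^ (a + 1)) (Nat.card (Q.subgroupOf Γ)) :=
      Nat.Coprime.pow_left _ hNp.symm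
    obtain ⟨k, hk1, hk2⟩ := Nat.chineseRemainder hcopM j 1
    have hkp : ¬ p ∣ k := by
      have h1 : k ≡ j [MOD p] := hk1.of_dvd (dvd_pow_self p (Nat.succ_ne_zero a))
      rw [h1.dvd_iff (dvd_refl p)]
      exact hj
    have hkΓ : (Nat.card Γ).Coprime k := by
      rw [hΓcard]
      apply Nat.Coprime.mul_left
      · have h1 : Nat.gcd k (Nat.card (Q.subgroupOf Γ)) = 1 := by
          rw [hk2.gcd_eq]
          exact Nat.gcd_one_left _
        exact Nat.Coprime.symm h1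
      · exact Nat.Coprime.pow_left c ((Nat.Prime.coprime_iff_not_dvd hp.out).2 hkp)
    have hyk : y ^ k = y ^ j := by
      rw [pow_eq_pow_iff_modEq]
      apply hk1.of_dvd
      have h1 : orderOf y ∣ Nat.card (P.subgroupOf Γ) := orderOf_dvd_natCard y
      rw [hP'card, ha] at h1
      exact h1.trans (pow_dvd_pow p (Nat.le_succ a))
    rw [← hyk, hΨ']
    show Ψ (((y ^ k : P.subgroupOf Γ)) : Γ) = Ψ y
    rw [Subgroup.coe_pow]
    exact hΨk k hkΓ hk2 y
  have key := schur_bound_pgroup p hp.out a (hP'card.trans ha) Ψ' hΨ'c hinv (charDegree Ψ') rfl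
  -- the kernel
  have hK : Nat.card {y : P.subgroupOf Γ // Ψ' y = Ψ' 1} ≤
      Nat.card (P ⊓ Subgroup.centralizer (Q : Set G) : Subgroup G) := by
    have hmem : ∀ y : {y : P.subgroupOf Γ // Ψ' y = Ψ' 1},
        (((y.1 : Γ)) : G) ∈ P ⊓ Subgroup.centralizer (Q : Set G) := by
      intro y
      rw [Subgroup.mem_inf]
      refine ⟨Subgroup.mem_subgroupOf.1 y.1.2, ?_⟩
      have h1 : Ψ (y.1 : Γ) = Ψ 1 := by
        have h2 : Ψ' y.1 = Ψ' 1 := y.2
        have e : ∀ z : P.subgroupOf Γ, Ψ' z = Ψ z := fun z => by rw [hΨ']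
        have h3 : Ψ (y.1 : Γ) = Ψ ((1 : P.subgroupOf Γ) : Γ) :=
          (e y.1).symm.trans (h2.trans (e 1))
        rwa [Subgroup.coe_one] at h3
      have h2 := hΨker (y.1 : Γ) h1
      rw [Subgroup.mem_centralizer_iff] at h2 ⊢
      intro q hq
      have h3 := h2 ⟨q, hQΓ hq⟩ (Subgroup.mem_subgroupOf.2 hq)
      exact congrArg Subtype.val h3
    let φ : {y : P.subgroupOf Γ // Ψ' y = Ψ' 1} →
        (P ⊓ Subgroup.centralizer (Q : Set G) : Subgroup G) := fun y => ⟨_, hmem y⟩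
    have hφ : ∀ y, ((φ y : (P ⊓ Subgroup.centralizer (Q : Set G) : Subgroup G)) : G) =
        (((y.1 : Γ)) : G) := fun y => rfl
    apply Nat.card_le_card_of_injective φ
    intro y₁ y₂ h
    have h1 : (((y₁.1 : Γ)) : G) = (((y₂.1 : Γ)) : G) := by rw [← hφ y₁, ← hφ y₂, h]
    exact Subtype.ext (Subtype.ext (Subtype.ext h1))
  rw [← hP'card]
  calc Nat.card (P.subgroupOf Γ)
      ≤ Nat.card {y : P.subgroupOf Γ // Ψ' y = Ψ' 1} * p ^ lam p (charDegree Ψ') := key
    _ ≤ Nat.card (P ⊓ Subgroup.centralizer (Q : Set G) : Subgroup G) * p ^ lam p n := by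
        apply Nat.mul_le_mul hK
        apply Nat.pow_le_pow_right hp.out.pos
        apply lam_mono
        rw [hdegΨ']
        exact hΨdeg

end Final

end Cfsg.Agent.Helper18.PSolvLin
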