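import Mathlib
import Cfsg.Agent.Lib.Helper18.PairAct
import Cfsg.Agent.Lib.Helper18.BlockFong

/-!
# The stabilizer of a maximal Brauer pair with abelian subgroup (helper18)

For a Brauer pair `(P, e)` of `B` without proper normal superpairs and with `P` abelian, the
index of `C_G(P)` in the stabilizer `N_G(P, e)` is prime to `p`.
-/

set_option autoImplicit false
set_option linter.unusedSectionVars false

namespace Cfsg.Agent.Helper18.PairRel

open Cfsg Cfsg.Agent.Helper23.Blk

universe u

section Stab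

variable {G : Type u} [Group G] [Fintype G] {M : Ideal AlgInt} {p : ℕ}

/-- **the inertial index is prime to `p`** (abelian case) -/
theorem not_dvd_index_centralizer_stab (hM : IsPModular p M) [Fact p.Prime]
    {B : Set (IrrCharacter G)} {P : Subgroup G}
    {e : Set (IrrCharacter (Subgroup.centralizer (P : Set G)))}
    (hBe : IsBrauerPairOf p M B P e)
    (hno : ∀ (R : Subgroup G) (g : Set (IrrCharacter (Subgroup.centralizer (R : Set G)))),
      IsNormalSubpair p M P e R g → R = P)
    (hab : ∀ x ∈ P, ∀ y ∈ P, x * y = y * x) (T : Subgroup G)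
    (hT : ∀ y : G, y ∈ T ↔ y ∈ Subgroup.normalizer (P : Set G) ∧
      StabilizesBlock (Subgroup.centralizer (P : Set G)) e y) :
    ¬ p ∣ ((Subgroup.centralizer (P : Set G)).subgroupOf T).index := by
  classical
  haveI hMp : M.IsPrime := hM.2.1.isPrime
  haveI : Fintype T := Fintype.ofFinite _
  haveI : Fintype (Subgroup.centralizer (P : Set G)) := Fintype.ofFinite _
  obtain ⟨⟨hP, he⟩, hB, -⟩ := hBe
  have hPT : P ≤ T :=
    fun x hx => (hT x).2 ⟨Subgroup.le_normalizer hx, stabilizesBlock_of_commute P e hx⟩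
  have hCT : Subgroup.centralizer (P : Set G) ≤ T := fun c hc =>
    (hT c).2 ⟨Subgroup.centralizer_le_normalizer _ hc, stabilizesBlock_of_mem _ e hc⟩
  have hPC : P ≤ Subgroup.centralizer (P : Set G) := by
    intro w hw
    rw [Subgroup.mem_centralizer_iff]
    intro q hq
    exact hab q hq w hw
  have hTNP : T ≤ Subgroup.normalizer (P : Set G) := fun x hx => ((hT x).1 hx).1
  have hTNC : T ≤ Subgroup.normalizer
      ((Subgroup.centralizer (P : Set G) : Subgroup G) : Set G) :=
    fun x hx => ((hT x).1 hx).2.1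
  obtain ⟨F, hF, hFc⟩ := exists_block_of_stab hM hP he T hT
  obtain ⟨DF, hDF⟩ := exists_isDefectGroup hM hF
  have hDFp : IsPGroup p DF := isPGroup_of_isDefectGroup hM hDF
  obtain ⟨y', hy'cls, hSyl⟩ := hDF
  set C : Subgroup T := Subgroup.centralizer ({y'} : Set T) with hC
  obtain ⟨Syl, hDFeq⟩ := hSyl
  haveI hPTn : (P.subgroupOf T).Normal := Subgroup.normal_subgroupOf_of_le_normalizer hTNP
  have hQD := normal_pgroup_le_defectGroup hM hF (P.subgroupOf T) hP.comap_subtype hy'cls Syl
  rw [← hDFeq] at hQD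
  have hDle : DF ≤ C := by
    rw [hDFeq]
    exact Subgroup.map_subtype_le _
  -- the image of the defect group in `G` is `P`
  have hDP : DF = P.subgroupOf T := by
    set D' : Subgroup G := DF.map T.subtype with hD'
    have hD'p : IsPGroup p D' := hDFp.map _
    have hD'T : D' ≤ T := Subgroup.map_subtype_le _
    have hQR : P ≤ D' := by
      intro w hw
      refine ⟨⟨w, hPT hw⟩, hQD ?_, rfl⟩
      show (⟨w, hPT hw⟩ : T) ∈ P.subgroupOf T
      rw [Subgroup.mem_subgroupOf]
      exact hw
    have hRN : D' ≤ Subgroup.normalizer (P : Set G) := hD'T.trans hTNP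
    have hstab : ∀ x ∈ D', StabilizesBlock (Subgroup.centralizer (P : Set G)) e x :=
      fun x hx => ((hT x).1 (hD'T hx)).2
    have hyC : (y' : G) ∈ Subgroup.centralizer (D' : Set G) := by
      rw [Subgroup.mem_centralizer_iff]
      rintro _ ⟨d, hd, rfl⟩
      have h1 := hDle hd
      rw [hC, Subgroup.mem_centralizer_singleton_iff] at h1
      have h3 := congrArg Subtype.val h1
      push_cast at h3
      exact h3
    have hfy : ¬ MemLocalIdeal M
        (ext0 (Subgroup.centralizer (P : Set G)) (blockCoeff e) (y' : G)) := by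
      rw [← subgroupBlockCoeff_eq_ext0, ← hFc y']
      exact hy'cls.2.1
    obtain ⟨g, hsub⟩ := exists_normal_superpair hM ⟨hP, he⟩ hD'p hQR hRN hstab hyC hfy
    have hD'P : D' = P := hno D' g hsub
    apply le_antisymm
    · intro d hd
      rw [Subgroup.mem_subgroupOf, ← hD'P]
      exact ⟨d, hd, rfl⟩
    · exact hQD
  -- Fong's lemma in the group `T`
  set N' : Subgroup T := (Subgroup.centralizer (P : Set G)).subgroupOf T with hN'
  haveI hN'n : N'.Normal := Subgroup.normal_subgroupOf_of_le_normalizer hTNC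
  haveI : Fintype N' := Fintype.ofFinite _
  set σ : N' ≃* Subgroup.centralizer (P : Set G) := Subgroup.subgroupOfEquivOfLe hCT with hσ
  have hσc : ∀ k : N', ((σ k : Subgroup.centralizer (P : Set G)) : G) = ((k : T) : G) :=
    fun k => rfl
  set c' : Set (IrrCharacter N') := irrComp σ '' e with hc'
  have hc'b : IsPBlock M c' := isPBlock_image_irrComp σ he
  have hst : ∀ t : T, StabilizesBlock N' c' t := by
    intro t
    refine ⟨(Subgroup.normalizer_eq_top_iff.mpr hN'n) ▸ Subgroup.mem_top t, ?_⟩
    rintro _ ⟨χ, hχ, rfl⟩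
    obtain ⟨χ₂, hχ₂, hconj⟩ := ((hT (t : G)).1 t.2).2.2 χ hχ
    refine ⟨irrComp σ χ₂, ⟨χ₂, hχ₂, rfl⟩, ?_⟩
    intro k k' hk
    rw [irrComp_apply, irrComp_apply]
    apply hconj
    rw [hσc, hσc, hk]
    push_cast
    rfl
  have hBc : ∀ t : T, blockCoeff F t = subgroupBlockCoeff N' c' t := by
    intro t
    rw [hFc t]
    unfold subgroupBlockCoeff
    by_cases ht : (t : G) ∈ Subgroup.centralizer (P : Set G)
    · have ht' : t ∈ N' := by
        rw [hN', Subgroup.mem_subgroupOf]
        exact ht
      rw [dif_pos ht, dif_pos ht', hc', blockCoeff_image_irrComp]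
      rfl
    · have ht' : t ∉ N' := by
        rw [hN', Subgroup.mem_subgroupOf]
        exact ht
      rw [dif_neg ht, dif_neg ht']
  obtain ⟨hyN, -, hind⟩ := Cfsg.Agent.Helper18.fong_defectClass N' hM hc'b hst hF hBc hy'cls
  -- the stabilizer of the class is contained in `N' C_T(y')`
  set S : Subgroup T := Cfsg.Agent.Helper18.fongStab N' (⟨y', hyN⟩ : N') with hS
  have hSle : S ≤ C ⊔ N' := by
    intro g hg
    rw [hS, Cfsg.Agent.Helper18.mem_fongStab_iff, isConj_iff] at hg
    obtain ⟨n, hn⟩ := hg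
    have h1 : (n : T) * g * y' * ((n : T) * g)⁻¹ = y' := by
      have h2 := congrArg Subtype.val hn
      push_cast at h2
      calc (n : T) * g * y' * ((n : T) * g)⁻¹ = (n : T) * (g * y' * g⁻¹) * (n : T)⁻¹ := by group
        _ = y' := h2
    have h3 : (n : T) * g ∈ C := by
      rw [hC, Subgroup.mem_centralizer_singleton_iff]
      calc (n : T) * g * y' = (n : T) * g * y' * ((n : T) * g)⁻¹ * ((n : T) * g) := by group
        _ = y' * ((n : T) * g) := by rw [h1]
    have h4 : g = (n : T)⁻¹ * ((n : T) * g) := by group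
    rw [h4]
    exact Subgroup.mul_mem _ (Subgroup.mem_sup_right (Subgroup.inv_mem _ n.2))
      (Subgroup.mem_sup_left h3)
  have hN'S : N' ≤ S := Cfsg.Agent.Helper18.le_fongStab N' _
  -- index computations
  have hDN : DF ≤ N' ⊓ C := by
    apply le_inf _ hDle
    rw [hDP]
    intro d hd
    rw [Subgroup.mem_subgroupOf] at hd
    rw [hN', Subgroup.mem_subgroupOf]
    exact hPC hd
  have h1 : ¬ p ∣ DF.relIndex C := by
    have h2 : DF.subgroupOf C = (Syl : Subgroup C) := by
      rw [hDFeq]
      ext c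
      rw [Subgroup.mem_subgroupOf]
      constructor
      · rintro ⟨c', hc', hcc⟩
        have : c' = c := Subtype.ext hcc
        rw [← this]
        exact hc'
      · intro hc
        exact ⟨c, hc, rfl⟩
    show ¬ p ∣ (DF.subgroupOf C).index
    rw [h2]
    exact Syl.not_dvd_index
  have h3 : ¬ p ∣ (N' ⊓ C).relIndex C := by
    intro hdvd
    apply h1
    rw [← Subgroup.relIndex_mul_relIndex DF (N' ⊓ C) C hDN inf_le_right]
    exact Dvd.dvd.mul_left hdvd _
  have h4 : N'.relIndex (C ⊔ N') = (N' ⊓ C).relIndex C := by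
    rw [Subgroup.relIndex_sup_right, Subgroup.inf_relIndex_right]
  have h5 : ¬ p ∣ N'.relIndex S := by
    intro hdvd
    apply h3
    rw [← h4, ← Subgroup.relIndex_mul_relIndex N' S (C ⊔ N') hN'S hSle]
    exact Dvd.dvd.mul_right hdvd _
  have h6 : N'.index = N'.relIndex S * S.index := (Subgroup.relIndex_mul_index hN'S).symm
  rw [h6]
  intro hdvd
  rcases (Nat.Prime.dvd_mul hM.1).1 hdvd with h | h
  · exact h5 h
  · exact hind h

end Stab

end Cfsg.Agent.Helper18.PairRel
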