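import Mathlib

/-!
Piece D of helper5's farm-out of S4427: a coordinate along the orbits of left multiplication by `g`.
-/

set_option autoImplicit false

namespace Cfsg.Agent.Helper5.Pim

theorem pow_eq_pow_mod_of_pow_eq_one {M : Type*} [Monoid M] {ω : M} {p : ℕ} (hω : ω ^ p = 1) (n : ℕ) :
    ω ^ n = ω ^ (n % p) := by
  conv_lhs => rw [← Nat.div_add_mod n p, pow_add, pow_mul, hω, one_pow, one_mul]

theorem exists_coord {G : Type*} [Group G] [Finite G] {M : Type*} [Monoid M] (g : G) (p : ℕ)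
    (hp : p ∣ orderOf g) (ω : M) (hω : ω ^ p = 1) :
    ∃ d : G → M, (∀ h, d (g * h) = ω * d h) ∧ ∀ h, ∃ k : ℕ, d h = ω ^ k := by
  classical
  let H : Subgroup G := Subgroup.zpowers g
  let r : G → G := fun h => (Quotient.mk (MulAction.orbitRel H G) h).out
  have hr : ∀ h, ∃ k : ℕ, h = g ^ k * r h := by
    intro h
    have h1 : (MulAction.orbitRel H G) (r h) h := Quotient.mk_out (s := MulAction.orbitRel H G) h
    rw [MulAction.orbitRel_apply] at h1
    obtain ⟨z, hz⟩ := h1
    have hz' : (z : G) * h = r h := hz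
    have hzi : ((z : G))⁻¹ ∈ Subgroup.zpowers g := H.inv_mem z.2
    rw [← mem_powers_iff_mem_zpowers] at hzi
    obtain ⟨k, hk⟩ := hzi
    have hk' : g ^ k = ((z : G))⁻¹ := hk
    refine ⟨k, ?_⟩
    rw [hk', ← hz', inv_mul_cancel_left]
  have hrg : ∀ h, r (g * h) = r h := by
    intro h
    have : Quotient.mk (MulAction.orbitRel H G) (g * h) = Quotient.mk (MulAction.orbitRel H G) h := by
      apply Quotient.sound
      show (MulAction.orbitRel H G) (g * h) h
      rw [MulAction.orbitRel_apply]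
      exact ⟨⟨g, Subgroup.mem_zpowers g⟩, rfl⟩
    show (Quotient.mk (MulAction.orbitRel H G) (g * h)).out = (Quotient.mk (MulAction.orbitRel H G) h).out
    rw [this]
  choose k hk using hr
  refine ⟨fun h => ω ^ k h, ?_, fun h => ⟨k h, rfl⟩⟩
  intro h
  show ω ^ k (g * h) = ω * ω ^ k h
  have e1 : g * h = g ^ k (g * h) * r h := by
    have := hk (g * h)
    rwa [hrg] at this
  have e2 : g ^ (k h + 1) = g ^ k (g * h) := by
    have e3 : g * h = g ^ (k h + 1) * r h := by
      conv_lhs => rw [hk h]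
      rw [pow_succ', mul_assoc]
    exact mul_right_cancel (e3.symm.trans e1)
  have e4 : k h + 1 ≡ k (g * h) [MOD orderOf g] := pow_eq_pow_iff_modEq.1 e2
  have e5 : k h + 1 ≡ k (g * h) [MOD p] := e4.of_dvd hp
  rw [← pow_succ', pow_eq_pow_mod_of_pow_eq_one hω (k (g * h)), pow_eq_pow_mod_of_pow_eq_one hω (k h + 1)]
  congr 1
  exact e5.symm
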