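import Mathlib
import Cfsg.Agent.Lib.Helper5.PimDefs

/-!
Piece F of helper5's farm-out of S4427: basic calculus of left-invariant matrices.
-/

set_option autoImplicit false
set_option linter.unusedSectionVars false

namespace Cfsg.Agent.Helper5.Pim

open Polynomial Matrix

section Mat
variable {G : Type*} [Group G] [Fintype G] [DecidableEq G]

section F
variable {R : Type*} [CommRing R]

theorem Pm_apply (g i j : G) : Pm R g i j = if i = g * j then 1 else 0 := rfl

theorem Pm_mul_apply (g : G) (M : Matrix G G R) (i j : G) : (Pm R g * M) i j = M (g⁻¹ * i) j := by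
  rw [Matrix.mul_apply, Finset.sum_eq_single (g⁻¹ * i)]
  · rw [Pm_apply, if_pos (by rw [mul_inv_cancel_left]), one_mul]
  · intro k _ hk
    rw [Pm_apply, if_neg, zero_mul]
    intro h
    apply hk
    rw [h, inv_mul_cancel_left]
  · intro h
    exact absurd (Finset.mem_univ _) h

theorem mul_Pm_apply (g : G) (M : Matrix G G R) (i j : G) : (M * Pm R g) i j = M i (g * j) := by
  rw [Matrix.mul_apply, Finset.sum_eq_single (g * j)]
  · rw [Pm_apply, if_pos rfl, mul_one]
  · intro k _ hk
    rw [Pm_apply, if_neg hk, mul_zero]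
  · intro h
    exact absurd (Finset.mem_univ _) h

theorem Pm_one : Pm R (1 : G) = 1 := by
  ext i j
  rw [Pm_apply, one_mul, Matrix.one_apply]

theorem Pm_mul (g h : G) : Pm R (g * h) = Pm R g * Pm R h := by
  ext i j
  rw [Pm_mul_apply, Pm_apply, Pm_apply]
  congr 1
  rw [eq_iff_iff]
  constructor
  · intro e
    rw [e, mul_assoc, inv_mul_cancel_left]
  · intro e
    rw [mul_assoc, ← e, mul_inv_cancel_left]

theorem sum_Pm : ∑ g : G, Pm R g = Matrix.of fun _ _ => (1 : R) := by
  ext i j
  rw [Matrix.sum_apply, Matrix.of_apply, Finset.sum_eq_single (i * j⁻¹)]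
  · rw [Pm_apply, if_pos (by rw [inv_mul_cancel_right])]
  · intro g _ hg
    rw [Pm_apply, if_neg]
    intro h
    apply hg
    rw [h, mul_inv_cancel_right]
  · intro h
    exact absurd (Finset.mem_univ _) h

theorem isLInv_iff_commute (M : Matrix G G R) : IsLInv M ↔ ∀ g : G, Pm R g * M = M * Pm R g := by
  constructor
  · intro hM g
    ext i j
    rw [Pm_mul_apply, mul_Pm_apply, ← hM g (g⁻¹ * i) j, mul_inv_cancel_left]
  · intro h g i j
    have := congrFun (congrFun (h g) (g * i)) j
    rw [Pm_mul_apply, mul_Pm_apply, inv_mul_cancel_left] at this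
    exact this.symm

theorem IsLInv.mul {M N : Matrix G G R} (hM : IsLInv M) (hN : IsLInv N) : IsLInv (M * N) := by
  intro g i j
  rw [Matrix.mul_apply, Matrix.mul_apply, ← Equiv.sum_comp (Equiv.mulLeft g)]
  refine Finset.sum_congr rfl fun k _ => ?_
  rw [Equiv.coe_mulLeft, hM g i k, hN g k j]

theorem IsLInv.add {M N : Matrix G G R} (hM : IsLInv M) (hN : IsLInv N) : IsLInv (M + N) := by
  intro g i j
  rw [Matrix.add_apply, Matrix.add_apply, hM g i j, hN g i j]

theorem isLInv_algebraMap (r : R) : IsLInv (algebraMap R (Matrix G G R) r) := by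
  intro g i j
  rw [Matrix.algebraMap_matrix_apply, Matrix.algebraMap_matrix_apply]
  congr 1
  rw [eq_iff_iff]
  exact mul_right_inj g

/-- The left-invariant matrices as a subalgebra. -/
def linvSub (R : Type*) [CommRing R] (G : Type*) [Group G] [Fintype G] [DecidableEq G] :
    Subalgebra R (Matrix G G R) where
  carrier := {M | IsLInv M}
  mul_mem' := fun hM hN => IsLInv.mul hM hN
  add_mem' := fun hM hN => IsLInv.add hM hN
  algebraMap_mem' := fun r => isLInv_algebraMap r

theorem mem_linvSub {M : Matrix G G R} : M ∈ linvSub R G ↔ IsLInv M := Iff.rfl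

theorem IsLInv.aeval {M : Matrix G G R} (hM : IsLInv M) (P : R[X]) : IsLInv (Polynomial.aeval M P) := by
  induction P using Polynomial.induction_on with
  | C r =>
    rw [Polynomial.aeval_C]
    exact isLInv_algebraMap r
  | add p q hp hq =>
    rw [map_add]
    exact hp.add hq
  | monomial n r h =>
    rw [pow_succ, ← mul_assoc, map_mul, Polynomial.aeval_X]
    exact h.mul hM

theorem IsLInv.map {S : Type*} [CommRing S] {M : Matrix G G R} (hM : IsLInv M) (f : R →+* S) :
    IsLInv (M.map f) := by
  intro g i j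
  rw [Matrix.map_apply, Matrix.map_apply, hM g i j]

theorem Pm_map {S : Type*} [CommRing S] (f : R →+* S) (g : G) : (Pm R g).map f = Pm S g := by
  ext i j
  rw [Matrix.map_apply, Pm_apply, Pm_apply, apply_ite f, map_one, map_zero]

theorem IsLInv.row_sum {M : Matrix G G R} (hM : IsLInv M) (i : G) : ∑ j, M i j = ∑ j, M 1 j := by
  rw [← Equiv.sum_comp (Equiv.mulLeft i) (fun j => M i j)]
  refine Finset.sum_congr rfl fun j _ => ?_
  rw [Equiv.coe_mulLeft]
  have := hM i 1 j
  rwa [mul_one] at this

theorem IsLInv.col_sum {M : Matrix G G R} (hM : IsLInv M) (j : G) : ∑ i, M i j = ∑ j, M 1 j := by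
  rw [← Equiv.sum_comp ((Equiv.inv G).trans (Equiv.mulRight j)) (fun k => M 1 k)]
  refine Finset.sum_congr rfl fun i _ => ?_
  have := hM i⁻¹ i j
  rw [inv_mul_cancel] at this
  rw [← this]
  rfl

/-- the row sum is multiplicative on left-invariant matrices -/
theorem IsLInv.row_sum_mul {M N : Matrix G G R} (hM : IsLInv M) (hN : IsLInv N) :
    ∑ j, (M * N) 1 j = (∑ j, M 1 j) * ∑ j, N 1 j := by
  simp only [Matrix.mul_apply]
  rw [Finset.sum_comm, Finset.sum_mul]
  refine Finset.sum_congr rfl fun k _ => ?_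
  rw [← Finset.mul_sum, hN.row_sum k]

/-- the row sum of a polynomial in `M` -/
theorem IsLInv.row_sum_aeval {M : Matrix G G R} (hM : IsLInv M) (P : R[X]) :
    ∑ j, (Polynomial.aeval M P) 1 j = P.eval (∑ j, M 1 j) := by
  induction P using Polynomial.induction_on with
  | C r =>
    rw [Polynomial.aeval_C, Polynomial.eval_C, Finset.sum_eq_single (1 : G)]
    · rw [Matrix.algebraMap_matrix_apply, if_pos rfl]
      rfl
    · intro j _ hj
      rw [Matrix.algebraMap_matrix_apply, if_neg (Ne.symm hj)]
    · intro h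
      exact absurd (Finset.mem_univ _) h
  | add p q hp hq =>
    rw [map_add, Polynomial.eval_add, ← hp, ← hq, ← Finset.sum_add_distrib]
    rfl
  | monomial n r h =>
    rw [pow_succ, ← mul_assoc, map_mul, Polynomial.aeval_X, (hM.aeval _).row_sum_mul hM, h,
      Polynomial.eval_mul_X]

open scoped Classical in
theorem eH_apply (H : Subgroup G) (c : R) (i j : G) : eH H c i j = if i⁻¹ * j ∈ H then c else 0 := rfl

theorem eH_isLInv (H : Subgroup G) (c : R) : IsLInv (eH H c) := by
  classical
  intro g i j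
  rw [eH_apply, eH_apply]
  congr 2
  rw [_root_.mul_inv_rev, mul_assoc, inv_mul_cancel_left]

open scoped Classical in
theorem card_filter_mem (H : Subgroup G) (i : G) :
    (Finset.univ.filter fun k : G => i⁻¹ * k ∈ H).card = Nat.card H := by
  rw [Nat.card_eq_fintype_card, ← Finset.card_univ (α := H)]
  symm
  apply Finset.card_bij (fun (h : H) _ => i * (h : G))
  · intro h _
    rw [Finset.mem_filter]
    refine ⟨Finset.mem_univ _, ?_⟩
    rw [inv_mul_cancel_left]
    exact h.2
  · intro h _ h' _ e
    exact Subtype.ext (mul_left_cancel e)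
  · intro k hk
    rw [Finset.mem_filter] at hk
    exact ⟨⟨i⁻¹ * k, hk.2⟩, Finset.mem_univ _, mul_inv_cancel_left i k⟩

theorem eH_mul_self (H : Subgroup G) (c : R) (hc : c * (Nat.card H : R) = 1) :
    eH H c * eH H c = eH H c := by
  classical
  ext i j
  rw [Matrix.mul_apply]
  by_cases hij : i⁻¹ * j ∈ H
  · have h1 : ∀ k : G, eH H c i k * eH H c k j = if i⁻¹ * k ∈ H then c * c else 0 := by
      intro k
      rw [eH_apply, eH_apply]
      by_cases hk : i⁻¹ * k ∈ H
      · rw [if_pos hk, if_pos hk, if_pos]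
        have : k⁻¹ * j = (i⁻¹ * k)⁻¹ * (i⁻¹ * j) := by group
        rw [this]
        exact H.mul_mem (H.inv_mem hk) hij
      · rw [if_neg hk, if_neg hk, zero_mul]
    rw [Finset.sum_congr rfl (fun k _ => h1 k), ← Finset.sum_filter, Finset.sum_const, card_filter_mem,
      nsmul_eq_mul, eH_apply, if_pos hij]
    calc (Nat.card H : R) * (c * c) = (c * (Nat.card H : R)) * c := by ring
      _ = c := by rw [hc, one_mul]
  · rw [eH_apply, if_neg hij]
    apply Finset.sum_eq_zero
    intro k _
    rw [eH_apply, eH_apply]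
    by_cases hk : i⁻¹ * k ∈ H
    · have hkj : k⁻¹ * j ∉ H := by
        intro hk'
        apply hij
        have : i⁻¹ * j = (i⁻¹ * k) * (k⁻¹ * j) := by group
        rw [this]
        exact H.mul_mem hk hk'
      rw [if_pos hk, if_neg hkj, mul_zero]
    · rw [if_neg hk, zero_mul]

theorem eH_row_sum (H : Subgroup G) (c : R) (hc : c * (Nat.card H : R) = 1) :
    ∑ j, eH H c 1 j = 1 := by
  classical
  simp only [eH_apply]
  rw [← Finset.sum_filter, Finset.sum_const, card_filter_mem, nsmul_eq_mul, mul_comm, hc]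

theorem eH_map {S : Type*} [CommRing S] (f : R →+* S) (H : Subgroup G) (c : R) :
    (eH H c).map f = eH H (f c) := by
  classical
  ext i j
  rw [Matrix.map_apply, eH_apply, eH_apply, apply_ite f, map_zero]

open scoped Classical in
theorem trace_Pm_mul_eH (H : Subgroup G) (c : R) (g : G) :
    (Pm R g * eH H c).trace = c * ((Finset.univ.filter fun i : G => i⁻¹ * g * i ∈ H).card : R) := by
  rw [Matrix.trace]
  have h1 : ∀ i : G, (Pm R g * eH H c).diag i = if i⁻¹ * g * i ∈ H then c else 0 := by
    intro i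
    rw [Matrix.diag_apply, Pm_mul_apply, eH_apply]
    congr 2
    rw [_root_.mul_inv_rev, inv_inv]
  rw [Finset.sum_congr rfl (fun i _ => h1 i), ← Finset.sum_filter, Finset.sum_const, nsmul_eq_mul, mul_comm]

/-- `tr(J * M) = |G| * (row sum)` for left-invariant `M` -/
theorem IsLInv.sum_trace_Pm_mul {M : Matrix G G R} (hM : IsLInv M) :
    ∑ g : G, (Pm R g * M).trace = (Nat.card G : R) * ∑ j, M 1 j := by
  simp only [Matrix.trace, Matrix.diag_apply, Pm_mul_apply]
  rw [Finset.sum_comm]
  have h1 : ∀ i : G, ∑ g : G, M (g⁻¹ * i) i = ∑ j, M 1 j := by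
    intro i
    rw [← hM.col_sum i, ← Equiv.sum_comp ((Equiv.inv G).trans (Equiv.mulRight i)) (fun k => M k i)]
    rfl
  rw [Finset.sum_congr rfl (fun i _ => h1 i), Finset.sum_const, Finset.card_univ, nsmul_eq_mul,
    Nat.card_eq_fintype_card]

end F

end Mat

end Cfsg.Agent.Helper5.Pim
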