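import Mathlib
import Cfsg.Agent.Lib.Helper17.SpectrumIterate

set_option autoImplicit false

universe u v

namespace Cfsg.Agent.Helper18

open Matrix

/-- A prime divides the order of a finite group iff it is the order of an element. -/
theorem prime_dvd_card_iff_mem_range_orderOf {X : Type*} [Group X] [Finite X] {p : ℕ}
    (hp : p.Prime) : p ∣ Nat.card X ↔ p ∈ Set.range (orderOf : X → ℕ) := by
  haveI : Fact p.Prime := ⟨hp⟩
  constructor
  · intro h
    obtain ⟨x, hx⟩ := exists_prime_orderOf_dvd_card' p h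
    exact ⟨x, hx⟩
  · rintro ⟨x, hx⟩
    rw [← hx]; exact orderOf_dvd_natCard x

/-- If `G₁` has the same prime graph as `S₀` and a nontrivial normal subgroup of prime exponent,
there are arbitrarily large finite groups (in `Type`) with the same prime graph as `S₀`. -/
theorem exists_large_same_prime_graph {S₀ : Type u} {G₁ : Type v} [Group S₀] [Group G₁]
    [Finite G₁] (V : Subgroup G₁) [V.Normal] (hV : V ≠ ⊥) (l : ℕ) (hl : l.Prime)
    (hexp : ∀ x ∈ V, x ^ l = 1)
    (h1 : ∀ p : ℕ, p.Prime → (p ∣ Nat.card S₀ ↔ p ∣ Nat.card G₁))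
    (h2 : ∀ p q : ℕ, p.Prime → q.Prime → p ≠ q →
      ((∃ g : S₀, orderOf g = p * q) ↔ (∃ g : G₁, orderOf g = p * q)))
    (N : ℕ) :
    ∃ (H : Type) (_ : Group H) (_ : Finite H), N < Nat.card H ∧
      ((∀ p : ℕ, p.Prime → (p ∣ Nat.card S₀ ↔ p ∣ Nat.card H)) ∧
      (∀ p q : ℕ, p.Prime → q.Prime → p ≠ q →
        ((∃ g : S₀, orderOf g = p * q) ↔ (∃ g : H, orderOf g = p * q)))) := by
  obtain ⟨H, hg, hf, hN, hspec⟩ :=
    Cfsg.Agent.Helper17.exists_large_same_spectrum_of_prime_exponent G₁ V l inferInstance hV hl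
      hexp N
  refine ⟨H, hg, Finite.of_fintype H, ?_, ?_, ?_⟩
  · rw [Nat.card_eq_fintype_card]; exact hN
  · intro p hp
    rw [h1 p hp, prime_dvd_card_iff_mem_range_orderOf hp, prime_dvd_card_iff_mem_range_orderOf hp,
      hspec]
  · intro p q hp hq hpq
    rw [h2 p q hp hq hpq]
    have e1 : (∃ g : G₁, orderOf g = p * q) ↔ p * q ∈ Set.range (orderOf : G₁ → ℕ) := Iff.rfl
    have e2 : (∃ g : H, orderOf g = p * q) ↔ p * q ∈ Set.range (orderOf : H → ℕ) := Iff.rfl
    rw [e1, e2, hspec]

/-- Elements of order `p * q` in a split extension by a group of exponent two on which elements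
with a fixed point act as involutions. -/
theorem exists_orderOf_mul_iff {G₁ S : Type*} [Group G₁] [Group S] [Finite G₁]
    (π : G₁ →* S) (ι : S →* G₁) (hι : ∀ s, π (ι s) = s)
    (hexp : ∀ v ∈ π.ker, v ^ 2 = 1)
    (hfix : ∀ g : G₁, ∀ v ∈ π.ker, v ≠ 1 → g * v = v * g → (π g) ^ 2 = 1)
    {p q : ℕ} (hp : p.Prime) (hq : q.Prime) (hpq : p ≠ q) :
    (∃ s : S, orderOf s = p * q) ↔ (∃ g : G₁, orderOf g = p * q) := by
  have hinj : Function.Injective ι := Function.LeftInverse.injective hι
  constructor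
  · rintro ⟨s, hs⟩
    exact ⟨ι s, by rw [orderOf_injective ι hinj, hs]⟩
  · rintro ⟨g, hg⟩
    have hm : orderOf (π g) ∣ p * q := hg ▸ orderOf_map_dvd π g
    by_cases h1 : g ^ orderOf (π g) = 1
    · refine ⟨π g, Nat.dvd_antisymm hm ?_⟩
      rw [← hg]
      exact orderOf_dvd_of_pow_eq_one h1
    · exfalso
      have hker : g ^ orderOf (π g) ∈ π.ker := by
        rw [MonoidHom.mem_ker, map_pow, pow_orderOf_eq_one]
      have hcomm : g * g ^ orderOf (π g) = g ^ orderOf (π g) * g :=
        ((Commute.refl g).pow_right _).eq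
      have h2 := hfix g _ hker h1 hcomm
      have h3 : orderOf (π g) ∣ 2 := orderOf_dvd_of_pow_eq_one h2
      have h4 : (g ^ orderOf (π g)) ^ 2 = 1 := hexp _ hker
      rw [← pow_mul] at h4
      have h5 : p * q ∣ orderOf (π g) * 2 := hg ▸ orderOf_dvd_of_pow_eq_one h4
      have h6 : p * q ∣ 2 * 2 := h5.trans (Nat.mul_dvd_mul_right h3 2)
      have hp2 : p = 2 := by
        have : p ∣ 2 * 2 := (dvd_mul_right p q).trans h6
        rcases (Nat.Prime.dvd_mul hp).mp this with h | h <;>
          exact (Nat.prime_dvd_prime_iff_eq hp Nat.prime_two).mp h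
      have hq2 : q = 2 := by
        have : q ∣ 2 * 2 := (dvd_mul_left q p).trans h6
        rcases (Nat.Prime.dvd_mul hq).mp this with h | h <;>
          exact (Nat.prime_dvd_prime_iff_eq hq Nat.prime_two).mp h
      exact hpq (hp2.trans hq2.symm)

/-- Prime divisors of the order of such a split extension. -/
theorem prime_dvd_card_iff_of_section {G₁ S : Type*} [Group G₁] [Group S] [Finite G₁]
    (π : G₁ →* S) (ι : S →* G₁) (hι : ∀ s, π (ι s) = s)
    (hexp : ∀ v ∈ π.ker, v ^ 2 = 1) (h2 : 2 ∣ Nat.card S) {p : ℕ} (hp : p.Prime) :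
    p ∣ Nat.card S ↔ p ∣ Nat.card G₁ := by
  have hinj : Function.Injective ι := Function.LeftInverse.injective hι
  haveI : Finite S := Finite.of_injective ι hinj
  haveI : Fact p.Prime := ⟨hp⟩
  constructor
  · intro h
    exact h.trans (Subgroup.card_dvd_of_injective ι hinj)
  · intro h
    obtain ⟨g, hg⟩ := exists_prime_orderOf_dvd_card' p h
    have hm : orderOf (π g) ∣ p := hg ▸ orderOf_map_dvd π g
    rcases (Nat.dvd_prime hp).mp hm with h1 | h1
    · rw [orderOf_eq_one_iff] at h1
      have h3 : g ^ 2 = 1 := hexp g h1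
      have h4 : p ∣ 2 := hg ▸ orderOf_dvd_of_pow_eq_one h3
      exact h4.trans h2
    · rw [← h1]
      exact orderOf_dvd_natCard _

section construction

variable (F : Type*) [Field F]

/-- The natural action of `SL(2,F)` on `F²`, written multiplicatively. -/
def slAct : SpecialLinearGroup (Fin 2) F →* MulAut (Multiplicative (Fin 2 → F)) where
  toFun A := AddEquiv.toMultiplicative (SpecialLinearGroup.toLin' A).toAddEquiv
  map_one' := by
    ext v
    simp
  map_mul' := by
    intro A B
    ext v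
    simp

theorem slAct_apply (A : SpecialLinearGroup (Fin 2) F) (v : Multiplicative (Fin 2 → F)) :
    slAct F A v = Multiplicative.ofAdd ((A : Matrix (Fin 2) (Fin 2) F) *ᵥ v.toAdd) := rfl

/-- The affine group `F² ⋊ SL(2,F)`. -/
abbrev AffSL2 : Type _ := Multiplicative (Fin 2 → F) ⋊[slAct F] SpecialLinearGroup (Fin 2) F

variable {F}

theorem sq_eq_one_of_mulVec_eq [CharP F 2] (A : SpecialLinearGroup (Fin 2) F) (v : Fin 2 → F)
    (hv : v ≠ 0) (h : (A : Matrix (Fin 2) (Fin 2) F) *ᵥ v = v) : A ^ 2 = 1 := by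
  have h2 : (2 : F) = 0 := CharTwo.two_eq_zero
  have hdet : (A : Matrix (Fin 2) (Fin 2) F) 0 0 * (A : Matrix (Fin 2) (Fin 2) F) 1 1
      - (A : Matrix (Fin 2) (Fin 2) F) 0 1 * (A : Matrix (Fin 2) (Fin 2) F) 1 0 = 1 := by
    rw [← Matrix.det_fin_two]; exact A.2
  have e0 := congrFun h 0
  have e1 := congrFun h 1
  simp only [Matrix.mulVec, dotProduct, Fin.sum_univ_two] at e0 e1
  set a := (A : Matrix (Fin 2) (Fin 2) F) 0 0
  set b := (A : Matrix (Fin 2) (Fin 2) F) 0 1
  set c := (A : Matrix (Fin 2) (Fin 2) F) 1 0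
  set d := (A : Matrix (Fin 2) (Fin 2) F) 1 1
  have hx : ((a - 1) * (d - 1) - b * c) * v 0 = 0 := by
    linear_combination (d - 1) * e0 - b * e1
  have hy : ((a - 1) * (d - 1) - b * c) * v 1 = 0 := by
    linear_combination (a - 1) * e1 - c * e0
  have hne : v 0 ≠ 0 ∨ v 1 ≠ 0 := by
    by_contra hcon
    push Not at hcon
    apply hv
    ext i
    fin_cases i
    · exact hcon.1
    · exact hcon.2
  have hk : (a - 1) * (d - 1) - b * c = 0 := by
    rcases hne with h0 | h0
    · exact (mul_eq_zero.mp hx).resolve_right h0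
    · exact (mul_eq_zero.mp hy).resolve_right h0
  have htr : a + d = 0 := by linear_combination hdet - hk + h2
  apply Matrix.SpecialLinearGroup.ext
  intro i j
  rw [Matrix.SpecialLinearGroup.coe_pow, Matrix.SpecialLinearGroup.coe_one, pow_two]
  fin_cases i <;> fin_cases j <;>
    simp only [Matrix.mul_apply, Fin.sum_univ_two, Fin.zero_eta, Fin.mk_one, Matrix.one_apply_eq,
      Matrix.one_apply_ne, ne_eq, zero_ne_one, one_ne_zero, not_false_eq_true, Fin.isValue]
  · show a * a + b * c = 1
    linear_combination a * htr - hdet - h2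
  · show a * b + b * d = 0
    linear_combination b * htr
  · show c * a + d * c = 0
    linear_combination c * htr
  · show c * b + d * d = 1
    linear_combination d * htr - hdet - h2

end construction

section affine

variable (F : Type*) [Field F] [Finite F] [CharP F 2]

instance affSL2_finite : Finite (AffSL2 F) :=
  Finite.of_equiv _ (SemidirectProduct.equivProd (φ := slAct F)).symm

theorem affSL2_ker_exp (v : AffSL2 F)
    (hv : v ∈ (SemidirectProduct.rightHom : AffSL2 F →* SpecialLinearGroup (Fin 2) F).ker) :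
    v ^ 2 = 1 := by
  have hr : v.right = 1 := hv
  apply SemidirectProduct.ext
  · rw [pow_two, SemidirectProduct.mul_left, hr, map_one, MulAut.one_apply,
      SemidirectProduct.one_left]
    change Multiplicative.ofAdd (v.left.toAdd + v.left.toAdd) = Multiplicative.ofAdd 0
    congr 1
    funext i
    exact CharTwo.add_self_eq_zero _
  · rw [pow_two, SemidirectProduct.mul_right, hr, mul_one, SemidirectProduct.one_right]

theorem affSL2_fix (g v : AffSL2 F)
    (hv : v ∈ (SemidirectProduct.rightHom : AffSL2 F →* SpecialLinearGroup (Fin 2) F).ker)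
    (hv1 : v ≠ 1) (hc : g * v = v * g) :
    (SemidirectProduct.rightHom g : SpecialLinearGroup (Fin 2) F) ^ 2 = 1 := by
  have hr : v.right = 1 := hv
  have hl : v.left ≠ 1 := by
    intro h
    apply hv1
    apply SemidirectProduct.ext
    · rw [h, SemidirectProduct.one_left]
    · rw [hr, SemidirectProduct.one_right]
  have h1 := congrArg SemidirectProduct.left hc
  rw [SemidirectProduct.mul_left, SemidirectProduct.mul_left, hr, map_one, MulAut.one_apply,
    mul_comm v.left g.left] at h1
  have h2 : slAct F g.right v.left = v.left := mul_left_cancel h1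
  rw [slAct_apply] at h2
  have h3 : (g.right : Matrix (Fin 2) (Fin 2) F) *ᵥ v.left.toAdd = v.left.toAdd :=
    congrArg Multiplicative.toAdd h2
  have h4 : v.left.toAdd ≠ 0 := by
    intro h
    apply hl
    exact congrArg Multiplicative.ofAdd h
  exact sq_eq_one_of_mulVec_eq g.right _ h4 h3

theorem two_dvd_card_SL2 : 2 ∣ Nat.card (SpecialLinearGroup (Fin 2) F) := by
  have h2 : (2 : F) = 0 := CharTwo.two_eq_zero
  let u : SpecialLinearGroup (Fin 2) F := ⟨!![1, 1; 0, 1], by simp [Matrix.det_fin_two]⟩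
  have hu2 : u ^ 2 = 1 := by
    apply Matrix.SpecialLinearGroup.ext
    intro i j
    rw [Matrix.SpecialLinearGroup.coe_pow, Matrix.SpecialLinearGroup.coe_one, pow_two]
    fin_cases i <;> fin_cases j <;> simp [u, Matrix.mul_apply, Fin.sum_univ_two]
    linear_combination h2
  have hu1 : u ≠ 1 := by
    intro h
    have := congrArg (fun A : SpecialLinearGroup (Fin 2) F => (A : Matrix (Fin 2) (Fin 2) F) 0 1) h
    simp [u] at this
  have hou : orderOf u = 2 := orderOf_eq_prime hu2 hu1
  have hdvd := orderOf_dvd_natCard u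
  rwa [hou] at hdvd

theorem affSL2_ker_ne_bot :
    (SemidirectProduct.rightHom : AffSL2 F →* SpecialLinearGroup (Fin 2) F).ker ≠ ⊥ := by
  intro h
  have hmem : (SemidirectProduct.inl (Multiplicative.ofAdd (fun _ => (1 : F))) : AffSL2 F) ∈
      (SemidirectProduct.rightHom : AffSL2 F →* SpecialLinearGroup (Fin 2) F).ker := by
    rw [MonoidHom.mem_ker, SemidirectProduct.rightHom_inl]
  rw [h, Subgroup.mem_bot] at hmem
  have h1 := congrArg SemidirectProduct.left hmem
  rw [SemidirectProduct.left_inl, SemidirectProduct.one_left] at h1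
  have h2 : (fun _ : Fin 2 => (1 : F)) = 0 := congrArg Multiplicative.toAdd h1
  have h3 := congrFun h2 0
  simp at h3

/-- Arbitrarily large finite groups with the same prime graph as a group `S₀` whose prime graph
is that of `SL(2,F)`, `F` a finite field of characteristic two. -/
theorem exists_large_of_same_as_SL2 {S₀ : Type u} [Group S₀]
    (h1 : ∀ p : ℕ, p.Prime → (p ∣ Nat.card S₀ ↔ p ∣ Nat.card (SpecialLinearGroup (Fin 2) F)))
    (h2 : ∀ p q : ℕ, p.Prime → q.Prime → p ≠ q →
      ((∃ g : S₀, orderOf g = p * q) ↔ (∃ g : SpecialLinearGroup (Fin 2) F, orderOf g = p * q)))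
    (N : ℕ) :
    ∃ (H : Type) (_ : Group H) (_ : Finite H), N < Nat.card H ∧
      ((∀ p : ℕ, p.Prime → (p ∣ Nat.card S₀ ↔ p ∣ Nat.card H)) ∧
      (∀ p q : ℕ, p.Prime → q.Prime → p ≠ q →
        ((∃ g : S₀, orderOf g = p * q) ↔ (∃ g : H, orderOf g = p * q)))) := by
  refine exists_large_same_prime_graph (G₁ := AffSL2 F)
    (SemidirectProduct.rightHom : AffSL2 F →* SpecialLinearGroup (Fin 2) F).ker
    (affSL2_ker_ne_bot F) 2 Nat.prime_two (affSL2_ker_exp F) ?_ ?_ N
  · intro p hp
    rw [h1 p hp]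
    exact prime_dvd_card_iff_of_section SemidirectProduct.rightHom SemidirectProduct.inr
      SemidirectProduct.rightHom_inr (affSL2_ker_exp F) (two_dvd_card_SL2 F) hp
  · intro p q hp hq hpq
    rw [h2 p q hp hq hpq]
    exact exists_orderOf_mul_iff SemidirectProduct.rightHom SemidirectProduct.inr
      SemidirectProduct.rightHom_inr (affSL2_ker_exp F) (affSL2_fix F) hp hq hpq

end affine

end Cfsg.Agent.Helper18
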