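import Mathlib
import Cfsg.Agent.Lib.Helper24.RUDefs

/-!
Piece A2 of helper24's farm-out of S4751: from the Clifford arithmetic to the shape of the
restriction to `P` and the transitivity on the nonprincipal linear characters.
-/

set_option autoImplicit false
set_option linter.style.haveILetI false

namespace Cfsg.Agent.Helper24.RU

open Cfsg Cfsg.Agent.Helper24 Cfsg.Agent.Helper5 Cfsg.Agent.Helper18
open scoped ComplexConjugate

universe u

variable {G : Type u} [Group G] [Fintype G]

/-- PIECE A2. -/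
theorem res_of_theta {χ : G → ℂ} (hχ : IsIrrCharacter G χ) (P : Subgroup G)
    [P.Normal] [Fintype P] {θ : P → ℂ} (hθ : IsIrrCharacter P θ) (hθ1 : θ 1 = 1)
    (hcon : classInner (fun n : P => χ n) θ = 1)
    (hidx : (inertia P θ).index = Nat.card P - 1) (hdeg : χ 1 = (Nat.card P : ℂ) - 1)
    (h3 : 3 ≤ Nat.card P) : Res χ P ∧ Trans (G := G) P := by
  classical
  letI : Fintype (IrrCharacter P) := irrFintype
  set S : Set (IrrCharacter P) := {φ | ∃ g : G, conjFun P g θ = (φ : P → ℂ)} with hS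
  set F : Finset (IrrCharacter P) := Finset.univ.filter (fun ψ : IrrCharacter P => ψ ∈ S) with hF
  have hFmem : ∀ ψ, ψ ∈ F ↔ ψ ∈ S := by
    intro ψ
    rw [hF, Finset.mem_filter]
    simp
  have hScard : F.card = Nat.card P - 1 := by
    rw [← hidx, ← card_conjugates P hθ, Set.ncard_eq_toFinset_card']
    congr 1
    ext ψ
    simp [hS, hF]
  -- degree one on S
  have hS1 : ∀ ψ ∈ S, (ψ : P → ℂ) 1 = 1 := by
    rintro ψ ⟨g, hg⟩
    rw [← hg, conjFun_apply, ← hθ1]
    congr 1
    apply Subtype.ext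
    simp
  -- the principal character is not in S
  have hprinc : principalChar P ∉ S := by
    rintro ⟨g, hg⟩
    have hθeq : θ = fun _ => (1 : ℂ) := by
      have h1 := conjFun_inv_conjFun P g θ
      rw [hg] at h1
      rw [← h1]
      funext n
      rw [conjFun_apply]
      rfl
    have h2 : inertia P θ = ⊤ := by
      rw [eq_top_iff]
      intro x _
      rw [mem_inertia, hθeq]
      funext n
      rw [conjFun_apply]
    rw [h2, Subgroup.index_top] at hidx
    omega
  have hle : (Finset.univ : Finset (IrrCharacter P)).card ≤ Nat.card P := by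
    rw [← sum_charDegree_sq (G := P)]
    calc (Finset.univ : Finset (IrrCharacter P)).card = ∑ _ψ : IrrCharacter P, 1 := by simp
      _ ≤ ∑ ψ : IrrCharacter P, charDegree (ψ : P → ℂ) ^ 2 :=
        Finset.sum_le_sum (fun ψ _ => Nat.one_le_pow _ _ (charDegree_pos ψ.2))
  set T : Finset (IrrCharacter P) := insert (principalChar P) F with hTdef
  have hnotmem : principalChar P ∉ F := by
    rw [hFmem]; exact hprinc
  have hTcard : T.card = Nat.card P := by
    rw [hTdef, Finset.card_insert_of_notMem hnotmem, hScard]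
    omega
  have hT : T = Finset.univ :=
    Finset.eq_of_subset_of_card_le (Finset.subset_univ _) (by rw [hTcard]; exact hle)
  have hall : ∀ ψ : IrrCharacter P, ψ = principalChar P ∨ ψ ∈ S := by
    intro ψ
    have h1 : ψ ∈ T := by rw [hT]; exact Finset.mem_univ _
    rw [hTdef, Finset.mem_insert, hFmem] at h1
    exact h1
  have hone : ∀ ψ : IrrCharacter P, (ψ : P → ℂ) 1 = 1 := by
    intro ψ
    rcases hall ψ with h | h
    · rw [h]; rfl
    · exact hS1 ψ h
  have hlin : ∀ ψ : IrrCharacter P, charDegree (ψ : P → ℂ) = 1 := by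
    intro ψ
    exact charDegree_natCast 1 (by rw [hone ψ]; simp)
  have hcomm : ∀ a b : P, a * b = b * a := comm_of_forall_charDegree_eq_one hlin
  -- the decomposition of the restriction
  have hχN : IsCharacter P (fun n : P => χ n) :=
    isCharacter_restrict P (isCharacter_of_isIrrCharacter hχ)
  have hcf := isClassFunction_of_isIrrCharacter hχ
  obtain ⟨hm, hdec⟩ := isCharacter_decomp hχN
  have hcoefS : ∀ ψ ∈ S, classInner (fun n : P => χ n) (ψ : P → ℂ) = 1 := by
    rintro ψ ⟨g, hg⟩
    rw [← hg, classInner_restrict_conjFun P g hcf θ, hcon]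
  have hsplit : ∀ f : IrrCharacter P → ℂ, ∑ ψ : IrrCharacter P, f ψ =
      f (principalChar P) + ∑ ψ ∈ F, f ψ := by
    intro f
    rw [← hT, hTdef, Finset.sum_insert hnotmem]
  obtain ⟨m, hm0⟩ := hm (principalChar P)
  have hm_zero : m = 0 := by
    have h1 := congrFun hdec 1
    simp only [Finset.sum_apply, Pi.smul_apply, smul_eq_mul] at h1
    rw [hsplit, hm0, hone] at h1
    have h2 : ∑ ψ ∈ F,
        classInner (fun n : P => χ n) (ψ : P → ℂ) * (ψ : P → ℂ) 1 =
        ((Nat.card P - 1 : ℕ) : ℂ) := by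
      rw [← hScard, Finset.card_eq_sum_ones, Nat.cast_sum]
      apply Finset.sum_congr rfl
      intro ψ hψ
      rw [hFmem] at hψ
      rw [hcoefS ψ hψ, hone]
      simp
    rw [h2] at h1
    have h4 : χ ((1 : P) : G) = χ 1 := rfl
    rw [h4, hdeg, Nat.cast_sub (by omega)] at h1
    have h5 : (m : ℂ) = 0 := by
      have : (m : ℂ) * 1 = 0 := by linear_combination -h1
      simpa using this
    exact_mod_cast h5
  refine ⟨⟨hdeg, ?_, ?_, h3⟩, ?_⟩
  · -- values on P#
    intro x hx hx1
    have h1 := congrFun hdec ⟨x, hx⟩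
    simp only [Finset.sum_apply, Pi.smul_apply, smul_eq_mul] at h1
    rw [hsplit, hm0, hm_zero] at h1
    have h2 := second_orthogonality' (G := P) (⟨x, hx⟩ : P) (1 : P)
    have hnc : ¬ IsConj (1 : P) (⟨x, hx⟩ : P) := by
      rw [isConj_one_right]
      intro h
      exact hx1 (congrArg Subtype.val h)
    rw [if_neg hnc] at h2
    have h3' : ∑ ψ : IrrCharacter P, (ψ : P → ℂ) ⟨x, hx⟩ = 0 := by
      rw [← h2]
      apply Finset.sum_congr rfl
      intro ψ _
      rw [hone, map_one, mul_one]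
    rw [hsplit] at h3'
    have h4 : ∑ ψ ∈ F, classInner (fun n : P => χ n) (ψ : P → ℂ) * (ψ : P → ℂ) ⟨x, hx⟩ =
        ∑ ψ ∈ F, (ψ : P → ℂ) ⟨x, hx⟩ := by
      apply Finset.sum_congr rfl
      intro ψ hψ
      rw [hFmem] at hψ
      rw [hcoefS ψ hψ, one_mul]
    rw [h4] at h1
    have h5 : ((principalChar P : IrrCharacter P) : P → ℂ) ⟨x, hx⟩ = 1 := rfl
    rw [h5] at h3'
    have h6 : χ ((⟨x, hx⟩ : P) : G) = χ x := rfl
    rw [h6] at h1
    rw [h1]
    simp only [Nat.cast_zero, zero_mul, zero_add]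
    linear_combination h3'
  · intro x hx y hy
    have := hcomm ⟨x, hx⟩ ⟨y, hy⟩
    exact congrArg Subtype.val this
  · -- transitivity
    intro lam mu hlam hlam1 hlamne hmu hmu1 hmune
    have hlamI : IsIrrCharacter P lam := isIrrCharacter_of_degree_one hlam hlam1
    have hmuI : IsIrrCharacter P mu := isIrrCharacter_of_degree_one hmu hmu1
    have hlamS : (⟨lam, hlamI⟩ : IrrCharacter P) ∈ S := by
      rcases hall ⟨lam, hlamI⟩ with h | h
      · exact absurd (congrArg Subtype.val h) hlamne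
      · exact h
    have hmuS : (⟨mu, hmuI⟩ : IrrCharacter P) ∈ S := by
      rcases hall ⟨mu, hmuI⟩ with h | h
      · exact absurd (congrArg Subtype.val h) hmune
      · exact h
    obtain ⟨g1, hg1⟩ := hlamS
    obtain ⟨g2, hg2⟩ := hmuS
    refine ⟨g1⁻¹ * g2, ?_⟩
    intro x hx hgx
    have e1 : mu ⟨x, hx⟩ = conjFun P g2 θ ⟨x, hx⟩ := by rw [hg2]
    have e2 : lam ⟨g1⁻¹ * g2 * x * (g1⁻¹ * g2)⁻¹, hgx⟩ =
        conjFun P g1 θ ⟨g1⁻¹ * g2 * x * (g1⁻¹ * g2)⁻¹, hgx⟩ := by rw [hg1]
    rw [e1, e2, conjFun_apply, conjFun_apply]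
    congr 1
    apply Subtype.ext
    simp only
    group

end Cfsg.Agent.Helper24.RU
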