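import Mathlib
import Cfsg.Agent.Lib.Helper24.RUDefs

/-!
Piece A3 of helper24's farm-out of S4751: transitivity on the nonprincipal linear characters of
an abelian normal `p`-subgroup forces exponent `p`.
-/

set_option autoImplicit false
set_option linter.style.haveILetI false

namespace Cfsg.Agent.Helper24.RU

open Cfsg Cfsg.Agent.Helper24 Cfsg.Agent.Helper5 Cfsg.Agent.Helper18
open scoped ComplexConjugate

universe u

variable {G : Type u} [Group G] [Fintype G]

/-- In a commutative finite group the irreducible characters separate the identity. -/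
theorem exists_linear_ne_one {H : Type u} [Group H] [Fintype H]
    (hcomm : ∀ a b : H, a * b = b * a) {z : H} (hz : z ≠ 1) :
    ∃ μ : H → ℂ, IsCharacter H μ ∧ μ 1 = 1 ∧ μ z ≠ 1 := by
  classical
  letI : Fintype (IrrCharacter H) := irrFintype
  by_contra hcon
  push Not at hcon
  have hone : ∀ ψ : IrrCharacter H, (ψ : H → ℂ) 1 = 1 := by
    intro ψ
    rw [irr_one_eq_charDegree ψ.2, charDegree_eq_one_of_comm hcomm ψ.2]
    simp
  have h2 := second_orthogonality' (G := H) z (1 : H)
  have hnc : ¬ IsConj (1 : H) z := by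
    rw [isConj_one_right]
    exact hz
  rw [if_neg hnc] at h2
  have h3 : ∑ ψ : IrrCharacter H, (ψ : H → ℂ) z * conj ((ψ : H → ℂ) 1) =
      ∑ _ψ : IrrCharacter H, (1 : ℂ) := by
    apply Finset.sum_congr rfl
    intro ψ _
    rw [hone, map_one, mul_one]
    exact hcon _ (isCharacter_of_isIrrCharacter ψ.2) (hone ψ)
  rw [h3] at h2
  simp only [Finset.sum_const, Finset.card_univ, nsmul_eq_mul, mul_one] at h2
  have h4 : Fintype.card (IrrCharacter H) = 0 := by exact_mod_cast h2
  have : Nonempty (IrrCharacter H) := ⟨principalChar H⟩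
  exact Fintype.card_ne_zero h4

/-- PIECE A3. -/
theorem exponent_of_trans {p : ℕ} [Fact p.Prime] (P : Subgroup G) [P.Normal]
    (hP : IsPGroup p P) (hcomm : ∀ x ∈ P, ∀ y ∈ P, x * y = y * x) (ht : Trans (G := G) P) :
    ∀ x ∈ P, x ^ p = 1 := by
  classical
  intro x hx
  by_contra hxp
  have hcommP : ∀ a b : P, a * b = b * a := by
    intro a b
    exact Subtype.ext (hcomm a a.2 b b.2)
  -- the power maps as homomorphisms
  let pw : ℕ → (P →* P) := fun k =>
    { toFun := fun y => y ^ k
      map_one' := one_pow k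
      map_mul' := fun a b => (show Commute a b from hcommP a b).mul_pow k }
  have hz : (⟨x, hx⟩ : P) ^ p ≠ 1 := by
    intro h
    apply hxp
    have := congrArg Subtype.val h
    simpa using this
  obtain ⟨μ, hμ, hμ1, hμz⟩ := exists_linear_ne_one hcommP hz
  have hmul := char_mul_of_degree_one hμ hμ1
  have hpow : ∀ (y : P) (k : ℕ), μ (y ^ k) = μ y ^ k := by
    intro y k
    induction k with
    | zero => rw [pow_zero, pow_zero, hμ1]
    | succ k ih => rw [pow_succ, hmul, ih, pow_succ]
  -- the characters μ_k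
  have hμk : ∀ k : ℕ, IsCharacter P (fun y => μ (y ^ p ^ k)) := by
    intro k
    exact isCharacter_comp (pw (p ^ k)) hμ
  have hμk1 : ∀ k : ℕ, (fun y : P => μ (y ^ p ^ k)) 1 = 1 := by
    intro k
    simp only [one_pow]
    exact hμ1
  -- some μ_k is trivial
  obtain ⟨n, hn⟩ := IsPGroup.iff_card.mp hP
  have hex : ∃ k : ℕ, (fun y : P => μ (y ^ p ^ k)) = fun _ => (1 : ℂ) := by
    refine ⟨n, ?_⟩
    funext y
    have : y ^ p ^ n = 1 := by
      rw [← hn]
      exact pow_card_eq_one'
    simp only [this, hμ1]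
  have hμne : μ ≠ fun _ => (1 : ℂ) := by
    intro h
    apply hμz
    rw [h]
  have hk0 : Nat.find hex ≠ 0 := by
    intro h0
    have h1 := Nat.find_spec hex
    rw [h0] at h1
    apply hμne
    funext y
    have := congrFun h1 y
    simpa using this
  obtain ⟨j, hj⟩ := Nat.exists_eq_succ_of_ne_zero hk0
  have hjne : (fun y : P => μ (y ^ p ^ j)) ≠ fun _ => (1 : ℂ) := by
    have := Nat.find_min hex (m := j) (by omega)
    exact this
  have hjp : ∀ y : P, (μ (y ^ p ^ j)) ^ p = 1 := by
    intro y
    have h1 := Nat.find_spec hex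
    rw [hj] at h1
    have h2 : μ (y ^ p ^ (j + 1)) = 1 := congrFun h1 y
    rw [← hpow, ← pow_mul, ← pow_succ]
    exact h2
  obtain ⟨g, hg⟩ := ht (fun y : P => μ (y ^ p ^ j)) μ (hμk j) (hμk1 j) hjne hμ hμ1 hμne
  have hgx : g * x * g⁻¹ ∈ P := (inferInstance : P.Normal).conj_mem x hx g
  have h5 := hg x hx hgx
  apply hμz
  rw [hpow, h5]
  exact hjp _

end Cfsg.Agent.Helper24.RU
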