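import Mathlib
import Cfsg.Agent.Lib.Helper24.RUDefs

/-!
Piece NAB of helper24's farm-out of S4751: if `O_2(G)` has order `4` and `8 ∣ |G|` then
`G / O_2(G)` is not abelian.
-/

set_option autoImplicit false
set_option linter.style.haveILetI false

namespace Cfsg.Agent.Helper24.RU

open Cfsg Cfsg.Agent.Helper24 Cfsg.Agent.Helper5 Cfsg.Agent.Helper18
open scoped ComplexConjugate

universe u

variable {G : Type u} [Group G] [Fintype G]

/-- PIECE NAB. -/
theorem quotient_not_comm (P : Subgroup G) [P.Normal] (hP : P = pCore 2 G)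
    (hcard : Nat.card P = 4) (h8 : 8 ∣ Nat.card G) : ¬ ∀ a b : G ⧸ P, a * b = b * a := by
  intro hab
  have hPp : IsPGroup 2 P := by rw [hP]; exact pCore_isPGroup 2 G
  obtain ⟨S, hPS⟩ := hPp.exists_le_sylow
  -- S is normal
  have hmapN : ((S : Subgroup G).map (QuotientGroup.mk' P)).Normal := by
    refine ⟨fun n hn g => ?_⟩
    rw [hab g n, mul_inv_cancel_right]
    exact hn
  have hSeq : ((S : Subgroup G).map (QuotientGroup.mk' P)).comap (QuotientGroup.mk' P) =
      (S : Subgroup G) := by
    apply Subgroup.comap_map_eq_self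
    rw [QuotientGroup.ker_mk']
    exact hPS
  have hSN : (S : Subgroup G).Normal := by
    rw [← hSeq]
    exact Subgroup.Normal.comap hmapN _
  have hSle : (S : Subgroup G) ≤ P := by
    rw [hP]
    exact le_pCore hSN S.isPGroup'
  have h1 : Nat.card (S : Subgroup G) ≤ 4 := by
    rw [← hcard]
    exact Subgroup.card_le_of_le hSle
  have h2 : Nat.card (S : Subgroup G) = 2 ^ (Nat.card G).factorization 2 :=
    Sylow.card_eq_multiplicity S
  have h3 : 3 ≤ (Nat.card G).factorization 2 := by
    have h83 : (2 : ℕ) ^ 3 ∣ Nat.card G := h8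
    exact (Nat.Prime.pow_dvd_iff_le_factorization Nat.prime_two Nat.card_pos.ne').1 h83
  have h4 : 2 ^ 3 ≤ 2 ^ (Nat.card G).factorization 2 := Nat.pow_le_pow_right (by norm_num) h3
  rw [h2] at h1
  omega

end Cfsg.Agent.Helper24.RU
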