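import Mathlib
import Cfsg.Prelude.Def_Blocks
import Cfsg.Agent.Lib.Helper23.BlockOrtho
import Cfsg.Agent.Lib.Helper5.ExtUnique
import Cfsg.Agent.Lib.Helper24.CharAlgebra
import Cfsg.Agent.Lib.Helper18.LiftLinear

/-!
# Real characters of odd degree and the principal 2-block (helper18's library)
-/

set_option autoImplicit false
set_option linter.style.haveILetI false

namespace Cfsg.Agent.Helper18.RealOddExt

open Cfsg Cfsg.Agent.Helper24 Cfsg.Agent.Helper23.Blk Cfsg.Agent.Helper5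
open Cfsg.Agent.Helper18.LiftLinear
open scoped ComplexConjugate

universe u

variable {G : Type u} [Group G] [Finite G] {M : Ideal AlgInt}

/-- In characteristic two a sum over an inverse-closed set of odd-order elements of a function
with `f x⁻¹ = f x` reduces to the value at the identity. -/
theorem red_sum_odd [Fintype G] [DecidableEq G] (hM : IsPModular 2 M) (S : Finset G)
    (h1 : (1 : G) ∈ S) (hinv : ∀ x ∈ S, x⁻¹ ∈ S) (hodd : ∀ x ∈ S, ¬ 2 ∣ orderOf x)
    (f : G → ℂ) (hfR : ∀ x, MemLocalRing M (f x)) (hf : ∀ x ∈ S, f x⁻¹ = f x) :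
    haveI : M.IsMaximal := hM.2.1
    red M (∑ x ∈ S, f x) = red M (f 1) := by
  haveI hMax : M.IsMaximal := hM.2.1
  haveI hMp : M.IsPrime := hMax.isPrime
  show red M (∑ x ∈ S, f x) = red M (f 1)
  rw [← Finset.add_sum_erase S f h1,
    red_add (hfR 1) (memLocalRing_sum _ _ fun x _ => hfR x),
    red_sum _ _ fun x _ => hfR x]
  have h2 : (2 : AlgInt ⧸ M) = 0 := by
    have := (red_eq_zero_iff (M := M) (memLocalRing_natCast 2)).2
      ((memLocalIdeal_natCast_iff hM 2).2 (dvd_refl 2))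
    rw [red_natCast] at this
    exact_mod_cast this
  have h3 : ∑ x ∈ S.erase 1, red M (f x) = 0 := by
    refine Finset.sum_involution (fun x _ => x⁻¹) ?_ ?_ ?_ ?_
    · intro x hx
      rw [hf x (Finset.mem_of_mem_erase hx), ← two_mul, h2, zero_mul]
    · intro x hx _ hxx
      have hx1 : x ≠ 1 := Finset.ne_of_mem_erase hx
      have hxS := Finset.mem_of_mem_erase hx
      have h4 : x ^ 2 = 1 := by
        rw [pow_two]
        nth_rewrite 1 [← hxx]
        exact inv_mul_cancel x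
      have h5 : orderOf x ∣ 2 := orderOf_dvd_of_pow_eq_one h4
      rcases (Nat.dvd_prime Nat.prime_two).1 h5 with h6 | h6
      · exact hx1 (orderOf_eq_one_iff.1 h6)
      · exact hodd x hxS (by rw [h6])
    · intro x hx
      rw [Finset.mem_erase] at hx ⊢
      exact ⟨inv_ne_one.2 hx.1, hinv x hx.2⟩
    · intro x _
      exact inv_inv x
  rw [h3, add_zero]

/-- **Real odd-degree extension**: a real-valued irreducible character of odd degree of a normal
subgroup that extends to `G` has an extension in the principal `2`-block. -/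
theorem main (N : Subgroup G) [hNn : N.Normal] (hM : IsPModular 2 M) (θ : IrrCharacter N)
    (hreal : ∀ n : N, ((θ : N → ℂ) n).im = 0) (hodd : Odd (charDegree (θ : N → ℂ)))
    (hext : ∃ η : IrrCharacter G, ∀ n : N, (η : G → ℂ) n = (θ : N → ℂ) n) :
    ∃ η : IrrCharacter G, (∀ n : N, (η : G → ℂ) n = (θ : N → ℂ) n) ∧
      η ∈ principalBlock M G := by
  classical
  letI : Fintype G := Fintype.ofFinite G
  letI := irrFintype (G := G)
  haveI hMax : M.IsMaximal := hM.2.1
  haveI hMp : M.IsPrime := hMax.isPrime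
  haveI : Fact (Nat.Prime 2) := ⟨Nat.prime_two⟩
  obtain ⟨η, hη⟩ := hext
  set E : Finset (IrrCharacter G) :=
    Finset.univ.filter (fun χ => ∀ n : N, (χ : G → ℂ) n = (θ : N → ℂ) n) with hE
  have hηE : η ∈ E := by
    rw [hE, Finset.mem_filter]
    exact ⟨Finset.mem_univ _, hη⟩
  have hηN : IsIrrCharacter N (fun n : N => (η : G → ℂ) n) := by
    have : (fun n : N => (η : G → ℂ) n) = (θ : N → ℂ) := funext hη
    rw [this]
    exact θ.2
  -- twisting
  have htw : ∀ (lam : G →* ℂˣ), (∀ n : N, lam (n : G) = 1) → ∀ χ ∈ E,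
      (⟨fun g => ((lam g : ℂˣ) : ℂ) * (χ : G → ℂ) g, isIrrCharacter_twist lam χ.2⟩ :
        IrrCharacter G) ∈ E := by
    intro lam hlam χ hχ
    rw [hE, Finset.mem_filter] at hχ ⊢
    refine ⟨Finset.mem_univ _, ?_⟩
    intro n
    show ((lam (n : G) : ℂˣ) : ℂ) * (χ : G → ℂ) n = _
    rw [hlam n, Units.val_one, one_mul, hχ.2 n]
  -- the sum over all extensions
  set T : G → ℂ := fun x => ∑ χ ∈ E, (χ : G → ℂ) x with hT
  have hT0 : ∀ x : G, (∃ χ ∈ E, (χ : G → ℂ) x ≠ (η : G → ℂ) x) → T x = 0 := by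
    rintro x ⟨χ₁, hχ₁, hne⟩
    have hχ₁' := hχ₁
    rw [hE, Finset.mem_filter] at hχ₁'
    obtain ⟨lam, hlamN, hlam⟩ := exists_hom_of_extensions_char N η.2 χ₁.2 hηN
      (fun n => by rw [hχ₁'.2 n, hη n])
    have hlamx : ((lam x : ℂˣ) : ℂ) ≠ 1 := by
      intro h1
      apply hne
      rw [hlam]
      show ((lam x : ℂˣ) : ℂ) * (η : G → ℂ) x = _
      rw [h1, one_mul]
    have hlamN' : ∀ n : N, lam⁻¹ (n : G) = 1 := by
      intro n
      rw [MonoidHom.inv_apply, hlamN n, inv_one]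
    have hperm : T x = ((lam x : ℂˣ) : ℂ) * T x := by
      simp only [hT]
      rw [Finset.mul_sum]
      apply Finset.sum_bij'
        (fun (χ : IrrCharacter G) _ => (⟨fun g => ((lam⁻¹ g : ℂˣ) : ℂ) * (χ : G → ℂ) g,
          isIrrCharacter_twist lam⁻¹ χ.2⟩ : IrrCharacter G))
        (fun (χ : IrrCharacter G) _ => (⟨fun g => ((lam g : ℂˣ) : ℂ) * (χ : G → ℂ) g,
          isIrrCharacter_twist lam χ.2⟩ : IrrCharacter G))
      · intro χ hχ
        exact htw lam⁻¹ hlamN' χ hχ
      · intro χ hχ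
        exact htw lam hlamN χ hχ
      · intro χ _
        apply Subtype.ext
        funext g
        show ((lam g : ℂˣ) : ℂ) * (((lam⁻¹ g : ℂˣ) : ℂ) * (χ : G → ℂ) g) = (χ : G → ℂ) g
        rw [← mul_assoc, ← Units.val_mul, MonoidHom.inv_apply, mul_inv_cancel, Units.val_one,
          one_mul]
      · intro χ _
        apply Subtype.ext
        funext g
        show ((lam⁻¹ g : ℂˣ) : ℂ) * (((lam g : ℂˣ) : ℂ) * (χ : G → ℂ) g) = (χ : G → ℂ) g
        rw [← mul_assoc, ← Units.val_mul, MonoidHom.inv_apply, inv_mul_cancel, Units.val_one,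
          one_mul]
      · intro χ _
        show (χ : G → ℂ) x = ((lam x : ℂˣ) : ℂ) * (((lam⁻¹ x : ℂˣ) : ℂ) * (χ : G → ℂ) x)
        rw [← mul_assoc, ← Units.val_mul, MonoidHom.inv_apply, mul_inv_cancel, Units.val_one,
          one_mul]
    have h2 : (1 - ((lam x : ℂˣ) : ℂ)) * T x = 0 := by
      rw [sub_mul, one_mul, ← hperm, sub_self]
    rcases mul_eq_zero.1 h2 with h | h
    · exact absurd (sub_eq_zero.1 h).symm hlamx
    · exact h
  -- the locus where all extensions agree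
  set S : Finset G := Finset.univ.filter
    (fun x => (∀ χ ∈ E, (χ : G → ℂ) x = (η : G → ℂ) x) ∧ ¬ 2 ∣ orderOf x) with hS
  have hconjE : (⟨fun g => conj ((η : G → ℂ) g), isIrrCharacter_conj η.2⟩ : IrrCharacter G) ∈ E := by
    rw [hE, Finset.mem_filter]
    refine ⟨Finset.mem_univ _, ?_⟩
    intro n
    show conj ((η : G → ℂ) n) = _
    rw [hη n, Complex.conj_eq_iff_im]
    exact hreal n
  have hinvchar : ∀ (χ : IrrCharacter G) (x : G), (χ : G → ℂ) x⁻¹ = conj ((χ : G → ℂ) x) :=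
    fun χ x => irr_inv (isCharacter_of_isIrrCharacter χ.2) x
  have hrealS : ∀ x ∈ S, (η : G → ℂ) x⁻¹ = (η : G → ℂ) x := by
    intro x hx
    rw [hS, Finset.mem_filter] at hx
    rw [hinvchar]
    exact hx.2.1 _ hconjE
  have hSinv : ∀ x ∈ S, x⁻¹ ∈ S := by
    intro x hx
    have hr := hrealS x hx
    rw [hS, Finset.mem_filter] at hx ⊢
    refine ⟨Finset.mem_univ _, ?_, ?_⟩
    · intro χ hχ
      rw [hinvchar χ x, hx.2.1 χ hχ, ← hinvchar η x]
    · rw [orderOf_inv]
      exact hx.2.2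
  have hS1 : (1 : G) ∈ S := by
    rw [hS, Finset.mem_filter]
    refine ⟨Finset.mem_univ _, ?_, ?_⟩
    · intro χ hχ
      rw [hE, Finset.mem_filter] at hχ
      have h1 := hχ.2 1
      have h2 := hη 1
      have h3 : ((1 : N) : G) = 1 := rfl
      rw [h3] at h1 h2
      rw [h1, h2]
    · rw [orderOf_one]
      norm_num
  have hηR : ∀ x, MemLocalRing M ((η : G → ℂ) x) := fun x =>
    memLocalRing_of_isIntegral (isIntegral_of_isCharacter (isCharacter_of_isIrrCharacter η.2) x)
      hMax.ne_top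
  have hredS : red M (∑ x ∈ S, (η : G → ℂ) x) = red M ((η : G → ℂ) 1) :=
    red_sum_odd hM S hS1 hSinv (fun x hx => by
      rw [hS, Finset.mem_filter] at hx
      exact hx.2.2) _ hηR hrealS
  have hη1 : (η : G → ℂ) 1 = (charDegree (θ : N → ℂ) : ℂ) := by
    have h2 := hη 1
    have h3 : ((1 : N) : G) = 1 := rfl
    rw [h3] at h2
    rw [h2, irr_one_eq_charDegree θ.2]
  have hne : ∑ x ∈ S, (η : G → ℂ) x ≠ 0 := by
    intro h0
    rw [h0, red_zero, hη1, red_natCast] at hredS
    exact natCast_ne_zero hM _ (fun h => (Nat.not_even_iff_odd.2 hodd) (even_iff_two_dvd.2 h))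
      hredS.symm
  -- total sum
  have htotal : ∑ x ∈ Finset.univ.filter (fun x : G => ¬ 2 ∣ orderOf x), T x =
      (E.card : ℂ) * ∑ x ∈ S, (η : G → ℂ) x := by
    have h1 : S = (Finset.univ.filter (fun x : G => ¬ 2 ∣ orderOf x)).filter
        (fun x => ∀ χ ∈ E, (χ : G → ℂ) x = (η : G → ℂ) x) := by
      ext x
      simp only [hS, Finset.mem_filter, Finset.mem_univ, true_and]
      tauto
    have h2 : (E.card : ℂ) * ∑ x ∈ S, (η : G → ℂ) x =
        ∑ x ∈ Finset.univ.filter (fun x : G => ¬ 2 ∣ orderOf x),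
          if (∀ χ ∈ E, (χ : G → ℂ) x = (η : G → ℂ) x) then (E.card : ℂ) * (η : G → ℂ) x else 0 := by
      rw [Finset.mul_sum, h1, Finset.sum_filter]
    rw [h2]
    apply Finset.sum_congr rfl
    intro x _
    by_cases hx : ∀ χ ∈ E, (χ : G → ℂ) x = (η : G → ℂ) x
    · rw [if_pos hx]
      simp only [hT]
      rw [Finset.sum_congr rfl hx, Finset.sum_const, nsmul_eq_mul]
    · rw [if_neg hx]
      push Not at hx
      exact hT0 x hx
  have hEpos : (E.card : ℂ) ≠ 0 := by
    have : 0 < E.card := Finset.card_pos.2 ⟨η, hηE⟩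
    exact_mod_cast this.ne'
  have hex : ∃ χ ∈ E, ∑ x ∈ Finset.univ.filter (fun x : G => ¬ 2 ∣ orderOf x),
      (χ : G → ℂ) x ≠ 0 := by
    by_contra hcon
    push Not at hcon
    have : ∑ x ∈ Finset.univ.filter (fun x : G => ¬ 2 ∣ orderOf x), T x = 0 := by
      simp only [hT]
      rw [Finset.sum_comm]
      exact Finset.sum_eq_zero hcon
    rw [htotal] at this
    exact mul_ne_zero hEpos hne this
  obtain ⟨χ, hχE, hχne⟩ := hex
  rw [hE, Finset.mem_filter] at hχE
  refine ⟨χ, hχE.2, ?_⟩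
  show SameBlock M (fun _ : G => (1 : ℂ)) (χ : G → ℂ)
  by_contra hnot
  have hnot' : ¬ SameBlock M (χ : G → ℂ) ((principalChar G : IrrCharacter G) : G → ℂ) := by
    intro h
    exact hnot (sameBlock_symm h)
  have h0 := sum_regular_eq_zero_of_not_sameBlock (p := 2) hM hnot'
  apply hχne
  rw [finsum_mem_eq_finite_toFinset_sum _ (Set.toFinite _)] at h0
  rw [← h0]
  apply Finset.sum_congr
  · ext x
    simp
  · intro x _
    show (χ : G → ℂ) x = (χ : G → ℂ) x * conj ((1 : ℂ))
    rw [map_one, mul_one]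

end Cfsg.Agent.Helper18.RealOddExt
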