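import Mathlib
import Cfsg.Agent.Lib.Helper23.BlockSecondMain
import Cfsg.Agent.Lib.Helper23.BlockBrauer2
import Cfsg.Agent.Lib.Helper24.CharComplete
import Cfsg.Agent.Lib.Helper24.CharAlgebra
import Cfsg.Agent.Lib.Helper24.CharHom

/-!
# Counting pairs of conjugates whose quotient lies in a subgroup (helper18)

`pairCount S x y` is the number of pairs `(g, h)` with `g` conjugate to `x`, `h` conjugate to `y`
and `h g⁻¹ ∈ S`.  Character formula:
`pairCount S x y * |C(y)| = ∑ χ, ω_χ(x) * conj (χ y) * ∑ s ∈ S, χ s`.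
-/

set_option autoImplicit false
set_option linter.unusedSectionVars false

namespace Cfsg.Agent.Helper18.Robinson

open Cfsg Cfsg.Agent.Helper24 Cfsg.Agent.Helper23.Blk
open scoped ComplexConjugate

universe u

section Count

variable {G : Type u} [Group G] [Fintype G]

/-- the number of pairs `(g, h)`, `g ∼ x`, `h ∼ y`, `h g⁻¹ ∈ S` -/
noncomputable def pairCount (S : Subgroup G) (x y : G) : ℕ :=
  Nat.card {gh : G × G // IsConj x gh.1 ∧ IsConj y gh.2 ∧ gh.2 * gh.1⁻¹ ∈ S}

theorem pairCount_eq_sum (S : Subgroup G) [Fintype S] (x y : G) :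
    (pairCount S x y : ℂ) = ∑ g : G, ∑ s : S, classInd x g * classInd y ((s : G) * g) := by
  classical
  have e : {gh : G × G // IsConj x gh.1 ∧ IsConj y gh.2 ∧ gh.2 * gh.1⁻¹ ∈ S} ≃
      {gs : G × S // IsConj x gs.1 ∧ IsConj y ((gs.2 : G) * gs.1)} :=
    { toFun := fun a => ⟨(a.1.1, ⟨a.1.2 * a.1.1⁻¹, a.2.2.2⟩), a.2.1, by
        simpa using a.2.2.1⟩
      invFun := fun b => ⟨(b.1.1, (b.1.2 : G) * b.1.1), b.2.1, b.2.2, by simp⟩
      left_inv := by
        rintro ⟨⟨g, h⟩, h1⟩
        simp
      right_inv := by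
        rintro ⟨⟨g, s⟩, h1⟩
        simp }
  unfold pairCount
  rw [Nat.card_congr e, Nat.card_eq_fintype_card, Fintype.card_subtype, Finset.card_filter]
  push_cast
  rw [Fintype.sum_prod_type]
  apply Finset.sum_congr rfl
  intro g _
  apply Finset.sum_congr rfl
  intro s _
  unfold classInd
  by_cases h1 : IsConj x g
  · by_cases h2 : IsConj y ((s : G) * g)
    · rw [if_pos h1, if_pos h2, if_pos ⟨h1, h2⟩, mul_one]
    · rw [if_pos h1, if_neg h2, if_neg (fun h => h2 h.2), mul_zero]
  · rw [if_neg h1, if_neg (fun h => h1 h.1), zero_mul]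

variable [Fintype (IrrCharacter G)]

/-- the character formula for the pair count -/
theorem pairCount_mul_card (S : Subgroup G) [Fintype S] (x y : G) :
    (pairCount S x y : ℂ) * (Nat.card (Subgroup.centralizer ({y} : Set G)) : ℂ) =
      ∑ χ : IrrCharacter G, centralChar (χ : G → ℂ) x * conj ((χ : G → ℂ) y) *
        ∑ s : S, (χ : G → ℂ) s := by
  classical
  rw [pairCount_eq_sum, Finset.sum_mul]
  have h1 : ∀ g : G, (∑ s : S, classInd x g * classInd y ((s : G) * g)) *
      (Nat.card (Subgroup.centralizer ({y} : Set G)) : ℂ) =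
      ∑ χ : IrrCharacter G, ∑ s : S, conj ((χ : G → ℂ) y) *
        (classInd x g * (χ : G → ℂ) ((s : G) * g)) := by
    intro g
    rw [Finset.sum_mul, Finset.sum_comm]
    apply Finset.sum_congr rfl
    intro s _
    have h2 := second_orthogonality' ((s : G) * g) y
    have h3 : classInd y ((s : G) * g) * (Nat.card (Subgroup.centralizer ({y} : Set G)) : ℂ) =
        ∑ χ : IrrCharacter G, (χ : G → ℂ) ((s : G) * g) * conj ((χ : G → ℂ) y) := by
      rw [h2]
      unfold classInd
      by_cases hc : IsConj y ((s : G) * g)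
      · rw [if_pos hc, if_pos hc, one_mul]
      · rw [if_neg hc, if_neg hc, zero_mul]
    rw [mul_assoc, h3, Finset.mul_sum]
    apply Finset.sum_congr rfl
    intro χ _
    ring
  rw [Finset.sum_congr rfl (fun g _ => h1 g), Finset.sum_comm]
  apply Finset.sum_congr rfl
  intro χ _
  rw [Finset.sum_comm, Finset.mul_sum]
  apply Finset.sum_congr rfl
  intro s _
  rw [← Finset.mul_sum, sum_classFunction_mul_char χ.2 (isClassFunction_classInd x) (s : G),
    omega_classInd]
  ring

end Count

section Mult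

variable {G : Type u} [Group G] [Fintype G]

/-- the multiplicity of the trivial character of `S` in the restriction of `χ` -/
noncomputable def sylMult (S : Subgroup G) [Fintype S] (χ : G → ℂ) : ℂ :=
  (Nat.card S : ℂ)⁻¹ * ∑ s : S, χ s

theorem sylMult_nat (S : Subgroup G) [Fintype S] {χ : G → ℂ} (hχ : IsCharacter G χ) :
    ∃ n : ℕ, sylMult S χ = n := by
  classical
  letI : Fintype (IrrCharacter S) := irrFintype
  obtain ⟨n, hn⟩ := classInner_char_nat (isCharacter_restrict S hχ) (isCharacter_one (G := S))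
  refine ⟨n, ?_⟩
  rw [← hn]
  unfold sylMult classInner
  congr 1
  apply Finset.sum_congr rfl
  intro s _
  simp

theorem sum_eq_card_mul_sylMult (S : Subgroup G) [Fintype S] (χ : G → ℂ) :
    ∑ s : S, χ s = (Nat.card S : ℂ) * sylMult S χ := by
  unfold sylMult
  have : (Nat.card S : ℂ) ≠ 0 := by
    exact_mod_cast (Nat.card_pos (α := S)).ne'
  field_simp

end Mult

end Cfsg.Agent.Helper18.Robinson
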