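import Mathlib
import Cfsg.Agent.Lib.Helper18.RobinsonCount1
import Cfsg.Agent.Lib.Helper23.BlockResidue
import Cfsg.Agent.Lib.Helper23.BlockCongr
import Cfsg.Agent.Lib.Helper23.BlockDefectGroup2
import Cfsg.Agent.Lib.Helper23.BlockMajor
import Cfsg.Agent.Lib.Helper23.BlockHeightZero
import Cfsg.Agent.Lib.Helper23.BlockCount
import Cfsg.Agent.Lib.Helper23.BlockOrtho
import Cfsg.Agent.Lib.Helper24.GlaubPGroup

/-!
# The pair count modulo the local ideal, block by block (helper18)
-/

set_option autoImplicit false
set_option linter.unusedSectionVars false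

namespace Cfsg.Agent.Helper18.Robinson

open Cfsg Cfsg.Agent.Helper24 Cfsg.Agent.Helper23.Blk
open scoped ComplexConjugate

universe u

section Arith

variable {M : Ideal AlgInt} {p : ℕ}

/-- a natural number whose quotient by `p ^ k` is a local integer is divisible by `p ^ k` -/
theorem dvd_of_memLocalRing_div (hM : IsPModular p M) {A k : ℕ}
    (h : MemLocalRing M ((A : ℂ) / ((p : ℂ) ^ k))) : p ^ k ∣ A := by
  haveI hMp : M.IsPrime := hM.2.1.isPrime
  have hp := hM.1
  by_contra hnd
  have hA : A ≠ 0 := by
    rintro rfl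
    exact hnd (dvd_zero _)
  have hlt : A.factorization p < k := by
    by_contra hge
    push Not at hge
    exact hnd ((hp.pow_dvd_iff_le_factorization hA).2 hge)
  have hpk : p ^ k ≠ 0 := pow_ne_zero _ hp.ne_zero
  have h1 : MemLocalIdeal M (((p ^ k : ℕ) : ℂ) / (A : ℂ)) := by
    apply memLocalIdeal_natCast_div hM hpk hA
    rw [hp.factorization_pow]
    simpa using hlt
  have h2 := memLocalIdeal_mul_left h h1
  have hA' : (A : ℂ) ≠ 0 := by exact_mod_cast hA
  have hp' : (p : ℂ) ≠ 0 := by exact_mod_cast hp.ne_zero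
  have h3 : (A : ℂ) / ((p : ℂ) ^ k) * (((p ^ k : ℕ) : ℂ) / (A : ℂ)) = 1 := by
    push_cast
    field_simp
  rw [h3] at h2
  exact not_memLocalIdeal_one h2

end Arith

section Cent

variable {G : Type u} [Group G]

theorem centralizer_inv (y : G) :
    Subgroup.centralizer ({y⁻¹} : Set G) = Subgroup.centralizer ({y} : Set G) := by
  ext g
  simp only [Subgroup.mem_centralizer_iff, Set.mem_singleton_iff, forall_eq]
  constructor
  · intro h
    calc y * g = y * (g * y⁻¹) * y := by group
      _ = y * (y⁻¹ * g) * y := by rw [h]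
      _ = g * y := by group
  · intro h
    calc y⁻¹ * g = y⁻¹ * (g * y) * y⁻¹ := by group
      _ = y⁻¹ * (y * g) * y⁻¹ := by rw [h]
      _ = g * y⁻¹ := by group

theorem factorization_index_centralizer [Finite G] (p : ℕ) (y : G) :
    ((Subgroup.centralizer ({y} : Set G)).index).factorization p =
      (Nat.card G).factorization p -
        (Nat.card (Subgroup.centralizer ({y} : Set G))).factorization p := by
  have h1 := Subgroup.card_mul_index (Subgroup.centralizer ({y} : Set G))
  have hC0 : Nat.card (Subgroup.centralizer ({y} : Set G)) ≠ 0 := (Nat.card_pos).ne'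
  have hi0 : (Subgroup.centralizer ({y} : Set G)).index ≠ 0 := Subgroup.index_ne_zero_of_finite
  rw [← h1, Nat.factorization_mul hC0 hi0]
  simp

theorem factorization_card_centralizer_le [Finite G] (p : ℕ) (y : G) :
    (Nat.card (Subgroup.centralizer ({y} : Set G))).factorization p ≤
      (Nat.card G).factorization p := by
  have hC0 : Nat.card (Subgroup.centralizer ({y} : Set G)) ≠ 0 := (Nat.card_pos).ne'
  have hG0 : Nat.card G ≠ 0 := (Nat.card_pos).ne'
  exact (Nat.factorization_le_iff_dvd hC0 hG0).2 (Subgroup.card_subgroup_dvd_card _) p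

end Cent

section Reduce

variable {G : Type u} [Group G] [Fintype G] [Fintype (IrrCharacter G)] {M : Ideal AlgInt} {p : ℕ}

/-- the exact formula for the pair count divided by `p ^ (a - d)` -/
theorem pairCount_div (hp : p.Prime) (S : Subgroup G) [Fintype S]
    (hS : Nat.card S = p ^ (Nat.card G).factorization p) (x y : G) :
    (pairCount S x y : ℂ) / (p : ℂ) ^ ((Nat.card G).factorization p -
        (Nat.card (Subgroup.centralizer ({y} : Set G))).factorization p) =
      ((p : ℂ) ^ (Nat.card (Subgroup.centralizer ({y} : Set G))).factorization p /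
        (Nat.card (Subgroup.centralizer ({y} : Set G)) : ℂ)) *
      ∑ χ : IrrCharacter G, centralChar (χ : G → ℂ) x *
        (sylMult S (χ : G → ℂ) * conj ((χ : G → ℂ) y)) := by
  have h := pairCount_mul_card S x y
  have hda := factorization_card_centralizer_le p y
  set a := (Nat.card G).factorization p with ha
  set d := (Nat.card (Subgroup.centralizer ({y} : Set G))).factorization p with hd
  have hsum : ∑ χ : IrrCharacter G, centralChar (χ : G → ℂ) x * conj ((χ : G → ℂ) y) *
        ∑ s : S, (χ : G → ℂ) s = (p : ℂ) ^ a * ∑ χ : IrrCharacter G, centralChar (χ : G → ℂ) x *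
        (sylMult S (χ : G → ℂ) * conj ((χ : G → ℂ) y)) := by
    rw [Finset.mul_sum]
    apply Finset.sum_congr rfl
    intro χ _
    rw [sum_eq_card_mul_sylMult, hS]
    push_cast
    ring
  rw [hsum] at h
  have hc0 : (Nat.card (Subgroup.centralizer ({y} : Set G)) : ℂ) ≠ 0 := by
    exact_mod_cast (Nat.card_pos (α := Subgroup.centralizer ({y} : Set G))).ne'
  have hp0 : (p : ℂ) ≠ 0 := by exact_mod_cast hp.ne_zero
  have hpow : (p : ℂ) ^ a = (p : ℂ) ^ (a - d) * (p : ℂ) ^ d := by
    rw [← pow_add]
    congr 1
    omega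
  rw [hpow] at h
  have hpad : (p : ℂ) ^ (a - d) ≠ 0 := pow_ne_zero _ hp0
  rw [div_eq_iff hpad]
  field_simp
  rw [h]
  ring

variable [Fact p.Prime]

theorem memLocalRing_unit (hM : IsPModular p M) (y : G) :
    MemLocalRing M ((p : ℂ) ^ (Nat.card (Subgroup.centralizer ({y} : Set G))).factorization p /
        (Nat.card (Subgroup.centralizer ({y} : Set G)) : ℂ)) ∧
    ¬ MemLocalIdeal M ((p : ℂ) ^ (Nat.card (Subgroup.centralizer ({y} : Set G))).factorization p /
        (Nat.card (Subgroup.centralizer ({y} : Set G)) : ℂ)) := by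
  have hp := hM.1
  have hc0 : Nat.card (Subgroup.centralizer ({y} : Set G)) ≠ 0 := (Nat.card_pos).ne'
  have hpk : p ^ (Nat.card (Subgroup.centralizer ({y} : Set G))).factorization p ≠ 0 :=
    pow_ne_zero _ hp.ne_zero
  have hf : (p ^ (Nat.card (Subgroup.centralizer ({y} : Set G))).factorization p).factorization p =
      (Nat.card (Subgroup.centralizer ({y} : Set G))).factorization p := by
    rw [hp.factorization_pow]
    simp
  have h := memLocalRing_natCast_div hM hpk hc0 (le_of_eq hf.symm)
  have hcast : ((p ^ (Nat.card (Subgroup.centralizer ({y} : Set G))).factorization p : ℕ) : ℂ) =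
      (p : ℂ) ^ (Nat.card (Subgroup.centralizer ({y} : Set G))).factorization p := by
    push_cast
    rfl
  rw [hcast] at h
  exact ⟨h.1, h.2 hf.symm⟩

theorem memLocalRing_term [hMp : M.IsPrime] (S : Subgroup G) [Fintype S] (χ : IrrCharacter G)
    (y : G) : MemLocalRing M (sylMult S (χ : G → ℂ) * conj ((χ : G → ℂ) y)) := by
  obtain ⟨n, hn⟩ := sylMult_nat S (isCharacter_of_isIrrCharacter χ.2)
  rw [hn]
  exact memLocalRing_mul (memLocalRing_natCast n) (Cfsg.Agent.Helper24.Glaub.memLocalRing_conj_irr χ y)

theorem memLocalRing_pairCount_div (hM : IsPModular p M) (S : Subgroup G) [Fintype S]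
    (hS : Nat.card S = p ^ (Nat.card G).factorization p) (x y : G) :
    MemLocalRing M ((pairCount S x y : ℂ) / (p : ℂ) ^ ((Nat.card G).factorization p -
        (Nat.card (Subgroup.centralizer ({y} : Set G))).factorization p)) := by
  haveI hMp : M.IsPrime := hM.2.1.isPrime
  rw [pairCount_div hM.1 S hS]
  apply memLocalRing_mul (memLocalRing_unit hM y).1
  apply memLocalRing_sum
  intro χ _
  exact memLocalRing_mul (memLocalRing_centralChar χ x) (memLocalRing_term S χ y)

/-- the pair count is divisible by `p ^ (a - d)` -/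
theorem pow_dvd_pairCount (hM : IsPModular p M) (S : Subgroup G) [Fintype S]
    (hS : Nat.card S = p ^ (Nat.card G).factorization p) (x y : G) :
    p ^ ((Nat.card G).factorization p -
        (Nat.card (Subgroup.centralizer ({y} : Set G))).factorization p) ∣ pairCount S x y :=
  dvd_of_memLocalRing_div hM (memLocalRing_pairCount_div hM S hS x y)

end Reduce

end Cfsg.Agent.Helper18.Robinson
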