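import Mathlib
import Cfsg.Agent.Lib.Helper18.RobinsonCount2

/-!
# The pair count modulo the local ideal as a sum over blocks (helper18)
-/

set_option autoImplicit false
set_option linter.unusedSectionVars false

namespace Cfsg.Agent.Helper18.Robinson

open Cfsg Cfsg.Agent.Helper24 Cfsg.Agent.Helper23.Blk
open scoped ComplexConjugate

universe u

section Rep

variable {G : Type u} [Group G] [Fintype G] [Fintype (IrrCharacter G)] {M : Ideal AlgInt} {p : ℕ}

/-- a chosen member of a set of irreducible characters -/
noncomputable def blockRep (B : Set (IrrCharacter G)) : IrrCharacter G :=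
  haveI : Nonempty (IrrCharacter G) := ⟨principalChar G⟩
  Classical.epsilon (fun χ => χ ∈ B)

theorem blockRep_mem {B : Set (IrrCharacter G)} (h : B.Nonempty) : blockRep B ∈ B := by
  unfold blockRep
  exact Classical.epsilon_spec h

variable [hMax : M.IsMaximal]

/-- the residue of the central character of a block -/
noncomputable def omB (M : Ideal AlgInt) [M.IsMaximal] (B : Set (IrrCharacter G)) (x : G) :
    AlgInt ⧸ M :=
  red M (centralChar (blockRep B : G → ℂ) x)

theorem red_eq_of_sub {z w : ℂ} (hz : MemLocalRing M z) (hw : MemLocalRing M w)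
    (h : MemLocalIdeal M (z - w)) : red M z = red M w := by
  haveI hMp : M.IsPrime := hMax.isPrime
  have h1 : z = w + (z - w) := by ring
  rw [h1, red_add hw (memLocalRing_sub hz hw), (red_eq_zero_iff (memLocalRing_sub hz hw)).2 h,
    add_zero]

theorem red_centralChar_eq {B : Set (IrrCharacter G)} (hB : IsPBlock M B) {χ : IrrCharacter G}
    (hχ : χ ∈ B) (x : G) : red M (centralChar (χ : G → ℂ) x) = omB M B x := by
  haveI hMp : M.IsPrime := hMax.isPrime
  unfold omB
  apply red_eq_of_sub (memLocalRing_centralChar χ x) (memLocalRing_centralChar _ x)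
  exact sameBlock_of_mem hB hχ (blockRep_mem ⟨χ, hχ⟩) x

open Classical in
/-- the block sum of the multiplicities against the conjugate character values -/
noncomputable def blockMult (S : Subgroup G) [Fintype S] (B : Set (IrrCharacter G)) (y : G) : ℂ :=
  ∑ χ : IrrCharacter G, if χ ∈ B then sylMult S (χ : G → ℂ) * conj ((χ : G → ℂ) y) else 0

theorem memLocalRing_blockMult (S : Subgroup G) [Fintype S] (B : Set (IrrCharacter G)) (y : G) :
    MemLocalRing M (blockMult S B y) := by
  classical
  haveI hMp : M.IsPrime := hMax.isPrime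
  unfold blockMult
  apply memLocalRing_sum
  intro χ _
  split_ifs
  · exact memLocalRing_term S χ y
  · exact memLocalRing_zero ne_top

theorem blockOf_eq_iff {B : Set (IrrCharacter G)} (hB : IsPBlock M B) (χ : IrrCharacter G) :
    blockOf M (χ : G → ℂ) = B ↔ χ ∈ B := by
  haveI hMp : M.IsPrime := hMax.isPrime
  constructor
  · intro h
    rw [← h]
    exact mem_blockOf_self χ
  · intro h
    obtain ⟨χ₀, rfl⟩ := hB
    exact blockOf_eq_of_mem h

end Rep

section Reduce

variable {G : Type u} [Group G] [Fintype G] [Fintype (IrrCharacter G)] {M : Ideal AlgInt} {p : ℕ}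
  [Fact p.Prime] [hMax : M.IsMaximal]

open Classical in
/-- the pair count modulo the local ideal, block by block -/
theorem red_pairCount_div (hM : IsPModular p M) (S : Subgroup G) [Fintype S]
    (hS : Nat.card S = p ^ (Nat.card G).factorization p) (x y : G) :
    red M ((pairCount S x y : ℂ) / (p : ℂ) ^ ((Nat.card G).factorization p -
        (Nat.card (Subgroup.centralizer ({y} : Set G))).factorization p)) =
      red M ((p : ℂ) ^ (Nat.card (Subgroup.centralizer ({y} : Set G))).factorization p /
        (Nat.card (Subgroup.centralizer ({y} : Set G)) : ℂ)) *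
      ∑ B : Set (IrrCharacter G),
        if IsPBlock M B then omB M B x * red M (blockMult S B y) else 0 := by
  haveI hMp : M.IsPrime := hMax.isPrime
  rw [pairCount_div hM.1 S hS]
  have hterm : ∀ χ : IrrCharacter G, MemLocalRing M (centralChar (χ : G → ℂ) x *
        (sylMult S (χ : G → ℂ) * conj ((χ : G → ℂ) y))) := fun χ =>
    memLocalRing_mul (memLocalRing_centralChar χ x) (memLocalRing_term S χ y)
  rw [red_mul (memLocalRing_unit hM y).1 (memLocalRing_sum _ _ fun χ _ => hterm χ),
    red_sum _ _ fun χ _ => hterm χ]
  congr 1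
  rw [← Finset.sum_fiberwise (s := Finset.univ) (g := fun χ : IrrCharacter G =>
    blockOf M (χ : G → ℂ))]
  apply Finset.sum_congr rfl
  intro B _
  by_cases hB : IsPBlock M B
  · rw [if_pos hB]
    unfold blockMult
    rw [red_sum, Finset.mul_sum, Finset.sum_filter]
    · apply Finset.sum_congr rfl
      intro χ _
      by_cases hχ : χ ∈ B
      · rw [if_pos ((blockOf_eq_iff hB χ).2 hχ), if_pos hχ,
          red_mul (memLocalRing_centralChar χ x) (memLocalRing_term S χ y),
          red_centralChar_eq hB hχ]
      · rw [if_neg (fun h => hχ ((blockOf_eq_iff hB χ).1 h)), if_neg hχ, red_zero, mul_zero]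
    · intro χ _
      split_ifs
      · exact memLocalRing_term S χ y
      · exact memLocalRing_zero ne_top
  · rw [if_neg hB]
    apply Finset.sum_eq_zero
    intro χ hχ
    rw [Finset.mem_filter] at hχ
    exact absurd ⟨χ, hχ.2.symm⟩ hB

end Reduce

end Cfsg.Agent.Helper18.Robinson
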