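import Mathlib
import Cfsg.Agent.Lib.Helper18.RobinsonCount3
import Cfsg.Agent.Lib.Helper23.BlockFirstMain

/-!
# Only the blocks with the given defect group contribute (helper18)
-/

set_option autoImplicit false
set_option linter.unusedSectionVars false

namespace Cfsg.Agent.Helper18.Robinson

open Cfsg Cfsg.Agent.Helper24 Cfsg.Agent.Helper23.Blk
open scoped ComplexConjugate

universe u

section Vanish

variable {G : Type u} [Group G] [Fintype G] [Fintype (IrrCharacter G)] {M : Ideal AlgInt} {p : ℕ}
  [Fact p.Prime] [hMax : M.IsMaximal]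

theorem card_le_of_subConj {Q D : Subgroup G} (h : SubConj Q D) : Nat.card Q ≤ Nat.card D := by
  obtain ⟨c, hc⟩ := h
  have hle : Q.map (MulAut.conj c).toMonoidHom ≤ D := by
    rintro _ ⟨q, hq, rfl⟩
    simp only [MulEquiv.coe_toMonoidHom, MulAut.conj_apply]
    exact hc q hq
  have h1 : Nat.card (Q.map (MulAut.conj c).toMonoidHom) = Nat.card Q :=
    Subgroup.card_map_of_injective (MulAut.conj c).injective
  rw [← h1]
  exact Subgroup.card_le_of_le hle

/-- the values of the members of a block of small defect lie in the local ideal -/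
theorem memLocalIdeal_blockMult (hM : IsPModular p M) (S : Subgroup G) [Fintype S]
    (B : Set (IrrCharacter G)) (y : G)
    (hlt : blockDefect p B < (Nat.card (Subgroup.centralizer ({y} : Set G))).factorization p) :
    MemLocalIdeal M (blockMult S B y) := by
  classical
  haveI hMp : M.IsPrime := hMax.isPrime
  unfold blockMult
  apply memLocalIdeal_sum
  intro χ _
  split_ifs with hχ
  · obtain ⟨n, hn⟩ := sylMult_nat S (isCharacter_of_isIrrCharacter χ.2)
    rw [hn]
    apply memLocalIdeal_mul_left (memLocalRing_natCast n)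
    rw [← irr_inv (isCharacter_of_isIrrCharacter χ.2)]
    apply irr_apply_memLocalIdeal_of_factorization_lt hM χ y⁻¹
    rw [centralizer_inv, factorization_index_centralizer]
    have h1 := sub_blockDefect_le_factorization p hχ
    have h2 := factorization_card_centralizer_le p y
    omega
  · exact memLocalIdeal_zero ne_top

/-- a block contributing to the pair count has the given defect group -/
theorem isDefectGroup_of_term_ne_zero (hM : IsPModular p M) (S : Subgroup G) [Fintype S]
    {B : Set (IrrCharacter G)} (hB : IsPBlock M B) {x y : G} {D : Subgroup G}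
    (hDx : ∃ P : Sylow p (Subgroup.centralizer ({x} : Set G)),
      (P : Subgroup (Subgroup.centralizer ({x} : Set G))).map
        (Subgroup.centralizer ({x} : Set G)).subtype = D)
    (hDy : Nat.card D = p ^ (Nat.card (Subgroup.centralizer ({y} : Set G))).factorization p)
    (hne : omB M B x * red M (blockMult S B y) ≠ 0) : IsDefectGroup p M B D := by
  haveI hMp : M.IsPrime := hMax.isPrime
  have hp := hM.1
  obtain ⟨DB, hDB⟩ := exists_isDefectGroup hM hB
  have h1 : omB M B x ≠ 0 := left_ne_zero_of_mul hne
  have h2 : red M (blockMult S B y) ≠ 0 := right_ne_zero_of_mul hne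
  obtain ⟨P, hP⟩ := hDx
  have hne' := block_nonempty hM hB
  have h3 : SubConj DB D := by
    rw [← hP]
    apply subConj_of_centralChar hM hB hDB ⟨blockRep B, blockRep_mem hne', ?_⟩ P
    intro hmem
    apply h1
    unfold omB
    rw [red_eq_zero_iff (memLocalRing_centralChar _ x)]
    exact hmem
  have h4 : ¬ blockDefect p B < (Nat.card (Subgroup.centralizer ({y} : Set G))).factorization p := by
    intro hlt
    apply h2
    rw [red_eq_zero_iff (memLocalRing_blockMult S B y)]
    exact memLocalIdeal_blockMult hM S B y hlt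
  push Not at h4
  have h5 : Nat.card D ≤ Nat.card DB := by
    rw [hDy, card_defectGroup hM hB hDB]
    exact Nat.pow_le_pow_right hp.pos h4
  obtain ⟨c, hc⟩ := map_conj_eq_of_subConj h3 h5
  rw [← hc]
  exact isDefectGroup_conj hM hB hDB c

end Vanish

section LemmaB

variable {G : Type u} [Group G] [Fintype G] [Fintype (IrrCharacter G)] {M : Ideal AlgInt} {p : ℕ}
  [Fact p.Prime]

theorem dvd_orderOf_of_mem_pGroup {S : Subgroup G} (hS : IsPGroup p S) {s : G} (hs : s ∈ S)
    (hs1 : s ≠ 1) : p ∣ orderOf s := by
  have hp : p.Prime := Fact.out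
  obtain ⟨k, hk⟩ := hS ⟨s, hs⟩
  have h1 : s ^ p ^ k = 1 := by
    have := congrArg Subtype.val hk
    simpa using this
  have h2 : orderOf s ∣ p ^ k := orderOf_dvd_of_pow_eq_one h1
  obtain ⟨j, hj, hj'⟩ := (Nat.dvd_prime_pow hp).1 h2
  rw [hj']
  have : j ≠ 0 := by
    rintro rfl
    rw [pow_zero, orderOf_eq_one_iff] at hj'
    exact hs1 hj'
  exact dvd_pow_self p this

open Classical in
/-- for a `p`-regular element, the block sum of multiplicities is the idempotent coefficient -/
theorem blockMult_eq_of_pRegular (hM : IsPModular p M) (S : Subgroup G) [Fintype S]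
    (hSp : IsPGroup p S) {B : Set (IrrCharacter G)} (hB : IsPBlock M B) {y : G}
    (hy : ¬ p ∣ orderOf y) :
    blockMult S B y = (Nat.card G : ℂ) / (Nat.card S : ℂ) * blockCoeff B y := by
  have hS0 : (Nat.card S : ℂ) ≠ 0 := by
    exact_mod_cast (Nat.card_pos (α := S)).ne'
  have hG0 : (Nat.card G : ℂ) ≠ 0 := by
    exact_mod_cast (Nat.card_pos (α := G)).ne'
  unfold blockMult sylMult
  have h1 : ∀ χ : IrrCharacter G, (if χ ∈ B then
      ((Nat.card S : ℂ)⁻¹ * ∑ s : S, (χ : G → ℂ) s) * conj ((χ : G → ℂ) y) else 0) =
      (Nat.card S : ℂ)⁻¹ * ∑ s : S, (if χ ∈ B then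
        conj ((χ : G → ℂ) y * conj ((χ : G → ℂ) (s : G))) else 0) := by
    intro χ
    split_ifs
    · rw [mul_assoc, Finset.sum_mul]
      congr 1
      apply Finset.sum_congr rfl
      intro s _
      rw [map_mul, Complex.conj_conj]
      ring
    · simp
  rw [Finset.sum_congr rfl (fun χ _ => h1 χ), ← Finset.mul_sum, Finset.sum_comm]
  have h2 : ∀ s : S, s ≠ 1 → ∑ χ : IrrCharacter G, (if χ ∈ B then
        conj ((χ : G → ℂ) y * conj ((χ : G → ℂ) (s : G))) else 0) = 0 := by
    intro s hs
    have hs' : (s : G) ≠ 1 := fun h => hs (Subtype.ext h)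
    have h3 := weak_block_orthogonality hM hB hy (dvd_orderOf_of_mem_pGroup hSp s.2 hs')
    rw [finsum_mem_def, finsum_eq_sum_of_fintype] at h3
    have h4 := congrArg conj h3
    rw [map_sum, map_zero] at h4
    refine (Finset.sum_congr rfl ?_).trans h4
    intro χ _
    rw [Set.indicator_apply]
    split_ifs
    · rfl
    · simp
  rw [Finset.sum_eq_single (1 : S) (fun s _ hs => h2 s hs) (fun h => absurd (Finset.mem_univ _) h)]
  unfold blockCoeff
  rw [finsum_mem_def, finsum_eq_sum_of_fintype]
  have h5 : ∀ χ : IrrCharacter G, (if χ ∈ B then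
        conj ((χ : G → ℂ) y * conj ((χ : G → ℂ) ((1 : S) : G))) else 0) =
      Set.indicator B (fun χ : IrrCharacter G => (χ : G → ℂ) 1 * conj ((χ : G → ℂ) y)) χ := by
    intro χ
    rw [Set.indicator_apply]
    split_ifs
    · rw [map_mul, Complex.conj_conj, Subgroup.coe_one]
      ring
    · rfl
  rw [Finset.sum_congr rfl (fun χ _ => h5 χ)]
  field_simp

end LemmaB

section I1

variable {G : Type u} [Group G] [Fintype G] [Fintype (IrrCharacter G)] {M : Ideal AlgInt} {p : ℕ}
  [Fact p.Prime] [hMax : M.IsMaximal]

open Classical in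
/-- idempotent coefficients against central characters, class by class, modulo the local ideal -/
theorem sum_classes_red_blockCoeff_mul_omB [Fintype (ConjClasses G)] (hM : IsPModular p M)
    {B B' : Set (IrrCharacter G)} (hB : IsPBlock M B) (hB' : IsPBlock M B') :
    ∑ K : ConjClasses G, red M (blockCoeff B (Quotient.out K)) * omB M B' (Quotient.out K) =
      if B = B' then 1 else 0 := by
  haveI hMp : M.IsPrime := hMax.isPrime
  have hne' := block_nonempty hM hB'
  have h1 := omega_blockCoeff (blockRep B') B
  rw [omega_eq_sum_classes (isClassFunction_of_isIrrCharacter (blockRep B').2)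
    (isClassFunction_blockCoeff B)] at h1
  have h2 := congrArg (red M) h1
  rw [red_sum Finset.univ (fun K : ConjClasses G => blockCoeff B (Quotient.out K) *
      centralChar (blockRep B' : G → ℂ) (Quotient.out K))
    (fun K _ => memLocalRing_mul (memLocalRing_blockCoeff hMp hB _)
    (memLocalRing_centralChar _ _))] at h2
  have h3 : ∀ K : ConjClasses G, red M (blockCoeff B (Quotient.out K) *
      centralChar (blockRep B' : G → ℂ) (Quotient.out K)) =
      red M (blockCoeff B (Quotient.out K)) * omB M B' (Quotient.out K) := by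
    intro K
    rw [red_mul (memLocalRing_blockCoeff hMp hB _) (memLocalRing_centralChar _ _)]
    rfl
  rw [Finset.sum_congr rfl (fun K _ => h3 K)] at h2
  rw [h2]
  by_cases hBB : B = B'
  · subst hBB
    rw [if_pos (blockRep_mem hne'), if_pos rfl, red_one]
  · rw [if_neg hBB, if_neg, red_zero]
    intro hmem
    exact hBB (isPBlock_eq_of_mem hB hB' hmem (blockRep_mem hne'))

end I1

end Cfsg.Agent.Helper18.Robinson
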