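import Mathlib
import Cfsg.Agent.Lib.Helper18.RobinsonCount4
import Cfsg.Agent.Lib.Helper18.RobinsonLinAlg

/-!
# Robinson's count of blocks with a normal defect group: support and class sums (helper18)
-/

set_option autoImplicit false
set_option linter.unusedSectionVars false

namespace Cfsg.Agent.Helper18.Robinson

open Cfsg Cfsg.Agent.Helper24 Cfsg.Agent.Helper23.Blk
open scoped ComplexConjugate

universe u

section Support

variable {G : Type u} [Group G] [Fintype G] [Fintype (IrrCharacter G)] {M : Ideal AlgInt} {p : ℕ}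
  [Fact p.Prime] [hMax : M.IsMaximal]

theorem le_of_subConj_of_normal {D X : Subgroup G} [D.Normal] (h : SubConj D X) : D ≤ X := by
  obtain ⟨c, hc⟩ := h
  intro q hq
  have h1 : c⁻¹ * q * c⁻¹⁻¹ ∈ D := ‹D.Normal›.conj_mem q hq c⁻¹
  have h2 := hc _ h1
  have h3 : c * (c⁻¹ * q * c⁻¹⁻¹) * c⁻¹ = q := by group
  rwa [h3] at h2

/-- the classes contributing to the orthogonality relation are `p`-regular with `D` as a Sylow
subgroup of the centralizer -/
theorem exists_sylow_of_ne_zero (hM : IsPModular p M) {D : Subgroup G} [D.Normal]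
    {B B' : Set (IrrCharacter G)} (hB : IsPBlock M B) (hB' : IsPBlock M B')
    (hDB : IsDefectGroup p M B D) (hDB' : IsDefectGroup p M B' D) {g : G}
    (hne : red M (blockCoeff B g) * omB M B' g ≠ 0) :
    ¬ p ∣ orderOf g ∧ ∃ Q : Sylow p (Subgroup.centralizer ({g} : Set G)),
      (Q : Subgroup (Subgroup.centralizer ({g} : Set G))).map
        (Subgroup.centralizer ({g} : Set G)).subtype = D := by
  haveI hMp : M.IsPrime := hMax.isPrime
  have h1 : red M (blockCoeff B g) ≠ 0 := left_ne_zero_of_mul hne
  have h2 : omB M B' g ≠ 0 := right_ne_zero_of_mul hne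
  have h1' : ¬ MemLocalIdeal M (blockCoeff B g) := by
    intro h
    exact h1 ((red_eq_zero_iff (memLocalRing_blockCoeff hMp hB g)).2 h)
  have h2' : ¬ MemLocalIdeal M (centralChar (blockRep B' : G → ℂ) g) := by
    intro h
    exact h2 ((red_eq_zero_iff (memLocalRing_centralChar _ g)).2 h)
  refine ⟨?_, ?_⟩
  · intro hdvd
    apply h1'
    rw [blockCoeff_eq_zero_of_pSingular hM hB hdvd]
    exact memLocalIdeal_zero ne_top
  · obtain ⟨P⟩ : Nonempty (Sylow p (Subgroup.centralizer ({g} : Set G))) := inferInstance
    refine ⟨P, ?_⟩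
    have hne' := block_nonempty hM hB'
    have h3 : SubConj D ((P : Subgroup (Subgroup.centralizer ({g} : Set G))).map
        (Subgroup.centralizer ({g} : Set G)).subtype) :=
      subConj_of_centralChar hM hB' hDB' ⟨blockRep B', blockRep_mem hne', h2'⟩ P
    have h4 : D ≤ (P : Subgroup (Subgroup.centralizer ({g} : Set G))).map
        (Subgroup.centralizer ({g} : Set G)).subtype := le_of_subConj_of_normal h3
    have h5 : SubConj ((P : Subgroup (Subgroup.centralizer ({g} : Set G))).map
        (Subgroup.centralizer ({g} : Set G)).subtype) D := by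
      apply subConj_of_blockCoeff hM hB hDB h1' (P.2.map _)
      rintro _ ⟨y, -, rfl⟩
      exact y.2
    exact (Subgroup.eq_of_le_of_card_ge h4 (card_le_of_subConj h5)).symm

end Support

section ClassSum

variable {G : Type u} [Group G] [Fintype G]

/-- a class function supported on the classes of a family of pairwise non-conjugate elements:
the sum over class representatives is the sum over the family -/
theorem sum_classes_eq_sum_family {R : Type*} [AddCommMonoid R] [Fintype (ConjClasses G)]
    {ι : Type*} [Fintype ι] [DecidableEq (ConjClasses G)]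
    (F : G → R) (hF : ∀ g t : G, F (t * g * t⁻¹) = F g) (x : ι → G)
    (hinj : Function.Injective fun i => ConjClasses.mk (x i))
    (hsupp : ∀ g : G, F g ≠ 0 → ∃ i, ConjClasses.mk (x i) = ConjClasses.mk g) :
    ∑ K : ConjClasses G, F (Quotient.out K) = ∑ i, F (x i) := by
  have h1 : ∀ i, F (x i) = F (Quotient.out (ConjClasses.mk (x i))) := by
    intro i
    have h2 : ConjClasses.mk (Quotient.out (ConjClasses.mk (x i))) = ConjClasses.mk (x i) :=
      Quotient.out_eq _
    rw [ConjClasses.mk_eq_mk_iff_isConj, isConj_iff] at h2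
    obtain ⟨t, ht⟩ := h2
    have h3 : F (x i) = F (t * Quotient.out (ConjClasses.mk (x i)) * t⁻¹) := by rw [ht]
    rw [h3, hF]
  rw [Finset.sum_congr rfl (fun i _ => h1 i),
    ← Finset.sum_image (f := fun K : ConjClasses G => F (Quotient.out K))
      (s := Finset.univ) (g := fun i => ConjClasses.mk (x i)) (fun a _ b _ h => hinj h)]
  symm
  apply Finset.sum_subset (Finset.subset_univ _)
  intro K _ hK
  by_contra hne
  obtain ⟨i, hi⟩ := hsupp _ hne
  apply hK
  rw [Finset.mem_image]
  refine ⟨i, Finset.mem_univ _, ?_⟩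
  rw [hi]
  exact Quotient.out_eq _

end ClassSum

end Cfsg.Agent.Helper18.Robinson
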