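import Mathlib
import Cfsg.Agent.Lib.Helper18.RobinsonCount5

/-!
# Robinson's count of blocks with a normal defect group (helper18)
-/

set_option autoImplicit false
set_option linter.unusedSectionVars false

namespace Cfsg.Agent.Helper18.Robinson

open Cfsg Cfsg.Agent.Helper24 Cfsg.Agent.Helper23.Blk
open scoped ComplexConjugate

universe u

section Main

variable {G : Type u} [Group G] [Fintype G]

theorem red_natCast {M : Ideal AlgInt} [hMax : M.IsMaximal] (n : ℕ) :
    red M (n : ℂ) = (n : AlgInt ⧸ M) := by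
  have h1 : ((n : AlgInt) : ℂ) = (n : ℂ) := by push_cast; rfl
  rw [← h1, red_algInt, map_natCast]

set_option maxHeartbeats 1600000 in
theorem main (p : ℕ) [Fact p.Prime] (M : Ideal AlgInt)
    (hM : IsPModular p M) (D : Subgroup G) [D.Normal] (S : Sylow p G)
    {ι : Type*} [Fintype ι] [DecidableEq ι] (K : ι → ConjClasses G)
    (hKinj : Function.Injective K)
    (hK : ∀ C : ConjClasses G, (∃ i, K i = C) ↔ ∃ x ∈ C.carrier, ¬ p ∣ orderOf x ∧
      ∃ Q : Sylow p (Subgroup.centralizer ({x} : Set G)),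
        (Q : Subgroup (Subgroup.centralizer ({x} : Set G))).map
          (Subgroup.centralizer ({x} : Set G)).subtype = D) :
    Nat.card {B : Set (IrrCharacter G) // IsPBlock M B ∧ IsDefectGroup p M B D} =
      (Matrix.of fun i j : ι => ((Nat.card {yz : G × G // yz.1 ∈ (K i).carrier ∧
        yz.2 ∈ (K j).carrier ∧ yz.2 * yz.1⁻¹ ∈ (S : Subgroup G)} /
          p ^ ((Nat.card G).factorization p - (Nat.card D).factorization p) : ℕ) : ZMod p)).rank := by
  classical
  haveI hMax : M.IsMaximal := hM.2.1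
  haveI hMp : M.IsPrime := hMax.isPrime
  letI : Fintype (IrrCharacter G) := irrFintype
  haveI : Fintype (ConjClasses G) := Fintype.ofFinite _
  haveI : Fintype (S : Subgroup G) := Fintype.ofFinite _
  have hp := hM.1
  -- representatives
  have hrep : ∀ i, ∃ x ∈ (K i).carrier, ¬ p ∣ orderOf x ∧
      ∃ Q : Sylow p (Subgroup.centralizer ({x} : Set G)),
        (Q : Subgroup (Subgroup.centralizer ({x} : Set G))).map
          (Subgroup.centralizer ({x} : Set G)).subtype = D := fun i => (hK (K i)).1 ⟨i, rfl⟩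
  choose x hxK hxreg hxD using hrep
  have hKx : ∀ i, K i = ConjClasses.mk (x i) := fun i =>
    (ConjClasses.mem_carrier_iff_mk_eq.1 (hxK i)).symm
  obtain ⟨a, ha⟩ : ∃ a, a = (Nat.card G).factorization p := ⟨_, rfl⟩
  obtain ⟨d, hd⟩ : ∃ d, d = (Nat.card D).factorization p := ⟨_, rfl⟩
  rw [← ha, ← hd]
  have hS : Nat.card (S : Subgroup G) = p ^ (Nat.card G).factorization p := S.card_eq_multiplicity
  have hSp : IsPGroup p (S : Subgroup G) := S.2
  have hDc : ∀ i, Nat.card D =
      p ^ (Nat.card (Subgroup.centralizer ({x i} : Set G))).factorization p := by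
    intro i
    obtain ⟨Q, hQ⟩ := hxD i
    rw [← hQ]
    exact card_sylow_map_centralizer (x i) Q
  have hdx : ∀ i, (Nat.card (Subgroup.centralizer ({x i} : Set G))).factorization p = d := by
    intro i
    rw [hd, hDc i, hp.factorization_pow]
    simp
  -- the count
  have hcount : ∀ i j, Nat.card {yz : G × G // yz.1 ∈ (K i).carrier ∧
      yz.2 ∈ (K j).carrier ∧ yz.2 * yz.1⁻¹ ∈ (S : Subgroup G)} =
      pairCount (S : Subgroup G) (x i) (x j) := by
    intro i j
    unfold pairCount
    apply Nat.card_congr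
    apply Equiv.subtypeEquivRight
    intro yz
    rw [hKx i, hKx j, ConjClasses.mem_carrier_iff_mk_eq, ConjClasses.mem_carrier_iff_mk_eq,
      ConjClasses.mk_eq_mk_iff_isConj, ConjClasses.mk_eq_mk_iff_isConj, isConj_comm,
      isConj_comm (g := yz.2)]
  have hdvd : ∀ i j, p ^ (a - d) ∣ pairCount (S : Subgroup G) (x i) (x j) := by
    intro i j
    have := pow_dvd_pairCount hM (S : Subgroup G) hS (x i) (x j)
    rwa [hdx j, ← ha] at this
  -- the residue field
  haveI : CharP (AlgInt ⧸ M) p := by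
    rw [CharP.charP_iff_prime_eq_zero hp]
    have h1 : ((p : ℕ) : AlgInt ⧸ M) = Ideal.Quotient.mk M ((p : ℕ) : AlgInt) := by
      rw [map_natCast]
    rw [h1, Ideal.Quotient.eq_zero_iff_mem]
    exact hM.2.2
  let φ : ZMod p →+* AlgInt ⧸ M := ZMod.castHom (dvd_refl p) _
  haveI : Finite (IrrCharacter G) := Finite.of_fintype _
  haveI : Fintype {B : Set (IrrCharacter G) // IsPBlock M B ∧ IsDefectGroup p M B D} :=
    Fintype.ofFinite _
  -- the unit factors
  obtain ⟨v, hv⟩ : ∃ v : ι → ℂ, v = fun j =>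
      (p : ℂ) ^ (Nat.card (Subgroup.centralizer ({x j} : Set G))).factorization p /
        (Nat.card (Subgroup.centralizer ({x j} : Set G)) : ℂ) := ⟨_, rfl⟩
  have hvR : ∀ j, MemLocalRing M (v j) := fun j => by
    rw [hv]
    exact (memLocalRing_unit hM (x j)).1
  have hvI : ∀ j, ¬ MemLocalIdeal M (v j) := fun j => by
    rw [hv]
    exact (memLocalRing_unit hM (x j)).2
  have hGS : MemLocalRing M ((Nat.card G : ℂ) / (Nat.card (S : Subgroup G) : ℂ)) ∧
      ¬ MemLocalIdeal M ((Nat.card G : ℂ) / (Nat.card (S : Subgroup G) : ℂ)) := by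
    have hG0 : Nat.card G ≠ 0 := (Nat.card_pos).ne'
    have hpk : p ^ (Nat.card G).factorization p ≠ 0 := pow_ne_zero _ hp.ne_zero
    have hf : (p ^ (Nat.card G).factorization p).factorization p =
        (Nat.card G).factorization p := by
      rw [hp.factorization_pow]
      simp
    have h := memLocalRing_natCast_div hM hG0 hpk (le_of_eq hf)
    rw [hS]
    exact ⟨h.1, h.2 hf⟩
  obtain ⟨w, hw⟩ : ∃ w : ι → AlgInt ⧸ M, w = fun j =>
      red M (v j) * red M ((Nat.card G : ℂ) / (Nat.card (S : Subgroup G) : ℂ)) := ⟨_, rfl⟩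
  have hw0 : ∀ j, w j ≠ 0 := by
    intro j
    rw [hw]
    apply mul_ne_zero
    · intro h
      exact hvI j ((red_eq_zero_iff (hvR j)).1 h)
    · intro h
      exact hGS.2 ((red_eq_zero_iff hGS.1).1 h)
  -- the matrices
  obtain ⟨A, hA⟩ : ∃ A : Matrix ι {B : Set (IrrCharacter G) // IsPBlock M B ∧
      IsDefectGroup p M B D} (AlgInt ⧸ M), A = Matrix.of fun i B => omB M B.1 (x i) := ⟨_, rfl⟩
  obtain ⟨A', hA'⟩ : ∃ A' : Matrix {B : Set (IrrCharacter G) // IsPBlock M B ∧
      IsDefectGroup p M B D} ι (AlgInt ⧸ M),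
      A' = Matrix.of fun B i => red M (blockCoeff B.1 (x i)) := ⟨_, rfl⟩
  obtain ⟨C, hC⟩ : ∃ C : Matrix {B : Set (IrrCharacter G) // IsPBlock M B ∧
      IsDefectGroup p M B D} ι (AlgInt ⧸ M),
      C = Matrix.of fun B j => A' B j * w j := ⟨_, rfl⟩
  obtain ⟨C', hC'⟩ : ∃ C' : Matrix ι {B : Set (IrrCharacter G) // IsPBlock M B ∧
      IsDefectGroup p M B D} (AlgInt ⧸ M),
      C' = Matrix.of fun j B => (w j)⁻¹ * A j B := ⟨_, rfl⟩
  -- orthogonality
  have hA'A : A' * A = 1 := by
    ext B B'
    rw [Matrix.mul_apply, Matrix.one_apply]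
    have h1 := sum_classes_red_blockCoeff_mul_omB hM B.2.1 B'.2.1
    have h2 := sum_classes_eq_sum_family
      (fun g => red M (blockCoeff B.1 g) * omB M B'.1 g)
      (by
        intro g t
        beta_reduce
        unfold omB
        rw [blockCoeff_conj, centralChar_conj (isClassFunction_of_isIrrCharacter (blockRep B'.1).2)])
      x
      (by
        intro i j hij
        beta_reduce at hij
        rw [← hKx i, ← hKx j] at hij
        exact hKinj hij)
      (by
        intro g hne
        obtain ⟨hreg, Q, hQ⟩ := exists_sylow_of_ne_zero hM B.2.1 B'.2.1 B.2.2 B'.2.2 hne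
        obtain ⟨i, hi⟩ := (hK (ConjClasses.mk g)).2
          ⟨g, ConjClasses.mem_carrier_mk, hreg, Q, hQ⟩
        exact ⟨i, by rw [← hKx i, hi]⟩)
    rw [h1] at h2
    rw [hA', hA]
    simp only [Matrix.of_apply]
    rw [← h2]
    by_cases hBB : B = B'
    · rw [if_pos hBB, if_pos (congrArg Subtype.val hBB)]
    · rw [if_neg hBB, if_neg (fun h => hBB (Subtype.ext h))]
  have hCC' : C * C' = 1 := by
    rw [← hA'A]
    ext B B'
    rw [Matrix.mul_apply, Matrix.mul_apply, hC, hC']
    apply Finset.sum_congr rfl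
    intro j _
    simp only [Matrix.of_apply]
    rw [mul_assoc, ← mul_assoc (w j), mul_inv_cancel₀ (hw0 j), one_mul]
  -- the factorization of the matrix
  have hZ : (Matrix.of fun i j : ι => ((pairCount (S : Subgroup G) (x i) (x j) / p ^ (a - d) : ℕ) :
      ZMod p)).map φ = A * C := by
    ext i j
    rw [Matrix.map_apply, Matrix.of_apply, map_natCast, Matrix.mul_apply, ← red_natCast,
      Nat.cast_div (hdvd i j) (by exact_mod_cast (pow_ne_zero _ hp.ne_zero))]
    have h1 := red_pairCount_div hM (S : Subgroup G) hS (x i) (x j)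
    rw [hdx j, ← ha] at h1
    push_cast
    rw [h1]
    have h2 : ∑ B : Set (IrrCharacter G),
        (if IsPBlock M B then omB M B (x i) * red M (blockMult (S : Subgroup G) B (x j)) else 0) =
        ∑ B : {B : Set (IrrCharacter G) // IsPBlock M B ∧ IsDefectGroup p M B D},
          omB M B.1 (x i) * red M (blockMult (S : Subgroup G) B.1 (x j)) := by
      rw [← Finset.sum_subtype (Finset.univ.filter fun B : Set (IrrCharacter G) =>
        IsPBlock M B ∧ IsDefectGroup p M B D) (by simp)
        (fun B => omB M B (x i) * red M (blockMult (S : Subgroup G) B (x j)))]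
      rw [Finset.sum_filter]
      apply Finset.sum_congr rfl
      intro B _
      by_cases hB : IsPBlock M B
      · rw [if_pos hB]
        by_cases hDB : IsDefectGroup p M B D
        · rw [if_pos ⟨hB, hDB⟩]
        · rw [if_neg (fun h => hDB h.2)]
          by_contra hne
          exact hDB (isDefectGroup_of_term_ne_zero hM (S : Subgroup G) hB (hxD i) (hDc j) hne)
      · rw [if_neg hB, if_neg (fun h => hB h.1)]
    rw [h2, Finset.mul_sum]
    apply Finset.sum_congr rfl
    intro B _
    rw [hA, hC, hA', hw]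
    simp only [Matrix.of_apply]
    rw [blockMult_eq_of_pRegular hM (S : Subgroup G) hSp B.2.1 (hxreg j),
      red_mul hGS.1 (memLocalRing_blockCoeff hMp B.2.1 _), hv]
    simp only [hdx j]
    ring
  have hmat : (Matrix.of fun i j : ι => ((Nat.card {yz : G × G // yz.1 ∈ (K i).carrier ∧
        yz.2 ∈ (K j).carrier ∧ yz.2 * yz.1⁻¹ ∈ (S : Subgroup G)} / p ^ (a - d) : ℕ) : ZMod p)) =
      (Matrix.of fun i j : ι => ((pairCount (S : Subgroup G) (x i) (x j) / p ^ (a - d) : ℕ) :
        ZMod p)) := by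
    ext i j
    rw [Matrix.of_apply, Matrix.of_apply, hcount i j]
  rw [hmat, ← rank_map_eq φ, hZ, rank_mul_of_inverses A C A' C' hA'A hCC',
    Nat.card_eq_fintype_card]

end Main

end Cfsg.Agent.Helper18.Robinson
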