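import Mathlib
import Cfsg.Agent.Lib.Helper18.RobinsonCount5
import Cfsg.Agent.Lib.Helper18.RobinsonDet
import Cfsg.Agent.Lib.Helper20.Basic
import Cfsg.Agent.Lib.Helper24.CharIntegral

/-!
# The pair count for `p`-separated classes, and heights (helper18)
-/

set_option autoImplicit false
set_option linter.unusedSectionVars false

namespace Cfsg.Agent.Helper18.Robinson

open Cfsg Cfsg.Agent.Helper24 Cfsg.Agent.Helper23.Blk
open scoped ComplexConjugate

universe u

section Sep

variable {G : Type u} [Group G] [Fintype G] {p : ℕ} [Fact p.Prime]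

theorem eq_of_sep {S : Subgroup G} (hS : IsPGroup p S) {g h : G}
    (hsep : ∀ k : ℕ, 0 < k → orderOf (g * h⁻¹) ≠ p ^ k) (hmem : h * g⁻¹ ∈ S) : g = h := by
  have h1 : g * h⁻¹ ∈ S := by
    have := S.inv_mem hmem
    simpa using this
  obtain ⟨k, hk⟩ := (IsPGroup.iff_orderOf.1 hS) ⟨g * h⁻¹, h1⟩
  rw [Subgroup.orderOf_mk] at hk
  rcases Nat.eq_zero_or_pos k with hk0 | hk0
  · rw [hk0, pow_zero, orderOf_eq_one_iff] at hk
    exact mul_inv_eq_one.1 hk
  · exact absurd hk (hsep k hk0)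

theorem pairCount_of_sep {S : Subgroup G} (hS : IsPGroup p S) {x y : G}
    (hsep : ∀ g h : G, IsConj x g → IsConj y h → ∀ k : ℕ, 0 < k → orderOf (g * h⁻¹) ≠ p ^ k) :
    pairCount S x y = Nat.card {g : G // IsConj x g ∧ IsConj y g} := by
  unfold pairCount
  apply Nat.card_congr
  refine ⟨fun a => ⟨a.1.1, a.2.1, ?_⟩, fun b => ⟨(b.1, b.1), b.2.1, b.2.2, by simp⟩, ?_, ?_⟩
  · have := eq_of_sep hS (hsep a.1.1 a.1.2 a.2.1 a.2.2.1) a.2.2.2
    rw [this]
    exact a.2.2.1
  · rintro ⟨⟨g, h⟩, h1, h2, h3⟩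
    have := eq_of_sep hS (hsep g h h1 h2) h3
    subst this
    rfl
  · rintro ⟨g, h1, h2⟩
    rfl

theorem pairCount_self_of_sep {S : Subgroup G} (hS : IsPGroup p S) {x : G}
    (hsep : ∀ g h : G, IsConj x g → IsConj x h → ∀ k : ℕ, 0 < k → orderOf (g * h⁻¹) ≠ p ^ k) :
    pairCount S x x = (Subgroup.centralizer ({x} : Set G)).index := by
  rw [pairCount_of_sep hS hsep, ← Cfsg.Agent.Helper20.card_isConj_eq_index]
  apply Nat.card_congr
  exact Equiv.subtypeEquivRight (fun g => by simp)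

theorem pairCount_ne_of_sep {S : Subgroup G} (hS : IsPGroup p S) {x y : G}
    (hxy : ¬ IsConj x y)
    (hsep : ∀ g h : G, IsConj x g → IsConj y h → ∀ k : ℕ, 0 < k → orderOf (g * h⁻¹) ≠ p ^ k) :
    pairCount S x y = 0 := by
  rw [pairCount_of_sep hS hsep]
  haveI : IsEmpty {g : G // IsConj x g ∧ IsConj y g} := by
    constructor
    rintro ⟨g, h1, h2⟩
    exact hxy (h1.trans h2.symm)
  exact Nat.card_of_isEmpty

end Sep

section Height

variable {G : Type u} [Group G] [Fintype G] {p : ℕ}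

theorem factorization_degree_of_height_zero {B : Set (IrrCharacter G)} {χ : IrrCharacter G}
    (hχ : χ ∈ B) (hh : blockHeight p B (χ : G → ℂ) = 0) :
    (charDegree (χ : G → ℂ)).factorization p =
      (Nat.card G).factorization p - blockDefect p B := by
  unfold blockHeight at hh
  unfold blockDefect
  have h1 : sInf ((fun ψ : IrrCharacter G => (charDegree (ψ : G → ℂ)).factorization p) '' B) ≤
      (charDegree (χ : G → ℂ)).factorization p := Nat.sInf_le ⟨χ, hχ, rfl⟩
  have hd0 : charDegree (χ : G → ℂ) ≠ 0 := (charDegree_pos χ.2).ne'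
  have hG0 : Nat.card G ≠ 0 := (Nat.card_pos).ne'
  have h2 : (charDegree (χ : G → ℂ)).factorization p ≤ (Nat.card G).factorization p :=
    (Nat.factorization_le_iff_dvd hd0 hG0).2 (charDegree_dvd_card χ.2) p
  omega

end Height

end Cfsg.Agent.Helper18.Robinson
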