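import Mathlib
import Cfsg.Agent.Lib.Helper18.RobinsonSep

/-!
# Blocks with a given defect group from `p`-separated classes (helper18)
-/

set_option autoImplicit false
set_option linter.unusedSectionVars false

namespace Cfsg.Agent.Helper18.Robinson

open Cfsg Cfsg.Agent.Helper24 Cfsg.Agent.Helper23.Blk
open scoped ComplexConjugate

universe u

section Main

variable {G : Type u} [Group G] [Fintype G]

set_option maxHeartbeats 1600000 in
theorem main_sep (p : ℕ) [Fact p.Prime] (M : Ideal AlgInt) (hM : IsPModular p M)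
    (D : Subgroup G) {r : ℕ} (x : Fin r → G) (hx : ∀ i j : Fin r, IsConj (x i) (x j) → i = j)
    (hD : ∀ i : Fin r, ∃ S : Sylow p ↥(Subgroup.centralizer ({x i} : Set G)),
      (S : Subgroup ↥(Subgroup.centralizer ({x i} : Set G))).map
        (Subgroup.centralizer ({x i} : Set G)).subtype = D)
    (hsep : ∀ i j : Fin r, ∀ g h : G, IsConj (x i) g → IsConj (x j) h → ∀ k : ℕ, 0 < k →
      orderOf (g * h⁻¹) ≠ p ^ k) :
    ∃ B : Fin r → Set (IrrCharacter G), Function.Injective B ∧
      (∀ i : Fin r, IsPBlock M (B i) ∧ IsDefectGroup p M (B i) D) ∧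
      ∀ χ : Fin r → IrrCharacter G,
        (∀ i : Fin r, χ i ∈ B i ∧ blockHeight p (B i) (χ i : G → ℂ) = 0) →
        ¬ MemLocalIdeal M (Matrix.det (Matrix.of fun i j : Fin r => (χ i : G → ℂ) (x j))) := by
  classical
  haveI hMax : M.IsMaximal := hM.2.1
  haveI hMp : M.IsPrime := hMax.isPrime
  letI : Fintype (IrrCharacter G) := irrFintype
  obtain ⟨S⟩ : Nonempty (Sylow p G) := inferInstance
  haveI : Fintype (S : Subgroup G) := Fintype.ofFinite _
  have hp := hM.1
  obtain ⟨a, ha⟩ : ∃ a, a = (Nat.card G).factorization p := ⟨_, rfl⟩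
  obtain ⟨d, hd⟩ : ∃ d, d = (Nat.card D).factorization p := ⟨_, rfl⟩
  have hS : Nat.card (S : Subgroup G) = p ^ (Nat.card G).factorization p := S.card_eq_multiplicity
  have hSp : IsPGroup p (S : Subgroup G) := S.2
  have hDc : ∀ i, Nat.card D =
      p ^ (Nat.card (Subgroup.centralizer ({x i} : Set G))).factorization p := by
    intro i
    obtain ⟨Q, hQ⟩ := hD i
    rw [← hQ]
    exact card_sylow_map_centralizer (x i) Q
  have hdx : ∀ i, (Nat.card (Subgroup.centralizer ({x i} : Set G))).factorization p = d := by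
    intro i
    rw [hd, hDc i, hp.factorization_pow]
    simp
  have hda : d ≤ a := by
    by_cases hr : Nonempty (Fin r)
    · obtain ⟨i⟩ := hr
      rw [← hdx i, ha]
      exact factorization_card_centralizer_le p (x i)
    · rw [hd, ha]
      have hD0 : Nat.card D ≠ 0 := (Nat.card_pos).ne'
      have hG0 : Nat.card G ≠ 0 := (Nat.card_pos).ne'
      exact (Nat.factorization_le_iff_dvd hD0 hG0).2 (Subgroup.card_subgroup_dvd_card _) p
  have hidx : ∀ i, ((Subgroup.centralizer ({x i} : Set G)).index).factorization p = a - d := by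
    intro i
    rw [factorization_index_centralizer, hdx i, ha]
  -- pair counts
  have hpc : ∀ i j, pairCount (S : Subgroup G) (x i) (x j) =
      if i = j then (Subgroup.centralizer ({x i} : Set G)).index else 0 := by
    intro i j
    by_cases hij : i = j
    · subst hij
      rw [if_pos rfl]
      exact pairCount_self_of_sep hSp (hsep i i)
    · rw [if_neg hij]
      exact pairCount_ne_of_sep hSp (fun h => hij (hx i j h)) (hsep i j)
  haveI : Finite (IrrCharacter G) := Finite.of_fintype _
  haveI : Fintype {B : Set (IrrCharacter G) // IsPBlock M B ∧ IsDefectGroup p M B D} :=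
    Fintype.ofFinite _
  -- the unit factors
  obtain ⟨v, hv⟩ : ∃ v : Fin r → ℂ, v = fun j =>
      (p : ℂ) ^ (Nat.card (Subgroup.centralizer ({x j} : Set G))).factorization p /
        (Nat.card (Subgroup.centralizer ({x j} : Set G)) : ℂ) := ⟨_, rfl⟩
  have hpad0 : p ^ (a - d) ≠ 0 := pow_ne_zero _ hp.ne_zero
  have hpadf : (p ^ (a - d)).factorization p = a - d := by
    rw [hp.factorization_pow]
    simp
  have hi0 : ∀ i, (Subgroup.centralizer ({x i} : Set G)).index ≠ 0 :=
    fun i => Subgroup.index_ne_zero_of_finite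
  obtain ⟨u, hu⟩ : ∃ u : Fin r → AlgInt ⧸ M, u = fun i =>
      red M (((Subgroup.centralizer ({x i} : Set G)).index : ℂ) / ((p ^ (a - d) : ℕ) : ℂ)) :=
    ⟨_, rfl⟩
  have hu0 : ∀ i, u i ≠ 0 := by
    intro i
    rw [hu]
    have h := memLocalRing_natCast_div hM (hi0 i) hpad0 (le_of_eq (by rw [hpadf, hidx i]))
    intro h0
    exact h.2 (by rw [hpadf, hidx i]) ((red_eq_zero_iff h.1).1 h0)
  -- the matrices
  obtain ⟨A, hA⟩ : ∃ A : Matrix (Fin r) {B : Set (IrrCharacter G) // IsPBlock M B ∧
      IsDefectGroup p M B D} (AlgInt ⧸ M), A = Matrix.of fun i B => omB M B.1 (x i) := ⟨_, rfl⟩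
  obtain ⟨C, hC⟩ : ∃ C : Matrix {B : Set (IrrCharacter G) // IsPBlock M B ∧
      IsDefectGroup p M B D} (Fin r) (AlgInt ⧸ M),
      C = Matrix.of fun B j => red M (v j) * red M (blockMult (S : Subgroup G) B.1 (x j)) :=
    ⟨_, rfl⟩
  have hAC : A * C = Matrix.diagonal u := by
    ext i j
    rw [Matrix.mul_apply, Matrix.diagonal_apply]
    have h1 := red_pairCount_div hM (S : Subgroup G) hS (x i) (x j)
    rw [hdx j, ← ha] at h1
    have h2 : ∑ B : Set (IrrCharacter G),
        (if IsPBlock M B then omB M B (x i) * red M (blockMult (S : Subgroup G) B (x j)) else 0) =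
        ∑ B : {B : Set (IrrCharacter G) // IsPBlock M B ∧ IsDefectGroup p M B D},
          omB M B.1 (x i) * red M (blockMult (S : Subgroup G) B.1 (x j)) := by
      rw [← Finset.sum_subtype (Finset.univ.filter fun B : Set (IrrCharacter G) =>
        IsPBlock M B ∧ IsDefectGroup p M B D) (by simp)
        (fun B => omB M B (x i) * red M (blockMult (S : Subgroup G) B (x j)))]
      rw [Finset.sum_filter]
      apply Finset.sum_congr rfl
      intro B _
      by_cases hB : IsPBlock M B
      · rw [if_pos hB]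
        by_cases hDB : IsDefectGroup p M B D
        · rw [if_pos ⟨hB, hDB⟩]
        · rw [if_neg (fun h => hDB h.2)]
          by_contra hne
          exact hDB (isDefectGroup_of_term_ne_zero hM (S : Subgroup G) hB (hD i) (hDc j) hne)
      · rw [if_neg hB, if_neg (fun h => hB h.1)]
    rw [h2, Finset.mul_sum, hpc i j] at h1
    have h3 : ∑ B : {B : Set (IrrCharacter G) // IsPBlock M B ∧ IsDefectGroup p M B D},
        A i B * C B j = ∑ B : {B : Set (IrrCharacter G) // IsPBlock M B ∧ IsDefectGroup p M B D},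
        red M ((p : ℂ) ^ d / (Nat.card (Subgroup.centralizer ({x j} : Set G)) : ℂ)) *
          (omB M B.1 (x i) * red M (blockMult (S : Subgroup G) B.1 (x j))) := by
      apply Finset.sum_congr rfl
      intro B _
      rw [hA, hC, hv]
      simp only [Matrix.of_apply, hdx j]
      ring
    rw [h3, ← h1]
    by_cases hij : i = j
    · rw [if_pos hij, if_pos hij, hu]
      push_cast
      rfl
    · rw [if_neg hij, if_neg hij, Nat.cast_zero, zero_div, red_zero]
  have hrank : A.rank = Fintype.card (Fin r) := by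
    apply le_antisymm (Matrix.rank_le_card_height A)
    have h1 : (Matrix.diagonal u).rank = Fintype.card (Fin r) := by
      apply Matrix.rank_of_isUnit
      rw [Matrix.isUnit_iff_isUnit_det, Matrix.det_diagonal]
      exact IsUnit.mk0 _ (Finset.prod_ne_zero_iff.2 fun i _ => hu0 i)
    rw [← h1, ← hAC]
    exact Matrix.rank_mul_le_left A C
  obtain ⟨f, hfinj, hfdet⟩ := exists_cols_isUnit_det A hrank
  refine ⟨fun l => (f l).1, fun l l' h => hfinj (Subtype.ext h), fun l => (f l).2, ?_⟩
  intro χ hχ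
  obtain ⟨X, hX⟩ : ∃ X : Matrix (Fin r) (Fin r) ℂ,
      X = Matrix.of fun l j : Fin r => (χ l : G → ℂ) (x j) := ⟨_, rfl⟩
  rw [← hX]
  have hXR : ∀ l j, MemLocalRing M (X l j) := by
    intro l j
    rw [hX]
    exact Cfsg.Agent.Helper24.Glaub.memLocalRing_irr (χ l) (x j)
  obtain ⟨hdR, hdred⟩ := red_det X hXR
  intro hmem
  have h0 : red M X.det = 0 := (red_eq_zero_iff hdR).2 hmem
  rw [hdred] at h0
  -- the row and column units
  have hdeg : ∀ l, (charDegree (χ l : G → ℂ)).factorization p = a - d := by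
    intro l
    rw [factorization_degree_of_height_zero (hχ l).1 (hχ l).2, ← ha]
    congr 1
    have h1 := card_defectGroup hM (f l).2.1 (f l).2.2
    have h2 : (Nat.card D).factorization p = blockDefect p (f l).1 := by
      rw [h1, hp.factorization_pow]
      simp
    rw [← h2, hd]
  have hdeg0 : ∀ l, charDegree (χ l : G → ℂ) ≠ 0 := fun l => (charDegree_pos (χ l).2).ne'
  have hρ : ∀ l, MemLocalRing M ((charDegree (χ l : G → ℂ) : ℂ) / ((p ^ (a - d) : ℕ) : ℂ)) ∧
      ¬ MemLocalIdeal M ((charDegree (χ l : G → ℂ) : ℂ) / ((p ^ (a - d) : ℕ) : ℂ)) := by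
    intro l
    have h := memLocalRing_natCast_div hM (hdeg0 l) hpad0 (le_of_eq (by rw [hpadf, hdeg l]))
    exact ⟨h.1, h.2 (by rw [hpadf, hdeg l])⟩
  have hγ : ∀ j, MemLocalRing M (((p ^ (a - d) : ℕ) : ℂ) /
      ((Subgroup.centralizer ({x j} : Set G)).index : ℂ)) ∧
      ¬ MemLocalIdeal M (((p ^ (a - d) : ℕ) : ℂ) /
        ((Subgroup.centralizer ({x j} : Set G)).index : ℂ)) := by
    intro j
    have h := memLocalRing_natCast_div hM hpad0 (hi0 j) (le_of_eq (by rw [hpadf, hidx j]))
    exact ⟨h.1, h.2 (by rw [hpadf, hidx j])⟩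
  have hfac : (Matrix.of fun l j => red M (X l j)) =
      Matrix.diagonal (fun l => red M ((charDegree (χ l : G → ℂ) : ℂ) / ((p ^ (a - d) : ℕ) : ℂ))) *
        (A.submatrix id f).transpose *
      Matrix.diagonal (fun j => red M (((p ^ (a - d) : ℕ) : ℂ) /
        ((Subgroup.centralizer ({x j} : Set G)).index : ℂ))) := by
    ext l j
    rw [Matrix.mul_diagonal, Matrix.diagonal_mul, Matrix.transpose_apply, Matrix.submatrix_apply,
      Matrix.of_apply, hA, hX]
    simp only [Matrix.of_apply, id_eq]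
    have h1 : (χ l : G → ℂ) (x j) = centralChar (χ l : G → ℂ) (x j) *
        ((charDegree (χ l : G → ℂ) : ℂ) / ((p ^ (a - d) : ℕ) : ℂ)) *
        (((p ^ (a - d) : ℕ) : ℂ) / ((Subgroup.centralizer ({x j} : Set G)).index : ℂ)) := by
      unfold centralChar
      rw [irr_one_eq_charDegree (χ l).2]
      have e1 : (charDegree (χ l : G → ℂ) : ℂ) ≠ 0 := by exact_mod_cast hdeg0 l
      have e2 : ((Subgroup.centralizer ({x j} : Set G)).index : ℂ) ≠ 0 := by
        exact_mod_cast hi0 j
      have e3 : ((p ^ (a - d) : ℕ) : ℂ) ≠ 0 := by exact_mod_cast hpad0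
      field_simp
    rw [h1, red_mul (memLocalRing_mul (memLocalRing_centralChar _ _) (hρ l).1) (hγ j).1,
      red_mul (memLocalRing_centralChar _ _) (hρ l).1,
      red_centralChar_eq (f l).2.1 (hχ l).1]
    ring
  rw [hfac, Matrix.det_mul, Matrix.det_mul, Matrix.det_diagonal, Matrix.det_diagonal,
    Matrix.det_transpose] at h0
  have h1 : ∏ l, red M ((charDegree (χ l : G → ℂ) : ℂ) / ((p ^ (a - d) : ℕ) : ℂ)) ≠ 0 :=
    Finset.prod_ne_zero_iff.2 fun l _ h => (hρ l).2 ((red_eq_zero_iff (hρ l).1).1 h)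
  have h2 : ∏ j, red M (((p ^ (a - d) : ℕ) : ℂ) /
      ((Subgroup.centralizer ({x j} : Set G)).index : ℂ)) ≠ 0 :=
    Finset.prod_ne_zero_iff.2 fun j _ h => (hγ j).2 ((red_eq_zero_iff (hγ j).1).1 h)
  exact mul_ne_zero (mul_ne_zero h1 hfdet.ne_zero) h2 h0

end Main

end Cfsg.Agent.Helper18.Robinson
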