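import Mathlib
import Cfsg.Agent.Lib.Helper8.SDDefs
import Cfsg.Agent.Lib.Helper8.SDWalt
import Cfsg.Agent.Lib.Helper8.SDWperm
/-!
# SD-WSTEP3 (helper18): the step for `cenAlt` in the induction for `WProps`
(helper8 plan `plans/SD_plan.md`; same statement as `step_cenAlt` in `Lib/Helper8/SDWstep.lean`)
-/

set_option autoImplicit false

namespace Cfsg.Agent.Helper8.SD.STEP3

open Equiv Cfsg.Agent.Helper8.SD

variable {Ω : Type*} [DecidableEq Ω] [Fintype Ω]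

variable {A : Subgroup (Perm Ω)} {B₁ : Finset Ω} {τ : Perm Ω}

/-- WSTEP3 -/
theorem step_cenAlt (hA : WProps A B₁) (hne : B₁.Nonempty) (hτ2 : τ * τ = 1)
    (hτB : ∀ x ∈ B₁, τ x ∉ B₁) (hτfix : ∀ x, x ∉ B₁ → τ x ∉ B₁ → τ x = x)
    (h8 : 8 ≤ (B₁ ∪ B₁.image τ).card) :
    ∀ c ∈ dblG A τ, Perm.sign c = 1 →
      (∀ q ∈ dblG A τ, Perm.sign q = 1 → c * q = q * c) → ∀ q ∈ dblG A τ, c * q = q * c := by
  intro c hc hcs hcen
  have hcard : (B₁ ∪ B₁.image τ).card = 2 * B₁.card := card_union_image B₁ τ hτB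
  have h4 : 4 ≤ B₁.card := by omega
  have h2 : 2 ≤ B₁.card := by omega
  have hW : WrHyp A τ := wrHyp_of_perm A B₁ τ hA.supp hne hτ2 hτB
  have hτs : Perm.sign τ = 1 := by
    rw [sign_tau B₁ τ hτ2 hτB hτfix]
    obtain ⟨a, ha⟩ := hA.pow
    have ha0 : a ≠ 0 := by
      intro h0
      rw [h0, pow_zero] at ha
      omega
    obtain ⟨a', rfl⟩ := Nat.exists_eq_succ_of_ne_zero ha0
    rw [ha, pow_succ, pow_mul]
    simp
  obtain ⟨t, htA, _, hts⟩ := hA.odd h2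
  obtain ⟨z, hzA, hz1, _, _, hz4⟩ := hA.cen h2
  exact center_alt_dblG hW Perm.sign hτs ⟨t, htA, hts⟩ ⟨z, hzA, hz1, (hz4 h4).1⟩ c hc hcs hcen

end Cfsg.Agent.Helper8.SD.STEP3
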