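import Mathlib

set_option autoImplicit false

namespace Cfsg.Agent.Helper18

open Matrix

/-- Coefficients of `M ^ k` in terms of `M` and `1` when `M * M = t • M - 1`. -/
def cu {F : Type*} [CommRing F] (t : F) : ℕ → F × F
  | 0 => (0, 1)
  | k + 1 => (t * (cu t k).1 + (cu t k).2, -(cu t k).1)

theorem pow_eq_cu {F : Type*} [CommRing F] (M : Matrix (Fin 2) (Fin 2) F) (t : F)
    (h : M * M = t • M - 1) (k : ℕ) :
    M ^ k = (cu t k).1 • M + (cu t k).2 • (1 : Matrix (Fin 2) (Fin 2) F) := by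
  induction k with
  | zero => simp [cu]
  | succ k ih =>
    rw [pow_succ, ih, add_mul, smul_mul_assoc, h, smul_mul_assoc, one_mul]
    simp only [cu]
    rw [smul_sub, smul_smul, add_smul, neg_smul, mul_comm t]
    abel

theorem cayley_hamilton2 {F : Type*} [CommRing F] (M : Matrix (Fin 2) (Fin 2) F)
    (hdet : M.det = 1) : M * M = M.trace • M - 1 := by
  rw [Matrix.det_fin_two] at hdet
  ext i j
  fin_cases i <;> fin_cases j <;>
    simp [Matrix.mul_apply, Fin.sum_univ_two, Matrix.trace] <;>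
    first | ring1 | linear_combination (-1) * hdet

theorem cu_2 {F : Type*} [CommRing F] (t : F) : cu t 2 = (t, -1) := by
  simp only [cu]; exact Prod.ext (by ring) (by ring)

theorem cu_3 {F : Type*} [CommRing F] (t : F) : cu t 3 = (t^2 - 1, -t) := by
  simp only [cu]; exact Prod.ext (by ring) (by ring)

theorem cu_4 {F : Type*} [CommRing F] (t : F) : cu t 4 = (t^3 - 2*t, -(t^2 - 1)) := by
  simp only [cu]; exact Prod.ext (by ring) (by ring)

theorem cu_7 {F : Type*} [CommRing F] (t : F) :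
    cu t 7 = (t^6 - 5*t^4 + 6*t^2 - 1, -(t^5 - 4*t^3 + 3*t)) := by
  simp only [cu]; exact Prod.ext (by ring) (by ring)

theorem cu_9 {F : Type*} [CommRing F] (t : F) :
    cu t 9 = (t^8 - 7*t^6 + 15*t^4 - 10*t^2 + 1, -(t^7 - 6*t^5 + 10*t^3 - 4*t)) := by
  simp only [cu]; exact Prod.ext (by ring) (by ring)

/-- `M ^ k = c • 1` from the values of the coefficients. -/
theorem pow_eq_smul_one {F : Type*} [CommRing F] (M : Matrix (Fin 2) (Fin 2) F) (t : F)
    (h : M * M = t • M - 1) (k : ℕ) (c : F) (h1 : (cu t k).1 = 0) (h2 : (cu t k).2 = c) :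
    M ^ k = c • (1 : Matrix (Fin 2) (Fin 2) F) := by
  rw [pow_eq_cu M t h k, h1, h2, zero_smul, zero_add]

/-- If a power of `A` is `±1` then the image of `A` in `PSL` has trivial such power. -/
theorem mk_pow_eq_one_of_scalar {F : Type*} [Field F] (A : SpecialLinearGroup (Fin 2) F) (k : ℕ)
    (c : F) (hc : c ^ 2 = 1)
    (h : (A : Matrix (Fin 2) (Fin 2) F) ^ k = c • (1 : Matrix (Fin 2) (Fin 2) F)) :
    (QuotientGroup.mk A : Matrix.ProjectiveSpecialLinearGroup (Fin 2) F) ^ k = 1 := by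
  rw [← QuotientGroup.mk_pow, QuotientGroup.eq_one_iff, Matrix.SpecialLinearGroup.mem_center_iff]
  refine ⟨c, by simpa using hc, ?_⟩
  rw [Matrix.SpecialLinearGroup.coe_pow, h]
  ext i j
  simp [Matrix.one_apply, Matrix.diagonal_apply]

section psl27

variable {F : Type*} [Field F] [Fintype F]

theorem seven_eq_zero (hF : Fintype.card F = 7) : (7 : F) = 0 := by
  have := Nat.cast_card_eq_zero F
  rw [hF] at this
  exact_mod_cast this

theorem cases_of_card_seven (hF : Fintype.card F = 7) (t : F) :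
    t = 0 ∨ t = 1 ∨ t = 2 ∨ t = 3 ∨ t = 4 ∨ t = 5 ∨ t = 6 := by
  haveI : Fact (Nat.Prime 7) := ⟨by norm_num⟩
  haveI : CharP F 7 := charP_of_card_eq_prime hF
  have hinj : Function.Injective (ZMod.castHom (dvd_refl 7) F) := RingHom.injective _
  have hbij : Function.Bijective (ZMod.castHom (dvd_refl 7) F) := by
    rw [Fintype.bijective_iff_injective_and_card]
    exact ⟨hinj, by rw [ZMod.card, hF]⟩
  obtain ⟨z, rfl⟩ := hbij.2 t
  have hz : z = ((z.val : ℕ) : ZMod 7) := (ZMod.natCast_zmod_val z).symm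
  have hlt : z.val < 7 := ZMod.val_lt z
  rw [hz, map_natCast]
  interval_cases z.val <;> simp

/-- Every element of `PSL(2,7)` has order dividing 4, 3 or 7. -/
theorem psl27_pow (hF : Fintype.card F = 7)
    (g : Matrix.ProjectiveSpecialLinearGroup (Fin 2) F) : g ^ 4 = 1 ∨ g ^ 3 = 1 ∨ g ^ 7 = 1 := by
  induction g using QuotientGroup.induction_on with
  | H A =>
  have h7 : (7 : F) = 0 := seven_eq_zero hF
  have hM := cayley_hamilton2 (A : Matrix (Fin 2) (Fin 2) F) A.2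
  set t := (A : Matrix (Fin 2) (Fin 2) F).trace with ht
  have hone : (1 : F) ^ 2 = 1 := one_pow 2
  have hneg : (-1 : F) ^ 2 = 1 := by ring
  rcases cases_of_card_seven hF t with h | h | h | h | h | h | h
  · left
    refine mk_pow_eq_one_of_scalar A 4 1 hone (pow_eq_smul_one _ t hM 4 1 ?_ ?_)
    · rw [cu_4, h]; ring
    · rw [cu_4, h]; ring
  · right; left
    refine mk_pow_eq_one_of_scalar A 3 (-1) hneg (pow_eq_smul_one _ t hM 3 (-1) ?_ ?_)
    · rw [cu_3, h]; ring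
    · rw [cu_3, h]
  · right; right
    refine mk_pow_eq_one_of_scalar A 7 1 hone (pow_eq_smul_one _ t hM 7 1 ?_ ?_)
    · rw [cu_7, h]; show (2:F) ^ 6 - 5 * 2 ^ 4 + 6 * 2 ^ 2 - 1 = 0; linear_combination h7
    · rw [cu_7, h]; show -((2:F) ^ 5 - 4 * 2 ^ 3 + 3 * 2) = 1; linear_combination (-1) * h7
  · left
    refine mk_pow_eq_one_of_scalar A 4 (-1) hneg (pow_eq_smul_one _ t hM 4 (-1) ?_ ?_)
    · rw [cu_4, h]; show (3:F) ^ 3 - 2 * 3 = 0; linear_combination 3 * h7
    · rw [cu_4, h]; show -((3:F) ^ 2 - 1) = -1; linear_combination (-1) * h7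
  · left
    refine mk_pow_eq_one_of_scalar A 4 (-1) hneg (pow_eq_smul_one _ t hM 4 (-1) ?_ ?_)
    · rw [cu_4, h]; show (4:F) ^ 3 - 2 * 4 = 0; linear_combination 8 * h7
    · rw [cu_4, h]; show -((4:F) ^ 2 - 1) = -1; linear_combination (-2) * h7
  · right; right
    refine mk_pow_eq_one_of_scalar A 7 (-1) hneg (pow_eq_smul_one _ t hM 7 (-1) ?_ ?_)
    · rw [cu_7, h]; show (5:F) ^ 6 - 5 * 5 ^ 4 + 6 * 5 ^ 2 - 1 = 0
      linear_combination 1807 * h7
    · rw [cu_7, h]; show -((5:F) ^ 5 - 4 * 5 ^ 3 + 3 * 5) = -1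
      linear_combination (-377) * h7
  · right; left
    refine mk_pow_eq_one_of_scalar A 3 1 hone (pow_eq_smul_one _ t hM 3 1 ?_ ?_)
    · rw [cu_3, h]; show (6:F) ^ 2 - 1 = 0; linear_combination 5 * h7
    · rw [cu_3, h]; show -(6:F) = 1; linear_combination (-1) * h7

theorem mk_ne_one_of_offdiag {K : Type*} [Field K] (A : SpecialLinearGroup (Fin 2) K)
    (h : (A : Matrix (Fin 2) (Fin 2) K) 1 0 ≠ 0 ∨ (A : Matrix (Fin 2) (Fin 2) K) 0 1 ≠ 0) :
    (QuotientGroup.mk A : Matrix.ProjectiveSpecialLinearGroup (Fin 2) K) ≠ 1 := by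
  intro h1
  rw [QuotientGroup.eq_one_iff, Matrix.SpecialLinearGroup.mem_center_iff] at h1
  obtain ⟨r, -, hr⟩ := h1
  rcases h with h | h
  · apply h
    rw [← hr]
    simp
  · apply h
    rw [← hr]
    simp

theorem psl27_exists_two (hF : Fintype.card F = 7) :
    ∃ g : Matrix.ProjectiveSpecialLinearGroup (Fin 2) F, orderOf g = 2 := by
  let A : SpecialLinearGroup (Fin 2) F := ⟨!![0, -1; 1, 0], by simp [Matrix.det_fin_two]⟩
  have hM := cayley_hamilton2 (A : Matrix (Fin 2) (Fin 2) F) A.2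
  have htr : (A : Matrix (Fin 2) (Fin 2) F).trace = 0 := by simp [A, Matrix.trace, Fin.sum_univ_two]
  refine ⟨QuotientGroup.mk A, orderOf_eq_prime ?_ ?_⟩
  · refine mk_pow_eq_one_of_scalar A 2 (-1) (by ring) (pow_eq_smul_one _ _ hM 2 (-1) ?_ ?_)
    · rw [cu_2, htr]
    · rw [cu_2]
  · apply mk_ne_one_of_offdiag
    left
    simp [A]

theorem psl27_exists_three (hF : Fintype.card F = 7) :
    ∃ g : Matrix.ProjectiveSpecialLinearGroup (Fin 2) F, orderOf g = 3 := by
  haveI : Fact (Nat.Prime 3) := ⟨by norm_num⟩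
  let A : SpecialLinearGroup (Fin 2) F := ⟨!![0, -1; 1, -1], by simp [Matrix.det_fin_two]⟩
  have hM := cayley_hamilton2 (A : Matrix (Fin 2) (Fin 2) F) A.2
  have htr : (A : Matrix (Fin 2) (Fin 2) F).trace = -1 := by
    simp [A, Matrix.trace, Fin.sum_univ_two]
  refine ⟨QuotientGroup.mk A, orderOf_eq_prime ?_ ?_⟩
  · refine mk_pow_eq_one_of_scalar A 3 1 (by ring) (pow_eq_smul_one _ _ hM 3 1 ?_ ?_)
    · rw [cu_3, htr]; ring
    · rw [cu_3, htr]; ring
  · apply mk_ne_one_of_offdiag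
    left
    simp [A]

theorem psl27_exists_seven (hF : Fintype.card F = 7) :
    ∃ g : Matrix.ProjectiveSpecialLinearGroup (Fin 2) F, orderOf g = 7 := by
  haveI : Fact (Nat.Prime 7) := ⟨by norm_num⟩
  have h7 : (7 : F) = 0 := seven_eq_zero hF
  let A : SpecialLinearGroup (Fin 2) F := ⟨!![1, 1; 0, 1], by simp [Matrix.det_fin_two]⟩
  have hM := cayley_hamilton2 (A : Matrix (Fin 2) (Fin 2) F) A.2
  have htr : (A : Matrix (Fin 2) (Fin 2) F).trace = 2 := by
    simp [A, Matrix.trace, Fin.sum_univ_two]; norm_num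
  refine ⟨QuotientGroup.mk A, orderOf_eq_prime ?_ ?_⟩
  · refine mk_pow_eq_one_of_scalar A 7 1 (by ring) (pow_eq_smul_one _ _ hM 7 1 ?_ ?_)
    · rw [cu_7, htr]; show (2:F) ^ 6 - 5 * 2 ^ 4 + 6 * 2 ^ 2 - 1 = 0; linear_combination h7
    · rw [cu_7, htr]; show -((2:F) ^ 5 - 4 * 2 ^ 3 + 3 * 2) = 1; linear_combination (-1) * h7
  · apply mk_ne_one_of_offdiag
    right
    simp [A]

end psl27

section sl28

variable {K : Type*} [Field K] [Finite K] [CharP K 2]

theorem pow_seven_eq_one_of_card_eight (hK : Nat.card K = 8) (t : K) (ht : t ≠ 0) :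
    t ^ 7 = 1 := by
  letI : Fintype K := Fintype.ofFinite K
  have := FiniteField.pow_card_sub_one_eq_one t ht
  rwa [← Nat.card_eq_fintype_card, hK] at this

theorem SL2_pow_eq_one_of_matrix (A : SpecialLinearGroup (Fin 2) K) (k : ℕ)
    (h : (A : Matrix (Fin 2) (Fin 2) K) ^ k = (1 : K) • (1 : Matrix (Fin 2) (Fin 2) K)) :
    A ^ k = 1 := by
  apply Matrix.SpecialLinearGroup.ext
  intro i j
  rw [Matrix.SpecialLinearGroup.coe_pow, h, one_smul, Matrix.SpecialLinearGroup.coe_one]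

/-- Every element of `SL(2,8)` has order dividing 2, 7 or 9. -/
theorem sl28_pow (hK : Nat.card K = 8) (A : SpecialLinearGroup (Fin 2) K) :
    A ^ 2 = 1 ∨ A ^ 7 = 1 ∨ A ^ 9 = 1 := by
  have h2 : (2 : K) = 0 := CharTwo.two_eq_zero
  have hM := cayley_hamilton2 (A : Matrix (Fin 2) (Fin 2) K) A.2
  set t := (A : Matrix (Fin 2) (Fin 2) K).trace with ht
  by_cases ht0 : t = 0
  · left
    refine SL2_pow_eq_one_of_matrix A 2 (pow_eq_smul_one _ t hM 2 1 ?_ ?_)
    · rw [cu_2, ht0]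
    · rw [cu_2]; show (-1 : K) = 1; linear_combination (-1) * h2
  · have ht7 : t ^ 7 = 1 := pow_seven_eq_one_of_card_eight hK t ht0
    have hc : (t ^ 6 + t ^ 4 + 1) * ((t ^ 6 + t ^ 4 + 1) - t) = 0 := by
      linear_combination (t ^ 5 - t + 1) * ht7 + (t ^ 10 + t ^ 6 + t ^ 4 - t ^ 7 + 1 - t + t ^ 8) * h2
    rcases mul_eq_zero.mp hc with hc | hc
    · right; left
      refine SL2_pow_eq_one_of_matrix A 7 (pow_eq_smul_one _ t hM 7 1 ?_ ?_)
      · rw [cu_7]
        show t ^ 6 - 5 * t ^ 4 + 6 * t ^ 2 - 1 = 0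
        linear_combination hc - (3 * t ^ 4 - 3 * t ^ 2 + 1) * h2
      · rw [cu_7]
        show -(t ^ 5 - 4 * t ^ 3 + 3 * t) = 1
        linear_combination (-t) * hc + ht7 + (2 * t ^ 3 - t) * h2
    · right; right
      refine SL2_pow_eq_one_of_matrix A 9 (pow_eq_smul_one _ t hM 9 1 ?_ ?_)
      · rw [cu_9]
        show t ^ 8 - 7 * t ^ 6 + 15 * t ^ 4 - 10 * t ^ 2 + 1 = 0
        linear_combination t * ht7 - hc + (-3 * t ^ 6 + 8 * t ^ 4 - 5 * t ^ 2 + 1) * h2
      · rw [cu_9]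
        show -(t ^ 7 - 6 * t ^ 5 + 10 * t ^ 3 - 4 * t) = 1
        linear_combination (-1) * ht7 + (3 * t ^ 5 - 5 * t ^ 3 + 2 * t - 1) * h2

theorem sl28_exists_two : ∃ g : SpecialLinearGroup (Fin 2) K, orderOf g = 2 := by
  have h2 : (2 : K) = 0 := CharTwo.two_eq_zero
  let A : SpecialLinearGroup (Fin 2) K := ⟨!![1, 1; 0, 1], by simp [Matrix.det_fin_two]⟩
  have hM := cayley_hamilton2 (A : Matrix (Fin 2) (Fin 2) K) A.2
  have htr : (A : Matrix (Fin 2) (Fin 2) K).trace = 0 := by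
    simp [A, Matrix.trace, Fin.sum_univ_two]; linear_combination h2
  refine ⟨A, orderOf_eq_prime ?_ ?_⟩
  · refine SL2_pow_eq_one_of_matrix A 2 (pow_eq_smul_one _ _ hM 2 1 ?_ ?_)
    · rw [cu_2, htr]
    · rw [cu_2]; show (-1 : K) = 1; linear_combination (-1) * h2
  · intro h
    have := congrArg (fun B : SpecialLinearGroup (Fin 2) K => (B : Matrix (Fin 2) (Fin 2) K) 0 1) h
    simp [A] at this

theorem sl28_exists_three : ∃ g : SpecialLinearGroup (Fin 2) K, orderOf g = 3 := by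
  haveI : Fact (Nat.Prime 3) := ⟨by norm_num⟩
  have h2 : (2 : K) = 0 := CharTwo.two_eq_zero
  let A : SpecialLinearGroup (Fin 2) K := ⟨!![0, 1; 1, 1], by
    simp [Matrix.det_fin_two]; linear_combination (-1) * h2⟩
  have hM := cayley_hamilton2 (A : Matrix (Fin 2) (Fin 2) K) A.2
  have htr : (A : Matrix (Fin 2) (Fin 2) K).trace = 1 := by
    simp [A, Matrix.trace, Fin.sum_univ_two]
  refine ⟨A, orderOf_eq_prime ?_ ?_⟩
  · refine SL2_pow_eq_one_of_matrix A 3 (pow_eq_smul_one _ _ hM 3 1 ?_ ?_)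
    · rw [cu_3, htr]; ring
    · rw [cu_3, htr]; show (-1 : K) = 1; linear_combination (-1) * h2
  · intro h
    have := congrArg (fun B : SpecialLinearGroup (Fin 2) K => (B : Matrix (Fin 2) (Fin 2) K) 0 1) h
    simp [A] at this

theorem sl28_exists_seven (hK : Nat.card K = 8) :
    ∃ g : SpecialLinearGroup (Fin 2) K, orderOf g = 7 := by
  haveI : Fact (Nat.Prime 7) := ⟨by norm_num⟩
  letI : Fintype K := Fintype.ofFinite K
  have hcard : 2 < Fintype.card K := by rw [← Nat.card_eq_fintype_card, hK]; norm_num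
  obtain ⟨x, y, z, hxy, hxz, hyz⟩ := Fintype.two_lt_card_iff.mp hcard
  obtain ⟨a, ha0, ha1⟩ : ∃ a : K, a ≠ 0 ∧ a ≠ 1 := by
    by_cases hx : x ≠ 0 ∧ x ≠ 1
    · exact ⟨x, hx⟩
    by_cases hy : y ≠ 0 ∧ y ≠ 1
    · exact ⟨y, hy⟩
    refine ⟨z, ?_, ?_⟩
    · rintro rfl
      rw [not_and_or, not_not, not_not] at hx hy
      rcases hx with hx | hx <;> rcases hy with hy | hy
      · exact hxz hx
      · exact hxz hx
      · exact hyz hy
      · exact hxy (hx.trans hy.symm)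
    · rintro rfl
      rw [not_and_or, not_not, not_not] at hx hy
      rcases hx with hx | hx <;> rcases hy with hy | hy
      · exact hxy (hx.trans hy.symm)
      · exact hyz hy
      · exact hxz hx
      · exact hxz hx
  have ha7 : a ^ 7 = 1 := pow_seven_eq_one_of_card_eight hK a ha0
  let A : SpecialLinearGroup (Fin 2) K := ⟨!![a, 0; 0, a⁻¹], by
    simp [Matrix.det_fin_two, mul_inv_cancel₀ ha0]⟩
  have hpow : ∀ k : ℕ, (A : Matrix (Fin 2) (Fin 2) K) ^ k = !![a ^ k, 0; 0, (a⁻¹) ^ k] := by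
    intro k
    induction k with
    | zero =>
      ext i j
      fin_cases i <;> fin_cases j <;> simp
    | succ k ih =>
      rw [pow_succ, ih]
      ext i j
      fin_cases i <;> fin_cases j <;> simp [A, Matrix.mul_apply, Fin.sum_univ_two, pow_succ]
  refine ⟨A, orderOf_eq_prime ?_ ?_⟩
  · apply Matrix.SpecialLinearGroup.ext
    intro i j
    rw [Matrix.SpecialLinearGroup.coe_pow, hpow 7, inv_pow, ha7, inv_one,
      Matrix.SpecialLinearGroup.coe_one]
    fin_cases i <;> fin_cases j <;> simp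
  · intro h
    have := congrArg (fun B : SpecialLinearGroup (Fin 2) K => (B : Matrix (Fin 2) (Fin 2) K) 0 0) h
    simp [A] at this
    exact ha1 this

end sl28

/-- The prime graph of a group all of whose elements have order dividing 4, 9 or 7, and which
has elements of orders 2, 3, 7: the vertices are 2, 3, 7 and there are no edges. -/
theorem prime_graph_of_pow {X : Type*} [Group X] [Finite X]
    (hexp : ∀ x : X, x ^ 4 = 1 ∨ x ^ 9 = 1 ∨ x ^ 7 = 1)
    (h2 : ∃ x : X, orderOf x = 2) (h3 : ∃ x : X, orderOf x = 3) (h7 : ∃ x : X, orderOf x = 7) :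
    (∀ p : ℕ, p.Prime → (p ∣ Nat.card X ↔ (p = 2 ∨ p = 3 ∨ p = 7))) ∧
      (∀ p q : ℕ, p.Prime → q.Prime → p ≠ q → ¬ ∃ x : X, orderOf x = p * q) := by
  have key : ∀ (x : X) (p : ℕ), p.Prime → p ∣ orderOf x →
      (x ^ 4 = 1 ∧ p = 2) ∨ (x ^ 9 = 1 ∧ p = 3) ∨ (x ^ 7 = 1 ∧ p = 7) := by
    intro x p hp hpx
    rcases hexp x with h | h | h
    · left
      refine ⟨h, ?_⟩
      have h1 : p ∣ 2 ^ 2 := hpx.trans (orderOf_dvd_of_pow_eq_one h)
      exact (Nat.prime_dvd_prime_iff_eq hp Nat.prime_two).mp (hp.dvd_of_dvd_pow h1)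
    · right; left
      refine ⟨h, ?_⟩
      have h1 : p ∣ 3 ^ 2 := hpx.trans (orderOf_dvd_of_pow_eq_one h)
      exact (Nat.prime_dvd_prime_iff_eq hp Nat.prime_three).mp (hp.dvd_of_dvd_pow h1)
    · right; right
      refine ⟨h, ?_⟩
      have h1 : p ∣ 7 := hpx.trans (orderOf_dvd_of_pow_eq_one h)
      exact (Nat.prime_dvd_prime_iff_eq hp (by norm_num)).mp h1
  constructor
  · intro p hp
    haveI : Fact p.Prime := ⟨hp⟩
    constructor
    · intro h
      obtain ⟨x, hx⟩ := exists_prime_orderOf_dvd_card' p h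
      rcases key x p hp (hx ▸ dvd_rfl) with h | h | h
      · exact Or.inl h.2
      · exact Or.inr (Or.inl h.2)
      · exact Or.inr (Or.inr h.2)
    · rintro (rfl | rfl | rfl)
      · obtain ⟨x, hx⟩ := h2
        rw [← hx]; exact orderOf_dvd_natCard x
      · obtain ⟨x, hx⟩ := h3
        rw [← hx]; exact orderOf_dvd_natCard x
      · obtain ⟨x, hx⟩ := h7
        rw [← hx]; exact orderOf_dvd_natCard x
  · rintro p q hp hq hpq ⟨x, hx⟩
    have hpx : p ∣ orderOf x := hx ▸ dvd_mul_right p q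
    have hqx : q ∣ orderOf x := hx ▸ dvd_mul_left q p
    have hx4 : ∀ k : ℕ, k.Prime → x ^ (k ^ 2) = 1 → p ∣ k ^ 2 ∧ q ∣ k ^ 2 := by
      intro k _ hk
      exact ⟨hpx.trans (orderOf_dvd_of_pow_eq_one hk), hqx.trans (orderOf_dvd_of_pow_eq_one hk)⟩
    rcases key x p hp hpx with h | h | h <;> rcases key x q hq hqx with h' | h' | h'
    · exact hpq (h.2.trans h'.2.symm)
    · -- x^4 = 1 and x^9 = 1: order divides gcd = 1
      have h1 : orderOf x ∣ Nat.gcd 4 9 :=
        Nat.dvd_gcd (orderOf_dvd_of_pow_eq_one h.1) (orderOf_dvd_of_pow_eq_one h'.1)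
      have h2' : p ∣ 1 := hpx.trans (by simpa using h1)
      exact hp.one_lt.ne' (Nat.dvd_one.mp h2')
    · have h1 : orderOf x ∣ Nat.gcd 4 7 :=
        Nat.dvd_gcd (orderOf_dvd_of_pow_eq_one h.1) (orderOf_dvd_of_pow_eq_one h'.1)
      have h2' : p ∣ 1 := hpx.trans (by simpa using h1)
      exact hp.one_lt.ne' (Nat.dvd_one.mp h2')
    · have h1 : orderOf x ∣ Nat.gcd 9 4 :=
        Nat.dvd_gcd (orderOf_dvd_of_pow_eq_one h.1) (orderOf_dvd_of_pow_eq_one h'.1)
      have h2' : p ∣ 1 := hpx.trans (by simpa using h1)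
      exact hp.one_lt.ne' (Nat.dvd_one.mp h2')
    · exact hpq (h.2.trans h'.2.symm)
    · have h1 : orderOf x ∣ Nat.gcd 9 7 :=
        Nat.dvd_gcd (orderOf_dvd_of_pow_eq_one h.1) (orderOf_dvd_of_pow_eq_one h'.1)
      have h2' : p ∣ 1 := hpx.trans (by simpa using h1)
      exact hp.one_lt.ne' (Nat.dvd_one.mp h2')
    · have h1 : orderOf x ∣ Nat.gcd 7 4 :=
        Nat.dvd_gcd (orderOf_dvd_of_pow_eq_one h.1) (orderOf_dvd_of_pow_eq_one h'.1)
      have h2' : p ∣ 1 := hpx.trans (by simpa using h1)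
      exact hp.one_lt.ne' (Nat.dvd_one.mp h2')
    · have h1 : orderOf x ∣ Nat.gcd 7 9 :=
        Nat.dvd_gcd (orderOf_dvd_of_pow_eq_one h.1) (orderOf_dvd_of_pow_eq_one h'.1)
      have h2' : p ∣ 1 := hpx.trans (by simpa using h1)
      exact hp.one_lt.ne' (Nat.dvd_one.mp h2')
    · exact hpq (h.2.trans h'.2.symm)

end Cfsg.Agent.Helper18
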