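import Mathlib
import Cfsg.Agent.Lib.Helper2.SL2Sylow

set_option autoImplicit false

/-!
# S5060: definitions for the infinite case (degree filtration of a simple algebraic extension)
-/

namespace Cfsg.Agent.Helper18.SLA

open Matrix Matrix.SpecialLinearGroup
open scoped MatrixGroups

variable {k F : Type*} [Field k] [Field F] [Algebra k F]

/-- natural-number indexed coordinate with respect to the power basis -/
noncomputable def cf (pb : PowerBasis k F) (z : F) (i : ℕ) : k :=
  if h : i < pb.dim then pb.basis.repr z ⟨i, h⟩ else 0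

theorem cf_add (pb : PowerBasis k F) (z z' : F) (i : ℕ) :
    cf pb (z + z') i = cf pb z i + cf pb z' i := by
  unfold cf
  split_ifs <;> simp

theorem cf_smul (pb : PowerBasis k F) (c : k) (z : F) (i : ℕ) :
    cf pb (c • z) i = c * cf pb z i := by
  unfold cf
  split_ifs <;> simp

theorem cf_zero (pb : PowerBasis k F) (i : ℕ) : cf pb 0 i = 0 := by
  unfold cf
  split_ifs <;> simp

theorem cf_of_le (pb : PowerBasis k F) (z : F) {i : ℕ} (h : pb.dim ≤ i) : cf pb z i = 0 := by
  unfold cf
  rw [dif_neg (not_lt.mpr h)]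

theorem cf_ext (pb : PowerBasis k F) {z z' : F} (h : ∀ i, cf pb z i = cf pb z' i) : z = z' := by
  apply pb.basis.repr.injective
  ext ⟨i, hi⟩
  have := h i
  unfold cf at this
  rwa [dif_pos hi, dif_pos hi] at this

theorem cf_pow (pb : PowerBasis k F) {l : ℕ} (hl : l < pb.dim) (i : ℕ) :
    cf pb (pb.gen ^ l) i = if i = l then 1 else 0 := by
  unfold cf
  have h1 : pb.gen ^ l = pb.basis ⟨l, hl⟩ := by rw [pb.basis_eq_pow]
  split_ifs with hi hil hil
  · subst hil
    rw [h1, Module.Basis.repr_self, Finsupp.single_eq_same]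
  · rw [h1, Module.Basis.repr_self, Finsupp.single_eq_of_ne]
    intro h
    apply hil
    exact congrArg Fin.val h
  · subst hil; exact absurd hl hi
  · rfl

theorem sum_cf (pb : PowerBasis k F) (z : F) :
    z = ∑ i ∈ Finset.range pb.dim, cf pb z i • pb.gen ^ i := by
  conv_lhs => rw [← pb.basis.sum_repr z]
  rw [Finset.sum_range]
  apply Finset.sum_congr rfl
  intro i _
  unfold cf
  rw [dif_pos i.2, pb.basis_eq_pow]

/-- the degree filtration: `P pb j` = elements whose coordinates of index `≥ j` vanish -/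
def P (pb : PowerBasis k F) (j : ℕ) : Submodule k F where
  carrier := {z | ∀ i, j ≤ i → cf pb z i = 0}
  add_mem' := by
    intro a b ha hb i hi
    rw [cf_add, ha i hi, hb i hi, add_zero]
  zero_mem' := fun i _ => cf_zero pb i
  smul_mem' := by
    intro c a ha i hi
    rw [cf_smul, ha i hi, mul_zero]

theorem mem_P (pb : PowerBasis k F) (j : ℕ) (z : F) :
    z ∈ P pb j ↔ ∀ i, j ≤ i → cf pb z i = 0 := Iff.rfl

theorem P_mono (pb : PowerBasis k F) {i j : ℕ} (h : i ≤ j) : P pb i ≤ P pb j :=
  fun _ hz l hl => hz l (h.trans hl)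

theorem mem_P_zero (pb : PowerBasis k F) {z : F} (h : z ∈ P pb 0) : z = 0 := by
  apply cf_ext pb
  intro i
  rw [h i (Nat.zero_le _), cf_zero]

theorem mem_P_dim (pb : PowerBasis k F) (z : F) : z ∈ P pb pb.dim :=
  fun _ hi => cf_of_le pb z hi

theorem mem_P_of_cf (pb : PowerBasis k F) {z : F} {i : ℕ} (h : z ∈ P pb (i + 1))
    (h0 : cf pb z i = 0) : z ∈ P pb i := by
  intro l hl
  rcases Nat.eq_or_lt_of_le hl with rfl | hlt
  · exact h0
  · exact h l hlt

theorem pow_mem_P (pb : PowerBasis k F) {l j : ℕ} (hl : l < pb.dim) (hlj : l < j) :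
    pb.gen ^ l ∈ P pb j := by
  intro i hi
  rw [cf_pow pb hl, if_neg]
  omega

/-- multiplication by the generator shifts coordinates (no wrap-around below the top degree) -/
theorem cf_gen_mul (pb : PowerBasis k F) {z : F} {j : ℕ} (hj : j < pb.dim) (hz : z ∈ P pb j)
    (i : ℕ) : cf pb (pb.gen * z) i = if i = 0 then 0 else cf pb z (i - 1) := by
  have hz' : z = ∑ l ∈ Finset.range j, cf pb z l • pb.gen ^ l := by
    conv_lhs => rw [sum_cf pb z]
    have hsub : Finset.range j ⊆ Finset.range pb.dim :=
      Finset.range_subset_range.mpr hj.le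
    symm
    apply Finset.sum_subset hsub
    intro l _ hl2
    rw [hz l (by simpa using hl2), zero_smul]
  have h1 : pb.gen * z = ∑ l ∈ Finset.range j, cf pb z l • pb.gen ^ (l + 1) := by
    conv_lhs => rw [hz']
    rw [Finset.mul_sum]
    apply Finset.sum_congr rfl
    intro l _
    rw [mul_smul_comm, pow_succ']
  have h2 : cf pb (pb.gen * z) i = ∑ l ∈ Finset.range j, cf pb z l * (if i = l + 1 then 1 else 0) := by
    rw [h1]
    have : ∀ (s : Finset ℕ), (∀ l ∈ s, l < j) →
        cf pb (∑ l ∈ s, cf pb z l • pb.gen ^ (l + 1)) i =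
          ∑ l ∈ s, cf pb z l * (if i = l + 1 then 1 else 0) := by
      intro s
      induction s using Finset.induction_on with
      | empty => intro _; simp [cf_zero]
      | insert a s ha ih =>
        intro hs
        rw [Finset.sum_insert ha, Finset.sum_insert ha, cf_add, cf_smul,
          ih (fun l hl => hs l (Finset.mem_insert_of_mem hl)),
          cf_pow pb (by have := hs a (Finset.mem_insert_self a s); omega)]
    exact this _ (fun l hl => by simpa using hl)
  rw [h2]
  split_ifs with hi
  · subst hi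
    apply Finset.sum_eq_zero
    intro l _
    rw [if_neg (by omega), mul_zero]
  · by_cases hij : i - 1 < j
    · rw [Finset.sum_eq_single (i - 1)]
      · rw [if_pos (by omega), mul_one]
      · intro l _ hl
        rw [if_neg (by omega), mul_zero]
      · intro h
        exact absurd (Finset.mem_range.mpr hij) h
    · rw [hz (i - 1) (by omega)]
      apply Finset.sum_eq_zero
      intro l hl
      have := Finset.mem_range.mp hl
      rw [if_neg (by omega), mul_zero]

theorem gen_mul_mem_P (pb : PowerBasis k F) {z : F} {j : ℕ} (hj : j < pb.dim) (hz : z ∈ P pb j) :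
    pb.gen * z ∈ P pb (j + 1) := by
  intro i hi
  rw [cf_gen_mul pb hj hz, if_neg (by omega)]
  exact hz _ (by omega)

theorem cf_gen_mul_succ (pb : PowerBasis k F) {z : F} {j : ℕ} (hj : j < pb.dim) (hz : z ∈ P pb j)
    (i : ℕ) : cf pb (pb.gen * z) (i + 1) = cf pb z i := by
  rw [cf_gen_mul pb hj hz, if_neg (by omega)]
  rfl

/-- elements of `P pb 1` are scalars -/
theorem mem_P_one (pb : PowerBasis k F) {z : F} (hz : z ∈ P pb 1) (hd : 0 < pb.dim) :
    z = algebraMap k F (cf pb z 0) := by
  apply cf_ext pb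
  intro i
  rcases Nat.eq_zero_or_pos i with rfl | hi
  · rw [Algebra.algebraMap_eq_smul_one, cf_smul]
    have : (1 : F) = pb.gen ^ 0 := (pow_zero _).symm
    rw [this, cf_pow pb hd, if_pos rfl, mul_one]
  · rw [hz i hi, Algebra.algebraMap_eq_smul_one, cf_smul]
    have : (1 : F) = pb.gen ^ 0 := (pow_zero _).symm
    rw [this, cf_pow pb hd, if_neg (by omega), mul_zero]

/-- the normality conditions on `w` (all partial quotients of the two `S`-fractions have degree one) -/
def Normal (pb : PowerBasis k F) (w : F) : Prop :=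
  ∀ j, 1 ≤ j → j < pb.dim →
    (∀ p ∈ P pb j, w * p ∈ P pb (pb.dim - j) → p = 0) ∧
    (∀ p ∈ P pb j, pb.gen * w * p ∈ P pb (pb.dim - j) → p = 0)

end Cfsg.Agent.Helper18.SLA
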