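import Mathlib
import Cfsg.Agent.Lib.Helper18.SLADefs

set_option autoImplicit false

/-!
# S5060, piece CHAIN: the `S`-fraction Euclid chain for a normal `w`
-/

namespace Cfsg.Agent.Helper18.SLA

open Matrix Matrix.SpecialLinearGroup
open scoped MatrixGroups
open Cfsg.Agent.Helper2.SL2S

variable {k F : Type*} [Field k] [Field F] [Algebra k F]

theorem chain_u_mul (c : F) (g : SL(2, F)) :
    (u c * g).1 0 0 = g.1 0 0 + c * g.1 1 0 ∧ (u c * g).1 1 0 = g.1 1 0 := by
  rw [coe_mul, u_coe]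
  constructor <;> simp [Matrix.mul_apply, Fin.sum_univ_two]

theorem chain_v_mul (s : F) (g : SL(2, F)) :
    (v s * g).1 0 0 = g.1 0 0 ∧ (v s * g).1 1 0 = g.1 1 0 + s * g.1 0 0 := by
  rw [coe_mul, v_coe]
  constructor <;> simp [Matrix.mul_apply, Fin.sum_univ_two]
  ring

/-- the state of the chain at stage `j` -/
def ChainSt (pb : PowerBasis k F) (w : F) (j : ℕ) (A C : F) : Prop :=
  A ∈ P pb (j + 1) ∧ A ≠ 0 ∧ w * A ∈ P pb (pb.dim - j) ∧
    (∃ q ∈ P pb (j + 1), C = pb.gen * q) ∧ C ≠ 0 ∧ w * C ∈ P pb (pb.dim - j)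

theorem chain_step (pb : PowerBasis k F) (hα0 : pb.gen ≠ 0) (w : F) (hw : w ≠ 0)
    (hN : Normal pb w) (j : ℕ) (hj : j + 1 < pb.dim) (A C : F) (h : ChainSt pb w j A C) :
    ∃ c d : k, ChainSt pb w (j + 1) (A + c • C) (C + d • (pb.gen * (A + c • C))) := by
  obtain ⟨hA, hA0, hwA, ⟨q, hq, hCq⟩, hC0, hwC⟩ := h
  set n := pb.dim with hn
  set α := pb.gen with hα
  obtain ⟨t, ht⟩ : ∃ t, n - j = t + 1 := ⟨n - j - 1, by omega⟩
  have ht1 : 1 ≤ t := by omega
  have htn : t < n := by omega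
  have htj : t = n - (j + 1) := by omega
  rw [ht] at hwA hwC
  have hN1 := (hN (j + 1) (by omega) hj).1
  have hN2 := (hN (j + 1) (by omega) hj).2
  -- (i) the top coordinate of `w * C` does not vanish
  have hcC : cf pb (w * C) t ≠ 0 := by
    intro h0
    have h1 : w * C ∈ P pb t := mem_P_of_cf pb hwC h0
    have h2 : α * w * q ∈ P pb (n - (j + 1)) := by
      rw [← htj]
      have : α * w * q = w * C := by rw [hCq]; ring
      rw [this]; exact h1
    have := hN2 q hq h2
    apply hC0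
    rw [hCq, this, mul_zero]
  obtain ⟨c, hc⟩ : ∃ c : k, c = -(cf pb (w * A) t) / cf pb (w * C) t := ⟨_, rfl⟩
  obtain ⟨A', hA'⟩ : ∃ A' : F, A' = A + c • C := ⟨_, rfl⟩
  have hwA' : w * A' ∈ P pb t := by
    have h1 : w * A' = w * A + c • (w * C) := by rw [hA', mul_add, mul_smul_comm]
    apply mem_P_of_cf pb
    · rw [h1]
      exact (P pb (t + 1)).add_mem hwA ((P pb (t + 1)).smul_mem c hwC)
    · rw [h1, cf_add, cf_smul, hc, div_mul_cancel₀ _ hcC, add_neg_cancel]
  have hCmem : C ∈ P pb (j + 2) := by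
    rw [hCq]
    exact gen_mul_mem_P pb hj hq
  have hA'mem : A' ∈ P pb (j + 2) := by
    rw [hA']
    exact (P pb (j + 2)).add_mem (P_mono pb (by omega) hA) ((P pb (j + 2)).smul_mem c hCmem)
  have hA'0 : A' ≠ 0 := by
    intro h0
    by_cases hc0 : c = 0
    · apply hA0
      rw [hA', hc0, zero_smul, add_zero] at h0
      exact h0
    · have hAeq : A = α * ((-c) • q) := by
        have : A = -(c • C) := eq_neg_of_add_eq_zero_left (hA' ▸ h0)
        rw [this, hCq, mul_smul_comm, neg_smul]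
      have hq'mem : (-c) • q ∈ P pb (j + 1) := (P pb (j + 1)).smul_mem _ hq
      have hq'j : (-c) • q ∈ P pb j := by
        apply mem_P_of_cf pb hq'mem
        rw [← cf_gen_mul_succ pb hj hq'mem, ← hAeq]
        exact hA (j + 1) le_rfl
      rcases Nat.eq_zero_or_pos j with hj0 | hj0
      · subst hj0
        have := mem_P_zero pb hq'j
        apply hA0
        rw [hAeq, this, mul_zero]
      · have h2 : α * w * ((-c) • q) ∈ P pb (n - j) := by
          have : α * w * ((-c) • q) = w * A := by rw [hAeq]; ring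
          rw [this, ht]; exact hwA
        have := (hN j hj0 (by omega)).2 _ hq'j h2
        apply hA0
        rw [hAeq, this, mul_zero]
  -- (ii) the top coordinate of `α * (w * A')`
  have hshift : cf pb (α * (w * A')) t = cf pb (w * A') (t - 1) := by
    have := cf_gen_mul_succ pb htn hwA' (t - 1)
    rwa [Nat.sub_add_cancel ht1] at this
  have hcA' : cf pb (α * (w * A')) t ≠ 0 := by
    rw [hshift]
    intro h0
    have h1 : w * A' ∈ P pb (t - 1) := by
      apply mem_P_of_cf pb _ h0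
      rw [Nat.sub_add_cancel ht1]; exact hwA'
    by_cases hj2 : j + 2 < n
    · have h2 : w * A' ∈ P pb (n - (j + 2)) := by
        have : n - (j + 2) = t - 1 := by omega
        rw [this]; exact h1
      exact hA'0 ((hN (j + 2) (by omega) hj2).1 A' hA'mem h2)
    · have : t - 1 = 0 := by omega
      rw [this] at h1
      have := mem_P_zero pb h1
      rcases mul_eq_zero.mp this with h | h
      · exact hw h
      · exact hA'0 h
  obtain ⟨d, hd⟩ : ∃ d : k, d = -(cf pb (w * C) t) / cf pb (α * (w * A')) t := ⟨_, rfl⟩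
  have hd0 : d ≠ 0 := by
    rw [hd]
    exact div_ne_zero (neg_ne_zero.mpr hcC) hcA'
  obtain ⟨C', hC'⟩ : ∃ C' : F, C' = C + d • (α * A') := ⟨_, rfl⟩
  have hwC' : w * C' ∈ P pb t := by
    have h1 : w * C' = w * C + d • (α * (w * A')) := by
      rw [hC', mul_add, mul_smul_comm]; congr 2; ring
    apply mem_P_of_cf pb
    · rw [h1]
      exact (P pb (t + 1)).add_mem hwC ((P pb (t + 1)).smul_mem d (gen_mul_mem_P pb htn hwA'))
    · rw [h1, cf_add, cf_smul, hd, div_mul_cancel₀ _ hcA', add_neg_cancel]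
  have hC'q : C' = α * (q + d • A') := by
    rw [hC', hCq, mul_add, mul_smul_comm]
  have hq'' : q + d • A' ∈ P pb (j + 2) :=
    (P pb (j + 2)).add_mem (P_mono pb (by omega) hq) ((P pb (j + 2)).smul_mem d hA'mem)
  have hC'0 : C' ≠ 0 := by
    intro h0
    rw [hC'q] at h0
    have h1 : q + d • A' = 0 := by
      rcases mul_eq_zero.mp h0 with h | h
      · exact absurd h hα0
      · exact h
    have h2 : A' = (-d⁻¹) • q := by
      have : d • A' = -q := eq_neg_of_add_eq_zero_right h1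
      calc A' = d⁻¹ • (d • A') := by rw [smul_smul, inv_mul_cancel₀ hd0, one_smul]
        _ = (-d⁻¹) • q := by rw [this, smul_neg, neg_smul]
    have h3 : A' ∈ P pb (j + 1) := by rw [h2]; exact (P pb (j + 1)).smul_mem _ hq
    have h4 : w * A' ∈ P pb (n - (j + 1)) := by rw [← htj]; exact hwA'
    exact hA'0 (hN1 A' h3 h4)
  refine ⟨c, d, ?_⟩
  rw [← hA', ← hC']
  refine ⟨hA'mem, hA'0, ?_, ⟨q + d • A', hq'', hC'q⟩, hC'0, ?_⟩
  · rw [← htj]; exact hwA'
  · rw [← htj]; exact hwC'

theorem chain (pb : PowerBasis k F) (hα0 : pb.gen ≠ 0) (G : Subgroup SL(2, F))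
    (hu : ∀ c : k, u (algebraMap k F c) ∈ G) (hv : ∀ c : k, v (algebraMap k F c * pb.gen) ∈ G)
    (w : F) (hw : w ≠ 0) (hN : Normal pb w) :
    ∃ g ∈ G, g.1 0 0 = 0 ∧ ∃ κ : k, κ ≠ 0 ∧ g.1 1 0 * w = algebraMap k F κ := by
  have hdim : 0 < pb.dim := pb.dim_pos
  have hone : (1 : F) ∈ P pb 1 := by
    have : (1 : F) = pb.gen ^ 0 := (pow_zero _).symm
    rw [this]
    exact pow_mem_P pb hdim Nat.zero_lt_one
  -- all stages
  have hall : ∀ j, j < pb.dim → ∃ g ∈ G, ChainSt pb w j (g.1 0 0) (g.1 1 0) := by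
    intro j
    induction j with
    | zero =>
      intro _
      refine ⟨v (algebraMap k F 1 * pb.gen), hv 1, ?_⟩
      have h00 : (v (algebraMap k F 1 * pb.gen) : SL(2, F)).1 0 0 = 1 := by
        rw [v_coe]; simp
      have h10 : (v (algebraMap k F 1 * pb.gen) : SL(2, F)).1 1 0 = pb.gen := by
        rw [v_coe]; simp
      rw [h00, h10]
      refine ⟨hone, one_ne_zero, mem_P_dim pb _, ⟨1, hone, (mul_one _).symm⟩, hα0, mem_P_dim pb _⟩
    | succ j ih =>
      intro hj
      obtain ⟨g, hg, hst⟩ := ih (by omega)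
      obtain ⟨c, d, hst'⟩ := chain_step pb hα0 w hw hN j hj _ _ hst
      refine ⟨v (algebraMap k F d * pb.gen) * (u (algebraMap k F c) * g),
        G.mul_mem (hv d) (G.mul_mem (hu c) hg), ?_⟩
      have h1 := chain_u_mul (algebraMap k F c) g
      have h2 := chain_v_mul (algebraMap k F d * pb.gen) (u (algebraMap k F c) * g)
      rw [h2.1, h2.2, h1.1, h1.2]
      have e1 : g.1 0 0 + algebraMap k F c * g.1 1 0 = g.1 0 0 + c • g.1 1 0 := by
        rw [Algebra.smul_def]
      have e2 : g.1 1 0 + algebraMap k F d * pb.gen * (g.1 0 0 + algebraMap k F c * g.1 1 0) =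
          g.1 1 0 + d • (pb.gen * (g.1 0 0 + c • g.1 1 0)) := by
        rw [Algebra.smul_def, Algebra.smul_def]; ring
      rw [e2, e1]
      exact hst'
  obtain ⟨g, hg, hA, hA0, hwA, ⟨q, hq, hCq⟩, hC0, hwC⟩ := hall (pb.dim - 1) (by omega)
  have hsub : pb.dim - (pb.dim - 1) = 1 := by omega
  rw [hsub] at hwA hwC
  have ea := mem_P_one pb hwA hdim
  have eb := mem_P_one pb hwC hdim
  set a := cf pb (w * g.1 0 0) 0 with ha
  set b := cf pb (w * g.1 1 0) 0 with hb
  have hb0 : b ≠ 0 := by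
    intro h0
    rw [h0, map_zero] at eb
    rcases mul_eq_zero.mp eb with h | h
    · exact hw h
    · exact hC0 h
  refine ⟨u (algebraMap k F (-(a / b))) * g, G.mul_mem (hu _) hg, ?_, b, hb0, ?_⟩
  · rw [(chain_u_mul _ g).1]
    have h1 : w * (g.1 0 0 + algebraMap k F (-(a / b)) * g.1 1 0) = 0 := by
      rw [mul_add, mul_left_comm, ea, eb, ← map_mul, ← map_add]
      have : a + -(a / b) * b = 0 := by field_simp; ring
      rw [this, map_zero]
    rcases mul_eq_zero.mp h1 with h | h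
    · exact absurd h hw
    · exact h
  · rw [(chain_u_mul _ g).2, mul_comm]
    exact eb

end Cfsg.Agent.Helper18.SLA
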