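import Mathlib
import Cfsg.Agent.Lib.Helper18.SLACHAIN
import Cfsg.Agent.Lib.Helper2.SLAGENERIC

set_option autoImplicit false

/-!
# S5060, piece INF: the infinite case
-/

namespace Cfsg.Agent.Helper18.SLA

open Matrix Matrix.SpecialLinearGroup
open scoped MatrixGroups
open Cfsg.Agent.Helper2.SL2S

variable {k F : Type*} [Field k] [Field F] [Algebra k F]

/-- two elements of `SL₂` with vanishing upper left entry: the quotient is upper triangular -/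
theorem inf_quot (g₁ g₂ : SL(2, F)) (h₁ : g₁.1 0 0 = 0) (h₂ : g₂.1 0 0 = 0) :
    (g₂⁻¹ * g₁).1 1 0 = 0 ∧ (g₂⁻¹ * g₁).1 0 0 * g₂.1 1 0 = g₁.1 1 0 := by
  have hdet : g₂.1 0 0 * g₂.1 1 1 - g₂.1 0 1 * g₂.1 1 0 = 1 := by
    have := g₂.2
    rwa [Matrix.det_fin_two] at this
  rw [h₂] at hdet
  rw [coe_mul, coe_inv, Matrix.adjugate_fin_two]
  constructor
  · simp [Matrix.mul_apply, Fin.sum_univ_two, h₁, h₂]
  · simp only [Matrix.mul_apply, Fin.sum_univ_two, Matrix.of_apply, Matrix.cons_val', Matrix.cons_val_zero,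
      Matrix.cons_val_one, Matrix.cons_val_fin_one, h₁]
    linear_combination (g₁.1 1 0) * hdet

theorem u_sq_mem_of_infinite [Infinite k] (pb : PowerBasis k F) (hα0 : pb.gen ≠ 0)
    (G : Subgroup SL(2, F))
    (hu : ∀ c : k, u (algebraMap k F c) ∈ G) (hv : ∀ c : k, v (algebraMap k F c * pb.gen) ∈ G)
    (ζ : F) : u (ζ ^ 2) ∈ G := by
  by_cases hζ : ζ = 0
  · rw [hζ]
    have : u ((0 : F) ^ 2) = (1 : SL(2, F)) := by
      rw [zero_pow two_ne_zero]; exact u_zero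
    rw [this]; exact G.one_mem
  obtain ⟨w, hw, hN₁, hN₂⟩ := exists_normal_pair pb ζ hζ
  obtain ⟨g₁, hg₁, h₁, κ₁, hκ₁, e₁⟩ := chain pb hα0 G hu hv w hw hN₁
  obtain ⟨g₂, hg₂, h₂, κ₂, hκ₂, e₂⟩ := chain pb hα0 G hu hv (ζ * w) (mul_ne_zero hζ hw) hN₂
  obtain ⟨q₁, q₂⟩ := inf_quot g₁ g₂ h₁ h₂
  set h := g₂⁻¹ * g₁ with hh
  have hhG : h ∈ G := G.mul_mem (G.inv_mem hg₂) hg₁
  -- the diagonal entry of `h`
  have hK₁ : algebraMap k F κ₁ ≠ 0 := by
    rwa [Ne, map_eq_zero]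
  have hK₂ : algebraMap k F κ₂ ≠ 0 := by
    rwa [Ne, map_eq_zero]
  have h00 : h.1 0 0 * algebraMap k F κ₂ = ζ * algebraMap k F κ₁ := by
    rw [← e₁, ← e₂]
    linear_combination (ζ * w) * q₂
  have hconj := conj_u_of_lower_zero h q₁ (algebraMap k F ((κ₂ / κ₁) ^ 2))
  have hmem : h * u (algebraMap k F ((κ₂ / κ₁) ^ 2)) * h⁻¹ ∈ G :=
    G.mul_mem (G.mul_mem hhG (hu _)) (G.inv_mem hhG)
  rw [hconj] at hmem
  have : algebraMap k F ((κ₂ / κ₁) ^ 2) * h.1 0 0 * h.1 0 0 = ζ ^ 2 := by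
    have e : h.1 0 0 = ζ * algebraMap k F κ₁ / algebraMap k F κ₂ := by
      rw [eq_div_iff hK₂]; exact h00
    rw [e, map_pow, map_div₀]
    field_simp
  rwa [this] at hmem

theorem u_mem_of_infinite [Infinite k] (h2 : (2 : F) ≠ 0) (pb : PowerBasis k F) (hα0 : pb.gen ≠ 0)
    (G : Subgroup SL(2, F))
    (hu : ∀ c : k, u (algebraMap k F c) ∈ G) (hv : ∀ c : k, v (algebraMap k F c * pb.gen) ∈ G) :
    ∀ t : F, u t ∈ G := by
  intro t
  have h1 := u_sq_mem_of_infinite pb hα0 G hu hv ((t + 1) / 2)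
  have h2' := u_sq_mem_of_infinite pb hα0 G hu hv ((t - 1) / 2)
  have : u t = u (((t + 1) / 2) ^ 2) * (u (((t - 1) / 2) ^ 2))⁻¹ := by
    rw [u_inv, ← u_add]
    congr 1
    field_simp
    ring
  rw [this]
  exact G.mul_mem h1 (G.inv_mem h2')

end Cfsg.Agent.Helper18.SLA
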