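import Mathlib
import Cfsg.Agent.Lib.Helper18.SLAINF
import Cfsg.Agent.Lib.Helper25.SLAFIN

set_option autoImplicit false

/-!
# S5060, piece TOP: `⟨u(k), v(k α)⟩ = SL₂(F)` for `F = k(α)` given by a power basis
-/

namespace Cfsg.Agent.Helper18.SLA

open Matrix Matrix.SpecialLinearGroup
open scoped MatrixGroups
open Cfsg.Agent.Helper2.SL2S

variable {k F : Type*} [Field k] [Field F] [Algebra k F]

theorem closure_eq_top_of_powerBasis (hk2 : ringChar k ≠ 2) (hk3 : Nat.card k ≠ 3)
    (pb : PowerBasis k F) (hα0 : pb.gen ≠ 0) :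
    Subgroup.closure ({g : SL(2, F) | ∃ c : k, g = u (algebraMap k F c)} ∪
      {g : SL(2, F) | ∃ c : k, g = v (algebraMap k F c * pb.gen)}) = ⊤ := by
  set G := Subgroup.closure ({g : SL(2, F) | ∃ c : k, g = u (algebraMap k F c)} ∪
      {g : SL(2, F) | ∃ c : k, g = v (algebraMap k F c * pb.gen)}) with hG
  have hu : ∀ c : k, u (algebraMap k F c) ∈ G :=
    fun c => Subgroup.subset_closure (Or.inl ⟨c, rfl⟩)
  have hv : ∀ c : k, v (algebraMap k F c * pb.gen) ∈ G :=
    fun c => Subgroup.subset_closure (Or.inr ⟨c, rfl⟩)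
  have h2k : (2 : k) ≠ 0 := Ring.two_ne_zero hk2
  have h2 : (2 : F) ≠ 0 := by
    have : (2 : F) = algebraMap k F 2 := (map_ofNat (algebraMap k F) 2).symm
    rw [this, Ne, map_eq_zero]
    exact h2k
  have hall : ∀ t : F, u t ∈ G := by
    rcases finite_or_infinite k with hfin | hinf
    · have : Module.Finite k F := pb.finite
      have : Finite F := Module.finite_of_finite k
      exact u_mem_of_finite h2 hk3 pb.gen hα0 pb.adjoin_gen_eq_top G hu hv
    · exact u_mem_of_infinite h2 pb hα0 G hu hv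
  have hv1 : v pb.gen ∈ G := by
    have := hv 1
    rwa [map_one, one_mul] at this
  refine closure_eq_top G (v pb.gen) ?_ hall (fun b => G.mul_mem (G.mul_mem hv1 (hall b)) (G.inv_mem hv1))
  rw [v_coe]
  simpa using hα0

end Cfsg.Agent.Helper18.SLA
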