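import Mathlib
import Cfsg.Agent.Lib.Helper18.SLATOP

set_option autoImplicit false

/-!
# S5060, piece XFER: from `SL₂(k(α))` to the subgroup of `SL₂(K)` with entries in `k(α)`
-/

namespace Cfsg.Agent.Helper18.SLA

open Matrix Matrix.SpecialLinearGroup
open scoped MatrixGroups
open Cfsg.Agent.Helper2.SL2S

theorem xfer {k K : Type*} [Field k] [Field K] [Algebra k K] (hk2 : ringChar k ≠ 2)
    (hk3 : Nat.card k ≠ 3) (α : K) (hα : IsAlgebraic k α) (hα0 : α ≠ 0) :
    (Subgroup.closure ({g : Matrix.SpecialLinearGroup (Fin 2) K | ∃ c : k,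
        (g : Matrix (Fin 2) (Fin 2) K) = !![1, algebraMap k K c; 0, 1]} ∪
        {g : Matrix.SpecialLinearGroup (Fin 2) K | ∃ c : k,
          (g : Matrix (Fin 2) (Fin 2) K) = !![1, 0; algebraMap k K c * α, 1]}) :
      Set (Matrix.SpecialLinearGroup (Fin 2) K)) =
    {g : Matrix.SpecialLinearGroup (Fin 2) K | ∀ i j : Fin 2,
      (g : Matrix (Fin 2) (Fin 2) K) i j ∈ IntermediateField.adjoin k ({α} : Set K)} := by
  classical
  set E := IntermediateField.adjoin k ({α} : Set K) with hE
  have hint : IsIntegral k α := hα.isIntegral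
  set pb := IntermediateField.adjoin.powerBasis hint with hpb
  have hgen : ((pb.gen : ↥E) : K) = α := by
    rw [hpb, IntermediateField.adjoin.powerBasis_gen]
    exact IntermediateField.AdjoinSimple.coe_gen k α
  have hgen0 : pb.gen ≠ 0 := by
    intro h0
    apply hα0
    rw [← hgen, h0]
    rfl
  have htop := closure_eq_top_of_powerBasis hk2 hk3 pb hgen0
  set φ : SL(2, ↥E) →* SL(2, K) := Matrix.SpecialLinearGroup.map (algebraMap ↥E K) with hφ
  have hφe : ∀ (g : SL(2, ↥E)) (i j : Fin 2), (φ g).1 i j = ((g.1 i j : ↥E) : K) := by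
    intro g i j
    rfl
  -- the image of the generating set
  have himg : φ '' ({g : SL(2, ↥E) | ∃ c : k, g = u (algebraMap k ↥E c)} ∪
      {g : SL(2, ↥E) | ∃ c : k, g = v (algebraMap k ↥E c * pb.gen)}) =
      ({g : Matrix.SpecialLinearGroup (Fin 2) K | ∃ c : k,
        (g : Matrix (Fin 2) (Fin 2) K) = !![1, algebraMap k K c; 0, 1]} ∪
        {g : Matrix.SpecialLinearGroup (Fin 2) K | ∃ c : k,
          (g : Matrix (Fin 2) (Fin 2) K) = !![1, 0; algebraMap k K c * α, 1]}) := by
    ext g
    constructor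
    · rintro ⟨g', hg' | hg', rfl⟩
      · obtain ⟨c, rfl⟩ := hg'
        left
        refine ⟨c, ?_⟩
        ext i j
        rw [hφe, u_coe]
        fin_cases i <;> fin_cases j <;> simp
      · obtain ⟨c, rfl⟩ := hg'
        right
        refine ⟨c, ?_⟩
        ext i j
        rw [hφe, v_coe]
        fin_cases i <;> fin_cases j <;> simp [hgen]
    · rintro (⟨c, hc⟩ | ⟨c, hc⟩)
      · refine ⟨u (algebraMap k ↥E c), Or.inl ⟨c, rfl⟩, ?_⟩
        apply Subtype.ext
        rw [hc]
        ext i j
        rw [hφe, u_coe]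
        fin_cases i <;> fin_cases j <;> simp
      · refine ⟨v (algebraMap k ↥E c * pb.gen), Or.inr ⟨c, rfl⟩, ?_⟩
        apply Subtype.ext
        rw [hc]
        ext i j
        rw [hφe, v_coe]
        fin_cases i <;> fin_cases j <;> simp [hgen]
  rw [← himg, ← MonoidHom.map_closure, htop]
  ext g
  constructor
  · rintro ⟨g', -, rfl⟩ i j
    rw [hφe]
    exact (g'.1 i j).2
  · intro hg
    set M : Matrix (Fin 2) (Fin 2) ↥E := fun i j => ⟨g.1 i j, hg i j⟩ with hM
    have hdet : M.det = 1 := by
      have h1 : algebraMap ↥E K M.det = 1 := by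
        rw [RingHom.map_det]
        have : (algebraMap ↥E K).mapMatrix M = g.1 := by
          ext i j
          rfl
        rw [this]
        exact g.2
      have := (algebraMap ↥E K).injective
      apply this
      rw [h1, map_one]
    refine ⟨⟨M, hdet⟩, Subgroup.mem_top _, ?_⟩
    apply Subtype.ext
    ext i j
    rfl

end Cfsg.Agent.Helper18.SLA
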