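import Mathlib
import Cfsg.Agent.Lib.Helper20.SchurCover3

/-!
# Transfer for Schur multipliers, part 1 (helper18 library)

For a subgroup `P` of `G` we consider the free presentation `FP → P` induced from the canonical
presentation `FreeGroup G → G` (`FP` the preimage of `P`), the central extension
`EP = FP / [FP, R]` of `P`, and compare it with `UCE P` (uses Nielsen-Schreier).
-/

set_option autoImplicit false
set_option linter.style.haveILetI false

namespace Cfsg.Agent.Helper18.SchurSyl

open Cfsg.Agent.Helper20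
open scoped commutatorElement

universe u v

section General

variable {X : Type*} {Y : Type*} {Q : Type*} [Group X] [Group Y] [Group Q]

/-- Two central extensions of `Q` with comparison maps both ways: the composite is the identity
on the commutator subgroup. -/
theorem comp_eq_self_of_mem_commutator (α : X →* Q) (hα : α.ker ≤ Subgroup.center X)
    (β : Y →* Q) (u : X →* Y) (v : Y →* X) (hu : β.comp u = α) (hv : α.comp v = β)
    {x : X} (hx : x ∈ commutator X) : v (u x) = x := by
  have hz : ∀ x : X, x⁻¹ * v (u x) ∈ Subgroup.center X := by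
    intro x
    apply hα
    rw [MonoidHom.mem_ker, map_mul, map_inv]
    have h1 : α (v (u x)) = α x := by
      have := congrArg (fun f => f (u x)) hv
      simp only [MonoidHom.comp_apply] at this
      rw [this]
      have := congrArg (fun f => f x) hu
      simpa only [MonoidHom.comp_apply] using this
    rw [h1, inv_mul_cancel]
  have hle : commutator X ≤ MonoidHom.eqLocus (v.comp u) (MonoidHom.id X) := by
    rw [commutator_eq_closure, Subgroup.closure_le]
    rintro _ ⟨a, b, rfl⟩
    change (v.comp u) ⁅a, b⁆ = ⁅a, b⁆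
    rw [MonoidHom.comp_apply, map_commutatorElement, map_commutatorElement]
    set za := a⁻¹ * v (u a) with hza
    set zb := b⁻¹ * v (u b) with hzb
    have ha : v (u a) = a * za := by rw [hza]; group
    have hb : v (u b) = b * zb := by rw [hzb]; group
    have hca := Subgroup.mem_center_iff.mp (hz a)
    have hcb := Subgroup.mem_center_iff.mp (hz b)
    rw [ha, hb, commutatorElement_def, commutatorElement_def]
    calc a * za * (b * zb) * (a * za)⁻¹ * (b * zb)⁻¹
        = a * (za * b) * zb * za⁻¹ * a⁻¹ * zb⁻¹ * b⁻¹ := by group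
      _ = a * (b * za) * zb * za⁻¹ * a⁻¹ * zb⁻¹ * b⁻¹ := by rw [hca b]
      _ = a * b * (za * zb) * za⁻¹ * a⁻¹ * zb⁻¹ * b⁻¹ := by group
      _ = a * b * (zb * za) * za⁻¹ * a⁻¹ * zb⁻¹ * b⁻¹ := by rw [hca zb]
      _ = a * b * (zb * a⁻¹) * zb⁻¹ * b⁻¹ := by group
      _ = a * b * (a⁻¹ * zb) * zb⁻¹ * b⁻¹ := by rw [hcb a⁻¹]
      _ = a * b * a⁻¹ * b⁻¹ := by group
  exact hle hx

/-- Homomorphisms map commutator subgroups into commutator subgroups. -/
theorem map_mem_commutator (f : X →* Y) {x : X} (hx : x ∈ commutator X) :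
    f x ∈ commutator Y := by
  have h1 : (commutator X).map f ≤ commutator Y := by
    rw [commutator_def, Subgroup.map_commutator, commutator_def]
    exact Subgroup.commutator_mono le_top le_top
  exact h1 ⟨x, hx, rfl⟩

end General

section Setup

variable {G : Type u} [Group G] (P : Subgroup G)

/-- preimage of `P` in the free group -/
def FP : Subgroup (FreeGroup G) := P.comap (presMap G)

theorem presKer_le_FP : presKer G ≤ FP P := by
  intro w hw
  change presMap G w ∈ P
  have : presMap G w = 1 := hw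
  rw [this]
  exact P.one_mem

/-- the presentation `FP → P` -/
def piP : ↥(FP P) →* ↥P := (presMap G).subgroupComap P

theorem piP_coe (x : ↥(FP P)) : ((piP P x : ↥P) : G) = presMap G (x : FreeGroup G) := rfl

theorem piP_surjective : Function.Surjective (piP P) :=
  MonoidHom.subgroupComap_surjective_of_surjective _ _ (presMap_surjective G)

/-- the relation subgroup inside `FP` -/
def RP : Subgroup ↥(FP P) := (piP P).ker

theorem mem_RP_iff (x : ↥(FP P)) : x ∈ RP P ↔ (x : FreeGroup G) ∈ presKer G := by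
  change piP P x = 1 ↔ presMap G (x : FreeGroup G) = 1
  rw [← piP_coe, Subtype.ext_iff]
  rfl

/-- `[FP, R]` -/
def NP : Subgroup ↥(FP P) := ⁅(⊤ : Subgroup ↥(FP P)), RP P⁆

instance NP_normal : (NP P).Normal := by
  unfold NP RP
  exact Subgroup.commutator_normal ⊤ (piP P).ker

theorem NP_le_RP : NP P ≤ RP P := by
  unfold NP RP
  exact Subgroup.commutator_le_right ⊤ _

/-- the central extension `FP / [FP, R]` of `P` -/
abbrev EP : Type u := ↥(FP P) ⧸ NP P

/-- the map `FP / [FP, R] → P` -/
def xi : EP P →* ↥P := QuotientGroup.lift (NP P) (piP P) (NP_le_RP P)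

theorem xi_mk (x : ↥(FP P)) : xi P (x : EP P) = piP P x := rfl

theorem xi_surjective : Function.Surjective (xi P) := by
  intro y
  obtain ⟨x, hx⟩ := piP_surjective P y
  exact ⟨(x : EP P), by rw [xi_mk, hx]⟩

theorem xi_ker_le_center : (xi P).ker ≤ Subgroup.center (EP P) := by
  intro x hx
  obtain ⟨f, rfl⟩ := QuotientGroup.mk_surjective x
  rw [MonoidHom.mem_ker, xi_mk] at hx
  have hf : f ∈ RP P := hx
  rw [Subgroup.mem_center_iff]
  intro y
  obtain ⟨g, rfl⟩ := QuotientGroup.mk_surjective y
  have h1 : ⁅g⁻¹, f⁻¹⁆ ∈ NP P :=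
    Subgroup.commutator_mem_commutator (Subgroup.mem_top g⁻¹) (Subgroup.inv_mem _ hf)
  rw [← QuotientGroup.mk_mul, ← QuotientGroup.mk_mul]
  rw [QuotientGroup.eq]
  have : (g * f)⁻¹ * (f * g) = (⁅g⁻¹, f⁻¹⁆)⁻¹ := by
    rw [commutatorElement_def]; group
  rw [this]
  exact Subgroup.inv_mem _ h1

instance isMulCommutative_xi_ker : IsMulCommutative (xi P).ker :=
  ⟨⟨fun a b => Subtype.ext
    (Subgroup.mem_center_iff.mp (xi_ker_le_center P b.2) (a : EP P))⟩⟩

instance isMulCommutative_uceMap_ker : IsMulCommutative (uceMap G).ker :=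
  ⟨⟨fun a b => Subtype.ext
    (Subgroup.mem_center_iff.mp (uceMap_ker_le_center G b.2) (a : UCE G))⟩⟩

/-- a lift `UCE P → EP` over `P` -/
theorem exists_liftA : ∃ a : UCE ↥P →* EP P, (xi P).comp a = uceMap ↥P :=
  exists_uce_lift ↥P (xi P) (xi_surjective P) (xi_ker_le_center P)

/-- a lift `EP → UCE P` over `P`, using that `FP` is free (Nielsen-Schreier) -/
theorem exists_liftB : ∃ b : EP P →* UCE ↥P, (uceMap ↥P).comp b = xi P := by
  haveI : IsFreeGroup ↥(FP P) := subgroupIsFreeOfIsFree (FP P)
  let b₀ : ↥(FP P) →* UCE ↥P := IsFreeGroup.lift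
    (fun i => Function.surjInv (uceMap_surjective ↥P) (piP P (IsFreeGroup.of i)))
  have h1 : (uceMap ↥P).comp b₀ = piP P := by
    apply IsFreeGroup.ext_hom
    intro i
    rw [MonoidHom.comp_apply]
    change uceMap ↥P (IsFreeGroup.lift _ (IsFreeGroup.of i)) = _
    rw [IsFreeGroup.lift_of]
    exact Function.surjInv_eq (uceMap_surjective ↥P) _
  have h2 : NP P ≤ b₀.ker := by
    unfold NP
    rw [Subgroup.commutator_le]
    intro g₁ _ g₂ hg₂
    rw [MonoidHom.mem_ker, map_commutatorElement]
    have hk : b₀ g₂ ∈ (uceMap ↥P).ker := by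
      rw [MonoidHom.mem_ker, ← MonoidHom.comp_apply, h1]
      exact hg₂
    have hz := Subgroup.mem_center_iff.mp (uceMap_ker_le_center ↥P hk)
    rw [commutatorElement_def, hz (b₀ g₁)]
    group
  refine ⟨QuotientGroup.lift (NP P) b₀ h2, ?_⟩
  apply MonoidHom.ext
  intro x
  obtain ⟨f, rfl⟩ := QuotientGroup.mk_surjective x
  rw [MonoidHom.comp_apply, QuotientGroup.lift_mk, xi_mk, ← h1, MonoidHom.comp_apply]

/-- the map `EP → UCE G` induced by the inclusion `FP ≤ FreeGroup G` -/
def cMap : EP P →* UCE G :=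
  QuotientGroup.lift (NP P) ((QuotientGroup.mk' (presComm G)).comp (FP P).subtype) (by
    unfold NP
    rw [Subgroup.commutator_le]
    intro g₁ _ g₂ hg₂
    rw [MonoidHom.mem_ker, MonoidHom.comp_apply, QuotientGroup.mk'_apply, QuotientGroup.eq_one_iff]
    have h2 : (g₂ : FreeGroup G) ∈ presKer G := (mem_RP_iff P g₂).mp hg₂
    have : ((FP P).subtype ⁅g₁, g₂⁆) = ⁅(g₁ : FreeGroup G), (g₂ : FreeGroup G)⁆ := by
      rw [map_commutatorElement]; rfl
    rw [this]
    exact Subgroup.commutator_mem_commutator (Subgroup.mem_top _) h2)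

theorem cMap_mk (x : ↥(FP P)) : cMap P (x : EP P) = ((x : FreeGroup G) : UCE G) := rfl

theorem uceMap_cMap (x : EP P) : uceMap G (cMap P x) = ((xi P x : ↥P) : G) := by
  obtain ⟨f, rfl⟩ := QuotientGroup.mk_surjective x
  rw [cMap_mk, uceMap_mk, xi_mk, piP_coe]

end Setup

end Cfsg.Agent.Helper18.SchurSyl
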