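import Mathlib
import Cfsg.Agent.Lib.Helper18.SchurSyl1

/-!
# Transfer for Schur multipliers, part 2 (helper18 library)

The transfer map `V0 : R → ker (EP → P)`, `w ↦ ∏_q q.out⁻¹ w q.out`.
-/

set_option autoImplicit false
set_option linter.style.haveILetI false

namespace Cfsg.Agent.Helper18.SchurSyl

open Cfsg.Agent.Helper20
open scoped commutatorElement IsMulCommutative

universe u v

variable {G : Type u} [Group G] (P : Subgroup G)

theorem conj_mem_presKer (x : FreeGroup G) {w : FreeGroup G} (hw : w ∈ presKer G) :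
    x⁻¹ * w * x ∈ presKer G := by
  have := (presKer_normal G).conj_mem w hw x⁻¹
  rwa [inv_inv] at this

/-- the class of `x⁻¹ w x` in `EP`, an element of the kernel -/
def conjK (x : FreeGroup G) (w : ↥(presKer G)) : (xi P).ker :=
  ⟨((⟨x⁻¹ * w * x, presKer_le_FP P (conj_mem_presKer x w.2)⟩ : ↥(FP P)) : EP P), by
    rw [MonoidHom.mem_ker, xi_mk]
    exact (mem_RP_iff P _).mpr (conj_mem_presKer x w.2)⟩

theorem conjK_coe (x : FreeGroup G) (w : ↥(presKer G)) :
    ((conjK P x w : (xi P).ker) : EP P) =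
      ((⟨x⁻¹ * w * x, presKer_le_FP P (conj_mem_presKer x w.2)⟩ : ↥(FP P)) : EP P) := rfl

theorem conjK_mul (x : FreeGroup G) (w w' : ↥(presKer G)) :
    conjK P x (w * w') = conjK P x w * conjK P x w' := by
  apply Subtype.ext
  rw [Subgroup.coe_mul, conjK_coe, conjK_coe, conjK_coe, ← QuotientGroup.mk_mul]
  congr 1
  apply Subtype.ext
  simp only [Subgroup.coe_mul]
  group

theorem conjK_one (x : FreeGroup G) : conjK P x 1 = 1 := by
  have h := conjK_mul P x 1 1
  rw [mul_one] at h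
  exact mul_eq_left.mp h.symm

theorem conjK_mul_right (x : FreeGroup G) {h : FreeGroup G} (hh : h ∈ FP P)
    (w : ↥(presKer G)) : conjK P (x * h) w = conjK P x w := by
  apply Subtype.ext
  rw [conjK_coe, conjK_coe]
  have hc := Subgroup.mem_center_iff.mp (xi_ker_le_center P (conjK P x w).2)
  have h1 : (⟨(x * h)⁻¹ * w * (x * h), presKer_le_FP P (conj_mem_presKer (x * h) w.2)⟩ : ↥(FP P))
      = (⟨h, hh⟩ : ↥(FP P))⁻¹ *
        ⟨x⁻¹ * w * x, presKer_le_FP P (conj_mem_presKer x w.2)⟩ * ⟨h, hh⟩ := by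
    apply Subtype.ext
    simp only [Subgroup.coe_mul, Subgroup.coe_inv]
    group
  rw [h1, QuotientGroup.mk_mul, QuotientGroup.mk_mul, QuotientGroup.mk_inv]
  have h2 := hc (((⟨h, hh⟩ : ↥(FP P)) : EP P))
  rw [conjK_coe] at h2
  rw [mul_assoc, ← h2, ← mul_assoc, inv_mul_cancel, one_mul]

theorem conjK_conj (x f : FreeGroup G) (w : ↥(presKer G))
    (hw : f * w * f⁻¹ ∈ presKer G) :
    conjK P x ⟨f * w * f⁻¹, hw⟩ = conjK P (f⁻¹ * x) w := by
  apply Subtype.ext
  rw [conjK_coe, conjK_coe]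
  congr 1
  apply Subtype.ext
  simp only
  group

theorem conjK_eq_of_mk_eq (x y : FreeGroup G)
    (hxy : (x : FreeGroup G ⧸ FP P) = (y : FreeGroup G ⧸ FP P)) (w : ↥(presKer G)) :
    conjK P x w = conjK P y w := by
  have h1 : x⁻¹ * y ∈ FP P := QuotientGroup.eq.mp hxy
  have h2 : y = x * (x⁻¹ * y) := by group
  rw [h2, conjK_mul_right P x h1]

instance FP_finiteIndex [hP : P.FiniteIndex] : (FP P).FiniteIndex := by
  constructor
  unfold FP
  rw [Subgroup.index_comap_of_surjective P (presMap_surjective G)]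
  exact hP.index_ne_zero

variable [P.FiniteIndex]

/-- the transfer `R → ker (EP → P)` -/
noncomputable def V0 : ↥(presKer G) →* (xi P).ker :=
  letI := (FP P).fintypeQuotientOfFiniteIndex
  { toFun := fun w => ∏ q : FreeGroup G ⧸ FP P, conjK P q.out w
    map_one' := by
      simp only [conjK_one]
      exact Finset.prod_const_one
    map_mul' := fun w w' => by
      simp only [conjK_mul]
      exact Finset.prod_mul_distrib }

theorem V0_apply (w : ↥(presKer G)) :
    V0 P w = letI := (FP P).fintypeQuotientOfFiniteIndex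
      ∏ q : FreeGroup G ⧸ FP P, conjK P q.out w := rfl

/-- `V0` is invariant under conjugation by the free group -/
theorem V0_conj (f : FreeGroup G) (w : ↥(presKer G)) (hw : f * w * f⁻¹ ∈ presKer G) :
    V0 P ⟨f * w * f⁻¹, hw⟩ = V0 P w := by
  letI := (FP P).fintypeQuotientOfFiniteIndex
  rw [V0_apply, V0_apply]
  simp only [conjK_conj]
  have h1 : ∀ q : FreeGroup G ⧸ FP P,
      conjK P (f⁻¹ * q.out) w = conjK P (f⁻¹ • q).out w := by
    intro q
    apply conjK_eq_of_mk_eq
    rw [QuotientGroup.out_eq']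
    conv_rhs => rw [← QuotientGroup.out_eq' q]
    rfl
  simp only [h1]
  exact Equiv.prod_comp (MulAction.toPerm (f⁻¹ : FreeGroup G)) (fun q : FreeGroup G ⧸ FP P => conjK P q.out w)

/-- `V0` kills `[F, R]` -/
theorem V0_eq_of_mk_eq (w w' : ↥(presKer G))
    (h : ((w : FreeGroup G) : UCE G) = ((w' : FreeGroup G) : UCE G)) : V0 P w = V0 P w' := by
  have hle : presComm G ≤ ((V0 P).ker).map (presKer G).subtype := by
    unfold presComm
    rw [Subgroup.commutator_le]
    intro f _ r hr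
    have hfr : f * r * f⁻¹ ∈ presKer G := (presKer_normal G).conj_mem r hr f
    refine ⟨⟨f * r * f⁻¹, hfr⟩ * (⟨r, hr⟩ : ↥(presKer G))⁻¹, ?_, ?_⟩
    · rw [SetLike.mem_coe, MonoidHom.mem_ker, map_mul, map_inv, V0_conj P f ⟨r, hr⟩ hfr,
        mul_inv_cancel]
    · simp only [Subgroup.coe_subtype, Subgroup.coe_mul, Subgroup.coe_inv]
      rw [commutatorElement_def]
  have h1 : (w : FreeGroup G)⁻¹ * w' ∈ presComm G := QuotientGroup.eq.mp h
  obtain ⟨z, hz, hzw⟩ := hle h1
  have h2 : z = w⁻¹ * w' := by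
    apply Subtype.ext
    rw [Subgroup.coe_mul, Subgroup.coe_inv]
    exact hzw
  rw [SetLike.mem_coe, MonoidHom.mem_ker, h2, map_mul, map_inv] at hz
  exact (inv_mul_eq_one.mp hz)

end Cfsg.Agent.Helper18.SchurSyl
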