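import Mathlib
import Cfsg.Agent.Lib.Helper18.SchurSyl2
import Cfsg.Agent.Lib.Helper20.SchurExp3

/-!
# Transfer for Schur multipliers, part 3 (helper18 library)

`cor ∘ tr = (·)^|G:P|` on Schur multipliers, and the `p`-part of the multiplier of `G` is a
direct factor of the multiplier of a Sylow `p`-subgroup.
-/

set_option autoImplicit false
set_option linter.style.haveILetI false

namespace Cfsg.Agent.Helper18.SchurSyl

open Cfsg.Agent.Helper20
open scoped commutatorElement IsMulCommutative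

universe u v w

section Transfer

variable {G : Type u} [Group G] (P : Subgroup G) [P.FiniteIndex]

theorem inv_smul_eq_self (w : ↥(presKer G)) (q : FreeGroup G ⧸ FP P) :
    ((w : FreeGroup G)⁻¹ • q : FreeGroup G ⧸ FP P) = q := by
  obtain ⟨x, rfl⟩ := QuotientGroup.mk_surjective q
  change (((w : FreeGroup G)⁻¹ * x : FreeGroup G) : FreeGroup G ⧸ FP P) = _
  rw [QuotientGroup.eq]
  have : ((w : FreeGroup G)⁻¹ * x)⁻¹ * x = x⁻¹ * w * x := by group
  rw [this]
  exact presKer_le_FP P (conj_mem_presKer x w.2)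

theorem V0_mem_commutator (w : ↥(presKer G))
    (hw : (w : FreeGroup G) ∈ commutator (FreeGroup G)) :
    ((V0 P w : (xi P).ker) : EP P) ∈ commutator (EP P) := by
  let ϕ : ↥(FP P) →* Abelianization (EP P) :=
    Abelianization.of.comp (QuotientGroup.mk' (NP P))
  have h1 : MonoidHom.transfer ϕ (w : FreeGroup G) = 1 := by
    have : commutator (FreeGroup G) ≤ (MonoidHom.transfer ϕ).ker :=
      Abelianization.commutator_subset_ker _
    exact this hw
  have h2 : MonoidHom.transfer ϕ (w : FreeGroup G) =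
      Abelianization.of ((V0 P w : (xi P).ker) : EP P) := by
    rw [MonoidHom.transfer_def ϕ default]
    letI := (FP P).fintypeQuotientOfFiniteIndex
    have h3 : Abelianization.of ((V0 P w : (xi P).ker) : EP P) =
        ∏ q : FreeGroup G ⧸ FP P,
          (Abelianization.of.comp (xi P).ker.subtype) (conjK P q.out w) := by
      rw [V0_apply]
      exact map_prod (Abelianization.of.comp (xi P).ker.subtype) _ _
    rw [h3]
    unfold Subgroup.leftTransversals.diff
    simp only []
    apply Finset.prod_congr rfl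
    intro q _
    change Abelianization.of (QuotientGroup.mk' (NP P) _) = Abelianization.of _
    congr 1
    rw [QuotientGroup.mk'_apply]
    change _ = ((conjK P q.out w : (xi P).ker) : EP P)
    rw [conjK_coe]
    congr 1
    apply Subtype.ext
    simp only
    rw [Subgroup.smul_apply_eq_smul_apply_inv_smul, inv_smul_eq_self]
    have hd : ((default : (FP P).LeftTransversal).2.leftQuotientEquiv q : FreeGroup G) = q.out :=
      Subgroup.IsComplement.leftQuotientEquiv_apply Quotient.out_eq' q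
    rw [hd, smul_eq_mul, mul_assoc]
  rw [h1] at h2
  have h4 : ((V0 P w : (xi P).ker) : EP P) ∈ (Abelianization.of (G := EP P)).ker := h2.symm
  rwa [Abelianization.ker_of] at h4

/-- `cMap` restricted to kernels -/
def cKer : (xi P).ker →* (uceMap G).ker :=
  ((cMap P).comp (xi P).ker.subtype).codRestrict (uceMap G).ker (fun k => by
    rw [MonoidHom.mem_ker, MonoidHom.comp_apply, uceMap_cMap]
    have : xi P ((xi P).ker.subtype k) = 1 := k.2
    rw [this]
    rfl)

theorem cKer_coe (k : (xi P).ker) : ((cKer P k : (uceMap G).ker) : UCE G) = cMap P (k : EP P) :=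
  rfl

theorem cKer_conjK (x : FreeGroup G) (w : ↥(presKer G)) :
    ((cKer P (conjK P x w) : (uceMap G).ker) : UCE G) = ((w : FreeGroup G) : UCE G) := by
  rw [cKer_coe, conjK_coe, cMap_mk]
  change ((x⁻¹ * (w : FreeGroup G) * x : FreeGroup G) : UCE G) = _
  rw [QuotientGroup.mk_mul, QuotientGroup.mk_mul, QuotientGroup.mk_inv]
  have hwk : ((w : FreeGroup G) : UCE G) ∈ (uceMap G).ker := by
    rw [MonoidHom.mem_ker, uceMap_mk]
    exact w.2
  have hc := Subgroup.mem_center_iff.mp (uceMap_ker_le_center G hwk) ((x : FreeGroup G) : UCE G)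
  rw [mul_assoc, ← hc, ← mul_assoc, inv_mul_cancel, one_mul]

theorem cMap_V0 (w : ↥(presKer G)) :
    cMap P ((V0 P w : (xi P).ker) : EP P) = ((w : FreeGroup G) : UCE G) ^ (FP P).index := by
  letI := (FP P).fintypeQuotientOfFiniteIndex
  have hwk : ((w : FreeGroup G) : UCE G) ∈ (uceMap G).ker := by
    rw [MonoidHom.mem_ker, uceMap_mk]
    exact w.2
  have h1 : cKer P (V0 P w) = (⟨((w : FreeGroup G) : UCE G), hwk⟩ : (uceMap G).ker) ^
      Fintype.card (FreeGroup G ⧸ FP P) := by
    rw [V0_apply, map_prod]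
    have : ∀ q : FreeGroup G ⧸ FP P, cKer P (conjK P q.out w) =
        (⟨((w : FreeGroup G) : UCE G), hwk⟩ : (uceMap G).ker) :=
      fun q => Subtype.ext (cKer_conjK P q.out w)
    simp only [this]
    rw [Finset.prod_const, Finset.card_univ]
  have h2 := congrArg (fun k : (uceMap G).ker => (k : UCE G)) h1
  simp only [cKer_coe, Subgroup.coe_pow] at h2
  rw [h2, Subgroup.index_eq_card, Nat.card_eq_fintype_card]

theorem FP_index : (FP P).index = P.index := by
  unfold FP
  exact Subgroup.index_comap_of_surjective P (presMap_surjective G)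

theorem out_mem_presKer (m : (uceMap G).ker) :
    (Quotient.out (m : UCE G) : FreeGroup G) ∈ presKer G := by
  have h1 : uceMap G (m : UCE G) = 1 := m.2
  rw [← QuotientGroup.out_eq' (m : UCE G)] at h1
  exact h1

/-- the transfer on the kernel of `UCE G → G` -/
noncomputable def trK : (uceMap G).ker →* (xi P).ker :=
  MonoidHom.mk' (fun m => V0 P ⟨Quotient.out (m : UCE G), out_mem_presKer m⟩) (by
    intro m m'
    rw [← map_mul]
    apply V0_eq_of_mk_eq
    change ((Quotient.out ((m * m' : (uceMap G).ker) : UCE G) : FreeGroup G) : UCE G) =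
      ((Quotient.out (m : UCE G) * Quotient.out (m' : UCE G) : FreeGroup G) : UCE G)
    rw [QuotientGroup.mk_mul, QuotientGroup.out_eq', QuotientGroup.out_eq', QuotientGroup.out_eq']
    rfl)

theorem trK_eq (m : (uceMap G).ker) (w : ↥(presKer G))
    (h : ((w : FreeGroup G) : UCE G) = (m : UCE G)) : trK P m = V0 P w := by
  change V0 P ⟨Quotient.out (m : UCE G), out_mem_presKer m⟩ = V0 P w
  apply V0_eq_of_mk_eq
  change ((Quotient.out (m : UCE G) : FreeGroup G) : UCE G) = _
  rw [QuotientGroup.out_eq', h]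

theorem trK_mem_commutator (m : (uceMap G).ker) (hm : (m : UCE G) ∈ commutator (UCE G)) :
    ((trK P m : (xi P).ker) : EP P) ∈ commutator (EP P) := by
  have h1 : (commutator (FreeGroup G)).map (QuotientGroup.mk' (presComm G)) = commutator (UCE G) :=
    map_commutator_of_surjective _ (QuotientGroup.mk'_surjective _)
  rw [← h1] at hm
  obtain ⟨w, hw, hwm⟩ := hm
  have hwk : w ∈ presKer G := by
    have h2 : uceMap G (m : UCE G) = 1 := m.2
    rw [← hwm] at h2
    exact h2
  rw [trK_eq P m ⟨w, hwk⟩ hwm]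
  exact V0_mem_commutator P ⟨w, hwk⟩ hw

theorem cMap_trK (m : (uceMap G).ker) :
    cMap P ((trK P m : (xi P).ker) : EP P) = (m : UCE G) ^ P.index := by
  have h := out_mem_presKer m
  rw [trK_eq P m ⟨Quotient.out (m : UCE G), h⟩ (QuotientGroup.out_eq' _), cMap_V0, FP_index]
  change ((Quotient.out (m : UCE G) : FreeGroup G) : UCE G) ^ P.index = _
  rw [QuotientGroup.out_eq']

/-- **Transfer for Schur multipliers**: there are homomorphisms `tr`, `cor` between the Schur
multipliers of `G` and of a subgroup `P` of finite index with `cor ∘ tr = (·)^|G:P|`. -/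
theorem exists_tr_cor : ∃ (tr : schurM G →* schurM ↥P) (cor : schurM ↥P →* schurM G),
    ∀ m, cor (tr m) = m ^ P.index := by
  obtain ⟨a, ha⟩ := exists_liftA P
  obtain ⟨b, hb⟩ := exists_liftB P
  have ha' : ∀ x, xi P (a x) = uceMap ↥P x := fun x => by
    rw [← ha]; rfl
  have hb' : ∀ x, uceMap ↥P (b x) = xi P x := fun x => by
    rw [← hb]; rfl
  let incl : schurM G →* (uceMap G).ker := Subgroup.inclusion (schurM_le_ker G)
  let tr₀ : schurM G →* UCE ↥P := (b.comp (xi P).ker.subtype).comp ((trK P).comp incl)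
  have htr₀ : ∀ m : schurM G, tr₀ m = b ((trK P (incl m) : (xi P).ker) : EP P) := fun m => rfl
  have hcomm : ∀ m : schurM G, ((trK P (incl m) : (xi P).ker) : EP P) ∈ commutator (EP P) :=
    fun m => trK_mem_commutator P (incl m) (schurM_le_commutator G m.2)
  let tr : schurM G →* schurM ↥P := tr₀.codRestrict (schurM ↥P) (fun m => by
    rw [htr₀]
    refine ⟨?_, map_mem_commutator b (hcomm m)⟩
    change b _ ∈ (uceMap ↥P).ker
    rw [MonoidHom.mem_ker, hb']
    exact (trK P (incl m)).2)
  let cor₀ : schurM ↥P →* UCE G := ((cMap P).comp a).comp (schurM ↥P).subtype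
  let cor : schurM ↥P →* schurM G := cor₀.codRestrict (schurM G) (fun m => by
    change cMap P (a (m : UCE ↥P)) ∈ schurM G
    refine ⟨?_, map_mem_commutator ((cMap P).comp a) (schurM_le_commutator ↥P m.2)⟩
    change cMap P (a (m : UCE ↥P)) ∈ (uceMap G).ker
    rw [MonoidHom.mem_ker, uceMap_cMap, ha']
    have : uceMap ↥P (m : UCE ↥P) = 1 := schurM_le_ker ↥P m.2
    rw [this]
    rfl)
  refine ⟨tr, cor, fun m => ?_⟩
  apply Subtype.ext
  change cMap P (a (b ((trK P (incl m) : (xi P).ker) : EP P))) = ((m ^ P.index : schurM G) : UCE G)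
  rw [comp_eq_self_of_mem_commutator (xi P) (xi_ker_le_center P) (uceMap ↥P) b a hb ha (hcomm m),
    cMap_trK, Subgroup.coe_pow]
  rfl

end Transfer

section Algebra

theorem direct_factor_of_transfer {A : Type v} {B : Type w} [CommGroup A] [CommGroup B]
    (p n : ℕ) [hp : Fact p.Prime] (hn : ¬ p ∣ n) (tr : A →* B) (cor : B →* A)
    (h : ∀ a, cor (tr a) = a ^ n) (hB : ∀ b : B, ∃ k, b ^ (p ^ k) = 1) :
    ∃ C D : Subgroup B, C ⊓ D = ⊥ ∧ C ⊔ D = ⊤ ∧
      Nonempty (CommGroup.primaryComponent A p ≃* C) := by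
  set S : Subgroup A := CommGroup.primaryComponent A p with hS
  have hmemS : ∀ a : A, a ∈ S ↔ ∃ k, a ^ p ^ k = 1 := fun a => CommGroup.mem_primaryComponent
  let f : S →* B := tr.comp S.subtype
  have hcop : ∀ k, Nat.Coprime n (p ^ k) := fun k =>
    Nat.Coprime.pow_right k ((Nat.Prime.coprime_iff_not_dvd hp.out).mpr hn).symm
  have hinj : Function.Injective f := by
    rw [injective_iff_map_eq_one]
    intro s hs
    have h1 : cor (tr (s : A)) = 1 := by
      have : tr (s : A) = 1 := hs
      rw [this, map_one]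
    rw [h] at h1
    obtain ⟨k, hk⟩ := (hmemS _).mp s.2
    have h2 : orderOf (s : A) ∣ n := orderOf_dvd_of_pow_eq_one h1
    have h3 : orderOf (s : A) ∣ p ^ k := orderOf_dvd_of_pow_eq_one hk
    have h4 : orderOf (s : A) = 1 := Nat.eq_one_of_dvd_coprimes (hcop k) h2 h3
    apply Subtype.ext
    exact orderOf_eq_one_iff.mp h4
  refine ⟨f.range, cor.ker, ?_, ?_, ⟨MonoidHom.ofInjective hinj⟩⟩
  · rw [eq_bot_iff]
    rintro x ⟨⟨s, rfl⟩, hx⟩
    have h1 : f s = 1 := by
      have h2 : cor (tr (s : A)) = 1 := hx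
      rw [h] at h2
      obtain ⟨k, hk⟩ := (hmemS _).mp s.2
      have h3 : orderOf (s : A) ∣ n := orderOf_dvd_of_pow_eq_one h2
      have h4 : orderOf (s : A) ∣ p ^ k := orderOf_dvd_of_pow_eq_one hk
      have h5 : orderOf (s : A) = 1 := Nat.eq_one_of_dvd_coprimes (hcop k) h3 h4
      have h6 : s = 1 := Subtype.ext (orderOf_eq_one_iff.mp h5)
      rw [h6, map_one]
    rw [Subgroup.mem_bot]
    exact h1
  · rw [eq_top_iff]
    intro b _
    obtain ⟨k, hk⟩ := hB b
    set c : A := cor b with hc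
    have hck : c ^ (p ^ k) = 1 := by rw [hc, ← map_pow, hk, map_one]
    have hbez : (1 : ℤ) = n * Nat.gcdA n (p ^ k) + (p ^ k : ℕ) * Nat.gcdB n (p ^ k) := by
      have := Nat.gcd_eq_gcd_ab n (p ^ k)
      rw [(hcop k)] at this
      exact_mod_cast this
    set x : ℤ := Nat.gcdA n (p ^ k) with hx
    set y : ℤ := Nat.gcdB n (p ^ k) with hy
    set c' : A := c ^ x with hc'
    have hc'n : c' ^ n = c := by
      have h1 : c ^ ((p ^ k : ℕ) : ℤ) = 1 := by rw [zpow_natCast]; exact hck
      calc c' ^ n = c ^ ((n : ℤ) * x) := by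
            rw [hc', ← zpow_natCast, ← zpow_mul, mul_comm]
        _ = c ^ ((n : ℤ) * x) * (c ^ ((p ^ k : ℕ) : ℤ)) ^ y := by rw [h1, one_zpow, mul_one]
        _ = c ^ ((n : ℤ) * x + ((p ^ k : ℕ) : ℤ) * y) := by rw [← zpow_mul, ← zpow_add]
        _ = c := by rw [← hbez, zpow_one]
    have hc'S : c' ∈ S := by
      have h1 : c' ^ (p ^ k) = 1 := by
        rw [hc', ← zpow_natCast, ← zpow_mul, mul_comm, zpow_mul, zpow_natCast, hck, one_zpow]
      exact (hmemS c').mpr ⟨k, h1⟩
    have hb : b = f ⟨c', hc'S⟩ * ((f ⟨c', hc'S⟩)⁻¹ * b) := by group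
    rw [hb]
    apply Subgroup.mul_mem_sup
    · exact ⟨⟨c', hc'S⟩, rfl⟩
    · rw [MonoidHom.mem_ker, map_mul, map_inv]
      change (cor (tr c'))⁻¹ * cor b = 1
      rw [h, hc'n, ← hc, inv_mul_cancel]

end Algebra

section Main

theorem schurM_pow_eq_one {Q : Type u} [Group Q] [Finite Q] (p : ℕ) [hp : Fact p.Prime]
    (hQ : IsPGroup p Q) (m : schurM Q) : ∃ k, m ^ (p ^ k) = 1 := by
  obtain ⟨⟨Γ, _, _, σ, hσ, ⟨e⟩⟩, -⟩ := hasSchurMultiplier_schurM Q
  have h1 := exponent_sq_dvd_index σ.ker hσ.2.1 hσ.2.2 e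
  have h2 : σ.ker.index = Nat.card Q := by
    rw [Subgroup.index_ker, MonoidHom.range_eq_top_of_surjective σ hσ.1, Subgroup.card_top]
  obtain ⟨k, hk⟩ := IsPGroup.iff_card.mp hQ
  rw [h2, hk] at h1
  have h3 : Monoid.exponent (schurM Q) ∣ p ^ k :=
    (dvd_pow_self _ (two_ne_zero)).trans h1
  obtain ⟨j, -, hj⟩ := (Nat.dvd_prime_pow hp.out).mp h3
  refine ⟨j, ?_⟩
  rw [← hj]
  exact Monoid.pow_exponent_eq_one m

/-- The `p`-primary part of the Schur multiplier of `G` is isomorphic to a direct factor of the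
Schur multiplier of a Sylow `p`-subgroup. -/
theorem exists_direct_factor {G : Type u} [Group G] [Finite G] (p : ℕ) [Fact p.Prime]
    (P : Subgroup G) (hP : IsPGroup p P) (hidx : ¬ p ∣ P.index)
    {A : Type v} {B : Type w} [CommGroup A] [CommGroup B]
    (hA : Cfsg.HasSchurMultiplier G A) (hB : Cfsg.HasSchurMultiplier ↥P B) :
    ∃ C D : Subgroup B, C ⊓ D = ⊥ ∧ C ⊔ D = ⊤ ∧
      Nonempty (CommGroup.primaryComponent A p ≃* C) := by
  obtain ⟨eA⟩ := nonempty_equiv_schurM hA
  obtain ⟨eB⟩ := nonempty_equiv_schurM hB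
  obtain ⟨tr, cor, h⟩ := exists_tr_cor P
  letI : CommGroup (schurM G) :=
    { (inferInstance : Group (schurM G)) with
      mul_comm := fun a b => Subtype.ext
        (Subgroup.mem_center_iff.mp (schurM_le_center G b.2) (a : UCE G)) }
  letI : CommGroup (schurM ↥P) :=
    { (inferInstance : Group (schurM ↥P)) with
      mul_comm := fun a b => Subtype.ext
        (Subgroup.mem_center_iff.mp (schurM_le_center ↥P b.2) (a : UCE ↥P)) }
  let tr' : A →* B := (eB.toMonoidHom.comp tr).comp eA.symm.toMonoidHom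
  let cor' : B →* A := (eA.toMonoidHom.comp cor).comp eB.symm.toMonoidHom
  apply direct_factor_of_transfer p P.index hidx tr' cor'
  · intro a
    change eA (cor (eB.symm (eB (tr (eA.symm a))))) = a ^ P.index
    rw [MulEquiv.symm_apply_apply, h, map_pow, MulEquiv.apply_symm_apply]
  · intro b
    obtain ⟨k, hk⟩ := schurM_pow_eq_one p hP (eB.symm b)
    refine ⟨k, ?_⟩
    have := congrArg eB hk
    rwa [map_pow, MulEquiv.apply_symm_apply, map_one] at this

end Main

end Cfsg.Agent.Helper18.SchurSyl
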