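import Mathlib
import Cfsg.Prelude.Def_Blocks
import Cfsg.Agent.Lib.Helper18.SigmaOdd2
import Cfsg.Agent.Lib.Helper18.AlperinDade4
import Cfsg.Agent.Lib.Helper5.DetChar

/-!
# Characters fixed by a Galois automorphism of 2-power order over normal subgroups of odd index
(helper18's library), part 3: relative forms, the chain argument and the invariant case
-/

set_option autoImplicit false
set_option linter.style.haveILetI false
set_option linter.unusedVariables false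
set_option linter.unusedSectionVars false

namespace Cfsg.Agent.Helper18.SigmaOdd

open Cfsg Cfsg.Agent.Helper24 Cfsg.Agent.Helper5 Cfsg.Agent.Helper23.Blk
open scoped ComplexConjugate

universe u

variable {G : Type u} [Group G] [Fintype G]

section Hyp

variable {k e : ℕ}

theorem hcop_sub (J : Subgroup G) (hcop : Nat.Coprime (Nat.card G) k) :
    Nat.Coprime (Nat.card J) k :=
  Nat.Coprime.coprime_dvd_left (Subgroup.card_subgroup_dvd_card J) hcop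

theorem hpow_sub (J : Subgroup G) (hpow : ∀ g : G, g ^ (k ^ 2 ^ e) = g) :
    ∀ x : J, x ^ (k ^ 2 ^ e) = x := by
  intro x
  apply Subtype.ext
  rw [SubgroupClass.coe_pow]
  exact hpow x

theorem hinv_sub (J : Subgroup G) (hinvk : ∀ g : G, Odd (orderOf g) → g ^ k = g⁻¹) :
    ∀ x : J, Odd (orderOf x) → x ^ k = x⁻¹ := by
  intro x hx
  apply Subtype.ext
  rw [SubgroupClass.coe_pow, InvMemClass.coe_inv]
  apply hinvk
  rwa [Subgroup.orderOf_coe]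

end Hyp

/-- transport of a statement about the pair `(J, N.subgroupOf J)` to the pair `(J, N)` -/
theorem relativize (N : Subgroup G) [hN : N.Normal] (J : Subgroup G) (hNJ : N ≤ J) {k : ℕ}
    (T : ∀ θ' : IrrCharacter (N.subgroupOf J),
      (∀ (x : J) (n : N.subgroupOf J), (θ' : N.subgroupOf J → ℂ)
        ⟨x * n * x⁻¹, (inferInstance : (N.subgroupOf J).Normal).conj_mem (n : J) n.2 x⟩ =
          (θ' : N.subgroupOf J → ℂ) n) →
      (∀ n : N.subgroupOf J, (θ' : N.subgroupOf J → ℂ) (n ^ k) = (θ' : N.subgroupOf J → ℂ) n) →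
      ∃ ξ : IrrCharacter J, (∀ x : N.subgroupOf J, (ξ : J → ℂ) x = (θ' : N.subgroupOf J → ℂ) x) ∧
        ∀ x : J, (ξ : J → ℂ) (x ^ k) = (ξ : J → ℂ) x)
    (θ : IrrCharacter N)
    (hinv : ∀ (g : G) (n : N),
      (θ : N → ℂ) ⟨g * n * g⁻¹, hN.conj_mem (n : G) n.2 g⟩ = (θ : N → ℂ) n)
    (hθ : ∀ n : N, (θ : N → ℂ) (n ^ k) = (θ : N → ℂ) n) :
    ∃ ξ : IrrCharacter J, (∀ n : N, (ξ : J → ℂ) ⟨n, hNJ n.2⟩ = (θ : N → ℂ) n) ∧
      ∀ x : J, (ξ : J → ℂ) (x ^ k) = (ξ : J → ℂ) x := by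
  set e : N.subgroupOf J ≃* N := Subgroup.subgroupOfEquivOfLe hNJ with he
  obtain ⟨ξ, hξθ, hξ⟩ := T ⟨(θ : N → ℂ) ∘ e, isIrrCharacter_comp_equiv e θ.2⟩
    (by
      intro x n
      show (θ : N → ℂ) (e _) = (θ : N → ℂ) (e n)
      rw [← hinv (x : G) (e n)]
      congr 1)
    (by
      intro n
      show (θ : N → ℂ) (e (n ^ k)) = (θ : N → ℂ) (e n)
      rw [map_pow]
      exact hθ _)
  refine ⟨ξ, ?_, hξ⟩
  intro n
  have h1 := hξθ ⟨⟨n, hNJ n.2⟩, Subgroup.mem_subgroupOf.mpr n.2⟩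
  rw [h1]
  show (θ : N → ℂ) (e _) = _
  congr 1

/-- the relative cyclic step -/
theorem exists_fixed_extension_cyclic_rel (N : Subgroup G) [hN : N.Normal] (J : Subgroup G)
    (hNJ : N ≤ J) (hoddrel : Odd (N.subgroupOf J).index)
    (hcyc : IsCyclic (J ⧸ N.subgroupOf J)) {k e : ℕ}
    (hcop : Nat.Coprime (Nat.card G) k) (hpow : ∀ g : G, g ^ (k ^ 2 ^ e) = g)
    (θ : IrrCharacter N)
    (hinv : ∀ (g : G) (n : N),
      (θ : N → ℂ) ⟨g * n * g⁻¹, hN.conj_mem (n : G) n.2 g⟩ = (θ : N → ℂ) n)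
    (hθ : ∀ n : N, (θ : N → ℂ) (n ^ k) = (θ : N → ℂ) n) :
    ∃ ξ : IrrCharacter J, (∀ n : N, (ξ : J → ℂ) ⟨n, hNJ n.2⟩ = (θ : N → ℂ) n) ∧
      ∀ x : J, (ξ : J → ℂ) (x ^ k) = (ξ : J → ℂ) x := by
  classical
  letI : Fintype J := Fintype.ofFinite J
  letI : Fintype (N.subgroupOf J) := Fintype.ofFinite _
  apply relativize N J hNJ _ θ hinv hθ
  intro θ' hinv' hθ'
  exact exists_fixed_extension_cyclic (N.subgroupOf J) hoddrel hcyc (hcop_sub J hcop)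
    (hpow_sub J hpow) θ' hinv' hθ'

/-- relative uniqueness of `σ`-fixed extensions -/
theorem unique_rel (N : Subgroup G) [hN : N.Normal] (J : Subgroup G)
    (hNJ : N ≤ J) (hoddrel : Odd (N.subgroupOf J).index) {k : ℕ}
    (hcop : Nat.Coprime (Nat.card G) k)
    (hinvk : ∀ g : G, Odd (orderOf g) → g ^ k = g⁻¹)
    (θ : IrrCharacter N)
    (hinv : ∀ (g : G) (n : N),
      (θ : N → ℂ) ⟨g * n * g⁻¹, hN.conj_mem (n : G) n.2 g⟩ = (θ : N → ℂ) n)
    {ξ₁ ξ₂ : J → ℂ} (h₁ : IsIrrCharacter J ξ₁) (h₂ : IsIrrCharacter J ξ₂)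
    (he₁ : ∀ n : N, ξ₁ ⟨n, hNJ n.2⟩ = (θ : N → ℂ) n)
    (he₂ : ∀ n : N, ξ₂ ⟨n, hNJ n.2⟩ = (θ : N → ℂ) n)
    (hf₁ : ∀ x : J, ξ₁ (x ^ k) = ξ₁ x) (hf₂ : ∀ x : J, ξ₂ (x ^ k) = ξ₂ x) : ξ₂ = ξ₁ := by
  classical
  letI : Fintype J := Fintype.ofFinite J
  letI : Fintype (N.subgroupOf J) := Fintype.ofFinite _
  set e : N.subgroupOf J ≃* N := Subgroup.subgroupOfEquivOfLe hNJ with he
  have hθ' : IsIrrCharacter (N.subgroupOf J) ((θ : N → ℂ) ∘ e) :=
    isIrrCharacter_comp_equiv e θ.2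
  have hinv' : ∀ (x : J) (n : N.subgroupOf J), ((θ : N → ℂ) ∘ e)
      ⟨x * n * x⁻¹, (inferInstance : (N.subgroupOf J).Normal).conj_mem (n : J) n.2 x⟩ =
        ((θ : N → ℂ) ∘ e) n := by
    intro x n
    show (θ : N → ℂ) (e _) = (θ : N → ℂ) (e n)
    rw [← hinv (x : G) (e n)]
    congr 1
  have hext : ∀ (ξ : J → ℂ), (∀ n : N, ξ ⟨n, hNJ n.2⟩ = (θ : N → ℂ) n) →
      ∀ n : N.subgroupOf J, ξ n = ((θ : N → ℂ) ∘ e) n := by
    intro ξ hξ n
    have := hξ (e n)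
    rw [Function.comp_apply, ← this]
    congr 1
  apply unique_of_extension (N.subgroupOf J) hoddrel (hcop_sub J hcop) (hinv_sub J hinvk)
    hθ' hinv' h₁ (hext ξ₁ he₁) hf₁ h₂ _ hf₂
  have h3 : (fun n : N.subgroupOf J => ξ₂ n) = (θ : N → ℂ) ∘ e := funext (hext ξ₂ he₂)
  rw [h3]
  have := irr_orthogonality hθ' hθ'
  rw [if_pos rfl] at this
  rw [this]
  exact one_ne_zero

end Cfsg.Agent.Helper18.SigmaOdd
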