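import Mathlib
import Cfsg.Prelude.Def_Blocks
import Cfsg.Agent.Lib.Helper18.SigmaOdd3

/-!
# Characters fixed by a Galois automorphism of 2-power order over normal subgroups of odd index
(helper18's library), part 4: the chain argument
-/

set_option autoImplicit false
set_option linter.style.haveILetI false
set_option linter.unusedVariables false
set_option linter.unusedSectionVars false

namespace Cfsg.Agent.Helper18.SigmaOdd

open Cfsg Cfsg.Agent.Helper24 Cfsg.Agent.Helper5 Cfsg.Agent.Helper23.Blk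
open scoped ComplexConjugate

universe u

variable {G : Type u} [Group G] [Fintype G]

/-- the chain argument: quotient a group of odd prime power order -/
theorem exists_fixed_extension_qgroup (q : ℕ) [hq : Fact q.Prime] {k e : ℕ}
    (hcop : Nat.Coprime (Nat.card G) k) (hpow : ∀ g : G, g ^ (k ^ 2 ^ e) = g)
    (hinvk : ∀ g : G, Odd (orderOf g) → g ^ k = g⁻¹) (a : ℕ) :
    ∀ (N : Subgroup G) [hN : N.Normal], N.index = q ^ a → Odd N.index →
      ∀ θ : IrrCharacter N,
        (∀ (g : G) (n : N),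
          (θ : N → ℂ) ⟨g * n * g⁻¹, hN.conj_mem (n : G) n.2 g⟩ = (θ : N → ℂ) n) →
        (∀ n : N, (θ : N → ℂ) (n ^ k) = (θ : N → ℂ) n) →
        ∃ χ : IrrCharacter G, (∀ n : N, (χ : G → ℂ) n = (θ : N → ℂ) n) ∧
          ∀ g : G, (χ : G → ℂ) (g ^ k) = (χ : G → ℂ) g := by
  classical
  induction a with
  | zero =>
    intro N hN hidx hodd θ hinv hθ
    letI : Fintype N := Fintype.ofFinite N
    rw [pow_zero] at hidx
    have hcard : Nat.card (G ⧸ N) = 1 := by rw [← Subgroup.index_eq_card]; exact hidx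
    haveI : Subsingleton (G ⧸ N) := (Nat.card_eq_one_iff_unique.1 hcard).1
    exact exists_fixed_extension_cyclic N hodd isCyclic_of_subsingleton hcop hpow θ hinv hθ
  | succ a ih =>
    intro N hN hidx hodd θ hinv hθ
    have hcard : Nat.card (G ⧸ N) = q ^ (a + 1) := by rw [← Subgroup.index_eq_card]; exact hidx
    have hpg : IsPGroup q (G ⧸ N) := IsPGroup.of_card hcard
    haveI : Nontrivial (G ⧸ N) := by
      rw [← Finite.one_lt_card_iff_nontrivial, hcard]
      exact Nat.one_lt_pow (Nat.succ_ne_zero a) hq.out.one_lt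
    haveI hcn : Nontrivial (Subgroup.center (G ⧸ N)) := hpg.center_nontrivial
    have hqc : q ∣ Nat.card (Subgroup.center (G ⧸ N)) := by
      obtain ⟨j, hj⟩ := (hpg.to_subgroup (Subgroup.center (G ⧸ N))).exists_card_eq
      rw [hj]
      have hj0 : j ≠ 0 := by
        intro h0
        rw [h0, pow_zero] at hj
        have := Finite.one_lt_card_iff_nontrivial.2 hcn
        omega
      exact dvd_pow_self q hj0
    obtain ⟨z, hz⟩ := exists_prime_orderOf_dvd_card' q hqc
    set zc : G ⧸ N := (z : G ⧸ N) with hzc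
    have hzcord : orderOf zc = q := by rw [hzc, Subgroup.orderOf_coe]; exact hz
    set Z : Subgroup (G ⧸ N) := Subgroup.zpowers zc with hZ
    have hZc : Z ≤ Subgroup.center (G ⧸ N) := Subgroup.zpowers_le.2 z.2
    haveI hZn : Z.Normal := by
      constructor
      intro x hx g
      have h1 := hZc hx
      rw [Subgroup.mem_center_iff] at h1
      rw [h1 g, mul_inv_cancel_right]
      exact hx
    set N₁ : Subgroup G := Z.comap (QuotientGroup.mk' N) with hN₁
    haveI hN₁n : N₁.Normal := hZn.comap _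
    have hNN₁ : N ≤ N₁ := by
      intro n hn
      rw [hN₁, Subgroup.mem_comap]
      have : QuotientGroup.mk' N n = 1 := by
        rw [QuotientGroup.mk'_apply, QuotientGroup.eq_one_iff]
        exact hn
      rw [this]
      exact Z.one_mem
    have hcardZ : Nat.card Z = q := by rw [hZ, Nat.card_zpowers, hzcord]
    have hidx₁ : N₁.index = q ^ a := by
      rw [hN₁, Subgroup.index_comap_of_surjective _ (QuotientGroup.mk'_surjective N)]
      have h1 := Subgroup.card_mul_index Z
      rw [hcardZ, hcard, pow_succ, mul_comm] at h1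
      exact Nat.eq_of_mul_eq_mul_right hq.out.pos h1
    have hqodd : Odd q := by
      rw [hidx] at hodd
      exact Nat.Odd.of_mul_right (by rw [pow_succ] at hodd; exact hodd)
    have hodd₁ : Odd N₁.index := by rw [hidx₁]; exact hqodd.pow
    have hrel : (N.subgroupOf N₁).index = q := by
      have h1 : N.relIndex N₁ * N₁.index = N.index := Subgroup.relIndex_mul_index hNN₁
      rw [hidx, hidx₁, pow_succ, mul_comm] at h1
      have h2 : 0 < q ^ a := pow_pos hq.out.pos a
      exact Nat.eq_of_mul_eq_mul_left h2 h1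
    have hoddrel : Odd (N.subgroupOf N₁).index := by rw [hrel]; exact hqodd
    -- the quotient `N₁ / N` is cyclic
    obtain ⟨g₀, hg₀⟩ := QuotientGroup.mk_surjective zc
    have hg₀N₁ : g₀ ∈ N₁ := by
      rw [hN₁, Subgroup.mem_comap, QuotientGroup.mk'_apply, hg₀]
      exact Subgroup.mem_zpowers zc
    have hcyc : IsCyclic (N₁ ⧸ N.subgroupOf N₁) := by
      refine ⟨⟨QuotientGroup.mk (⟨g₀, hg₀N₁⟩ : N₁), ?_⟩⟩
      intro x'
      obtain ⟨x, rfl⟩ := QuotientGroup.mk_surjective x'
      have hx : QuotientGroup.mk' N (x : G) ∈ Z := x.2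
      rw [hZ, Subgroup.mem_zpowers_iff] at hx
      obtain ⟨i, hi⟩ := hx
      refine ⟨i, ?_⟩
      show (QuotientGroup.mk (⟨g₀, hg₀N₁⟩ : N₁) : N₁ ⧸ N.subgroupOf N₁) ^ i = QuotientGroup.mk x
      rw [← QuotientGroup.mk_zpow, QuotientGroup.eq, Subgroup.mem_subgroupOf]
      have h2 : (((⟨g₀, hg₀N₁⟩ : N₁) ^ i)⁻¹ * x : N₁) = (g₀ ^ i)⁻¹ * (x : G) := by
        push_cast
        rfl
      rw [h2, ← QuotientGroup.eq, QuotientGroup.mk_zpow, hg₀, hi]
      rfl
    obtain ⟨ξ, hξθ, hξ⟩ := exists_fixed_extension_cyclic_rel N N₁ hNN₁ hoddrel hcyc hcop hpow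
      θ hinv hθ
    -- `ξ` is `G`-invariant
    have hξinv : ∀ (g : G) (x : N₁),
        (ξ : N₁ → ℂ) ⟨g * x * g⁻¹, hN₁n.conj_mem (x : G) x.2 g⟩ = (ξ : N₁ → ℂ) x := by
      intro g x
      have h1 : Helper5.conjFun N₁ g (ξ : N₁ → ℂ) = (ξ : N₁ → ℂ) := by
        apply unique_rel N N₁ hNN₁ hoddrel hcop hinvk θ hinv ξ.2
          (Helper5.isIrrCharacter_conjFun N₁ g ξ.2) hξθ _ hξ _
        · intro n
          rw [Helper5.conjFun_apply]
          have h2 := hξθ ⟨g * n * g⁻¹, hN.conj_mem (n : G) n.2 g⟩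
          rw [hinv g n] at h2
          rw [← h2]
        · intro y
          rw [Helper5.conjFun_apply, Helper5.conjFun_apply]
          have h3 : (⟨g * ((y ^ k : N₁) : G) * g⁻¹,
              hN₁n.conj_mem ((y ^ k : N₁) : G) (y ^ k).2 g⟩ : N₁) =
              (⟨g * (y : G) * g⁻¹, hN₁n.conj_mem (y : G) y.2 g⟩ : N₁) ^ k := by
            apply Subtype.ext
            show g * ((y ^ k : N₁) : G) * g⁻¹ =
              (((⟨g * (y : G) * g⁻¹, hN₁n.conj_mem (y : G) y.2 g⟩ : N₁) ^ k : N₁) : G)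
            rw [SubgroupClass.coe_pow, SubgroupClass.coe_pow, conj_pow]
          rw [h3]
          exact hξ _
      have h4 := congrFun h1 x
      rw [Helper5.conjFun_apply] at h4
      exact h4
    obtain ⟨χ, hχξ, hχ⟩ := ih N₁ hidx₁ hodd₁ ξ hξinv hξ
    refine ⟨χ, ?_, hχ⟩
    intro n
    rw [← hξθ n]
    exact hχξ ⟨n, hNN₁ n.2⟩

end Cfsg.Agent.Helper18.SigmaOdd
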