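import Mathlib
import Cfsg.Prelude.Def_Blocks
import Cfsg.Agent.Lib.Helper18.SigmaOdd4
import Cfsg.Agent.Lib.Helper5.ExtendSylow

/-!
# Characters fixed by a Galois automorphism of 2-power order over normal subgroups of odd index
(helper18's library), part 5: the invariant case
-/

set_option autoImplicit false
set_option linter.style.haveILetI false
set_option linter.unusedVariables false
set_option linter.unusedSectionVars false

namespace Cfsg.Agent.Helper18.SigmaOdd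

open Cfsg Cfsg.Agent.Helper24 Cfsg.Agent.Helper5 Cfsg.Agent.Helper23.Blk
open scoped ComplexConjugate

universe u

variable {G : Type u} [Group G] [Fintype G]

/-- the relative chain argument -/
theorem exists_fixed_extension_qgroup_rel (N : Subgroup G) [hN : N.Normal] (J : Subgroup G)
    (hNJ : N ≤ J) (q : ℕ) [hq : Fact q.Prime] (a : ℕ)
    (hidx : (N.subgroupOf J).index = q ^ a) (hoddrel : Odd (N.subgroupOf J).index) {k e : ℕ}
    (hcop : Nat.Coprime (Nat.card G) k) (hpow : ∀ g : G, g ^ (k ^ 2 ^ e) = g)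
    (hinvk : ∀ g : G, Odd (orderOf g) → g ^ k = g⁻¹)
    (θ : IrrCharacter N)
    (hinv : ∀ (g : G) (n : N),
      (θ : N → ℂ) ⟨g * n * g⁻¹, hN.conj_mem (n : G) n.2 g⟩ = (θ : N → ℂ) n)
    (hθ : ∀ n : N, (θ : N → ℂ) (n ^ k) = (θ : N → ℂ) n) :
    ∃ ξ : IrrCharacter J, (∀ n : N, (ξ : J → ℂ) ⟨n, hNJ n.2⟩ = (θ : N → ℂ) n) ∧
      ∀ x : J, (ξ : J → ℂ) (x ^ k) = (ξ : J → ℂ) x := by
  classical
  letI : Fintype J := Fintype.ofFinite J
  apply relativize N J hNJ _ θ hinv hθ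
  intro θ' hinv' hθ'
  exact exists_fixed_extension_qgroup q (hcop_sub J hcop) (hpow_sub J hpow) (hinv_sub J hinvk) a
    (N.subgroupOf J) hidx hoddrel θ' hinv' hθ'

/-- an invariant character of a normal subgroup of odd index fixed by `σ` extends -/
theorem exists_extension (N : Subgroup G) [hN : N.Normal] (hodd : Odd N.index) {k e : ℕ}
    (hcop : Nat.Coprime (Nat.card G) k) (hpow : ∀ g : G, g ^ (k ^ 2 ^ e) = g)
    (hinvk : ∀ g : G, Odd (orderOf g) → g ^ k = g⁻¹)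
    (θ : IrrCharacter N)
    (hinv : ∀ (g : G) (n : N),
      (θ : N → ℂ) ⟨g * n * g⁻¹, hN.conj_mem (n : G) n.2 g⟩ = (θ : N → ℂ) n)
    (hθ : ∀ n : N, (θ : N → ℂ) (n ^ k) = (θ : N → ℂ) n) :
    ∃ χ : IrrCharacter G, ∀ n : N, (χ : G → ℂ) n = (θ : N → ℂ) n := by
  classical
  letI : Fintype N := Fintype.ofFinite N
  obtain ⟨d, ρ, hρ, hρθ⟩ := θ.2
  have hinvρ : ∀ (g : G) (n : N), ρ.character (MulAut.conjNormal g n) = ρ.character n := by
    intro g n
    rw [hρθ]
    exact hinv g n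
  have hex : ∃ R : Representation ℂ G (Fin d → ℂ), ∀ n : N, R (n : G) = ρ n := by
    apply exists_extension_of_sylow N ρ hρ hinvρ
    intro q hq
    haveI : Fact q.Prime := ⟨hq⟩
    obtain ⟨S⟩ : Nonempty (Sylow q (G ⧸ N)) := inferInstance
    set J : Subgroup G := (S : Subgroup (G ⧸ N)).comap (QuotientGroup.mk' N) with hJ
    have hNJ : N ≤ J := by
      intro n hn
      rw [hJ, Subgroup.mem_comap]
      have : QuotientGroup.mk' N n = 1 := by
        rw [QuotientGroup.mk'_apply, QuotientGroup.eq_one_iff]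
        exact hn
      rw [this]
      exact Subgroup.one_mem _
    have hJidx : J.index = (S : Subgroup (G ⧸ N)).index := by
      rw [hJ, Subgroup.index_comap_of_surjective _ (QuotientGroup.mk'_surjective N)]
    have hcopq : Nat.Coprime J.index q := by
      rw [hJidx]
      exact ((Nat.Prime.coprime_iff_not_dvd hq).2 (Sylow.not_dvd_index S)).symm
    have h1 : N.relIndex J * J.index = N.index := Subgroup.relIndex_mul_index hNJ
    have hrel : (N.subgroupOf J).index = q ^ (Nat.card (G ⧸ N)).factorization q := by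
      have h2 := Subgroup.card_mul_index (S : Subgroup (G ⧸ N))
      rw [← Subgroup.index_eq_card, ← hJidx] at h2
      have h3 : N.relIndex J * J.index = Nat.card (S : Subgroup (G ⧸ N)) * J.index := by
        rw [h1, h2]
      have hJ0 : J.index ≠ 0 := Subgroup.index_ne_zero_of_finite
      have h4 := Nat.eq_of_mul_eq_mul_right (Nat.pos_of_ne_zero hJ0) h3
      rw [← Sylow.card_eq_multiplicity S]
      exact h4
    have hoddrel : Odd (N.subgroupOf J).index := by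
      have h5 : Odd (N.relIndex J * J.index) := by rw [h1]; exact hodd
      exact (Nat.odd_mul.1 h5).1
    obtain ⟨ξ, hξθ, -⟩ := exists_fixed_extension_qgroup_rel N J hNJ q _ hrel hoddrel hcop hpow
      hinvk θ hinv hθ
    obtain ⟨R, hR⟩ := Cfsg.Agent.Helper18.AlperinDade.exists_rep_of_char_ext N J hNJ ρ hρ ξ.2
      (by intro n; rw [hξθ, hρθ])
    exact ⟨J, hNJ, R, hcopq, hR⟩
  obtain ⟨R, hR⟩ := hex
  have hirr : R.IsIrreducible := isIrreducible_of_restrict N ρ hρ R hR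
  refine ⟨⟨R.character, ⟨d, R, hirr, rfl⟩⟩, ?_⟩
  intro n
  show R.character n = _
  rw [← hρθ]
  unfold Representation.character
  rw [hR n]

/-- **Invariant case**: an invariant `σ`-fixed character of a normal subgroup of odd index has a
`σ`-fixed extension. -/
theorem exists_fixed_extension (N : Subgroup G) [hN : N.Normal] (hodd : Odd N.index) {k e : ℕ}
    (hcop : Nat.Coprime (Nat.card G) k) (hpow : ∀ g : G, g ^ (k ^ 2 ^ e) = g)
    (hinvk : ∀ g : G, Odd (orderOf g) → g ^ k = g⁻¹)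
    (θ : IrrCharacter N)
    (hinv : ∀ (g : G) (n : N),
      (θ : N → ℂ) ⟨g * n * g⁻¹, hN.conj_mem (n : G) n.2 g⟩ = (θ : N → ℂ) n)
    (hθ : ∀ n : N, (θ : N → ℂ) (n ^ k) = (θ : N → ℂ) n) :
    ∃ χ : IrrCharacter G, (∀ n : N, (χ : G → ℂ) n = (θ : N → ℂ) n) ∧
      ∀ g : G, (χ : G → ℂ) (g ^ k) = (χ : G → ℂ) g := by
  classical
  letI : Fintype N := Fintype.ofFinite N
  obtain ⟨χ₀, hext₀⟩ := exists_extension N hodd hcop hpow hinvk θ hinv hθ
  -- the twist of `χ₀` is `μ * χ₀` with `μ` linear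
  have hψ : IsIrrCharacter G (fun g => (χ₀ : G → ℂ) (g ^ k)) := isIrrCharacter_comp_pow χ₀.2 hcop
  have hψext : ∀ n : N, (fun g => (χ₀ : G → ℂ) (g ^ k)) n = (θ : N → ℂ) n := by
    intro n
    show (χ₀ : G → ℂ) ((n : G) ^ k) = _
    rw [← SubgroupClass.coe_pow, hext₀, hθ]
  have hover : classInner (fun n : N => (fun g => (χ₀ : G → ℂ) (g ^ k)) n) (θ : N → ℂ) ≠ 0 := by
    rw [funext hψext]
    have := irr_orthogonality θ.2 θ.2
    rw [if_pos rfl] at this
    rw [this]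
    exact one_ne_zero
  obtain ⟨μ, hμ, hker, hψμ⟩ := gallagher_surj N θ.2 hinv χ₀.2 hext₀ hψ hover
  have hμc := isCharacter_of_isIrrCharacter hμ
  obtain ⟨d₀, hd₀, hd₀1⟩ := irr_one_eq χ₀.2
  have hμ1 : μ 1 = 1 := by
    have h1 := congrFun hψμ 1
    simp only [Pi.mul_apply, one_pow] at h1
    have h2 : (χ₀ : G → ℂ) 1 ≠ 0 := by
      rw [hd₀1]
      exact_mod_cast hd₀.ne'
    have h3 : (1 : ℂ) * (χ₀ : G → ℂ) 1 = μ 1 * (χ₀ : G → ℂ) 1 := by rw [one_mul]; exact h1
    exact (mul_right_cancel₀ h2 h3).symm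
  set f : G →* ℂˣ := linHom hμc hμ1 with hf
  have hfμ : ∀ g : G, ((f g : ℂˣ) : ℂ) = μ g := fun g => linHom_apply hμc hμ1 g
  have hfN : ∀ n ∈ N, f n = 1 := by
    intro n hn
    apply Units.ext
    rw [hfμ, hker n hn, hμ1]
    rfl
  obtain ⟨j, hj⟩ : ∃ j : ℕ, N.index + 1 = 2 * j := by
    obtain ⟨c, hc⟩ := hodd
    exact ⟨c + 1, by omega⟩
  set lam : G →* ℂˣ := f ^ j with hlam
  have hlamN : ∀ n ∈ N, lam n = 1 := by
    intro n hn
    rw [hlam, MonoidHom.pow_apply, hfN n hn, one_pow]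
  have hsq : ∀ g : G, lam g * lam g = f g := by
    intro g
    rw [hlam, MonoidHom.pow_apply, ← pow_add, ← two_mul, ← hj, pow_succ, ← map_pow,
      hfN _ (N.pow_index_mem g), one_mul]
  have hlaminv : ∀ g : G, lam (g ^ k) = (lam g)⁻¹ := by
    intro g
    have h1 : lam (g ^ k * g) = 1 := hlamN _ (pow_mul_mem N hodd hinvk g)
    rw [map_mul] at h1
    exact eq_inv_of_mul_eq_one_left h1
  refine ⟨⟨fun g => ((lam g : ℂˣ) : ℂ) * (χ₀ : G → ℂ) g, isIrrCharacter_twist lam χ₀.2⟩, ?_, ?_⟩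
  · intro n
    show ((lam (n : G) : ℂˣ) : ℂ) * (χ₀ : G → ℂ) n = _
    rw [hlamN n n.2, hext₀]
    simp
  · intro g
    show ((lam (g ^ k) : ℂˣ) : ℂ) * (χ₀ : G → ℂ) (g ^ k) = ((lam g : ℂˣ) : ℂ) * (χ₀ : G → ℂ) g
    have h1 : (χ₀ : G → ℂ) (g ^ k) = μ g * (χ₀ : G → ℂ) g := congrFun hψμ g
    rw [h1, hlaminv, ← hfμ, ← hsq g]
    push_cast
    have hne : ((lam g : ℂˣ) : ℂ) ≠ 0 := Units.ne_zero _
    field_simp

end Cfsg.Agent.Helper18.SigmaOdd
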