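import Mathlib
import Cfsg.Prelude.Def_Blocks
import Cfsg.Agent.Lib.Helper18.SigmaOdd5

/-!
# Characters fixed by a Galois automorphism of 2-power order over normal subgroups of odd index
(helper18's library), part 6: the general case through the Clifford correspondence
-/

set_option autoImplicit false
set_option linter.style.haveILetI false
set_option linter.unusedVariables false
set_option linter.unusedSectionVars false

namespace Cfsg.Agent.Helper18.SigmaOdd

open Cfsg Cfsg.Agent.Helper24 Cfsg.Agent.Helper5 Cfsg.Agent.Helper23.Blk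
open scoped ComplexConjugate

universe u

variable {G : Type u} [Group G] [Fintype G]

/-- induction commutes with the power twist -/
theorem indFun_comp_pow (H : Subgroup G) (ψ : H → ℂ) {j : ℕ}
    (hj : Nat.Coprime (Nat.card G) j) (g : G) :
    indFun H (fun h => ψ (h ^ j)) g = indFun H ψ (g ^ j) := by
  rw [indFun_apply, indFun_apply]
  congr 1
  refine Finset.sum_congr rfl fun x _ => ?_
  have h1 : x⁻¹ * g ^ j * x = (x⁻¹ * g * x) ^ j := by
    have := conj_pow (a := x⁻¹) (b := g) (i := j)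
    rw [inv_inv] at this
    exact this.symm
  rw [h1]
  by_cases hy : x⁻¹ * g * x ∈ H
  · rw [Helper24.extendByZero_of_mem H _ (H.pow_mem hy j), Helper24.extendByZero_of_mem H _ hy]
    rfl
  · rw [Helper24.extendByZero_of_not_mem H _ hy, Helper24.extendByZero_of_not_mem]
    intro h
    apply hy
    have hcop : Nat.Coprime j (orderOf (x⁻¹ * g * x)) :=
      (Nat.Coprime.coprime_dvd_left (orderOf_dvd_natCard _) hj).symm
    obtain ⟨m, hm⟩ := exists_pow_eq_self_of_coprime hcop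
    rw [← hm]
    exact H.pow_mem h m

/-- the Clifford correspondent of a `σ`-fixed character over a `σ`-fixed character is `σ`-fixed -/
theorem correspondent_fixed (N T : Subgroup G) [hN : N.Normal] [Fintype N] [Fintype T]
    (hNT : N ≤ T) {k : ℕ} (hcop : Nat.Coprime (Nat.card G) k) {θ : N → ℂ}
    (hθ : IsIrrCharacter N θ) (hT : inertia N θ ≤ T)
    (hθk : ∀ n : N, θ (n ^ k) = θ n)
    {ψ : T → ℂ} (hψ : IsIrrCharacter T ψ) (hf : classInner (resFun hNT ψ) θ ≠ 0)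
    (hfix : ∀ g : G, indFun T ψ (g ^ k) = indFun T ψ g) :
    ∀ t : T, ψ (t ^ k) = ψ t := by
  classical
  have hψ' : IsIrrCharacter T (fun t => ψ (t ^ k)) := isIrrCharacter_comp_pow hψ (hcop_sub T hcop)
  have hf' : classInner (resFun hNT (fun t => ψ (t ^ k))) θ ≠ 0 := by
    have h1 : resFun hNT (fun t => ψ (t ^ k)) = fun n : N => (resFun hNT ψ) (n ^ k) := by
      funext n
      rfl
    have h2 : θ = fun n : N => θ (n ^ k) := by
      funext n
      exact (hθk n).symm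
    rw [h1]
    conv_lhs => rw [h2]
    rw [classInner_comp_pow _ _ (hcop_sub N hcop)]
    exact hf
  have hind : indFun T (fun t => ψ (t ^ k)) = indFun T ψ := by
    funext g
    rw [indFun_comp_pow T ψ hcop g]
    exact hfix g
  have := clifford_induce_inj N T hNT hθ hT hψ' hψ hf' hf hind
  intro t
  exact congrFun this t

/-- uniqueness of the `σ`-fixed irreducible character over a `σ`-fixed character -/
theorem unique_fixed_over (N : Subgroup G) [hN : N.Normal] [Fintype N]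
    (hodd : Odd N.index) {k e : ℕ} (hcop : Nat.Coprime (Nat.card G) k)
    (hpow : ∀ g : G, g ^ (k ^ 2 ^ e) = g)
    (hinvk : ∀ g : G, Odd (orderOf g) → g ^ k = g⁻¹)
    (θ : IrrCharacter N) (hθ : ∀ n : N, (θ : N → ℂ) (n ^ k) = (θ : N → ℂ) n)
    {χ₁ χ₂ : G → ℂ} (h₁ : IsIrrCharacter G χ₁) (h₂ : IsIrrCharacter G χ₂)
    (ho₁ : classInner (fun n : N => χ₁ n) (θ : N → ℂ) ≠ 0)
    (ho₂ : classInner (fun n : N => χ₂ n) (θ : N → ℂ) ≠ 0)
    (hf₁ : ∀ g : G, χ₁ (g ^ k) = χ₁ g) (hf₂ : ∀ g : G, χ₂ (g ^ k) = χ₂ g) : χ₁ = χ₂ := by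
  classical
  set T : Subgroup G := inertia N (θ : N → ℂ) with hTdef
  have hNT : N ≤ T := le_inertia N (isClassFunction_of_isIrrCharacter θ.2)
  letI : Fintype T := Fintype.ofFinite T
  letI : Fintype (N.subgroupOf T) := Fintype.ofFinite _
  obtain ⟨ψ₁, hψ₁, hψθ₁, hind₁⟩ := clifford_induce_exists N T hNT θ.2 le_rfl h₁ ho₁
  obtain ⟨ψ₂, hψ₂, hψθ₂, hind₂⟩ := clifford_induce_exists N T hNT θ.2 le_rfl h₂ ho₂
  have hfix₁ : ∀ t : T, ψ₁ (t ^ k) = ψ₁ t :=
    correspondent_fixed N T hNT hcop θ.2 le_rfl hθ hψ₁ hψθ₁ (by rw [hind₁]; exact hf₁)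
  have hfix₂ : ∀ t : T, ψ₂ (t ^ k) = ψ₂ t :=
    correspondent_fixed N T hNT hcop θ.2 le_rfl hθ hψ₂ hψθ₂ (by rw [hind₂]; exact hf₂)
  -- the situation inside `T`
  have hθ' : IsIrrCharacter (N.subgroupOf T) (thetaSub N T hNT (θ : N → ℂ)) :=
    isIrrCharacter_comp_equiv _ θ.2
  have hinv' : ∀ (t : T) (n : N.subgroupOf T), (thetaSub N T hNT (θ : N → ℂ))
      ⟨t * n * t⁻¹, (inferInstance : (N.subgroupOf T).Normal).conj_mem (n : T) n.2 t⟩ =
        (thetaSub N T hNT (θ : N → ℂ)) n := by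
    intro t n
    rw [thetaSub_apply, thetaSub_apply]
    have ht : Helper5.conjFun N (t : G) (θ : N → ℂ) = (θ : N → ℂ) := t.2
    have h1 := congrFun ht ⟨((n : T) : G), Subgroup.mem_subgroupOf.mp n.2⟩
    rw [Helper5.conjFun_apply] at h1
    exact h1
  have hθk' : ∀ n : N.subgroupOf T, (thetaSub N T hNT (θ : N → ℂ)) (n ^ k) =
      (thetaSub N T hNT (θ : N → ℂ)) n := by
    intro n
    rw [thetaSub_apply, thetaSub_apply]
    exact hθ ⟨((n : T) : G), Subgroup.mem_subgroupOf.mp n.2⟩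
  have hoddT : Odd (N.subgroupOf T).index := by
    have h1 : (N.subgroupOf T).index = N.relIndex T := rfl
    rw [h1]
    have h2 := Subgroup.relIndex_mul_index hNT
    rw [← h2] at hodd
    exact (Nat.odd_mul.mp hodd).1
  obtain ⟨ξ, hξext, hξfix⟩ := exists_fixed_extension (N.subgroupOf T) hoddT (hcop_sub T hcop)
    (hpow_sub T hpow) (hinv_sub T hinvk) ⟨_, hθ'⟩ hinv' hθk'
  have hov₁ : classInner (fun n : N.subgroupOf T => ψ₁ n) (thetaSub N T hNT (θ : N → ℂ)) ≠ 0 := by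
    rw [classInner_thetaSub]
    exact hψθ₁
  have hov₂ : classInner (fun n : N.subgroupOf T => ψ₂ n) (thetaSub N T hNT (θ : N → ℂ)) ≠ 0 := by
    rw [classInner_thetaSub]
    exact hψθ₂
  have e₁ : ψ₁ = (ξ : T → ℂ) :=
    unique_of_extension (N.subgroupOf T) hoddT (hcop_sub T hcop) (hinv_sub T hinvk) hθ' hinv'
      ξ.2 hξext hξfix hψ₁ hov₁ hfix₁
  have e₂ : ψ₂ = (ξ : T → ℂ) :=
    unique_of_extension (N.subgroupOf T) hoddT (hcop_sub T hcop) (hinv_sub T hinvk) hθ' hinv'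
      ξ.2 hξext hξfix hψ₂ hov₂ hfix₂
  rw [← hind₁, ← hind₂, e₁, e₂]

/-- the `σ`-fixed character over a `σ`-fixed character of a normal subgroup of odd index -/
theorem main (N : Subgroup G) [hN : N.Normal] [Fintype N] (hidx : Odd N.index) (k e : ℕ)
    (hk : Nat.Coprime k (Nat.card G)) (hke : k ^ (2 ^ e) ≡ 1 [MOD Nat.card G])
    (hk₂ : ∀ g : G, Odd (orderOf g) → g ^ k = g⁻¹) (θ : IrrCharacter N)
    (hθ : ∀ n : N, (θ : N → ℂ) (n ^ k) = (θ : N → ℂ) n) :
    ∃ χ : IrrCharacter G, (classInner (fun n : N => (χ : G → ℂ) n) (θ : N → ℂ) ≠ 0 ∧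
      (∀ g : G, (χ : G → ℂ) (g ^ k) = (χ : G → ℂ) g) ∧
      ((∀ g : G, ∀ n : N, (θ : N → ℂ) ⟨g * n * g⁻¹, hN.conj_mem n n.2 g⟩ = (θ : N → ℂ) n) →
        ∀ n : N, (χ : G → ℂ) n = (θ : N → ℂ) n)) ∧
      ∀ χ' : IrrCharacter G, classInner (fun n : N => (χ' : G → ℂ) n) (θ : N → ℂ) ≠ 0 →
        (∀ g : G, (χ' : G → ℂ) (g ^ k) = (χ' : G → ℂ) g) → χ' = χ := by
  classical
  have hcop : Nat.Coprime (Nat.card G) k := hk.symm
  have hpow : ∀ g : G, g ^ (k ^ 2 ^ e) = g := by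
    intro g
    have h1 : k ^ 2 ^ e ≡ 1 [MOD orderOf g] := hke.of_dvd (orderOf_dvd_natCard g)
    have h2 := pow_eq_pow_iff_modEq.mpr h1
    rw [h2, pow_one]
  obtain ⟨χ, hover, hfix⟩ := exists_fixed_over N hidx hcop hpow θ hθ
  refine ⟨χ, ⟨hover, hfix, ?_⟩, ?_⟩
  · intro hinv
    obtain ⟨χ₀, hext, hfix₀⟩ := exists_fixed_extension N hidx hcop hpow hk₂ θ hinv hθ
    have ho₀ : classInner (fun n : N => (χ₀ : G → ℂ) n) (θ : N → ℂ) ≠ 0 := by
      have h3 : (fun n : N => (χ₀ : G → ℂ) n) = (θ : N → ℂ) := funext hext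
      rw [h3]
      have := irr_orthogonality θ.2 θ.2
      rw [if_pos rfl] at this
      rw [this]
      exact one_ne_zero
    have heq : (χ : G → ℂ) = (χ₀ : G → ℂ) :=
      unique_fixed_over N hidx hcop hpow hk₂ θ hθ χ.2 χ₀.2 hover ho₀ hfix hfix₀
    intro n
    rw [heq]
    exact hext n
  · intro χ' hover' hfix'
    apply Subtype.ext
    exact unique_fixed_over N hidx hcop hpow hk₂ θ hθ χ'.2 χ.2 hover' hover hfix' hfix

end Cfsg.Agent.Helper18.SigmaOdd
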