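import Mathlib
import Cfsg.Prelude.Def_Blocks
import Cfsg.Agent.Lib.Helper18.SigmaOdd6
import Cfsg.Agent.Lib.Helper18.BlockCover
import Cfsg.Agent.Lib.Helper23.BlockFirstMain
import Cfsg.Agent.Lib.Helper23.BlockHeightZero

/-!
# Characters fixed by a Galois automorphism of 2-power order over normal subgroups of odd index
(helper18's library), part 7: parity of block parts of induced characters
-/

set_option autoImplicit false
set_option linter.style.haveILetI false
set_option linter.unusedVariables false
set_option linter.unusedSectionVars false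

namespace Cfsg.Agent.Helper18.SigmaOdd

open Cfsg Cfsg.Agent.Helper24 Cfsg.Agent.Helper5 Cfsg.Agent.Helper23.Blk
open scoped ComplexConjugate

universe u

/-- a self-map of `2`-power order: the number of points is congruent to the number of fixed
points modulo `2` -/
theorem card_modEq_card_fixed {X : Type*} [Fintype X] [DecidableEq X] (f : X → X) (e : ℕ)
    (hf : ∀ x, f^[2 ^ e] x = x) :
    Fintype.card X ≡ Fintype.card (Function.fixedPoints f) [MOD 2] := by
  haveI : Fact (Nat.Prime 2) := ⟨Nat.prime_two⟩
  let F : Function.End X := f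
  have hF : F ^ 2 ^ e = 1 := by
    have hcoe : ((F ^ 2 ^ e : Function.End X) : X → X) = f^[2 ^ e] :=
      hom_coe_pow (fun g : Function.End X ↦ (g : X → X)) rfl (fun g h ↦ rfl) F (2 ^ e)
    have hid : ((F ^ 2 ^ e : Function.End X) : X → X) = (id : X → X) := by
      rw [hcoe]
      funext x
      exact hf x
    exact hid
  exact Equiv.Perm.card_fixedPoints_modEq (p := 2) hF

variable {G : Type u} [Group G] [Fintype G]

section Parity

variable (N : Subgroup G) [hN : N.Normal] [Fintype N] {k e : ℕ}

/-- the parity of the sum of squares of the multiplicities over a `σ`-stable set of characters is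
the parity of the number of `σ`-fixed members of odd multiplicity -/
theorem sum_sq_modEq_card_fixed [Fintype (IrrCharacter G)] (hcop : Nat.Coprime (Nat.card G) k)
    (hpow : ∀ g : G, g ^ (k ^ 2 ^ e) = g) (B : Set (IrrCharacter G)) [DecidablePred (· ∈ B)]
    (hB : ∀ χ ∈ B, powTwist hcop χ ∈ B) (θ : IrrCharacter N)
    (hθ : ∀ n : N, (θ : N → ℂ) (n ^ k) = (θ : N → ℂ) n) (m : IrrCharacter G → ℕ)
    (hm : ∀ χ : IrrCharacter G, classInner (fun n : N => (χ : G → ℂ) n) (θ : N → ℂ) = m χ) :
    (∑ χ ∈ Finset.univ.filter (· ∈ B), m χ ^ 2) ≡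
      (Finset.univ.filter (fun χ : IrrCharacter G =>
        χ ∈ B ∧ Odd (m χ) ∧ powTwist hcop χ = χ)).card [MOD 2] := by
  classical
  have hcopN : Nat.Coprime (Nat.card N) k :=
    Nat.Coprime.coprime_dvd_left (Subgroup.card_subgroup_dvd_card N) hcop
  have hmtw : ∀ χ : IrrCharacter G, m (powTwist hcop χ) = m χ := by
    intro χ
    have h1 : classInner (fun n : N => (powTwist hcop χ : G → ℂ) n) (θ : N → ℂ) =
        classInner (fun n : N => (χ : G → ℂ) n) (θ : N → ℂ) := by
      have h2 : (θ : N → ℂ) = fun n : N => (θ : N → ℂ) (n ^ k) := by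
        funext n
        exact (hθ n).symm
      conv_lhs => rw [h2]
      exact classInner_comp_pow (fun n : N => (χ : G → ℂ) n) (θ : N → ℂ) hcopN
    rw [hm, hm] at h1
    exact_mod_cast h1
  -- the first congruence
  have h7 : (∑ χ ∈ Finset.univ.filter (· ∈ B), m χ ^ 2) ≡
      (Finset.univ.filter (fun χ : IrrCharacter G => χ ∈ B ∧ Odd (m χ))).card [MOD 2] := by
    rw [← ZMod.natCast_eq_natCast_iff, Finset.natCast_card_filter, Finset.sum_filter]
    push_cast
    apply Finset.sum_congr rfl
    intro χ _
    by_cases hb : χ ∈ B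
    · by_cases ho : Odd (m χ)
      · rw [if_pos hb, if_pos ⟨hb, ho⟩, ZMod.natCast_eq_one_iff_odd.2 ho, one_pow]
      · rw [if_pos hb, if_neg (fun h => ho h.2),
          ZMod.natCast_eq_zero_iff_even.2 (Nat.not_odd_iff_even.1 ho)]
        norm_num
    · rw [if_neg hb, if_neg (fun h => hb h.1)]
  refine h7.trans ?_
  -- the action of `σ`
  let Y := {χ : IrrCharacter G // χ ∈ B ∧ Odd (m χ)}
  let f : Y → Y := fun χ => ⟨powTwist hcop χ.1, hB _ χ.2.1, by rw [hmtw]; exact χ.2.2⟩
  have hiter : ∀ (j : ℕ) (χ : Y) (g : G),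
      (((f^[j]) χ).1 : G → ℂ) g = ((χ.1 : IrrCharacter G) : G → ℂ) (g ^ k ^ j) := by
    intro j
    induction j with
    | zero =>
      intro χ g
      rw [Function.iterate_zero, pow_zero, pow_one]
      rfl
    | succ j ih =>
      intro χ g
      rw [Function.iterate_succ_apply']
      show (powTwist hcop ((f^[j]) χ).1 : G → ℂ) g = _
      rw [powTwist_apply, ih, ← pow_mul, pow_succ' k j]
  have hcong := card_modEq_card_fixed f e (by
    intro χ
    apply Subtype.ext
    apply Subtype.ext
    funext g
    rw [hiter, hpow])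
  have hc1 : Fintype.card Y =
      (Finset.univ.filter (fun χ : IrrCharacter G => χ ∈ B ∧ Odd (m χ))).card :=
    Fintype.card_subtype _
  have hc2 : Fintype.card (Function.fixedPoints f) =
      (Finset.univ.filter (fun χ : IrrCharacter G =>
        χ ∈ B ∧ Odd (m χ) ∧ powTwist hcop χ = χ)).card := by
    rw [← Fintype.card_subtype]
    apply Fintype.card_congr
    exact
      { toFun := fun y => ⟨y.1.1, y.1.2.1, y.1.2.2, congrArg Subtype.val y.2⟩
        invFun := fun x => ⟨⟨x.1, x.2.1, x.2.2.1⟩, Subtype.ext x.2.2.2⟩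
        left_inv := fun y => rfl
        right_inv := fun x => rfl }
  rw [← hc1, ← hc2]
  exact hcong

end Parity

end Cfsg.Agent.Helper18.SigmaOdd
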