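import Mathlib
import Cfsg.Prelude.Def_Blocks
import Cfsg.Agent.Lib.Helper18.SigmaOdd7

/-!
# Characters fixed by a Galois automorphism of 2-power order over normal subgroups of odd index
(helper18's library), part 8: the principal block
-/

set_option autoImplicit false
set_option linter.style.haveILetI false
set_option linter.unusedVariables false
set_option linter.unusedSectionVars false

namespace Cfsg.Agent.Helper18.SigmaOdd

open Cfsg Cfsg.Agent.Helper24 Cfsg.Agent.Helper5 Cfsg.Agent.Helper23.Blk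
open scoped ComplexConjugate

universe u

variable {G : Type u} [Group G] [Fintype G]

section Formula

variable (N : Subgroup G) [hN : N.Normal] [Fintype N]

/-- the degree of the part of an induced character in a set of characters, through the
idempotent coefficients -/
theorem index_mul_omega [Fintype (IrrCharacter G)]
    (B : Set (IrrCharacter G)) [DecidablePred (· ∈ B)] (θ : IrrCharacter N)
    (m : IrrCharacter G → ℕ)
    (hm : ∀ χ : IrrCharacter G, classInner (fun n : N => (χ : G → ℂ) n) (θ : N → ℂ) = m χ) :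
    (N.index : ℂ) * omega (θ : N → ℂ) (fun n : N => blockCoeff B (n : G)) =
      (((∑ χ ∈ Finset.univ.filter (· ∈ B), m χ ^ 2) *
        (inertia N (θ : N → ℂ)).index : ℕ) : ℂ) := by
  classical
  have hθ1 : (θ : N → ℂ) 1 ≠ 0 := irr_one_ne_zero θ.2
  have hN0 : (Nat.card N : ℂ) ≠ 0 := card_ne_zero
  have hG0 : (Nat.card G : ℂ) ≠ 0 := card_ne_zero
  have hinner : ∀ χ : IrrCharacter G,
      ∑ n : N, conj ((χ : G → ℂ) n) * (θ : N → ℂ) n = (Nat.card N : ℂ) * m χ := by
    intro χ
    have h1 := hm χ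
    unfold classInner at h1
    have h2 : ∑ n : N, (χ : G → ℂ) n * conj ((θ : N → ℂ) n) = (Nat.card N : ℂ) * m χ := by
      rw [← h1, ← mul_assoc, mul_inv_cancel₀ hN0, one_mul]
    have h3 := congrArg conj h2
    rw [map_sum, map_mul, Complex.conj_natCast, Complex.conj_natCast] at h3
    rw [← h3]
    apply Finset.sum_congr rfl
    intro n _
    rw [map_mul, Complex.conj_conj]
  have hsum : ∑ n : N, blockCoeff B (n : G) * (θ : N → ℂ) n =
      ∑ χ : IrrCharacter G, (if χ ∈ B then (1 : ℂ) else 0) *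
        ((Nat.card G : ℂ)⁻¹ * ((χ : G → ℂ) 1 * ((Nat.card N : ℂ) * m χ))) := by
    have h1 : ∀ n : N, blockCoeff B (n : G) * (θ : N → ℂ) n =
        ∑ χ : IrrCharacter G, (if χ ∈ B then (1 : ℂ) else 0) *
          ((Nat.card G : ℂ)⁻¹ * ((χ : G → ℂ) 1 *
            (conj ((χ : G → ℂ) n) * (θ : N → ℂ) n))) := by
      intro n
      rw [blockCoeff_eq_synth]
      unfold synth idemCoeff
      rw [Finset.sum_mul]
      apply Finset.sum_congr rfl
      intro χ _
      ring
    rw [Finset.sum_congr rfl (fun n _ => h1 n), Finset.sum_comm]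
    apply Finset.sum_congr rfl
    intro χ _
    rw [← Finset.mul_sum, ← Finset.mul_sum, ← Finset.mul_sum, hinner]
  set t := (inertia N (θ : N → ℂ)).index with ht
  have hterm : ∀ χ : IrrCharacter G,
      (χ : G → ℂ) 1 * (m χ : ℂ) = (m χ : ℂ) ^ 2 * (t : ℂ) * (θ : N → ℂ) 1 := by
    intro χ
    by_cases h0 : m χ = 0
    · rw [h0]
      simp
    · have hcon : classInner (fun n : N => (χ : G → ℂ) n) (θ : N → ℂ) ≠ 0 := by
        rw [hm χ]
        exact_mod_cast h0
      rw [degree_eq_of_constituent N χ.2 θ.2 hcon, hm χ]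
      ring
  have hidx : (N.index : ℂ) * (Nat.card N : ℂ) = (Nat.card G : ℂ) := by
    exact_mod_cast N.index_mul_card
  have hterm2 : ∀ χ : IrrCharacter G, (if χ ∈ B then (1 : ℂ) else 0) *
        ((Nat.card G : ℂ)⁻¹ * ((χ : G → ℂ) 1 * ((Nat.card N : ℂ) * m χ))) =
      ((Nat.card G : ℂ)⁻¹ * (Nat.card N : ℂ) * (t : ℂ) * (θ : N → ℂ) 1) *
        (if χ ∈ B then ((m χ : ℂ)) ^ 2 else 0) := by
    intro χ
    have h1 : (χ : G → ℂ) 1 * ((Nat.card N : ℂ) * m χ) =
        (Nat.card N : ℂ) * ((χ : G → ℂ) 1 * (m χ : ℂ)) := by ring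
    rw [h1, hterm χ]
    split_ifs
    · ring
    · ring
  unfold omega
  rw [hsum, Finset.sum_congr rfl (fun χ _ => hterm2 χ), ← Finset.mul_sum]
  push_cast
  rw [Finset.sum_filter]
  have h5 : (N.index : ℂ) * ((Nat.card G : ℂ)⁻¹ * (Nat.card N : ℂ)) = 1 := by
    rw [← mul_assoc, mul_comm (N.index : ℂ), mul_assoc, hidx, inv_mul_cancel₀ hG0]
  have h6 : ∀ S : ℂ, (N.index : ℂ) * ((Nat.card G : ℂ)⁻¹ * (Nat.card N : ℂ) * (t : ℂ) *
      (θ : N → ℂ) 1 * S / (θ : N → ℂ) 1) = S * (t : ℂ) := by
    intro S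
    have : (N.index : ℂ) * ((Nat.card G : ℂ)⁻¹ * (Nat.card N : ℂ) * (t : ℂ) *
      (θ : N → ℂ) 1 * S / (θ : N → ℂ) 1) =
        ((N.index : ℂ) * ((Nat.card G : ℂ)⁻¹ * (Nat.card N : ℂ))) * (S * (t : ℂ)) *
          ((θ : N → ℂ) 1 / (θ : N → ℂ) 1) := by ring
    rw [this, h5, div_self hθ1, one_mul, mul_one]
  rw [h6]

end Formula

section Main

variable {M : Ideal AlgInt} (N : Subgroup G) [hN : N.Normal] [Fintype N]

/-- the restriction of the idempotent coefficients of the principal block to a normal subgroup -/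
theorem parity_eq [Fintype (IrrCharacter G)] [DecidablePred (· ∈ principalBlock M G)]
    (hM : IsPModular 2 M) (hodd : Odd N.index)
    (θ : IrrCharacter N) (hθB : θ ∈ principalBlock M N) (m m₁ : IrrCharacter G → ℕ)
    (hm : ∀ χ : IrrCharacter G, classInner (fun n : N => (χ : G → ℂ) n) (θ : N → ℂ) = m χ)
    (hm₁ : ∀ χ : IrrCharacter G,
      classInner (fun n : N => (χ : G → ℂ) n) (fun _ : N => (1 : ℂ)) = m₁ χ) :
    Odd (∑ χ ∈ Finset.univ.filter (· ∈ principalBlock M G), m χ ^ 2) ↔
      Odd (∑ χ ∈ Finset.univ.filter (· ∈ principalBlock M G), m₁ χ ^ 2) := by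
  have hMp : M.IsPrime := isPrime_of_isPModular hM
  haveI := hMp
  letI : Fintype (IrrCharacter N) := irrFintype
  obtain ⟨B, hB⟩ : ∃ B : Set (IrrCharacter G), B = principalBlock M G := ⟨_, rfl⟩
  obtain ⟨A, hA⟩ : ∃ A : ℕ, A = ∑ χ ∈ Finset.univ.filter (· ∈ principalBlock M G), m χ ^ 2 :=
    ⟨_, rfl⟩
  obtain ⟨A₁, hA₁⟩ : ∃ A₁ : ℕ,
      A₁ = ∑ χ ∈ Finset.univ.filter (· ∈ principalBlock M G), m₁ χ ^ 2 := ⟨_, rfl⟩
  rw [← hA, ← hA₁]
  set a : N → ℂ := fun n : N => blockCoeff B (n : G) with ha
  have hacf : IsClassFunction N a := by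
    intro n h
    show blockCoeff B ((h * n * h⁻¹ : N) : G) = blockCoeff B (n : G)
    have h1 : ((h * n * h⁻¹ : N) : G) = (h : G) * (n : G) * (h : G)⁻¹ := by
      push_cast
      rfl
    rw [h1]
    exact isClassFunction_blockCoeff B (n : G) (h : G)
  have haR : ∀ n : N, MemLocalRing M (a n) := fun n => by
    show MemLocalRing M (blockCoeff B (n : G))
    rw [hB]
    exact memLocalRing_blockCoeff hMp isPBlock_principalBlock (n : G)
  have hsb : SameBlock M (θ : N → ℂ) ((principalChar N : IrrCharacter N) : N → ℂ) :=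
    sameBlock_symm hθB
  have h1 := memLocalIdeal_omega_sub hsb hacf haR
  have h2 := memLocalIdeal_mul_left (memLocalRing_natCast (M := M) N.index) h1
  rw [ha, hB, mul_sub, index_mul_omega N (principalBlock M G) θ m hm,
    index_mul_omega N (principalBlock M G) (principalChar N) m₁ hm₁, ← hA, ← hA₁] at h2
  set t := (inertia N (θ : N → ℂ)).index with ht
  set t₁ := (inertia N ((principalChar N : IrrCharacter N) : N → ℂ)).index with ht₁
  have h3 : (((A * t : ℕ) : ℂ) - ((A₁ * t₁ : ℕ) : ℂ)) = (((A * t : ℕ) : ℤ) - ((A₁ * t₁ : ℕ) : ℤ) : ℤ) := by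
    push_cast
    rfl
  rw [h3, memLocalIdeal_intCast_iff hM] at h2
  have htodd : Odd t := by
    apply Odd.of_dvd_nat hodd
    exact Subgroup.index_dvd_of_le (le_inertia N (isClassFunction_of_isIrrCharacter θ.2))
  have ht₁odd : Odd t₁ := by
    apply Odd.of_dvd_nat hodd
    exact Subgroup.index_dvd_of_le
      (le_inertia N (isClassFunction_of_isIrrCharacter (principalChar N).2))
  have h4 : Even (((A * t : ℕ) : ℤ) - ((A₁ * t₁ : ℕ) : ℤ)) := by
    rw [even_iff_two_dvd]
    exact_mod_cast h2
  rw [Int.even_sub, Int.even_coe_nat, Int.even_coe_nat] at h4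
  have h5 : Odd (A * t) ↔ Odd (A₁ * t₁) := by
    rw [← Nat.not_even_iff_odd, ← Nat.not_even_iff_odd, h4]
  rw [Nat.odd_mul, Nat.odd_mul] at h5
  constructor
  · intro h
    exact (h5.mp ⟨h, htodd⟩).1
  · intro h
    exact (h5.mpr ⟨h, ht₁odd⟩).1

/-- **the principal block**: a `σ`-fixed character over a `σ`-fixed character of a normal subgroup
of odd index lies in the principal `2`-block iff the character below does -/
theorem main_block (hM : IsPModular 2 M) (hidx : Odd N.index) (k e : ℕ)
    (hk : Nat.Coprime k (Nat.card G)) (hke : k ^ (2 ^ e) ≡ 1 [MOD Nat.card G])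
    (hk₂ : ∀ g : G, Odd (orderOf g) → g ^ k = g⁻¹) (θ : IrrCharacter N)
    (hθ : ∀ n : N, (θ : N → ℂ) (n ^ k) = (θ : N → ℂ) n) (χ : IrrCharacter G)
    (hχ : ∀ g : G, (χ : G → ℂ) (g ^ k) = (χ : G → ℂ) g)
    (hover : classInner (fun n : N => (χ : G → ℂ) n) (θ : N → ℂ) ≠ 0) :
    χ ∈ principalBlock M G ↔ θ ∈ principalBlock M N := by
  classical
  have hMp : M.IsPrime := isPrime_of_isPModular hM
  haveI := hMp
  letI : Fintype (IrrCharacter G) := irrFintype
  letI : Fintype (IrrCharacter N) := irrFintype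
  have hcop : Nat.Coprime (Nat.card G) k := hk.symm
  have hpow : ∀ g : G, g ^ (k ^ 2 ^ e) = g := by
    intro g
    have h1 : k ^ 2 ^ e ≡ 1 [MOD orderOf g] := hke.of_dvd (orderOf_dvd_natCard g)
    have h2 := pow_eq_pow_iff_modEq.mpr h1
    rw [h2, pow_one]
  have h11 : classInner (fun _ : N => (1 : ℂ)) (fun _ : N => (1 : ℂ)) = 1 := by
    have := irr_orthogonality (isIrrCharacter_one (G := N)) (isIrrCharacter_one (G := N))
    rwa [if_pos rfl] at this
  constructor
  · -- covering
    intro hχB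
    have h1 : (principalChar N) ∈ principalBlock M N := principalChar_mem_principalBlock
    have h2 := cover_orbit N hMp (isPBlock_principalBlock (M := M) (G := N))
      (χ := principalChar G) (χ' := χ) hχB h1
      (by
        show classInner (fun _ : N => (1 : ℂ)) (fun _ : N => (1 : ℂ)) ≠ 0
        rw [h11]
        exact one_ne_zero) hover
    obtain ⟨g, θ', hθ', rfl⟩ := h2
    have h3 := sameBlock_conjFun (M := M) N g hθ'
    have h4 : Helper5.conjFun N g (fun _ : N => (1 : ℂ)) = fun _ : N => (1 : ℂ) := by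
      funext n
      rfl
    rw [h4] at h3
    exact h3
  · intro hθB
    have hθc := isCharacter_of_isIrrCharacter θ.2
    have hmex : ∀ ψ : IrrCharacter G, ∃ a : ℕ,
        classInner (fun n : N => (ψ : G → ℂ) n) (θ : N → ℂ) = a := fun ψ =>
      classInner_char_nat (isCharacter_restrict N (isCharacter_of_isIrrCharacter ψ.2)) hθc
    choose m hm using hmex
    have hmex₁ : ∀ ψ : IrrCharacter G, ∃ a : ℕ,
        classInner (fun n : N => (ψ : G → ℂ) n) (fun _ : N => (1 : ℂ)) = a := fun ψ =>
      classInner_char_nat (isCharacter_restrict N (isCharacter_of_isIrrCharacter ψ.2))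
        (isCharacter_of_isIrrCharacter isIrrCharacter_one)
    choose m₁ hm₁ using hmex₁
    have hstab : ∀ ψ ∈ principalBlock M G, powTwist hcop ψ ∈ principalBlock M G :=
      fun ψ hψ => powTwist_mem_principalBlock hψ hcop
    -- the trivial character
    have hcong₁ := sum_sq_modEq_card_fixed N hcop hpow (principalBlock M G) hstab (principalChar N)
      (fun n => rfl) m₁ hm₁
    have hm₁one : m₁ (principalChar G) = 1 := by
      have h1 := hm₁ (principalChar G)
      have h2 : (fun n : N => ((principalChar G : IrrCharacter G) : G → ℂ) n) =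
          fun _ : N => (1 : ℂ) := rfl
      rw [h2, h11] at h1
      exact_mod_cast h1.symm
    have hfilter₁ : (Finset.univ.filter (fun ψ : IrrCharacter G =>
        ψ ∈ principalBlock M G ∧ Odd (m₁ ψ) ∧ powTwist hcop ψ = ψ)) = {principalChar G} := by
      ext ψ
      rw [Finset.mem_filter, Finset.mem_singleton]
      constructor
      · rintro ⟨-, hψB, hψo, hψf⟩
        apply Subtype.ext
        have ho₁ : classInner (fun n : N => (ψ : G → ℂ) n)
            ((principalChar N : IrrCharacter N) : N → ℂ) ≠ 0 := by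
          show classInner (fun n : N => (ψ : G → ℂ) n) (fun _ : N => (1 : ℂ)) ≠ 0
          rw [hm₁ ψ]
          have : m₁ ψ ≠ 0 := by
            intro h0
            rw [h0] at hψo
            exact absurd hψo (by decide)
          exact_mod_cast this
        have ho₂ : classInner (fun n : N => ((principalChar G : IrrCharacter G) : G → ℂ) n)
            ((principalChar N : IrrCharacter N) : N → ℂ) ≠ 0 := by
          show classInner (fun _ : N => (1 : ℂ)) (fun _ : N => (1 : ℂ)) ≠ 0
          rw [h11]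
          exact one_ne_zero
        exact unique_fixed_over N hidx hcop hpow hk₂ (principalChar N) (fun n => rfl) ψ.2
          (principalChar G).2 ho₁ ho₂
          (fun g => by
            have := congrArg (fun φ : IrrCharacter G => (φ : G → ℂ) g) hψf
            exact this)
          (fun g => rfl)
      · rintro rfl
        refine ⟨Finset.mem_univ _, principalChar_mem_principalBlock, ?_, ?_⟩
        · rw [hm₁one]
          exact odd_one
        · apply Subtype.ext
          rfl
    rw [hfilter₁, Finset.card_singleton] at hcong₁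
    have hodd₁ : Odd (∑ ψ ∈ Finset.univ.filter (· ∈ principalBlock M G), m₁ ψ ^ 2) := by
      rw [Nat.odd_iff]
      exact hcong₁
    have hoddθ := (parity_eq N hM hidx θ hθB m m₁ hm hm₁).mpr hodd₁
    have hcong := sum_sq_modEq_card_fixed N hcop hpow (principalBlock M G) hstab θ hθ m hm
    have hne : (Finset.univ.filter (fun ψ : IrrCharacter G =>
        ψ ∈ principalBlock M G ∧ Odd (m ψ) ∧ powTwist hcop ψ = ψ)).Nonempty := by
      rw [Finset.nonempty_iff_ne_empty]
      intro h0
      rw [h0, Finset.card_empty] at hcong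
      rw [Nat.odd_iff] at hoddθ
      have : (∑ ψ ∈ Finset.univ.filter (· ∈ principalBlock M G), m ψ ^ 2) % 2 = 0 % 2 := hcong
      omega
    obtain ⟨ψ, hψ⟩ := hne
    rw [Finset.mem_filter] at hψ
    obtain ⟨-, hψB, hψo, hψf⟩ := hψ
    have ho₁ : classInner (fun n : N => (ψ : G → ℂ) n) (θ : N → ℂ) ≠ 0 := by
      rw [hm ψ]
      have : m ψ ≠ 0 := by
        intro h0
        rw [h0] at hψo
        exact absurd hψo (by decide)
      exact_mod_cast this
    have heq : (ψ : G → ℂ) = (χ : G → ℂ) :=
      unique_fixed_over N hidx hcop hpow hk₂ θ hθ ψ.2 χ.2 ho₁ hover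
        (fun g => by
          have := congrArg (fun φ : IrrCharacter G => (φ : G → ℂ) g) hψf
          exact this) hχ
    have : ψ = χ := Subtype.ext heq
    rw [← this]
    exact hψB

end Main

end Cfsg.Agent.Helper18.SigmaOdd
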