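import Mathlib
import Cfsg.Prelude.Def_Blocks
import Cfsg.Agent.Lib.Helper23.BlockOrtho
import Cfsg.Agent.Lib.Helper23.PrincipalQuot
import Cfsg.Agent.Lib.Helper23.BlockDefect
import Cfsg.Agent.S0944

/-!
# Parity of the number of Galois-fixed odd-degree characters in the principal 2-block
(helper18's library)
-/

set_option autoImplicit false
set_option linter.style.haveILetI false

namespace Cfsg.Agent.Helper18.SigmaParity

open Cfsg Cfsg.Agent.Helper24 Cfsg.Agent.Helper23.Blk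
open scoped ComplexConjugate

universe u

section NumberTheory

theorem three_pow_two_pow (e : ℕ) : 3 ^ 2 ^ e ≡ 1 [MOD 2 ^ (e + 1)] := by
  induction e with
  | zero => decide
  | succ e ih =>
    have h1 : (2 : ℕ) ^ (e + 1) ∣ 3 ^ 2 ^ e - 1 := (Nat.modEq_iff_dvd' (Nat.one_le_pow _ _ (by norm_num))).1 ih.symm
    obtain ⟨c, hc⟩ := h1
    have h2 : 3 ^ 2 ^ e = 1 + 2 ^ (e + 1) * c := by
      have : 1 ≤ 3 ^ 2 ^ e := Nat.one_le_pow _ _ (by norm_num)
      omega
    have h3 : 3 ^ 2 ^ (e + 1) = 1 + 2 ^ (e + 1 + 1) * (c + 2 ^ e * c ^ 2) := by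
      rw [pow_succ 2 e, pow_mul, h2]
      ring
    rw [h3]
    show (1 + 2 ^ (e + 1 + 1) * (c + 2 ^ e * c ^ 2)) % 2 ^ (e + 1 + 1) = 1 % 2 ^ (e + 1 + 1)
    rw [Nat.add_mul_mod_self_left]

end NumberTheory

variable {G : Type u} [Group G] [Finite G] {M : Ideal AlgInt}

/-- the exponent `k` is prime to the group order -/
theorem coprime_of_hyp (k : ℕ)
    (hk₁ : ∀ g : G, (∃ j : ℕ, orderOf g = 2 ^ j) → g ^ k = g ^ 3)
    (hk₂ : ∀ g : G, Odd (orderOf g) → g ^ k = g) : Nat.Coprime (Nat.card G) k := by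
  by_contra hnc
  obtain ⟨q, hq, hqG, hqk⟩ := Nat.Prime.not_coprime_iff_dvd.1 hnc
  haveI : Fact q.Prime := ⟨hq⟩
  obtain ⟨g, hg⟩ := exists_prime_orderOf_dvd_card' q hqG
  have hgk : g ^ k = 1 := by
    obtain ⟨c, rfl⟩ := hqk
    rw [pow_mul, ← hg, pow_orderOf_eq_one, one_pow]
  rcases hq.eq_two_or_odd' with h2 | hodd
  · have h3 := hk₁ g ⟨1, by rw [hg, h2, pow_one]⟩
    rw [hgk] at h3
    have h4 : orderOf g ∣ 3 := orderOf_dvd_of_pow_eq_one h3.symm
    rw [hg, h2] at h4
    omega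
  · have h3 := hk₂ g (by rw [hg]; exact hodd)
    rw [hgk] at h3
    rw [← h3, orderOf_one] at hg
    exact hq.one_lt.ne hg

/-- a uniform `2`-power of `k` acts trivially on `G` -/
theorem pow_pow_eq (k : ℕ)
    (hk₁ : ∀ g : G, (∃ j : ℕ, orderOf g = 2 ^ j) → g ^ k = g ^ 3)
    (hk₂ : ∀ g : G, Odd (orderOf g) → g ^ k = g) (g : G) :
    g ^ (k ^ 2 ^ Nat.card G) = g := by
  set e := Nat.card G with he
  have ho : orderOf g ≠ 0 := (orderOf_pos g).ne'
  obtain ⟨i, m, hm, hom⟩ := Nat.exists_eq_two_pow_mul_odd ho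
  have hm0 : m ≠ 0 := fun h => by rw [h] at hm; exact absurd hm (by decide)
  have h2i0 : (2 : ℕ) ^ i ≠ 0 := by positivity
  -- the 2-part
  have ho1 : orderOf (g ^ m) = 2 ^ i := by
    rw [orderOf_pow_of_dvd hm0 (by rw [hom]; exact dvd_mul_left _ _), hom,
      Nat.mul_div_cancel _ (Nat.pos_of_ne_zero hm0)]
  have hc1 : k ≡ 3 [MOD 2 ^ i] := by
    have := hk₁ (g ^ m) ⟨i, ho1⟩
    rw [pow_eq_pow_iff_modEq, ho1] at this
    exact this
  -- the odd part
  have ho2 : orderOf (g ^ 2 ^ i) = m := by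
    rw [orderOf_pow_of_dvd h2i0 (by rw [hom]; exact dvd_mul_right _ _), hom,
      Nat.mul_div_cancel_left _ (Nat.pos_of_ne_zero h2i0)]
  have hc2 : k ≡ 1 [MOD m] := by
    have := hk₂ (g ^ 2 ^ i) (by rw [ho2]; exact hm)
    nth_rewrite 2 [← pow_one (g ^ 2 ^ i)] at this
    rw [pow_eq_pow_iff_modEq, ho2] at this
    exact this
  have hile : i ≤ e + 1 := by
    have h1 : 2 ^ i ∣ Nat.card G := by
      have : 2 ^ i ∣ orderOf g := by rw [hom]; exact dvd_mul_right _ _
      exact dvd_trans this (orderOf_dvd_natCard g)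
    have h2 : 2 ^ i ≤ Nat.card G := Nat.le_of_dvd Nat.card_pos h1
    have h3 : Nat.card G < 2 ^ Nat.card G := Nat.lt_two_pow_self
    have h4 : 2 ^ i < 2 ^ e := lt_of_le_of_lt h2 h3
    have := (Nat.pow_lt_pow_iff_right (by norm_num : 1 < 2)).1 h4
    omega
  have hd1 : k ^ 2 ^ e ≡ 1 [MOD 2 ^ i] := by
    have h1 : k ^ 2 ^ e ≡ 3 ^ 2 ^ e [MOD 2 ^ i] := hc1.pow _
    have h2 : 3 ^ 2 ^ e ≡ 1 [MOD 2 ^ i] :=
      Nat.ModEq.of_dvd (pow_dvd_pow 2 hile) (three_pow_two_pow e)
    exact h1.trans h2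
  have hd2 : k ^ 2 ^ e ≡ 1 [MOD m] := by
    have h1 : k ^ 2 ^ e ≡ 1 ^ 2 ^ e [MOD m] := hc2.pow _
    rw [one_pow] at h1
    exact h1
  have hcop : Nat.Coprime (2 ^ i) m :=
    Nat.Coprime.pow_left i (Nat.coprime_two_left.2 hm)
  have hd : k ^ 2 ^ e ≡ 1 [MOD orderOf g] := by
    rw [hom]
    exact (Nat.modEq_and_modEq_iff_modEq_mul hcop).1 ⟨hd1, hd2⟩
  have := (pow_eq_pow_iff_modEq (x := g)).2 hd
  rw [pow_one] at this
  exact this

/-- the number of odd-degree characters in the principal `2`-block of a group of even order is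
even -/
theorem even_card_odd_principal (hM : IsPModular 2 M) (hev : Even (Nat.card G)) :
    Even (Nat.card {χ : IrrCharacter G // χ ∈ principalBlock M G ∧
      Odd (charDegree (χ : G → ℂ))}) := by
  classical
  letI : Fintype G := Fintype.ofFinite G
  letI := irrFintype (G := G)
  haveI : Fact (Nat.Prime 2) := ⟨Nat.prime_two⟩
  obtain ⟨t, ht⟩ := exists_prime_orderOf_dvd_card' (G := G) 2 (even_iff_two_dvd.1 hev)
  have hortho := weak_block_orthogonality (p := 2) hM (isPBlock_principalBlock (M := M) (G := G))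
    (x := 1) (y := t) (by rw [orderOf_one]; norm_num) (by rw [ht])
  choose n hn hdvd using fun χ : IrrCharacter G => Cfsg.Agent.S0944.result χ t ht
  rw [finsum_mem_eq_finite_toFinset_sum _ (Set.toFinite _)] at hortho
  set S : Finset (IrrCharacter G) := (Set.toFinite (principalBlock M G)).toFinset with hS
  have h1 : ∑ χ ∈ S, ((charDegree (χ : G → ℂ) : ℤ) * n χ : ℤ) = 0 := by
    have h2 : ((∑ χ ∈ S, ((charDegree (χ : G → ℂ) : ℤ) * n χ : ℤ) : ℤ) : ℂ) = 0 := by
      rw [← hortho]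
      push_cast
      apply Finset.sum_congr rfl
      intro χ _
      rw [irr_one_eq_charDegree χ.2, hn χ]
      simp
    exact_mod_cast h2
  have h3 : ∑ χ ∈ S, ((charDegree (χ : G → ℂ) : ℕ) : ZMod 2) = 0 := by
    have h4 := congrArg (fun z : ℤ => (z : ZMod 2)) h1
    simp only [Int.cast_sum, Int.cast_mul, Int.cast_natCast, Int.cast_zero] at h4
    rw [← h4]
    apply Finset.sum_congr rfl
    intro χ _
    have h5 : ((n χ : ℤ) : ZMod 2) = ((charDegree (χ : G → ℂ) : ℕ) : ZMod 2) := by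
      have h6 := (ZMod.intCast_zmod_eq_zero_iff_dvd _ 2).2 (hdvd χ)
      push_cast at h6
      rw [sub_eq_zero] at h6
      exact h6.symm
    rw [h5]
    generalize ((charDegree (χ : G → ℂ) : ℕ) : ZMod 2) = z
    revert z
    decide
  have h7 : ∑ χ ∈ S, ((charDegree (χ : G → ℂ) : ℕ) : ZMod 2) =
      ((S.filter (fun χ : IrrCharacter G => Odd (charDegree (χ : G → ℂ)))).card : ZMod 2) := by
    rw [Finset.natCast_card_filter]
    apply Finset.sum_congr rfl
    intro χ _
    by_cases hodd : Odd (charDegree (χ : G → ℂ))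
    · rw [if_pos hodd]
      exact ZMod.natCast_eq_one_iff_odd.2 hodd
    · rw [if_neg hodd]
      exact ZMod.natCast_eq_zero_iff_even.2 (Nat.not_odd_iff_even.1 hodd)
  rw [h7, ZMod.natCast_eq_zero_iff_even] at h3
  have h8 : Nat.card {χ : IrrCharacter G // χ ∈ principalBlock M G ∧
      Odd (charDegree (χ : G → ℂ))} =
      (S.filter (fun χ : IrrCharacter G => Odd (charDegree (χ : G → ℂ)))).card := by
    have hfil : Finset.univ.filter (fun χ : IrrCharacter G => χ ∈ principalBlock M G ∧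
        Odd (charDegree (χ : G → ℂ))) =
        S.filter (fun χ : IrrCharacter G => Odd (charDegree (χ : G → ℂ))) := by
      ext χ
      simp [hS]
    rw [Nat.card_eq_fintype_card, Fintype.card_subtype, hfil]
  rw [h8]
  exact h3

/-- **Parity**: for a group of even order the number of `σ`-fixed odd-degree characters in the
principal `2`-block is even. -/
theorem main (hM : IsPModular 2 M) (hev : Even (Nat.card G)) (k : ℕ)
    (hk₁ : ∀ g : G, (∃ j : ℕ, orderOf g = 2 ^ j) → g ^ k = g ^ 3)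
    (hk₂ : ∀ g : G, Odd (orderOf g) → g ^ k = g) :
    Even (Nat.card {χ : IrrCharacter G // χ ∈ principalBlock M G ∧
      Odd (charDegree (χ : G → ℂ)) ∧ ∀ g : G, (χ : G → ℂ) (g ^ k) = (χ : G → ℂ) g}) := by
  classical
  letI : Fintype G := Fintype.ofFinite G
  letI := irrFintype (G := G)
  haveI : Fact (Nat.Prime 2) := ⟨Nat.prime_two⟩
  have hkcop := coprime_of_hyp k hk₁ hk₂
  set X := {χ : IrrCharacter G // χ ∈ principalBlock M G ∧ Odd (charDegree (χ : G → ℂ))}
    with hX
  have hdeg : ∀ χ : IrrCharacter G, charDegree (powTwist hkcop χ : G → ℂ) =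
      charDegree (χ : G → ℂ) := by
    intro χ
    unfold charDegree
    rw [powTwist_apply, one_pow]
  let f : X → X := fun χ =>
    ⟨powTwist hkcop χ.1, powTwist_mem_principalBlock χ.2.1 hkcop, by rw [hdeg]; exact χ.2.2⟩
  have hiter : ∀ (j : ℕ) (χ : X) (g : G),
      (((f^[j]) χ).1 : G → ℂ) g = ((χ.1 : IrrCharacter G) : G → ℂ) (g ^ k ^ j) := by
    intro j
    induction j with
    | zero =>
      intro χ g
      rw [Function.iterate_zero, pow_zero, pow_one]
      rfl
    | succ j ih =>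
      intro χ g
      rw [Function.iterate_succ_apply']
      show (powTwist hkcop ((f^[j]) χ).1 : G → ℂ) g = _
      rw [powTwist_apply, ih, ← pow_mul, pow_succ' k j]
  let F : Function.End X := f
  have hf : F ^ 2 ^ Nat.card G = 1 := by
    have hcoe : ((F ^ 2 ^ Nat.card G : Function.End X) : X → X) = f^[2 ^ Nat.card G] :=
      hom_coe_pow (fun g : Function.End X ↦ (g : X → X)) rfl (fun g h ↦ rfl) F (2 ^ Nat.card G)
    have hid : ((F ^ 2 ^ Nat.card G : Function.End X) : X → X) = (id : X → X) := by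
      rw [hcoe]
      funext χ
      show f^[2 ^ Nat.card G] χ = χ
      apply Subtype.ext
      apply Subtype.ext
      funext g
      rw [hiter, pow_pow_eq k hk₁ hk₂]
    exact hid
  have hmod : Fintype.card X ≡ Fintype.card (Function.fixedPoints f) [MOD 2] :=
    Equiv.Perm.card_fixedPoints_modEq (p := 2) hf
  have heven : Even (Fintype.card X) := by
    have := even_card_odd_principal hM hev
    rw [Nat.card_eq_fintype_card] at this
    exact this
  have hfix : Even (Fintype.card (Function.fixedPoints f)) := by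
    rw [Nat.even_iff] at heven ⊢
    have h1 : Fintype.card X % 2 = Fintype.card (Function.fixedPoints f) % 2 := hmod
    omega
  have hcard : Nat.card {χ : IrrCharacter G // χ ∈ principalBlock M G ∧
      Odd (charDegree (χ : G → ℂ)) ∧ ∀ g : G, (χ : G → ℂ) (g ^ k) = (χ : G → ℂ) g} =
      Fintype.card (Function.fixedPoints f) := by
    rw [← Nat.card_eq_fintype_card]
    apply Nat.card_congr
    refine ⟨fun χ => ⟨⟨χ.1, χ.2.1, χ.2.2.1⟩, ?_⟩, fun x => ⟨x.1.1, x.1.2.1, x.1.2.2, ?_⟩, ?_, ?_⟩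
    · show f ⟨χ.1, χ.2.1, χ.2.2.1⟩ = ⟨χ.1, χ.2.1, χ.2.2.1⟩
      apply Subtype.ext
      apply Subtype.ext
      funext g
      show (powTwist hkcop χ.1 : G → ℂ) g = _
      rw [powTwist_apply]
      exact χ.2.2.2 g
    · intro g
      have h1 : f x.1 = x.1 := x.2
      have h2 : ((f x.1).1 : G → ℂ) g = ((x.1.1 : IrrCharacter G) : G → ℂ) g := by rw [h1]
      have h3 : ((f x.1).1 : G → ℂ) g = ((x.1.1 : IrrCharacter G) : G → ℂ) (g ^ k) := by
        show (powTwist hkcop x.1.1 : G → ℂ) g = _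
        rw [powTwist_apply]
      rw [← h3, h2]
    · intro χ
      rfl
    · intro x
      rfl
  rw [hcard]
  exact hfix

end Cfsg.Agent.Helper18.SigmaParity
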