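import Mathlib
import Cfsg.Agent.Lib.Helper6.SpP0

/-!
Central extensions of a group with Steinberg relations of type `C`: existence of the canonical lifts of the
long root elements (piece LH of the central closedness argument of helper6).
-/

set_option autoImplicit false
set_option linter.unusedSectionVars false
set_option linter.unusedVariables false

namespace Cfsg.Agent.Helper18.SpExtLH

open Cfsg.Agent.Helper6 Cfsg.Agent.Helper6.SLn Cfsg.Agent.Helper6.SpN

variable {I : Type*} [Fintype I] [DecidableEq I] {K : Type*} [Field K] {Γ E : Type*} [Group Γ] [Group E]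
  {T : I ⊕ I → I ⊕ I → K → Γ} {L : I ⊕ I → K → Γ}

/-- a signed index away from two given ones -/
theorem exists_third (h3 : 3 ≤ Fintype.card I) (a b : I ⊕ I) :
    ∃ m : I ⊕ I, av m ≠ av a ∧ av m ≠ av b := by
  have : ∃ i : I, i ∉ ({av a, av b} : Finset I) := by
    by_contra h
    push Not at h
    have h1 : (Finset.univ : Finset I) ⊆ ({av a, av b} : Finset I) := fun i _ => h i
    have h2 := Finset.card_le_card h1
    have h4 : ({av a, av b} : Finset I).card ≤ 2 := Finset.card_le_two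
    rw [Finset.card_univ] at h2
    omega
  obtain ⟨i, hi⟩ := this
  rw [Finset.mem_insert, Finset.mem_singleton, not_or] at hi
  exact ⟨Sum.inl i, hi.1, hi.2⟩

/-- all lifts of `γ` commute with `g` -/
def LC (π : E →* Γ) (g : E) (γ : Γ) : Prop := ∀ e, π e = γ → Commute e g

theorem LC.mul {π : E →* Γ} (hs : Function.Surjective π) {g : E} {γ₁ γ₂ : Γ} (h1 : LC π g γ₁)
    (h2 : LC π g γ₂) : LC π g (γ₁ * γ₂) := by
  intro e he
  obtain ⟨e1, he1⟩ := hs γ₁
  have h : π (e1⁻¹ * e) = γ₂ := by rw [map_mul, map_inv, he1, he, inv_mul_cancel_left]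
  have := (h1 e1 he1).mul_left (h2 _ h)
  rwa [mul_inv_cancel_left] at this

/-- the candidate for the canonical lift of `l_a(± t² u)` -/
noncomputable def gg (T : I ⊕ I → I ⊕ I → K → Γ) (L : I ⊕ I → K → Γ) (π : E →* Γ)
    (hs : Function.Surjective π) (T' : I ⊕ I → I ⊕ I → K → E) (a b : I ⊕ I) (t u : K) : E :=
  (T' a (ng b) (t * u))⁻¹ * cm (Function.surjInv hs (T a b t)) (Function.surjInv hs (L b u))

section main

variable (R : SpRel T L) (π : E →* Γ) (hc : π.ker ≤ Subgroup.center E) (hs : Function.Surjective π)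
  (h3 : 3 ≤ Fintype.card I) (C : CLift T L π) {T' : I ⊕ I → I ⊕ I → K → E} (HS : ShortLift T π T')
include R hc hs h3 C HS

theorem cm_one_left {x : E} (hx : π x = 1) (y : E) : cm x y = 1 := by
  have h : x ∈ Subgroup.center E := hc (MonoidHom.mem_ker.2 hx)
  exact cm_of_commute (Subgroup.mem_center_iff.1 h y).symm

theorem cm_one_right (x : E) {y : E} (hy : π y = 1) : cm x y = 1 := by
  have h : y ∈ Subgroup.center E := hc (MonoidHom.mem_ker.2 hy)
  exact cm_of_commute (Subgroup.mem_center_iff.1 h x)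

theorem T'_zero {a c : I ⊕ I} (hac : av a ≠ av c) : T' a c 0 = 1 := by
  obtain ⟨m, hma, hmc⟩ := exists_third h3 a c
  obtain ⟨x, hx⟩ := hs (T a m 0)
  obtain ⟨y, hy⟩ := hs (T m c 0)
  have e := HS.eq a m c (ne_of_av_ne hma.symm) (ne_ng_of_av_ne hma.symm) (ne_of_av_ne hmc)
    (ne_ng_of_av_ne hmc) (ne_of_av_ne hac) (ne_ng_of_av_ne hac) 0 0 x y hx hy
  rw [mul_zero] at e
  rw [← e]
  apply cm_one_left R π hc hs h3 C HS
  rw [hx, R.zeroT (ne_of_av_ne hma.symm) (ne_ng_of_av_ne hma.symm)]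

theorem gg_eq {a b : I ⊕ I} {t u : K} {x y : E} (hx : π x = T a b t) (hy : π y = L b u) :
    (T' a (ng b) (t * u))⁻¹ * cm x y = gg T L π hs T' a b t u := by
  unfold gg
  congr 1
  apply cm_eq π hc
  · rw [hx, Function.surjInv_eq hs]
  · rw [hy, Function.surjInv_eq hs]

theorem map_gg {a b : I ⊕ I} (hab : av a ≠ av b) (t u : K) :
    π (gg T L π hs T' a b t u) = L a (sg K a * sg K b * t ^ 2 * u) := by
  have h1 : a ≠ b := ne_of_av_ne hab
  have h2 : a ≠ ng b := ne_ng_of_av_ne hab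
  unfold gg
  rw [map_mul, map_inv, map_cm, Function.surjInv_eq hs, Function.surjInv_eq hs,
    HS.map a (ng b) h2 (by rw [ng_ng]; exact h1)]
  unfold cm
  rw [R.r4 a b h1 h2, inv_mul_cancel_left]

/-- equivariance of the canonical lifts of the short root elements -/
theorem T'_conj (δ : E) {a m c a₁ m₁ c₁ : I ⊕ I} (ham : av a ≠ av m) (hmc : av m ≠ av c)
    (hac : av a ≠ av c) (ham₁ : av a₁ ≠ av m₁) (hmc₁ : av m₁ ≠ av c₁) (hac₁ : av a₁ ≠ av c₁)
    (w s r : K) (h1 : cj (π δ) (T a m 1) = T a₁ m₁ s) (h2 : cj (π δ) (T m c w) = T m₁ c₁ r) :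
    δ * T' a c w * δ⁻¹ = T' a₁ c₁ (s * r) := by
  obtain ⟨x, hx⟩ := hs (T a m 1)
  obtain ⟨y, hy⟩ := hs (T m c w)
  have e := HS.eq a m c (ne_of_av_ne ham) (ne_ng_of_av_ne ham) (ne_of_av_ne hmc)
    (ne_ng_of_av_ne hmc) (ne_of_av_ne hac) (ne_ng_of_av_ne hac) 1 w x y hx hy
  rw [one_mul] at e
  rw [← e, cm_conj]
  refine HS.eq a₁ m₁ c₁ (ne_of_av_ne ham₁) (ne_ng_of_av_ne ham₁) (ne_of_av_ne hmc₁)
    (ne_ng_of_av_ne hmc₁) (ne_of_av_ne hac₁) (ne_ng_of_av_ne hac₁) s r _ _ ?_ ?_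
  · rw [map_mul, map_mul, map_inv, hx]
    exact h1
  · rw [map_mul, map_mul, map_inv, hy]
    exact h2

/-- transport of the candidates along a conjugation -/
theorem gg_conj (δ : E) {a b a₁ b₁ : I ⊕ I} (t u t₁ u₁ : K)
    (h1 : cj (π δ) (T a b t) = T a₁ b₁ t₁) (h2 : cj (π δ) (L b u) = L b₁ u₁)
    (h4 : δ * T' a (ng b) (t * u) * δ⁻¹ = T' a₁ (ng b₁) (t₁ * u₁))
    (h5 : Commute δ (gg T L π hs T' a b t u)) :
    gg T L π hs T' a b t u = gg T L π hs T' a₁ b₁ t₁ u₁ := by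
  have e1 : gg T L π hs T' a b t u = δ * gg T L π hs T' a b t u * δ⁻¹ := by
    rw [h5.eq, mul_inv_cancel_right]
  rw [e1]
  have e2 : δ * gg T L π hs T' a b t u * δ⁻¹ = (δ * T' a (ng b) (t * u) * δ⁻¹)⁻¹ *
      (δ * cm (Function.surjInv hs (T a b t)) (Function.surjInv hs (L b u)) * δ⁻¹) := by
    unfold gg
    group
  rw [e2, h4, cm_conj]
  apply gg_eq R π hc hs h3 C HS
  · rw [map_mul, map_mul, map_inv, Function.surjInv_eq hs]
    exact h1
  · rw [map_mul, map_mul, map_inv, Function.surjInv_eq hs]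
    exact h2

theorem LC_L {g : E} {a c : I ⊕ I} {v : K} (hg : π g = L a v) (hca : c ≠ ng a) (u : K) :
    LC π g (L c u) := by
  intro e he
  exact (C.ll a c hca v u g e hg he).symm

theorem LC_T {g : E} {a p q : I ⊕ I} {v : K} (hg : π g = L a v) (hpq : av p ≠ av q)
    (haq : a ≠ q) (hap : a ≠ ng p) (s : K) : LC π g (T p q s) := by
  intro e he
  exact C.tl p q a (ne_of_av_ne hpq) (ne_ng_of_av_ne hpq) haq hap s v e g he hg

theorem LC_wL {g : E} {a b : I ⊕ I} {v : K} (hg : π g = L a v) (hab : av a ≠ av b) (s : K) :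
    LC π g (wL L b s) := by
  have h1 : b ≠ ng a := fun h => hab (by rw [h, av_ng])
  have h2 : ng b ≠ ng a := fun h => hab (by rw [ng_inj.1 h])
  unfold wL
  exact ((LC_L R π hc hs h3 C HS hg h1 _).mul hs (LC_L R π hc hs h3 C HS hg h2 _)).mul hs
    (LC_L R π hc hs h3 C HS hg h1 _)

theorem LC_wS {g : E} {a b c : I ⊕ I} {v : K} (hg : π g = L a v) (hab : av a ≠ av b)
    (hac : av a ≠ av c) (hbc : av b ≠ av c) (s : K) : LC π g (wS T b c s) := by
  unfold wS
  have h1 : LC π g (T b c s) := LC_T R π hc hs h3 C HS hg hbc (ne_of_av_ne hac) (ne_ng_of_av_ne hab) s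
  have h2 : LC π g (T c b (-s⁻¹)) :=
    LC_T R π hc hs h3 C HS hg hbc.symm (ne_of_av_ne hab) (ne_ng_of_av_ne hac) _
  exact (h1.mul hs h2).mul hs h1

/-- (2) the candidate depends on `t² u` only -/
theorem gg_scale {a b : I ⊕ I} (hab : av a ≠ av b) (t : K) (ht : t ≠ 0) (u : K) :
    gg T L π hs T' a b 1 (t ^ 2 * u) = gg T L π hs T' a b t u := by
  have h1 : a ≠ b := ne_of_av_ne hab
  have h2 : a ≠ ng b := ne_ng_of_av_ne hab
  have h1' : b ≠ a := h1.symm
  have h2' : b ≠ ng a := fun h => h2 (by rw [h, ng_ng])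
  have hti : t⁻¹ ≠ 0 := inv_ne_zero ht
  obtain ⟨m, hma, hmb⟩ := exists_third h3 a b
  obtain ⟨δ, hδ⟩ := hs (hL L b t⁻¹)
  apply gg_conj R π hc hs h3 C HS δ
  · rw [hδ, R.hL_cj_T h1 h2 t⁻¹ hti, wtL_out h1 h2, wtL_a, inv_inv]
    congr 1
    ring
  · rw [hδ, R.hL_cj_L h1' h2' b t⁻¹ hti, wtL_a]
    congr 1
    field_simp
  · have e := T'_conj R π hc hs h3 C HS δ (a := a) (m := m) (c := ng b) (a₁ := a) (m₁ := m) (c₁ := ng b)
      hma.symm (by rw [av_ng]; exact hmb) (by rw [av_ng]; exact hab) hma.symm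
      (by rw [av_ng]; exact hmb) (by rw [av_ng]; exact hab) (1 * (t ^ 2 * u)) 1 (t * u)
      (by
        rw [hδ, R.hL_cj_T (ne_of_av_ne hma.symm) (ne_ng_of_av_ne hma.symm) t⁻¹ hti, wtL_out h1 h2,
          wtL_out (ne_of_av_ne hmb) (ne_ng_of_av_ne hmb)]
        congr 1
        simp)
      (by
        have hm1 : m ≠ ng b := ne_ng_of_av_ne hmb
        have hm2 : m ≠ ng (ng b) := by rw [ng_ng]; exact ne_of_av_ne hmb
        rw [hδ, R.hL_cj_T hm1 hm2 t⁻¹ hti, wtL_out (ne_of_av_ne hmb) (ne_ng_of_av_ne hmb), wtL_na]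
        congr 1
        field_simp)
    rw [e, one_mul]
  · have hg := map_gg R π hc hs h3 C HS hab 1 (t ^ 2 * u)
    have : LC π (gg T L π hs T' a b 1 (t ^ 2 * u)) (hL L b t⁻¹) := by
      unfold hL
      exact (LC_wL R π hc hs h3 C HS hg hab _).mul hs (LC_wL R π hc hs h3 C HS hg hab _)
    exact this δ hδ

/-- (3i) change of the auxiliary index, different underlying indices -/
theorem gg_swapS {a b b₁ : I ⊕ I} (hab : av a ≠ av b) (hab₁ : av a ≠ av b₁) (hbb : av b₁ ≠ av b)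
    (u : K) : gg T L π hs T' a b 1 u = gg T L π hs T' a b₁ 1 (sg K b₁ * sg K b * u) := by
  have n1 : b₁ ≠ b := ne_of_av_ne hbb
  have n2 : b₁ ≠ ng b := ne_ng_of_av_ne hbb
  have n3 : b₁ ≠ a := ne_of_av_ne hab₁.symm
  have n4 : b₁ ≠ ng a := ne_ng_of_av_ne hab₁.symm
  have n5 : b ≠ a := ne_of_av_ne hab.symm
  have n6 : b ≠ ng a := ne_ng_of_av_ne hab.symm
  have one_ne : (1 : K) ≠ 0 := one_ne_zero
  obtain ⟨δ, hδ⟩ := hs (wS T b₁ b 1)
  have key := gg_conj R π hc hs h3 C HS δ (a := a) (b := b) (a₁ := a) (b₁ := b₁) 1 u 1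
    (sg K b₁ * sg K b * u)
    (by
      rw [hδ, R.wS_cj_D n1 n2 n3 n4 n5 n6 1 one_ne]
      congr 1
      simp)
    (by
      rw [hδ, R.wS_cj_Lb n1 n2 1 one_ne]
      congr 1
      ring)
    (by
      have e := T'_conj R π hc hs h3 C HS δ (a := a) (m := b₁) (c := ng b) (a₁ := a) (m₁ := b)
        (c₁ := ng b₁) hab₁ (by rw [av_ng]; exact hbb) (by rw [av_ng]; exact hab) hab
        (by rw [av_ng]; exact hbb.symm) (by rw [av_ng]; exact hab₁) (1 * u) (-1 * 1)
        (sg K b₁ * sg K b * (-(1 * u)))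
        (by rw [hδ, R.wS_cj_C n1 n2 n3 n4 n5 n6 1 one_ne])
        (by rw [hδ, R.wS_cj_Tanb n1 n2 1 one_ne, R.symT_ng n1 n2])
      rw [e]
      congr 1
      ring)
    (by
      have hg := map_gg R π hc hs h3 C HS hab 1 u
      exact LC_wS R π hc hs h3 C HS hg hab₁ hab hbb 1 δ hδ)
  exact key

/-- (3ii) change of the auxiliary index to its opposite -/
theorem gg_swapL {a b : I ⊕ I} (hab : av a ≠ av b) (u : K) :
    gg T L π hs T' a b 1 u = gg T L π hs T' a (ng b) 1 (-u) := by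
  have h1 : a ≠ b := ne_of_av_ne hab
  have h2 : a ≠ ng b := ne_ng_of_av_ne hab
  have h1' : b ≠ a := h1.symm
  have h2' : b ≠ ng a := fun h => h2 (by rw [h, ng_ng])
  have hne : (-1 : K) ≠ 0 := neg_ne_zero.2 one_ne_zero
  obtain ⟨m, hma, hmb⟩ := exists_third h3 a b
  obtain ⟨δ, hδ⟩ := hs (wL L b (-1))
  have key := gg_conj R π hc hs h3 C HS δ (a := a) (b := b) (a₁ := a) (b₁ := ng b) 1 u 1 (-u)
    (by
      rw [hδ, R.wL_cj_C h1 h2 (-1) hne]
      congr 1
      simp)
    (by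
      rw [hδ, R.wL_cj_E h1' h2' (-1) hne]
      congr 1
      simp)
    (by
      have e := T'_conj R π hc hs h3 C HS δ (a := a) (m := m) (c := ng b) (a₁ := a) (m₁ := m)
        (c₁ := b) hma.symm (by rw [av_ng]; exact hmb) (by rw [av_ng]; exact hab) hma.symm hmb hab
        (1 * u) 1 ((-1 : K)⁻¹ * (1 * u))
        (by
          rw [hδ, R.wL_cj_LT (ne_of_av_ne hma.symm) (ne_ng_of_av_ne hma.symm) h1 h2
            (ne_of_av_ne hmb) (ne_ng_of_av_ne hmb)])
        (by rw [hδ, R.wL_cj_D (ne_of_av_ne hmb) (ne_ng_of_av_ne hmb) (-1) hne])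
      rw [e, ng_ng]
      congr 1
      rw [inv_neg, inv_one]
      ring)
    (by
      have hg := map_gg R π hc hs h3 C HS hab 1 u
      exact LC_wL R π hc hs h3 C HS hg hab _ δ hδ)
  exact key

/-- (3) independence of the auxiliary index -/
theorem gg_indep {a b b₁ : I ⊕ I} (hab : av a ≠ av b) (hab₁ : av a ≠ av b₁) (v : K) :
    gg T L π hs T' a b 1 (sg K a * sg K b * v) = gg T L π hs T' a b₁ 1 (sg K a * sg K b₁ * v) := by
  by_cases hbb : av b₁ = av b
  · rcases eq_or_eq_ng_of_av hbb with e | e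
    · rw [e]
    · rw [e, gg_swapL R π hc hs h3 C HS hab, sg_ng]
      congr 1
      ring
  · rw [gg_swapS R π hc hs h3 C HS hab hab₁ hbb]
    congr 1
    have := sg_mul_self (K := K) b
    linear_combination (sg K b₁ * sg K a * v) * this

theorem gg_zero_left {a b : I ⊕ I} (hab : av a ≠ av b) (u : K) : gg T L π hs T' a b 0 u = 1 := by
  unfold gg
  rw [zero_mul, T'_zero R π hc hs h3 C HS (by rw [av_ng]; exact hab), inv_one, one_mul]
  apply cm_one_left R π hc hs h3 C HS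
  rw [Function.surjInv_eq hs, R.zeroT (ne_of_av_ne hab) (ne_ng_of_av_ne hab)]

theorem gg_zero_right {a b : I ⊕ I} (hab : av a ≠ av b) (t : K) : gg T L π hs T' a b t 0 = 1 := by
  unfold gg
  rw [mul_zero, T'_zero R π hc hs h3 C HS (by rw [av_ng]; exact hab), inv_one, one_mul]
  apply cm_one_right R π hc hs h3 C HS
  rw [Function.surjInv_eq hs, R.zeroL]

end main

/-- piece LH: the canonical lifts of the long root elements -/
theorem exists_longLift (R : SpRel T L) (π : E →* Γ) (hc : π.ker ≤ Subgroup.center E)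
    (hs : Function.Surjective π) (h3 : 3 ≤ Fintype.card I) (C : CLift T L π)
    {T' : I ⊕ I → I ⊕ I → K → E} (HS : ShortLift T π T') :
    ∃ L' : I ⊕ I → K → E, LongLift T L π T' L' := by
  have hβ : ∀ a : I ⊕ I, ∃ m : I ⊕ I, av a ≠ av m := by
    intro a
    obtain ⟨m, hm, _⟩ := exists_third h3 a a
    exact ⟨m, hm.symm⟩
  choose β hβ using hβ
  refine ⟨fun a v => gg T L π hs T' a (β a) 1 (sg K a * sg K (β a) * v), ?_, ?_⟩
  · intro a v
    show π (gg T L π hs T' a (β a) 1 (sg K a * sg K (β a) * v)) = L a v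
    rw [map_gg R π hc hs h3 C HS (hβ a)]
    congr 1
    have := sg_mul_sq (K := K) a (β a)
    linear_combination v * this
  · intro a b hab hab' t u x y hx y_eq
    have habv : av a ≠ av b := av_ne_iff.2 ⟨hab, hab'⟩
    have e1 : cm x y = T' a (ng b) (t * u) * gg T L π hs T' a b t u := by
      rw [← gg_eq R π hc hs h3 C HS hx y_eq, mul_inv_cancel_left]
    rw [e1]
    congr 1
    show gg T L π hs T' a b t u =
      gg T L π hs T' a (β a) 1 (sg K a * sg K (β a) * (sg K a * sg K b * t ^ 2 * u))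
    by_cases ht : t = 0
    · subst ht
      rw [gg_zero_left R π hc hs h3 C HS habv]
      have : sg K a * sg K (β a) * (sg K a * sg K b * (0 : K) ^ 2 * u) = 0 := by ring
      rw [this, gg_zero_right R π hc hs h3 C HS (hβ a)]
    · rw [← gg_scale R π hc hs h3 C HS habv t ht u,
        ← gg_indep R π hc hs h3 C HS habv (hβ a) (sg K a * sg K b * t ^ 2 * u)]
      congr 1
      have := sg_mul_sq (K := K) a b
      linear_combination (-(t ^ 2 * u)) * this

end Cfsg.Agent.Helper18.SpExtLH
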