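import Mathlib
import Cfsg.Agent.Lib.Helper22.PPrimeCore
import Cfsg.Agent.Lib.Helper3.PrimSolv

/-!
# Groups whose prime graph has a coclique of "large" primes (helper18 library)

Frattini-type arguments: if `G` has no element of order `p r` and the arithmetic conditions
`r ∤ p ^ b - 1` hold, then for every normal subgroup `M`, `p ∣ |M|` implies `r ∣ |M|`.
-/

set_option autoImplicit false
set_option linter.style.haveILetI false

namespace Cfsg.Agent.Helper18.SpecAlt

open Subgroup

variable {G : Type*} [Group G]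

/-- An element of prime order `r` acting on a normal `p`-subgroup `P` with `r ∤ |P| - 1`
commutes with an element of order `p`. -/
theorem exists_orderOf_eq_mul_of_normal [Finite G] {p r : ℕ} (hp : p.Prime) (hr : r.Prime)
    (hpr : p ≠ r) (P : Subgroup G) [hPn : P.Normal] (hP : IsPGroup p P) (x : G)
    (hx : orderOf x = r) (hnd : ¬ r ∣ Nat.card P - 1) : ∃ g : G, orderOf g = p * r := by
  haveI : Fact r.Prime := ⟨hr⟩
  haveI : Fact p.Prime := ⟨hp⟩
  let K : Subgroup G := Subgroup.zpowers x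
  have hK : IsPGroup r K := by
    apply IsPGroup.of_card (n := 1)
    rw [Nat.card_zpowers, hx, pow_one]
  let φ : K →* MulAut P := (MulAut.conjNormal (H := P)).comp K.subtype
  letI : MulAction K P := MulAction.compHom P φ
  have hmod := hK.card_modEq_card_fixedPoints P
  have hex : ∃ y : P, y ∈ MulAction.fixedPoints K P ∧ y ≠ 1 := by
    by_contra hcon
    push Not at hcon
    have hfix : MulAction.fixedPoints K P = {1} := by
      ext y
      constructor
      · intro hy
        exact hcon y hy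
      · rintro rfl
        intro k
        change φ k 1 = 1
        exact map_one _
    rw [hfix] at hmod
    simp only [Nat.card_eq_fintype_card, Fintype.card_unique] at hmod
    have h1 : 1 ≤ Nat.card P := Nat.one_le_iff_ne_zero.mpr Nat.card_pos.ne'
    have := (Nat.modEq_iff_dvd' h1).mp hmod.symm
    exact hnd this
  obtain ⟨y, hyfix, hy1⟩ := hex
  have hcomm : x * (y : G) * x⁻¹ = y := by
    have := hyfix ⟨x, Subgroup.mem_zpowers x⟩
    have h2 : ((⟨x, Subgroup.mem_zpowers x⟩ : K) • y : P) = φ ⟨x, Subgroup.mem_zpowers x⟩ y := rfl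
    rw [h2] at this
    have h3 := congrArg (fun z : P => (z : G)) this
    simpa [φ, MulAut.conjNormal_apply] using h3
  have hcomm' : Commute x (y : G) := by
    change x * y = y * x
    calc x * (y : G) = x * y * x⁻¹ * x := by group
      _ = y * x := by rw [hcomm]
  obtain ⟨c, hc⟩ := (IsPGroup.iff_orderOf.mp hP) y
  have hc' : orderOf (y : G) = p ^ c := by rw [Subgroup.orderOf_coe]; exact hc
  have hc0 : c ≠ 0 := by
    rintro rfl
    rw [pow_zero, orderOf_eq_one_iff] at hc
    exact hy1 hc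
  obtain ⟨c', rfl⟩ := Nat.exists_eq_succ_of_ne_zero hc0
  have hy' : orderOf ((y : G) ^ (p ^ c')) = p := by
    rw [orderOf_pow_of_dvd (pow_ne_zero _ hp.ne_zero) (by rw [hc']; exact pow_dvd_pow p (Nat.le_succ c')),
      hc', pow_succ, Nat.mul_div_cancel_left _ (pow_pos hp.pos _)]
  have hcomm2 : Commute x ((y : G) ^ (p ^ c')) := hcomm'.pow_right _
  refine ⟨x * (y : G) ^ (p ^ c'), ?_⟩
  rw [hcomm2.orderOf_mul_eq_mul_orderOf_of_coprime, hx, hy', mul_comm]
  rw [hx, hy']
  exact (Nat.coprime_primes hr hp).mpr hpr.symm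

/-- The same for an arbitrary `p`-subgroup normalised by `x`. -/
theorem exists_orderOf_eq_mul [Finite G] {p r : ℕ} (hp : p.Prime) (hr : r.Prime)
    (hpr : p ≠ r) (P : Subgroup G) (hP : IsPGroup p P) (x : G) (hxN : x ∈ (normalizer (P : Set G)))
    (hx : orderOf x = r) (hnd : ¬ r ∣ Nat.card P - 1) : ∃ g : G, orderOf g = p * r := by
  haveI : (P.subgroupOf (normalizer (P : Set G))).Normal := Subgroup.normal_in_normalizer
  have hP' : IsPGroup p (P.subgroupOf (normalizer (P : Set G))) := hP.comap_subtype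
  have hcard : Nat.card (P.subgroupOf (normalizer (P : Set G))) = Nat.card P :=
    Nat.card_congr (Subgroup.subgroupOfEquivOfLe Subgroup.le_normalizer).toEquiv
  have hx' : orderOf (⟨x, hxN⟩ : (normalizer (P : Set G))) = r := by
    rw [← Subgroup.orderOf_coe]; exact hx
  obtain ⟨g, hg⟩ := exists_orderOf_eq_mul_of_normal hp hr hpr (P.subgroupOf (normalizer (P : Set G))) hP'
    ⟨x, hxN⟩ hx' (by rw [hcard]; exact hnd)
  exact ⟨(g : G), by rw [Subgroup.orderOf_coe]; exact hg⟩

/-- Frattini step. -/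
theorem dvd_card_of_dvd_card [Finite G] {p r : ℕ} (hp : p.Prime) (hr : r.Prime) (hpr : p ≠ r)
    (hno : ∀ g : G, orderOf g ≠ p * r)
    (harith : ∀ b, 1 ≤ b → p ^ b ∣ Nat.card G → ¬ r ∣ p ^ b - 1)
    (hrG : r ∣ Nat.card G) (M : Subgroup G) [hM : M.Normal] (hpM : p ∣ Nat.card M) :
    r ∣ Nat.card M := by
  by_contra hrM
  haveI : Fact p.Prime := ⟨hp⟩
  haveI : Fact r.Prime := ⟨hr⟩
  let P : Sylow p M := default
  let P' : Subgroup G := (P : Subgroup M).map M.subtype
  have hfr : (normalizer (P' : Set G)) ⊔ M = ⊤ := Sylow.normalizer_sup_eq_top P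
  have hP' : IsPGroup p P' := P.2.map _
  have hcardP' : Nat.card P' = p ^ (Nat.card M).factorization p := by
    rw [← P.card_eq_multiplicity]
    exact Subgroup.card_map_of_injective M.subtype_injective
  have hb1 : 1 ≤ (Nat.card M).factorization p :=
    (hp.dvd_iff_one_le_factorization Nat.card_pos.ne').mp hpM
  have hbG : p ^ (Nat.card M).factorization p ∣ Nat.card G :=
    (Nat.ordProj_dvd _ _).trans (Subgroup.card_subgroup_dvd_card M)
  have hnd := harith _ hb1 hbG
  have hrN : r ∣ Nat.card (normalizer (P' : Set G)) := by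
    have h1 : Nat.card ((normalizer (P' : Set G)) ⊔ M : Subgroup G) ∣ Nat.card (normalizer (P' : Set G)) * Nat.card M :=
      Cfsg.Agent.Helper22.card_sup_dvd_mul _ _
    rw [hfr, Subgroup.card_top] at h1
    rcases (Nat.Prime.dvd_mul hr).mp (hrG.trans h1) with h | h
    · exact h
    · exact absurd h hrM
  obtain ⟨x, hx⟩ := exists_prime_orderOf_dvd_card' r hrN
  have hx' : orderOf (x : G) = r := by rw [Subgroup.orderOf_coe]; exact hx
  obtain ⟨g, hg⟩ := exists_orderOf_eq_mul hp hr hpr P' hP' (x : G) x.2 hx'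
    (by rw [hcardP']; exact hnd)
  exact hno g hg

/-- The hypotheses on a set of primes `π`. -/
structure Good (G : Type*) [Group G] (π : Set ℕ) : Prop where
  prime : ∀ p ∈ π, p.Prime
  dvd : ∀ p ∈ π, p ∣ Nat.card G
  noel : ∀ p ∈ π, ∀ r ∈ π, p ≠ r → ∀ g : G, orderOf g ≠ p * r
  arith : ∀ p ∈ π, ∀ r ∈ π, p ≠ r → ∀ b, 1 ≤ b → p ^ b ∣ Nat.card G → ¬ r ∣ p ^ b - 1

theorem Good.dvd_of_dvd [Finite G] {π : Set ℕ} (h : Good G π) (M : Subgroup G) [M.Normal]
    {p r : ℕ} (hp : p ∈ π) (hr : r ∈ π) (hpM : p ∣ Nat.card M) : r ∣ Nat.card M := by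
  by_cases hpr : p = r
  · exact hpr ▸ hpM
  · exact dvd_card_of_dvd_card (h.prime p hp) (h.prime r hr) hpr (h.noel p hp r hr hpr)
      (h.arith p hp r hr hpr) (h.dvd r hr) M hpM

theorem Good.exists_chief [Finite G] {π : Set ℕ} (h : Good G π) (hne : π.Nonempty) :
    ∃ N H : Subgroup G, N.Normal ∧ H.Normal ∧ N < H ∧
      (∀ K : Subgroup G, K.Normal → N ≤ K → K ≤ H → K = N ∨ K = H) ∧
      (∀ p ∈ π, ¬ p ∣ Nat.card N) ∧ (∀ p ∈ π, p ∣ Nat.card H) := by
  obtain ⟨p₀, hp₀⟩ := hne
  let S1 : Set (Subgroup G) := {K | K.Normal ∧ ∀ p ∈ π, ¬ p ∣ Nat.card K}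
  have hS1 : S1.Nonempty := by
    refine ⟨⊥, inferInstance, fun p hp hdvd => ?_⟩
    rw [Subgroup.card_bot] at hdvd
    exact (h.prime p hp).one_lt.ne' (Nat.dvd_one.mp hdvd)
  obtain ⟨N, ⟨hNn, hNπ⟩, hNmax⟩ := Set.exists_max_image S1 (fun K => Nat.card K)
    (Set.toFinite S1) hS1
  let S2 : Set (Subgroup G) := {K | K.Normal ∧ N < K}
  have hS2 : S2.Nonempty := by
    refine ⟨⊤, inferInstance, lt_top_iff_ne_top.mpr ?_⟩
    rintro rfl
    apply hNπ p₀ hp₀
    rw [Subgroup.card_top]
    exact h.dvd p₀ hp₀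
  obtain ⟨H, ⟨hHn, hNH⟩, hHmin⟩ := Set.exists_min_image S2 (fun K => Nat.card K)
    (Set.toFinite S2) hS2
  refine ⟨N, H, hNn, hHn, hNH, ?_, hNπ, ?_⟩
  · intro K hK hNK hKH
    by_cases hKN : K = N
    · exact Or.inl hKN
    · right
      have : N < K := lt_of_le_of_ne hNK (Ne.symm hKN)
      exact Subgroup.eq_of_le_of_card_ge hKH (hHmin K ⟨hK, this⟩)
  · have hex : ∃ p ∈ π, p ∣ Nat.card H := by
      by_contra hcon
      push Not at hcon
      have h1 := hNmax H ⟨hHn, hcon⟩
      have h2 : N = H := Subgroup.eq_of_le_of_card_ge hNH.le h1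
      exact hNH.ne h2
    obtain ⟨p, hp, hpH⟩ := hex
    intro r hr
    haveI := hHn
    exact h.dvd_of_dvd H hp hr hpH

/-- An element of `H` of order `p` gives a nontrivial element in any quotient by a subgroup of
order prime to `p`. -/
theorem exists_mem_orderOf [Finite G] {p : ℕ} (hp : p.Prime) (H : Subgroup G)
    (hpH : p ∣ Nat.card H) : ∃ y ∈ H, orderOf y = p := by
  haveI : Fact p.Prime := ⟨hp⟩
  obtain ⟨y, hy⟩ := exists_prime_orderOf_dvd_card' p hpH
  exact ⟨(y : G), y.2, by rw [Subgroup.orderOf_coe]; exact hy⟩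

theorem Good.not_isSolvable [Finite G] {π : Set ℕ} (h : Good G π) {p r : ℕ} (hp : p ∈ π)
    (hr : r ∈ π) (hpr : p ≠ r) : ¬ Group.IsSolvable G := by
  intro hsolv
  obtain ⟨N, H, hNn, hHn, hNH, hmin, hNπ, hHπ⟩ := h.exists_chief ⟨p, hp⟩
  haveI := hNn
  haveI := hHn
  let Mb : Subgroup (G ⧸ N) := H.map (QuotientGroup.mk' N)
  haveI : Mb.Normal := Subgroup.Normal.map hHn _ (QuotientGroup.mk'_surjective N)
  have hdvd : ∀ q ∈ π, q ∣ Nat.card Mb := by
    intro q hq
    obtain ⟨y, hyH, hyo⟩ := exists_mem_orderOf (h.prime q hq) H (hHπ q hq)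
    have hyN : y ∉ N := by
      intro hyN
      apply hNπ q hq
      rw [← hyo]
      exact Subgroup.orderOf_dvd_natCard N hyN
    have h1 : orderOf (QuotientGroup.mk' N y) = q := by
      haveI : Fact q.Prime := ⟨h.prime q hq⟩
      apply orderOf_eq_prime
      · rw [← map_pow, ← hyo, pow_orderOf_eq_one, map_one]
      · intro h1
        apply hyN
        exact (QuotientGroup.eq_one_iff y).mp h1
    rw [← h1]
    exact Subgroup.orderOf_dvd_natCard Mb (Subgroup.mem_map_of_mem _ hyH)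
  have hMb : Mb ≠ ⊥ := by
    intro hbot
    have := hdvd p hp
    rw [hbot, Subgroup.card_bot] at this
    exact (h.prime p hp).one_lt.ne' (Nat.dvd_one.mp this)
  have hMbmin : ∀ K : Subgroup (G ⧸ N), K.Normal → K ≤ Mb → K = ⊥ ∨ K = Mb := by
    intro K hK hKM
    have h1 : N ≤ K.comap (QuotientGroup.mk' N) := by
      intro a ha
      rw [Subgroup.mem_comap]
      have : QuotientGroup.mk' N a = 1 := (QuotientGroup.eq_one_iff a).mpr ha
      rw [this]
      exact K.one_mem
    have h2 : K.comap (QuotientGroup.mk' N) ≤ H := by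
      intro a ha
      rw [Subgroup.mem_comap] at ha
      obtain ⟨b, hb, hba⟩ := hKM ha
      have h3 : b⁻¹ * a ∈ N := by
        apply (QuotientGroup.eq_one_iff _).mp
        have : QuotientGroup.mk' N (b⁻¹ * a) = (QuotientGroup.mk' N b)⁻¹ * QuotientGroup.mk' N a := by
          rw [map_mul, map_inv]
        change QuotientGroup.mk' N (b⁻¹ * a) = 1
        rw [this, hba, inv_mul_cancel]
      have : a = b * (b⁻¹ * a) := by group
      rw [this]
      exact H.mul_mem hb (hNH.le h3)
    have hKeq : K = (K.comap (QuotientGroup.mk' N)).map (QuotientGroup.mk' N) :=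
      (Subgroup.map_comap_eq_self_of_surjective (QuotientGroup.mk'_surjective N) K).symm
    rcases hmin _ (hK.comap _) h1 h2 with h3 | h3
    · left
      rw [hKeq, h3]
      rw [eq_bot_iff]
      rintro _ ⟨a, ha, rfl⟩
      rw [Subgroup.mem_bot]
      exact (QuotientGroup.eq_one_iff a).mpr ha
    · right
      rw [hKeq, h3]
  have hcomm := Cfsg.Agent.Helper3.commute_of_minimal_normal Mb hMb hMbmin
  obtain ⟨q, d, hq, hd, hcard, -⟩ :=
    Cfsg.Agent.Helper3.card_eq_prime_pow_of_minimal_normal Mb hMb hMbmin hcomm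
  have h1 := hdvd p hp
  have h2 := hdvd r hr
  rw [hcard] at h1 h2
  have e1 := (Nat.prime_dvd_prime_iff_eq (h.prime p hp) hq).mp ((h.prime p hp).dvd_of_dvd_pow h1)
  have e2 := (Nat.prime_dvd_prime_iff_eq (h.prime r hr) hq).mp ((h.prime r hr).dvd_of_dvd_pow h2)
  exact hpr (e1.trans e2.symm)

end Cfsg.Agent.Helper18.SpecAlt
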