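import Mathlib
import Cfsg.Agent.Lib.Helper18.SpecAlt1

/-!
# Simple sections (helper18 library)

A chief factor `H / N` whose order is divisible by a prime `p` exactly once is simple.
-/

set_option autoImplicit false
set_option linter.style.haveILetI false

namespace Cfsg.Agent.Helper18.SpecAlt

open Subgroup

variable {G : Type*} [Group G]

theorem mid_eq [Finite G] {N H : Subgroup G} [hN : N.Normal] [hH : H.Normal]
    (hmin : ∀ K : Subgroup G, K.Normal → N ≤ K → K ≤ H → K = N ∨ K = H)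
    {p : ℕ} (hp : p.Prime) (hpN : ¬ p ∣ Nat.card N) (hpH : p ∣ Nat.card H)
    (hsq : ¬ p ^ 2 ∣ Nat.card H)
    (T : Subgroup G) (hNT : N ≤ T) (hTH : T ≤ H) (hnorm : H ≤ normalizer (T : Set G)) :
    T = N ∨ T = H := by
  haveI : Fact p.Prime := ⟨hp⟩
  haveI hTn : (T.subgroupOf H).Normal := (Subgroup.normal_subgroupOf_iff_le_normalizer hTH).mpr hnorm
  have hcardT : Nat.card (T.subgroupOf H) = Nat.card T :=
    Nat.card_congr (Subgroup.subgroupOfEquivOfLe hTH).toEquiv
  by_cases hpT : p ∣ Nat.card T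
  · have claim : ∀ y ∈ H, orderOf y = p → y ∈ T := by
      intro y hy hyo
      have hcard : Nat.card (↥H ⧸ T.subgroupOf H) * Nat.card (T.subgroupOf H) = Nat.card H :=
        (Subgroup.card_eq_card_quotient_mul_card_subgroup _).symm
      have hnq : ¬ p ∣ Nat.card (↥H ⧸ T.subgroupOf H) := by
        intro hq
        apply hsq
        rw [← hcard, hcardT, pow_two]
        exact Nat.mul_dvd_mul hq hpT
      have hy1 : (QuotientGroup.mk' (T.subgroupOf H) ⟨y, hy⟩) ^ p = 1 := by
        rw [← map_pow]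
        have : (⟨y, hy⟩ : H) ^ p = 1 := by
          apply Subtype.ext
          simp only [Subgroup.coe_pow, Subgroup.coe_one]
          rw [← hyo]
          exact pow_orderOf_eq_one y
        rw [this, map_one]
      by_contra hyT
      have hne : QuotientGroup.mk' (T.subgroupOf H) ⟨y, hy⟩ ≠ 1 := by
        intro h1
        apply hyT
        have := (QuotientGroup.eq_one_iff _).mp h1
        exact Subgroup.mem_subgroupOf.mp this
      have ho := orderOf_eq_prime hy1 hne
      apply hnq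
      rw [← ho]
      exact orderOf_dvd_natCard _
    have hI : T.normalCore = N ∨ T.normalCore = H :=
      hmin _ (Subgroup.normalCore_normal T) (Subgroup.normal_le_normalCore.mpr hNT)
        (T.normalCore_le.trans hTH)
    rcases hI with hI | hI
    · exfalso
      obtain ⟨y, hyH, hyo⟩ := exists_mem_orderOf hp H hpH
      have hyc : y ∈ T.normalCore := by
        intro g
        apply claim _ (hH.conj_mem y hyH g)
        have := orderOf_injective (MulAut.conj g).toMonoidHom (MulAut.conj g).injective y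
        rw [← hyo, ← this]
        simp [MulAut.conj_apply]
      rw [hI] at hyc
      apply hpN
      rw [← hyo]
      exact Subgroup.orderOf_dvd_natCard N hyc
    · right
      exact le_antisymm hTH (hI ▸ T.normalCore_le)
  · left
    apply le_antisymm _ hNT
    have hcop : (Nat.card (T.subgroupOf H)).Coprime p := by
      rw [hcardT]
      exact ((Nat.Prime.coprime_iff_not_dvd hp).mpr hpT).symm
    have h1 : T.subgroupOf H ≤ Cfsg.pPrimeCore p ↥H :=
      Cfsg.Agent.Helper22.le_pPrimeCore p _ hTn hcop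
    have h2 : (Cfsg.pPrimeCore p ↥H).map H.subtype ≤ Cfsg.pPrimeCore p G :=
      Cfsg.Agent.Helper22.pPrimeCore_subgroup_le p H
    have h3 : T ≤ Cfsg.pPrimeCore p G ⊓ H := by
      intro t ht
      refine ⟨h2 ⟨⟨t, hTH ht⟩, h1 (Subgroup.mem_subgroupOf.mpr ht), rfl⟩, hTH ht⟩
    set O : Subgroup G := Cfsg.pPrimeCore p G ⊓ H with hO
    haveI : (Cfsg.pPrimeCore p G).Normal := Cfsg.Agent.Helper22.pPrimeCore_normal p
    haveI : O.Normal := Subgroup.normal_inf_normal _ _
    have hK := hmin (N ⊔ O) inferInstance le_sup_left (sup_le (hNT.trans hTH) inf_le_right)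
    have hOcard : ¬ p ∣ Nat.card O := by
      intro hdvd
      have : Nat.card O ∣ Nat.card (Cfsg.pPrimeCore p G) := Subgroup.card_dvd_of_le inf_le_left
      exact Cfsg.Agent.Helper22.not_dvd_card_pPrimeCore p hp (hdvd.trans this)
    rcases hK with hK | hK
    · rw [← hK]
      exact h3.trans le_sup_right
    · exfalso
      have h4 : Nat.card (N ⊔ O : Subgroup G) ∣ Nat.card N * Nat.card O :=
        Cfsg.Agent.Helper22.card_sup_dvd_mul N O
      rw [hK] at h4
      rcases (Nat.Prime.dvd_mul hp).mp (hpH.trans h4) with h5 | h5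
      · exact hpN h5
      · exact hOcard h5

/-- The quotient `H / N` for a chief factor with a prime dividing its order exactly once is
simple. -/
theorem isSimpleGroup_of_chief [Finite G] {N H : Subgroup G} [hN : N.Normal] [hH : H.Normal]
    (hNH : N < H)
    (hmin : ∀ K : Subgroup G, K.Normal → N ≤ K → K ≤ H → K = N ∨ K = H)
    {p : ℕ} (hp : p.Prime) (hpN : ¬ p ∣ Nat.card N) (hpH : p ∣ Nat.card H)
    (hsq : ¬ p ^ 2 ∣ Nat.card H) : IsSimpleGroup (↥H ⧸ N.subgroupOf H) := by
  have hnt : Nontrivial (↥H ⧸ N.subgroupOf H) := by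
    obtain ⟨a, haH, haN⟩ := SetLike.exists_of_lt hNH
    refine ⟨⟨QuotientGroup.mk' _ ⟨a, haH⟩, 1, ?_⟩⟩
    intro h1
    apply haN
    exact Subgroup.mem_subgroupOf.mp ((QuotientGroup.eq_one_iff _).mp h1)
  refine { exists_pair_ne := hnt.exists_pair_ne, eq_bot_or_eq_top_of_normal := ?_ }
  intro Tb hTb
  let T' : Subgroup ↥H := Tb.comap (QuotientGroup.mk' (N.subgroupOf H))
  haveI hT'n : T'.Normal := hTb.comap _
  let T : Subgroup G := T'.map H.subtype
  have hNT : N ≤ T := by
    intro a ha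
    refine ⟨⟨a, hNH.le ha⟩, ?_, rfl⟩
    change QuotientGroup.mk' (N.subgroupOf H) ⟨a, hNH.le ha⟩ ∈ Tb
    have : QuotientGroup.mk' (N.subgroupOf H) ⟨a, hNH.le ha⟩ = 1 :=
      (QuotientGroup.eq_one_iff _).mpr (Subgroup.mem_subgroupOf.mpr ha)
    rw [this]
    exact Tb.one_mem
  have hTH : T ≤ H := Subgroup.map_subtype_le T'
  have hnorm : H ≤ normalizer (T : Set G) := by
    have h1 := Subgroup.le_normalizer_map (H := T') H.subtype
    rw [Subgroup.normalizer_eq_top] at h1
    rw [← MonoidHom.range_eq_map, Subgroup.range_subtype] at h1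
    exact h1
  rcases mid_eq hmin hp hpN hpH hsq T hNT hTH hnorm with hT | hT
  · left
    rw [eq_bot_iff]
    intro qb hqb
    obtain ⟨t, rfl⟩ := QuotientGroup.mk'_surjective _ qb
    have h1 : (t : G) ∈ T := ⟨t, hqb, rfl⟩
    rw [hT] at h1
    rw [Subgroup.mem_bot]
    exact (QuotientGroup.eq_one_iff _).mpr (Subgroup.mem_subgroupOf.mpr h1)
  · right
    rw [eq_top_iff]
    intro qb _
    obtain ⟨t, rfl⟩ := QuotientGroup.mk'_surjective _ qb
    have h1 : (t : G) ∈ T := by rw [hT]; exact t.2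
    obtain ⟨t', ht', hte⟩ := h1
    have : t' = t := Subtype.ext hte
    rw [← this]
    exact ht'

theorem dvd_card_quot [Finite G] {N H : Subgroup G} [N.Normal]
    {q : ℕ} (hq : q.Prime) (hqN : ¬ q ∣ Nat.card N) (hqH : q ∣ Nat.card H) :
    q ∣ Nat.card (↥H ⧸ N.subgroupOf H) := by
  have hcard : Nat.card (↥H ⧸ N.subgroupOf H) * Nat.card (N.subgroupOf H) = Nat.card H :=
    (Subgroup.card_eq_card_quotient_mul_card_subgroup _).symm
  have h2 : Nat.card (N.subgroupOf H) ∣ Nat.card N := by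
    rw [← Subgroup.inf_subgroupOf_right]
    rw [Nat.card_congr (Subgroup.subgroupOfEquivOfLe (inf_le_right : N ⊓ H ≤ H)).toEquiv]
    exact Subgroup.card_dvd_of_le inf_le_left
  rw [← hcard] at hqH
  rcases (Nat.Prime.dvd_mul hq).mp hqH with h | h
  · exact h
  · exact absurd (h.trans h2) hqN

theorem Good.exists_simple [Finite G] {π : Set ℕ} (h : Good G π) {p r : ℕ} (hp : p ∈ π)
    (hr : r ∈ π) (hpr : p ≠ r) (hsq : ¬ p ^ 2 ∣ Nat.card G) :
    ∃ (N H : Subgroup G) (_ : N.Normal), H.Normal ∧ N < H ∧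
      IsSimpleGroup (↥H ⧸ N.subgroupOf H) ∧ ¬ IsMulCommutative (↥H ⧸ N.subgroupOf H) ∧
      ∀ q ∈ π, q ∣ Nat.card (↥H ⧸ N.subgroupOf H) := by
  obtain ⟨N, H, hNn, hHn, hNH, hmin, hNπ, hHπ⟩ := h.exists_chief ⟨p, hp⟩
  haveI := hNn
  haveI := hHn
  have hsq' : ¬ p ^ 2 ∣ Nat.card H := fun hd => hsq (hd.trans (Subgroup.card_subgroup_dvd_card H))
  have hsimple := isSimpleGroup_of_chief hNH hmin (h.prime p hp) (hNπ p hp) (hHπ p hp) hsq'
  have hdvd : ∀ q ∈ π, q ∣ Nat.card (↥H ⧸ N.subgroupOf H) :=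
    fun q hq => dvd_card_quot (h.prime q hq) (hNπ q hq) (hHπ q hq)
  refine ⟨N, H, hNn, hHn, hNH, hsimple, ?_, hdvd⟩
  intro hc
  letI : CommGroup (↥H ⧸ N.subgroupOf H) :=
    { (inferInstance : Group (↥H ⧸ N.subgroupOf H)) with mul_comm := fun a b => mul_comm' a b }
  have hprime : (Nat.card (↥H ⧸ N.subgroupOf H)).Prime := IsSimpleGroup.prime_card
  have e1 := (Nat.prime_dvd_prime_iff_eq (h.prime p hp) hprime).mp (hdvd p hp)
  have e2 := (Nat.prime_dvd_prime_iff_eq (h.prime r hr) hprime).mp (hdvd r hr)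
  exact hpr (e1.trans e2.symm)

end Cfsg.Agent.Helper18.SpecAlt
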