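import Mathlib

/-!
# Two primes between `n` and `2 n` (helper18 library)

An adaptation of the proof of Bertrand's postulate in Mathlib: for `6 ≤ n` there are two
distinct primes in the interval `(n, 2 n]`.
-/

set_option autoImplicit false

namespace Cfsg.Agent.Helper18.SpecAlt

section Real

open Real

theorem real_main_inequality2 {x : ℝ} (x_large : (512 : ℝ) ≤ x) :
    (2 * x) * (x * (2 * x) ^ √(2 * x) * 4 ^ (2 * x / 3)) ≤ 4 ^ x := by
  let f : ℝ → ℝ := fun x => log (2 * x) + (log x + √(2 * x) * log (2 * x) - log 4 / 3 * x)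
  have h5 : 0 < x := lt_of_lt_of_le (by norm_num1) x_large
  have h : ConcaveOn ℝ (Set.Ioi 0.5) f := by
    apply ConcaveOn.add
    · have := (strictConcaveOn_log_Ioi.concaveOn.comp_linearMap ((2 : ℝ) • LinearMap.id))
      refine ConcaveOn.subset (this.congr ?_) ?_ (convex_Ioi 0.5)
      · intro y _
        simp
      · intro y hy
        simp only [Set.mem_Ioi, Set.mem_preimage, LinearMap.smul_apply,
          LinearMap.id_coe, id_eq, smul_eq_mul] at hy ⊢
        have : (0.5 : ℝ) = 1 / 2 := by norm_num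
        rw [this] at hy
        linarith
    apply ConcaveOn.sub
    · apply ConcaveOn.add
      · exact strictConcaveOn_log_Ioi.concaveOn.subset
          (Set.Ioi_subset_Ioi (by norm_num)) (convex_Ioi 0.5)
      convert!
        ((strictConcaveOn_sqrt_mul_log_Ioi.concaveOn.comp_linearMap ((2 : ℝ) • LinearMap.id)))
        using 1
      ext x
      simp only [Set.mem_Ioi, Set.mem_preimage, LinearMap.smul_apply,
        LinearMap.id_coe, id_eq, smul_eq_mul]
      rw [← mul_lt_mul_iff_right₀ (two_pos)]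
      norm_num1
      rfl
    apply ConvexOn.smul
    · refine div_nonneg (log_nonneg (by norm_num1)) (by norm_num1)
    · exact convexOn_id (convex_Ioi (0.5 : ℝ))
  have key : f x ≤ 0 := by
    suffices ∃ x1 x2, 0.5 < x1 ∧ x1 < x2 ∧ x2 ≤ x ∧ 0 ≤ f x1 ∧ f x2 ≤ 0 by
      obtain ⟨x1, x2, h1, h2, h0, h3, h4⟩ := this
      exact (h.right_le_of_le_left'' h1 ((h1.trans h2).trans_le h0) h2 h0 (h4.trans h3)).trans h4
    refine ⟨18, 512, by norm_num1, by norm_num1, x_large, ?_, ?_⟩
    · have h1 : √(2 * 18 : ℝ) = 6 :=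
        (sqrt_eq_iff_mul_self_eq_of_pos (by norm_num1)).mpr (by norm_num1)
      have h2 : (0 : ℝ) ≤ log (2 * 18) := log_nonneg (by norm_num1)
      have h3 : (0 : ℝ) ≤ log 18 := log_nonneg (by norm_num1)
      have h4 : log (4 : ℝ) ≤ log (2 * 18) := log_le_log (by norm_num1) (by norm_num1)
      simp only [f]
      rw [h1]
      generalize log (2 * 18 : ℝ) = a at *
      generalize log (18 : ℝ) = b at *
      generalize log (4 : ℝ) = c at *
      linarith
    · have h1 : √(2 * 512 : ℝ) = 32 :=
        (sqrt_eq_iff_mul_self_eq_of_pos (by norm_num1)).mpr (by norm_num1)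
      have h2 : log (2 * 512 : ℝ) = 10 * log 2 := by
        rw [show (2 * 512 : ℝ) = 2 ^ 10 by norm_num1, log_pow]; push_cast; ring
      have h3 : log (512 : ℝ) = 9 * log 2 := by
        rw [show (512 : ℝ) = 2 ^ 9 by norm_num1, log_pow]; push_cast; ring
      have h4 : log (4 : ℝ) = 2 * log 2 := by
        rw [show (4 : ℝ) = 2 ^ 2 by norm_num1, log_pow]; push_cast; ring
      have h6 : (0 : ℝ) < log 2 := log_pos one_lt_two
      simp only [f]
      rw [h1, h2, h3, h4]
      linarith
  have h6 : (0 : ℝ) < 2 * x := by positivity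
  have h7 : (0 : ℝ) < (2 * x) ^ √(2 * x) := rpow_pos_of_pos h6 _
  have hA : 0 < (2 * x) * (x * (2 * x) ^ √(2 * x)) := by positivity
  have hlog : log ((2 * x) * (x * (2 * x) ^ √(2 * x))) ≤ log ((4 : ℝ) ^ (x / 3)) := by
    rw [log_mul h6.ne' (mul_pos h5 h7).ne', log_mul h5.ne' h7.ne', log_rpow h6,
      log_rpow zero_lt_four]
    simp only [f] at key
    linarith
  have hle : (2 * x) * (x * (2 * x) ^ √(2 * x)) ≤ (4 : ℝ) ^ (x / 3) :=
    (log_le_log_iff hA (rpow_pos_of_pos four_pos _)).mp hlog
  calc (2 * x) * (x * (2 * x) ^ √(2 * x) * 4 ^ (2 * x / 3))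
      = ((2 * x) * (x * (2 * x) ^ √(2 * x))) * 4 ^ (2 * x / 3) := by ring
    _ ≤ (4 : ℝ) ^ (x / 3) * 4 ^ (2 * x / 3) := by
        apply mul_le_mul_of_nonneg_right hle (rpow_pos_of_pos four_pos _).le
    _ = 4 ^ x := by
        rw [← rpow_add four_pos]
        congr 1
        ring

end Real

section Nat

open Nat

theorem main_inequality2 {n : ℕ} (n_large : 512 ≤ n) :
    (2 * n) * (n * (2 * n) ^ sqrt (2 * n) * 4 ^ (2 * n / 3)) ≤ 4 ^ n := by
  rw [← @cast_le ℝ]
  simp only [cast_mul, cast_pow, ← Real.rpow_natCast, cast_ofNat]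
  refine _root_.trans ?_ (real_main_inequality2 (by exact_mod_cast n_large))
  gcongr
  · have n2_pos : 0 < 2 * n := by positivity
    exact mod_cast n2_pos
  · exact_mod_cast Real.nat_sqrt_le_real_sqrt
  · norm_num1
  · exact cast_div_le.trans (by norm_cast)

theorem prod_small_le (n : ℕ) (n_pos : 0 < n) :
    ∏ p ∈ Finset.range (2 * n / 3 + 1), p ^ (centralBinom n).factorization p ≤
      (2 * n) ^ sqrt (2 * n) * 4 ^ (2 * n / 3) := by
  have n2_pos : 1 ≤ 2 * n := mul_pos (zero_lt_two' ℕ) n_pos
  let S := {p ∈ Finset.range (2 * n / 3 + 1) | Nat.Prime p}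
  let f x := x ^ n.centralBinom.factorization x
  have : ∏ x ∈ S, f x = ∏ x ∈ Finset.range (2 * n / 3 + 1), f x := by
    refine Finset.prod_filter_of_ne fun p _ h => ?_
    contrapose h; dsimp only [f]
    rw [factorization_eq_zero_of_not_prime n.centralBinom h, _root_.pow_zero]
  change ∏ x ∈ Finset.range (2 * n / 3 + 1), f x ≤ _
  rw [← this, ← Finset.prod_filter_mul_prod_filter_not S (· ≤ sqrt (2 * n))]
  apply mul_le_mul'
  · refine (Finset.prod_le_prod' fun p _ => (?_ : f p ≤ 2 * n)).trans ?_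
    · exact pow_factorization_choose_le (mul_pos two_pos n_pos)
    have : (Finset.Icc 1 (sqrt (2 * n))).card = sqrt (2 * n) := by rw [card_Icc, Nat.add_sub_cancel]
    rw [Finset.prod_const]
    refine pow_right_mono₀ n2_pos ((Finset.card_le_card fun x hx => ?_).trans this.le)
    obtain ⟨h1, h2⟩ := Finset.mem_filter.1 hx
    exact Finset.mem_Icc.mpr ⟨(Finset.mem_filter.1 h1).2.one_lt.le, h2⟩
  · refine le_trans ?_ (primorial_le_four_pow (2 * n / 3))
    refine (Finset.prod_le_prod' fun p hp => (?_ : f p ≤ p)).trans ?_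
    · obtain ⟨h1, h2⟩ := Finset.mem_filter.1 hp
      refine (pow_right_mono₀ (Finset.mem_filter.1 h1).2.one_lt.le ?_).trans (pow_one p).le
      exact Nat.factorization_choose_le_one (sqrt_lt'.mp <| not_le.1 h2)
    refine Finset.prod_le_prod_of_subset_of_one_le' (Finset.filter_subset _ _) ?_
    exact fun p hp _ => (Finset.mem_filter.1 hp).2.one_lt.le

theorem centralBinom_le_of_le_one_prime (n : ℕ) (n_large : 2 < n) (q : ℕ)
    (hq : ∀ p : ℕ, p.Prime → n < p → p ≤ 2 * n → p = q) :
    centralBinom n ≤ (2 * n) * ((2 * n) ^ sqrt (2 * n) * 4 ^ (2 * n / 3)) := by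
  have n_pos : 0 < n := (Nat.zero_le _).trans_lt n_large
  let f : ℕ → ℕ := fun x => x ^ n.centralBinom.factorization x
  have h1 : ∏ p ∈ Finset.range (2 * n + 1), f p = centralBinom n :=
    n.prod_pow_factorization_centralBinom
  have hle : 2 * n / 3 + 1 ≤ 2 * n + 1 := by omega
  rw [← h1, ← Finset.prod_range_mul_prod_Ico f hle, mul_comm]
  apply Nat.mul_le_mul _ (prod_small_le n n_pos)
  have hone : ∀ p ∈ Finset.Ico (2 * n / 3 + 1) (2 * n + 1), p ≠ q → f p = 1 := by
    intro p hp hne
    rw [Finset.mem_Ico] at hp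
    have h3 : 2 * n < 3 * p := by omega
    simp only [f]
    by_cases hpn : p ≤ n
    · rw [factorization_centralBinom_of_two_mul_self_lt_three_mul n_large hpn h3, Nat.pow_zero]
    · have hnp : ¬ p.Prime := fun hpp => hne (hq p hpp (by omega) (by omega))
      rw [factorization_eq_zero_of_not_prime n.centralBinom hnp, Nat.pow_zero]
  by_cases hqmem : q ∈ Finset.Ico (2 * n / 3 + 1) (2 * n + 1)
  · rw [Finset.prod_eq_single_of_mem q hqmem (fun b hb hne => hone b hb hne)]
    exact pow_factorization_choose_le (mul_pos two_pos n_pos)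
  · rw [Finset.prod_eq_one (fun p hp => hone p hp (fun h => hqmem (h ▸ hp)))]
    omega

theorem exists_two_primes_eventually (n : ℕ) (n_large : 512 ≤ n) :
    ∃ p q : ℕ, p.Prime ∧ q.Prime ∧ p < q ∧ n < p ∧ q ≤ 2 * n := by
  obtain ⟨p, hp, hnp, hp2⟩ := Nat.exists_prime_lt_and_le_two_mul n (by omega)
  by_contra hcon
  have hq : ∀ p' : ℕ, p'.Prime → n < p' → p' ≤ 2 * n → p' = p := by
    intro p' hp' h1 h2
    by_contra hne
    rcases lt_or_gt_of_ne hne with h | h
    · exact hcon ⟨p', p, hp', hp, h, h1, hp2⟩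
    · exact hcon ⟨p, p', hp, hp', h, hnp, h2⟩
  have no_prime : 4 ^ n < n * n.centralBinom :=
    Nat.four_pow_lt_mul_centralBinom n (le_trans (by norm_num1) n_large)
  have h1 := centralBinom_le_of_le_one_prime n (by omega) p hq
  have h2 := main_inequality2 n_large
  have h3 : n * n.centralBinom ≤ 4 ^ n := by
    calc n * n.centralBinom ≤ n * ((2 * n) * ((2 * n) ^ sqrt (2 * n) * 4 ^ (2 * n / 3))) :=
          Nat.mul_le_mul_left _ h1
      _ = (2 * n) * (n * (2 * n) ^ sqrt (2 * n) * 4 ^ (2 * n / 3)) := by ring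
      _ ≤ 4 ^ n := h2
  omega

theorem two_primes_of_range (a p q : ℕ) (hp : p.Prime) (hq : q.Prime) (hpq : p < q)
    (h : q ≤ 2 * a) (k : ℕ) (h1 : a ≤ k) (h2 : k < p) :
    ∃ p q : ℕ, p.Prime ∧ q.Prime ∧ p < q ∧ k < p ∧ q ≤ 2 * k :=
  ⟨p, q, hp, hq, hpq, h2, by omega⟩

/-- For `6 ≤ k` there are two distinct primes in `(k, 2 k]`. -/
theorem exists_two_primes (k : ℕ) (hk : 6 ≤ k) :
    ∃ p q : ℕ, p.Prime ∧ q.Prime ∧ p < q ∧ k < p ∧ q ≤ 2 * k := by
  by_cases h512 : 512 ≤ k
  · exact exists_two_primes_eventually k h512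
  by_cases h1 : k < 7
  · exact two_primes_of_range 6 7 11 (by norm_num) (by norm_num) (by norm_num) (by norm_num) k hk h1
  by_cases h2 : k < 11
  · exact two_primes_of_range 7 11 13 (by norm_num) (by norm_num) (by norm_num) (by norm_num) k
      (by omega) h2
  by_cases h3 : k < 13
  · exact two_primes_of_range 11 13 19 (by norm_num) (by norm_num) (by norm_num) (by norm_num) k
      (by omega) h3
  by_cases h4 : k < 19
  · exact two_primes_of_range 13 19 23 (by norm_num) (by norm_num) (by norm_num) (by norm_num) k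
      (by omega) h4
  by_cases h5 : k < 23
  · exact two_primes_of_range 19 23 37 (by norm_num) (by norm_num) (by norm_num) (by norm_num) k
      (by omega) h5
  by_cases h6 : k < 37
  · exact two_primes_of_range 23 37 43 (by norm_num) (by norm_num) (by norm_num) (by norm_num) k
      (by omega) h6
  by_cases h7 : k < 43
  · exact two_primes_of_range 37 43 73 (by norm_num) (by norm_num) (by norm_num) (by norm_num) k
      (by omega) h7
  by_cases h8 : k < 73
  · exact two_primes_of_range 43 73 83 (by norm_num) (by norm_num) (by norm_num) (by norm_num) k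
      (by omega) h8
  by_cases h9 : k < 83
  · exact two_primes_of_range 73 83 139 (by norm_num) (by norm_num) (by norm_num) (by norm_num) k
      (by omega) h9
  by_cases h10 : k < 139
  · exact two_primes_of_range 83 139 163 (by norm_num) (by norm_num) (by norm_num) (by norm_num) k
      (by omega) h10
  by_cases h11 : k < 163
  · exact two_primes_of_range 139 163 277 (by norm_num) (by norm_num) (by norm_num) (by norm_num) k
      (by omega) h11
  by_cases h12 : k < 277
  · exact two_primes_of_range 163 277 317 (by norm_num) (by norm_num) (by norm_num) (by norm_num) k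
      (by omega) h12
  by_cases h13 : k < 317
  · exact two_primes_of_range 277 317 547 (by norm_num) (by norm_num) (by norm_num) (by norm_num) k
      (by omega) h13
  · exact two_primes_of_range 317 547 631 (by norm_num) (by norm_num) (by norm_num) (by norm_num) k
      (by omega) (by omega)

/-- For `11 ≤ n` there are two distinct primes in `(n / 2, n]`. -/
theorem exists_two_primes_half (n : ℕ) (hn : 11 ≤ n) :
    ∃ p q : ℕ, p.Prime ∧ q.Prime ∧ p < q ∧ n < 2 * p ∧ q ≤ n := by
  by_cases h : n = 11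
  · subst h
    exact ⟨7, 11, by norm_num, by norm_num, by norm_num, by norm_num, le_refl _⟩
  · obtain ⟨p, q, hp, hq, hpq, h1, h2⟩ := exists_two_primes (n / 2) (by omega)
    exact ⟨p, q, hp, hq, hpq, by omega, by omega⟩

end Nat

end Cfsg.Agent.Helper18.SpecAlt
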