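import Mathlib
import Cfsg.Agent.Lib.Helper18.SpecAlt2
import Cfsg.Agent.Lib.Helper18.SpecAlt3

/-!
# Order and spectrum of alternating groups (helper18 library)
-/

set_option autoImplicit false
set_option linter.style.haveILetI false

namespace Cfsg.Agent.Helper18.SpecAlt

open Equiv Nat

theorem exists_mem_cycleType_dvd {α : Type*} [Fintype α] [DecidableEq α] (σ : Perm α) {p : ℕ}
    (hp : p.Prime) (hdvd : p ∣ orderOf σ) : ∃ a ∈ σ.cycleType, p ∣ a := by
  rw [← Equiv.Perm.lcm_cycleType] at hdvd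
  have h1 : σ.cycleType.lcm ∣ σ.cycleType.prod :=
    Multiset.lcm_dvd.mpr (fun b hb => Multiset.dvd_prod hb)
  exact (Nat.prime_iff.mp hp).exists_mem_multiset_dvd (hdvd.trans h1)

/-- A permutation of `n` points has no element of order `p r` when `n < p + r`. -/
theorem orderOf_perm_ne_mul {α : Type*} [Fintype α] [DecidableEq α] (σ : Perm α) {p r : ℕ}
    (hp : p.Prime) (hr : r.Prime) (hpr : p ≠ r) (hsum : Fintype.card α < p + r) :
    orderOf σ ≠ p * r := by
  intro ho
  obtain ⟨a, ha, hpa⟩ := exists_mem_cycleType_dvd σ hp (ho ▸ dvd_mul_right p r)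
  obtain ⟨b, hb, hrb⟩ := exists_mem_cycleType_dvd σ hr (ho ▸ dvd_mul_left r p)
  have hle := σ.sum_cycleType_le
  have hapos : 0 < a := Nat.pos_of_ne_zero (fun h0 => by
    have := Equiv.Perm.two_le_of_mem_cycleType ha; omega)
  have hbpos : 0 < b := Nat.pos_of_ne_zero (fun h0 => by
    have := Equiv.Perm.two_le_of_mem_cycleType hb; omega)
  by_cases hab : a = b
  · subst hab
    have hcop : Nat.Coprime p r := (Nat.coprime_primes hp hr).mpr hpr
    have h1 : p * r ∣ a := hcop.mul_dvd_of_dvd_of_dvd hpa hrb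
    have h2 : p * r ≤ a := Nat.le_of_dvd hapos h1
    have h3 : a ≤ σ.cycleType.sum := Multiset.le_sum_of_mem ha
    have h4 : p + r ≤ p * r := by
      have := hp.two_le
      have := hr.two_le
      nlinarith
    omega
  · obtain ⟨t, ht⟩ := Multiset.exists_cons_of_mem ha
    have hbt : b ∈ t := by
      rw [ht, Multiset.mem_cons] at hb
      rcases hb with hb | hb
      · exact absurd hb.symm hab
      · exact hb
    have h3 : b ≤ t.sum := Multiset.le_sum_of_mem hbt
    have h4 : σ.cycleType.sum = a + t.sum := by rw [ht, Multiset.sum_cons]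
    have h5 : p ≤ a := Nat.le_of_dvd hapos hpa
    have h6 : r ≤ b := Nat.le_of_dvd hbpos hrb
    omega

theorem not_sq_dvd_factorial {p n : ℕ} (hp : p.Prime) (h1 : p ≤ n) (h2 : n < 2 * p) :
    ¬ p ^ 2 ∣ n ! := by
  have hlog : Nat.log p n < 2 := by
    apply Nat.log_lt_of_lt_pow (by omega)
    have := hp.two_le
    nlinarith
  rw [hp.pow_dvd_factorial_iff hlog]
  have : Finset.Ico 1 2 = {1} := by decide
  rw [this, Finset.sum_singleton, pow_one]
  have : n / p = 1 := by
    apply Nat.div_eq_of_lt_le <;> omega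
  omega

theorem arith_generic {p r n : ℕ} (hp : p.Prime) (hr : r.Prime) (hpr : p ≠ r) (hn : 5 ≤ n)
    (hp1 : n < 2 * p) (hp2 : p ≤ n) (hr1 : n < 2 * r) (b : ℕ) (hb : 1 ≤ b)
    (hdvd : p ^ b ∣ n !) : ¬ r ∣ p ^ b - 1 := by
  have hb1 : b = 1 := by
    by_contra hne
    have : p ^ 2 ∣ p ^ b := pow_dvd_pow p (by omega)
    exact not_sq_dvd_factorial hp hp2 hp1 (this.trans hdvd)
  subst hb1
  rw [pow_one]
  rintro ⟨c, hc⟩
  have hp3 : 3 ≤ p := by omega
  have hr3 : 3 ≤ r := by omega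
  have hc1 : c = 1 := by
    rcases Nat.lt_or_ge c 2 with h | h
    · rcases Nat.eq_zero_or_pos c with h0 | h0
      · subst h0; omega
      · omega
    · exfalso
      have : 2 * r ≤ r * c := by nlinarith
      omega
  subst hc1
  have hpodd := hp.eq_two_or_odd'
  have hrodd := hr.eq_two_or_odd'
  rcases hpodd with h | h
  · omega
  rcases hrodd with h' | h'
  · omega
  obtain ⟨a, ha⟩ := h
  obtain ⟨a', ha'⟩ := h'
  omega

section Spec

variable {G : Type*} [Group G] [Finite G]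

theorem card_mul_two (n : ℕ) (hn : 5 ≤ n)
    (hcard : Nat.card G = Nat.card ↥(alternatingGroup (Fin n))) : 2 * Nat.card G = n ! := by
  haveI : Nontrivial (Fin n) := Fin.nontrivial_iff_two_le.mpr (by omega)
  rw [hcard, two_mul_nat_card_alternatingGroup, Nat.card_perm, Nat.card_fin]

theorem orderOf_ne_mul_of_spec (n : ℕ)
    (hspec : Set.range (orderOf : G → ℕ) =
      Set.range (orderOf : ↥(alternatingGroup (Fin n)) → ℕ))
    {p r : ℕ} (hp : p.Prime) (hr : r.Prime) (hpr : p ≠ r) (hsum : n < p + r) (g : G) :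
    orderOf g ≠ p * r := by
  intro ho
  have h1 : orderOf g ∈ Set.range (orderOf : ↥(alternatingGroup (Fin n)) → ℕ) := by
    rw [← hspec]; exact ⟨g, rfl⟩
  obtain ⟨σ, hσ⟩ := h1
  have h2 : orderOf (σ : Perm (Fin n)) = p * r := by
    rw [Subgroup.orderOf_coe, hσ, ho]
  exact orderOf_perm_ne_mul (σ : Perm (Fin n)) hp hr hpr (by simpa using hsum) h2

theorem good_of_spec (n : ℕ) (hn : 5 ≤ n)
    (hcard : Nat.card G = Nat.card ↥(alternatingGroup (Fin n)))
    (hspec : Set.range (orderOf : G → ℕ) =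
      Set.range (orderOf : ↥(alternatingGroup (Fin n)) → ℕ))
    (π : Set ℕ) (hπ : ∀ p ∈ π, p.Prime ∧ p ≠ 2 ∧ p ≤ n)
    (hsum : ∀ p ∈ π, ∀ r ∈ π, p ≠ r → n < p + r)
    (har : ∀ p ∈ π, ∀ r ∈ π, p ≠ r → ∀ b, 1 ≤ b → p ^ b ∣ n ! → ¬ r ∣ p ^ b - 1) :
    Good G π := by
  have h2 := card_mul_two n hn hcard
  refine ⟨fun p hp => (hπ p hp).1, ?_, ?_, ?_⟩
  · intro p hp
    obtain ⟨hpp, hp2, hpn⟩ := hπ p hp
    have h3 : p ∣ 2 * Nat.card G := by
      rw [h2]; exact (Nat.Prime.dvd_factorial hpp).mpr hpn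
    rcases (Nat.Prime.dvd_mul hpp).mp h3 with h | h
    · exact absurd ((Nat.prime_dvd_prime_iff_eq hpp Nat.prime_two).mp h) hp2
    · exact h
  · intro p hp r hr hpr g
    exact orderOf_ne_mul_of_spec n hspec (hπ p hp).1 (hπ r hr).1 hpr (hsum p hp r hr hpr) g
  · intro p hp r hr hpr b hb hdvd
    apply har p hp r hr hpr b hb
    rw [← h2]
    exact hdvd.trans (dvd_mul_left _ _)

end Spec

end Cfsg.Agent.Helper18.SpecAlt
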