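import Mathlib
import Cfsg.Prelude.Def_LieTypeChar
import Cfsg.Agent.Lib.Helper13.StBN3

/-!
# S4625 sub-piece OM-DATA (helper18): the data for the transport of `Good` to `Ω⁻` in characteristic 2
(the first part of helper13's `steinberg_of_data`, with `p = 2`).
-/

set_option autoImplicit false
set_option linter.unusedSectionVars false
set_option linter.unusedVariables false

namespace Cfsg.Agent.Helper14.SylAb

open Cfsg Matrix Cfsg.Agent.Helper13.SuBN Cfsg.Agent.Helper13.BNAbs Cfsg.Agent.Helper13.SdP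
  Cfsg.Agent.Helper13.SuP Cfsg.Agent.Helper13.SdBN Cfsg.Agent.Helper13.StP
  Cfsg.Agent.Helper2.WordLen Cfsg.Agent.Helper2.BN Cfsg.Agent.Helper17.BNCox
  Cfsg.Agent.Helper13.StBN

theorem ominus_data {F K : Type*} [Field F] [Fintype F] [Field K] [Fintype K] [CharP F 2]
    (m : ℕ) (hm : 1 ≤ m) (a b : F)
    (hab : ∀ z₁ z₂ : F, z₁ ^ 2 + a * z₁ * z₂ + b * z₂ ^ 2 = 0 → z₁ = 0 ∧ z₂ = 0)
    (ι : F →+* K) (φ : K →+* K) (ω : K) (hφφ : ∀ x, φ (φ x) = x)
    (hfix : ∀ x, φ x = x ↔ x ∈ ι.range) (hω1 : ω + φ ω = - ι a) (hω2 : ω * φ ω = ι b)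
    (hω3 : φ ω ≠ ω) :
    ∃ jH : ↥(borT (2 * m + 2) φ ⊔ monT (2 * m + 2) φ) →*
        Cfsg.isometryGroup F (Cfsg.quadFormMinus m F a b),
      Function.Injective jH ∧
      commutator (Cfsg.isometryGroup F (Cfsg.quadFormMinus m F a b)) ≤ jH.range ∧
      ¬ 2 ∣ ((commutator (Cfsg.isometryGroup F (Cfsg.quadFormMinus m F a b))).comap jH).index ∧
      IsPGroup 2 ((unipT (2 * m + 2) φ).subgroupOf
        (borT (2 * m + 2) φ ⊔ monT (2 * m + 2) φ)) ∧
      ¬ 2 ∣ ((unipT (2 * m + 2) φ).subgroupOf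
        (borT (2 * m + 2) φ ⊔ monT (2 * m + 2) φ)).index := by
  classical
  have : Fact (Nat.Prime 2) := ⟨Nat.prime_two⟩
  have hp : (2 : ℕ).Prime := Nat.prime_two
  have : CharP K 2 := charP_of_injective_ringHom ι.injective 2
  have hn : (2 * m + 2) % 2 = 0 := by omega
  have h4 : 4 ≤ 2 * m + 2 := by omega
  have hloc := bnLocT (K := K) hn h4 hφφ
  obtain ⟨N0, hN0E, hN0⟩ := exists_n0T (K := K) hn h4 φ
  have hfin : Finite (WSU (2 * m + 2) (RingHom.id K)) := finite_WSU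
  have hHle : borT (2 * m + 2) φ ⊔ monT (2 * m + 2) φ ≤ gT (2 * m + 2) φ :=
    sup_le (borT_le_gT _ φ) (monT_le_gT _ φ)
  let _ : Fintype ↥(borT (2 * m + 2) φ ⊔ monT (2 * m + 2) φ) := Fintype.ofFinite _
  let _ : Fintype ↥hloc.pair.S := Fintype.ofFinite _
  -- the Sylow subgroup
  have hUB : (unipT (2 * m + 2) φ).subgroupOf (borT (2 * m + 2) φ ⊔ monT (2 * m + 2) φ) ≤
      hloc.pair.B := by
    intro u hu
    exact unipT_le_borT φ hu
  have hUn : ∀ b ∈ hloc.pair.B,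
      ∀ u ∈ (unipT (2 * m + 2) φ).subgroupOf (borT (2 * m + 2) φ ⊔ monT (2 * m + 2) φ),
      b * u * b⁻¹ ∈ (unipT (2 * m + 2) φ).subgroupOf (borT (2 * m + 2) φ ⊔ monT (2 * m + 2) φ) := by
    intro b hb u hu
    exact conj_mem_unipT hb hu
  have hsU : ∀ s ∈ hloc.pair.S,
      ∃ u ∈ (unipT (2 * m + 2) φ).subgroupOf (borT (2 * m + 2) φ ⊔ monT (2 * m + 2) φ),
      s * u * s⁻¹ ∉ hloc.pair.B := by
    intro s hs
    obtain ⟨i, hi⟩ := hs
    have hxB := (rankOne_T (φ := φ) hn h4 hφφ i).X_sub _ (x1T_mem hn h4 i)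
    have hxU : x1T (2 * m + 2) K i ∈ unipT (2 * m + 2) φ := by
      unfold x1T
      by_cases h : i.val + 2 < (2 * m + 2) / 2
      · rw [if_pos h]
        exact XT_short_mem hn h4 i h (map_one φ)
      · obtain ⟨hav, hcv, _, _, _, _⟩ := last_idx hn h4 i h
        rw [if_neg h]
        have := xG_mem_unipT (φ := φ) hn h4 hφφ hav hcv 1
        unfold xG at this ⊢
        rw [map_one] at this
        exact this
    refine ⟨⟨_, Subgroup.mem_sup_left hxB⟩, hxU, ?_⟩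
    intro hcon
    apply conj_x1T_not_mem (K := K) hn h4 i
    have h1 : ((s * ⟨_, Subgroup.mem_sup_left hxB⟩ * s⁻¹ :
        ↥(borT (2 * m + 2) φ ⊔ monT (2 * m + 2) φ)) : WSU (2 * m + 2) (RingHom.id K)) ∈
        borT (2 * m + 2) φ := hcon
    rw [Subgroup.coe_mul, Subgroup.coe_mul, Subgroup.coe_inv, ← hi] at h1
    exact h1.1.1
  have hUp : IsPGroup 2 ((unipT (2 * m + 2) φ).subgroupOf
      (borT (2 * m + 2) φ ⊔ monT (2 * m + 2) φ)) := by
    have h1 : IsPGroup 2 (unipT (2 * m + 2) φ) :=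
      (unip_isPGroup (n := 2 * m + 2) (F := K) (φ := RingHom.id K) 2).to_le
        (fun g hg => hg.1.1)
    exact h1.comap_subtype
  have hcardB : Nat.card hloc.pair.B = Nat.card (torT (2 * m + 2) φ) *
      Nat.card ((unipT (2 * m + 2) φ).subgroupOf (borT (2 * m + 2) φ ⊔ monT (2 * m + 2) φ)) := by
    have h1 : Nat.card hloc.pair.B = Nat.card (borT (2 * m + 2) φ) :=
      Nat.card_congr (Subgroup.subgroupOfEquivOfLe le_sup_left).toEquiv
    have h2 : Nat.card ((unipT (2 * m + 2) φ).subgroupOf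
        (borT (2 * m + 2) φ ⊔ monT (2 * m + 2) φ)) = Nat.card (unipT (2 * m + 2) φ) :=
      Nat.card_congr (Subgroup.subgroupOfEquivOfLe
        (le_trans (unipT_le_borT φ) le_sup_left)).toEquiv
    rw [h1, h2, card_borT hn φ]
  let U : Sylow 2 ↥(borT (2 * m + 2) φ ⊔ monT (2 * m + 2) φ) :=
    { toSubgroup := (unipT (2 * m + 2) φ).subgroupOf (borT (2 * m + 2) φ ⊔ monT (2 * m + 2) φ)
      isPGroup' := hUp
      is_maximal' := fun {Q} hQ hle =>
        isMax_of_bn hloc.pair 2 _ hUB hUn hsU hUp _ hcardB (not_dvd_card_torT 2 φ) hQ hle }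
  -- the transport
  obtain ⟨j, hjinj, hjent, hjdet⟩ := exists_hom_minus m a b ι φ ω hφφ hfix hω1 hω2 hω3
  have hΩ : commutator (Cfsg.isometryGroup F (Cfsg.quadFormMinus m F a b)) ≤
      ((borT (2 * m + 2) φ ⊔ monT (2 * m + 2) φ).subgroupOf (gT (2 * m + 2) φ)).map j := by
    by_cases hm1 : m = 1
    · subst hm1
      exact Omega_le_map_minus_one a b hab ι φ ω hφφ hfix hω1 hω2 hω3 j hjinj hjent hjdet
        (fun h2 g => hjdet g (det_eq_one_of_two h2 1 a b hab g))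
    · exact Omega_le_map_minus m (by omega) a b hab ι φ ω hφφ hfix hω1 hω2 hω3 j hjent hjdet
  have hidx := not_dvd_index_minus 2 m hm a b hab ι φ hφφ hloc j hjinj hΩ
  let jH : ↥(borT (2 * m + 2) φ ⊔ monT (2 * m + 2) φ) →*
      Cfsg.isometryGroup F (Cfsg.quadFormMinus m F a b) :=
    j.comp (Subgroup.inclusion hHle)
  have hjHinj : Function.Injective jH := hjinj.comp (Subgroup.inclusion_injective hHle)
  have hrange : jH.range =
      ((borT (2 * m + 2) φ ⊔ monT (2 * m + 2) φ).subgroupOf (gT (2 * m + 2) φ)).map j := by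
    rw [MonoidHom.range_comp, Subgroup.inclusion_range]
  have hΩ' : commutator (Cfsg.isometryGroup F (Cfsg.quadFormMinus m F a b)) ≤ jH.range := by
    rw [hrange]; exact hΩ
  have hidx' : ¬ 2 ∣ ((commutator (Cfsg.isometryGroup F (Cfsg.quadFormMinus m F a b))).comap
      jH).index := by
    rw [Subgroup.index_comap, hrange]
    exact hidx
  exact ⟨jH, hjHinj, hΩ', hidx', hUp, U.not_dvd_index⟩

end Cfsg.Agent.Helper14.SylAb
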