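import Mathlib
import Cfsg.Agent.Lib.Helper14.SylAbDefs
import Cfsg.Agent.Lib.Helper28.SqGen

/-!
# S4625 sub-piece OM-TRANSPORT (helper18): generic transport of `Good` along an injective homomorphism
whose range contains a normal subgroup `Ω` with odd-index preimage.
-/

set_option autoImplicit false
set_option linter.unusedSectionVars false
set_option linter.unusedVariables false

namespace Cfsg.Agent.Helper14.SylAb

open Cfsg.Agent.Helper28.Sq
open scoped commutatorElement

/-- `Good` from `SylSq` on a finite group. -/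
theorem omtransport_good_of_sylSq {G : Type*} [Group G] [Finite G] (h : SylSq G) : Good G := by
  have : Fact (Nat.Prime 2) := ⟨Nat.prime_two⟩
  obtain ⟨P⟩ : Nonempty (Sylow 2 G) := Sylow.nonempty
  refine ⟨(P : Subgroup G), P.2, P.not_dvd_index, ?_⟩
  intro x hx
  have h1 := h P ⟨x, hx⟩
  rw [← Subgroup.map_subtype_commutator]
  exact ⟨_, h1, by simp⟩

theorem ominus_good_of_transport {H I : Type*} [Group H] [Finite H] [Group I] (j : H →* I)
    (hj : Function.Injective j) (Ω : Subgroup I) [Ω.Normal] (hΩ : Ω ≤ j.range)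
    (hidx : ¬ 2 ∣ (Ω.comap j).index) (U : Subgroup H) (hU2 : IsPGroup 2 U)
    (hUidx : ¬ 2 ∣ U.index) (hgen : U ≤ Subgroup.closure {g | g ∈ U ∧ g * g = 1}) : Good ↥Ω := by
  have hsq : SqComm ↥U :=
    sqComm_subgroup_of_closure U {g | g ∈ U ∧ g * g = 1} (fun g hg => hg.1) hgen
      (fun s hs => by rw [hs.2]; exact Subgroup.one_mem _)
  have hH : SylSq H := sylSq_of_subgroup U hU2 hUidx hsq
  have hN : SylSq ↥(Ω.comap j) := SylSq.of_normal_odd_index (Ω.comap j) hidx hH
  have hbij : Function.Bijective (j.subgroupComap Ω) := by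
    constructor
    · intro x y hxy
      apply Subtype.ext
      apply hj
      have := congrArg Subtype.val hxy
      exact this
    · intro y
      obtain ⟨x, hx⟩ := hΩ y.2
      refine ⟨⟨x, ?_⟩, ?_⟩
      · rw [Subgroup.mem_comap, hx]; exact y.2
      · apply Subtype.ext
        exact hx
  let e : ↥(Ω.comap j) ≃* ↥Ω := MulEquiv.ofBijective (j.subgroupComap Ω) hbij
  have : Finite ↥Ω := Finite.of_equiv _ e.toEquiv
  have hΩsq : SylSq ↥Ω := SylSq.of_equiv e.symm hN
  exact omtransport_good_of_sylSq hΩsq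

end Cfsg.Agent.Helper14.SylAb
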