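import Mathlib
import Cfsg.Prelude.Def_LieTypeChar
import Cfsg.Agent.Lib.Helper14.SylAbDefs
import Cfsg.Agent.Lib.Helper13.StBN3
import Cfsg.Agent.Lib.Helper28.SqWT
import Cfsg.Agent.Lib.Helper18.SylAbOMTRANSPORT
import Cfsg.Agent.Lib.Helper18.SylAbOMDATA

/-!
# S4625, piece SYLAB-OMINUS (helper6 design + assembly, compiled and landed by helper18): `Good (Ω⁻_{2m}(q))` in characteristic `2`
-/

set_option autoImplicit false
set_option linter.unusedSectionVars false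
set_option linter.unusedVariables false

namespace Cfsg.Agent.Helper14.SylAb

open Cfsg Matrix Cfsg.Agent.Helper13.SuBN Cfsg.Agent.Helper13.SdBN Cfsg.Agent.Helper13.StBN

/-- PIECE OMINUS -/
theorem good_OmegaMinus (F : Type*) [Field F] [Fintype F] [CharP F 2] (m : ℕ) (hm : 4 ≤ m) (a b : F)
    (hab : ∀ z₁ z₂ : F, z₁ ^ 2 + a * z₁ * z₂ + b * z₂ ^ 2 = 0 → z₁ = 0 ∧ z₂ = 0) :
    Good (Omega F (quadFormMinus (m - 1) F a b)) := by
  classical
  obtain ⟨K, _, _, ι, φ, ω, hφφ, hfix, hω1, hω2, hω3⟩ :=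
    Cfsg.Agent.Helper13.StP.exists_quadExt a b hab
  have : CharP K 2 := charP_of_injective_ringHom ι.injective 2
  obtain ⟨jH, hinj, hΩ, hidx, hU2, hUidx⟩ :=
    ominus_data (m - 1) (by omega) a b hab ι φ ω hφφ hfix hω1 hω2 hω3
  have : Finite (WSU (2 * (m - 1) + 2) (RingHom.id K)) := finite_WSU
  refine ominus_good_of_transport jH hinj _ hΩ hidx _ hU2 hUidx ?_
  intro g hg
  have hn : (2 * (m - 1) + 2) % 2 = 0 := by omega
  have h4 : 4 ≤ 2 * (m - 1) + 2 := by omega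
  have h1 := Cfsg.Agent.Helper28.SqW.unipT_le_closure_invol hn hφφ (CharTwo.two_eq_zero (R := K)) hg
  -- pull the closure back to the subgroup
  have hle : unipT (2 * (m - 1) + 2) φ ≤ borT (2 * (m - 1) + 2) φ ⊔ monT (2 * (m - 1) + 2) φ :=
    le_trans (unipT_le_borT φ) le_sup_left
  have himg : (Subgroup.closure {x : ↥(borT (2 * (m - 1) + 2) φ ⊔ monT (2 * (m - 1) + 2) φ) |
      x ∈ (unipT (2 * (m - 1) + 2) φ).subgroupOf
        (borT (2 * (m - 1) + 2) φ ⊔ monT (2 * (m - 1) + 2) φ) ∧ x * x = 1}).map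
      (borT (2 * (m - 1) + 2) φ ⊔ monT (2 * (m - 1) + 2) φ).subtype =
      Subgroup.closure {x | x ∈ unipT (2 * (m - 1) + 2) φ ∧ x * x = 1} := by
    rw [MonoidHom.map_closure]
    congr 1
    ext x
    constructor
    · rintro ⟨y, ⟨hy1, hy2⟩, rfl⟩
      refine ⟨hy1, ?_⟩
      have := congrArg Subtype.val hy2
      exact this
    · rintro ⟨hx1, hx2⟩
      exact ⟨⟨x, hle hx1⟩, ⟨hx1, Subtype.ext hx2⟩, rfl⟩
  rw [← himg] at h1
  obtain ⟨y, hy, hyg⟩ := h1
  have : y = g := Subtype.ext hyg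
  rw [← this]
  exact hy

end Cfsg.Agent.Helper14.SylAb
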