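import Mathlib
import Cfsg.Agent.Lib.Helper14.SylAbDefs
import Cfsg.Agent.Lib.Helper2.CardSL
import Cfsg.Agent.S0769

/-!
# S4625 piece SL: `SL_n(F)`, `F` finite of characteristic `2`, is `Good`

`U` = the lower unitriangular matrices: of order `q^(n(n-1)/2)`, generated by the transvections `1 + c E_ij`, `j < i`
(which are involutions in characteristic `2`), of odd index.
-/

set_option autoImplicit false
set_option linter.unusedSectionVars false
set_option linter.unusedVariables false

namespace Cfsg.Agent.Helper14.SylAb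

open Matrix Cfsg.Agent.S0769

section sl

variable {F : Type*} [Field F] {n : ℕ}

/-- the pattern: diagonal `1`, and the entry `(i, j)`, `i ≠ j`, vanishes unless `j + d ≤ i` -/
def sylabsl_Pat (d : ℕ) (M : Matrix (Fin n) (Fin n) F) : Prop :=
  (∀ i, M i i = 1) ∧ ∀ i j : Fin n, i ≠ j → (i : ℕ) < (j : ℕ) + d → M i j = 0

theorem sylabsl_pat_one (d : ℕ) : sylabsl_Pat d (1 : Matrix (Fin n) (Fin n) F) :=
  ⟨fun i => one_apply_eq i, fun i j hij _ => one_apply_ne hij⟩

theorem sylabsl_pat_mul {d : ℕ} {M N : Matrix (Fin n) (Fin n) F} (hM : sylabsl_Pat d M)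
    (hN : sylabsl_Pat d N) : sylabsl_Pat d (M * N) := by
  constructor
  · intro i
    rw [Matrix.mul_apply, Finset.sum_eq_single i]
    · rw [hM.1, hN.1, mul_one]
    · intro k _ hk
      by_cases h1 : (i : ℕ) < (k : ℕ) + d
      · rw [hM.2 i k (Ne.symm hk) h1, zero_mul]
      · rw [hN.2 k i hk (by omega), mul_zero]
    · intro h
      exact absurd (Finset.mem_univ i) h
  · intro i j hij hlt
    rw [Matrix.mul_apply]
    apply Finset.sum_eq_zero
    intro k _
    by_cases hki : k = i
    · subst hki
      rw [hN.2 k j hij hlt, mul_zero]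
    · by_cases h1 : (i : ℕ) < (k : ℕ) + d
      · rw [hM.2 i k (Ne.symm hki) h1, zero_mul]
      · have hkj : k ≠ j := by
          intro h
          subst h
          omega
        rw [hN.2 k j hkj (by omega), mul_zero]

theorem sylabsl_pat_pow {d : ℕ} {M : Matrix (Fin n) (Fin n) F} (hM : sylabsl_Pat d M) (k : ℕ) :
    sylabsl_Pat d (M ^ k) := by
  induction k with
  | zero => rw [pow_zero]; exact sylabsl_pat_one d
  | succ k ih => rw [pow_succ]; exact sylabsl_pat_mul ih hM

/-- a matrix with the pattern for `d ≥ n` is the identity -/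
theorem sylabsl_pat_eq_one {d : ℕ} (hd : n ≤ d) {M : Matrix (Fin n) (Fin n) F} (hM : sylabsl_Pat d M) :
    M = 1 := by
  ext i j
  by_cases hij : i = j
  · subst hij
    rw [hM.1, one_apply_eq]
  · rw [hM.2 i j hij (by have := i.2; omega), one_apply_ne hij]

theorem sylabsl_val_pow (a : Matrix.SpecialLinearGroup (Fin n) F) (k : ℕ) : (a ^ k).1 = a.1 ^ k := by
  induction k with
  | zero => rfl
  | succ k ih =>
    rw [pow_succ, pow_succ, ← ih]
    rfl

variable [Fintype F]

/-- the lower unitriangular subgroup of `SL_n(F)` -/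
def sylabsl_U (F : Type*) [Field F] [Fintype F] (n : ℕ) : Subgroup (Matrix.SpecialLinearGroup (Fin n) F) where
  carrier := {g | sylabsl_Pat 1 g.1}
  mul_mem' := fun {a b} ha hb => by
    show sylabsl_Pat 1 (a * b : Matrix.SpecialLinearGroup (Fin n) F).1
    exact sylabsl_pat_mul ha hb
  one_mem' := by
    show sylabsl_Pat 1 (1 : Matrix.SpecialLinearGroup (Fin n) F).1
    exact sylabsl_pat_one 1
  inv_mem' := fun {a} ha => by
    show sylabsl_Pat 1 (a⁻¹ : Matrix.SpecialLinearGroup (Fin n) F).1
    have : Finite (Matrix.SpecialLinearGroup (Fin n) F) := by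
      unfold Matrix.SpecialLinearGroup
      infer_instance
    have hpos := orderOf_pos a
    have h1 : a * a ^ (orderOf a - 1) = 1 := by
      rw [← pow_succ', Nat.sub_add_cancel hpos, pow_orderOf_eq_one]
    rw [inv_eq_of_mul_eq_one_right h1, sylabsl_val_pow]
    exact sylabsl_pat_pow ha _

theorem sylabsl_mem_U (g : Matrix.SpecialLinearGroup (Fin n) F) :
    g ∈ sylabsl_U F n ↔ sylabsl_Pat 1 g.1 := Iff.rfl

theorem sylabsl_lowerMat_pat (l : LowerIdx n → F) :
    sylabsl_Pat 1 (lowerMat (fun _ => (1 : Fˣ)) l) := by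
  constructor
  · intro i
    rw [lowerMat_diag, Units.val_one]
  · intro i j hij hlt
    apply lowerMat_upper
    rw [Fin.lt_def]
    have : (i : ℕ) ≠ (j : ℕ) := fun h => hij (Fin.ext h)
    omega

theorem sylabsl_lowerMat_det (l : LowerIdx n → F) : (lowerMat (fun _ => (1 : Fˣ)) l).det = 1 := by
  rw [det_lower _ (lowerMat_upper _ l)]
  apply Finset.prod_eq_one
  intro i _
  rw [lowerMat_diag, Units.val_one]

/-- the parametrisation of the lower unitriangular group -/
noncomputable def sylabsl_equiv : ↥(sylabsl_U F n) ≃ (LowerIdx n → F) where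
  toFun g := fun p => (g : Matrix.SpecialLinearGroup (Fin n) F).1 p.1.1 p.1.2
  invFun l := ⟨⟨lowerMat (fun _ => (1 : Fˣ)) l, sylabsl_lowerMat_det l⟩, sylabsl_lowerMat_pat l⟩
  left_inv := by
    rintro ⟨g, hg⟩
    apply Subtype.ext
    apply Subtype.ext
    ext i j
    change lowerMat (fun _ => (1 : Fˣ)) (fun p : LowerIdx n => g.1 p.1.1 p.1.2) i j = g.1 i j
    rcases lt_trichotomy i j with h | h | h
    · rw [lowerMat_upper _ _ _ _ h]
      symm
      apply hg.2 i j (ne_of_lt h)
      rw [Fin.lt_def] at h
      omega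
    · subst h
      rw [lowerMat_diag, Units.val_one, hg.1]
    · rw [lowerMat_lower _ _ _ _ h]
  right_inv := by
    intro l
    funext p
    show lowerMat (fun _ => (1 : Fˣ)) l p.1.1 p.1.2 = l p
    rw [lowerMat_lower _ _ _ _ p.2]

theorem sylabsl_card_U : Nat.card ↥(sylabsl_U F n) = Fintype.card F ^ (n * (n - 1) / 2) := by
  rw [Nat.card_congr sylabsl_equiv, Nat.card_fun, card_lowerIdx, Nat.card_eq_fintype_card]

/-- the elementary transvections in `SL_n(F)` -/
def sylabsl_t (i j : Fin n) (hij : i ≠ j) (c : F) : Matrix.SpecialLinearGroup (Fin n) F :=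
  ⟨transvection i j c, det_transvection_of_ne i j hij c⟩

theorem sylabsl_t_coe (i j : Fin n) (hij : i ≠ j) (c : F) :
    (sylabsl_t i j hij c : Matrix.SpecialLinearGroup (Fin n) F).1 = transvection i j c := rfl

theorem sylabsl_t_mul (i j : Fin n) (hij : i ≠ j) (c d : F) :
    sylabsl_t i j hij c * sylabsl_t i j hij d = sylabsl_t i j hij (c + d) := by
  apply Subtype.ext
  show transvection i j c * transvection i j d = transvection i j (c + d)
  rw [transvection_mul_transvection_same i j hij]

theorem sylabsl_t_zero (i j : Fin n) (hij : i ≠ j) : sylabsl_t i j hij (0 : F) = 1 := by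
  apply Subtype.ext
  show transvection i j (0 : F) = 1
  rw [transvection_zero]

/-- the lower elementary transvections -/
def sylabsl_S (F : Type*) [Field F] (n : ℕ) : Set (Matrix.SpecialLinearGroup (Fin n) F) :=
  {s | ∃ (i j : Fin n) (h : j < i) (c : F), s = sylabsl_t i j (ne_of_gt h) c}

/-- the entries at distance exactly `d` that do not vanish -/
noncomputable def sylabsl_supp (d : ℕ) (M : Matrix (Fin n) (Fin n) F) : Finset (Fin n × Fin n) := by
  classical
  exact Finset.univ.filter fun p => (p.1 : ℕ) = (p.2 : ℕ) + d ∧ M p.1 p.2 ≠ 0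

theorem sylabsl_mem_supp (d : ℕ) (M : Matrix (Fin n) (Fin n) F) (p : Fin n × Fin n) :
    p ∈ sylabsl_supp d M ↔ (p.1 : ℕ) = (p.2 : ℕ) + d ∧ M p.1 p.2 ≠ 0 := by
  classical
  unfold sylabsl_supp
  rw [Finset.mem_filter]
  exact ⟨fun h => h.2, fun h => ⟨Finset.mem_univ _, h⟩⟩

/-- one row operation: kill the entry `(i, j)`, `i = j + d` -/
theorem sylabsl_step {d : ℕ} (hd : 1 ≤ d) (M : Matrix (Fin n) (Fin n) F) (hM : sylabsl_Pat d M)
    (i j : Fin n) (hij : (i : ℕ) = (j : ℕ) + d) :
    sylabsl_Pat d (transvection i j (-(M i j)) * M) ∧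
      sylabsl_supp d (transvection i j (-(M i j)) * M) ⊆ (sylabsl_supp d M).erase (i, j) := by
  have hne : j ≠ i := by
    intro h
    rw [h] at hij
    omega
  have hji : M j i = 0 := hM.2 j i hne (by omega)
  have hkey : (transvection i j (-(M i j)) * M) i j = 0 := by
    rw [transvection_mul_apply_same, hM.1 j]
    ring
  refine ⟨⟨?_, ?_⟩, ?_⟩
  · intro a
    by_cases ha : a = i
    · subst ha
      rw [transvection_mul_apply_same, hM.1, hji, mul_zero, add_zero]
    · rw [transvection_mul_apply_of_ne _ _ _ _ ha, hM.1]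
  · intro a b hab hlt
    by_cases ha : a = i
    · subst ha
      have hbj : b ≠ j := by
        intro h
        subst h
        omega
      rw [transvection_mul_apply_same, hM.2 a b hab hlt, hM.2 j b (Ne.symm hbj) (by omega), mul_zero,
        add_zero]
    · rw [transvection_mul_apply_of_ne _ _ _ _ ha, hM.2 a b hab hlt]
  · intro p hp
    rw [sylabsl_mem_supp] at hp
    obtain ⟨hp1, hp2⟩ := hp
    rw [Finset.mem_erase, sylabsl_mem_supp]
    by_cases ha : p.1 = i
    · exfalso
      have hb : p.2 = j := by
        apply Fin.ext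
        rw [ha] at hp1
        omega
      apply hp2
      rw [ha, hb]
      exact hkey
    · refine ⟨?_, hp1, ?_⟩
      · intro h
        apply ha
        rw [h]
      · rwa [transvection_mul_apply_of_ne _ _ _ _ ha] at hp2

/-- the lower unitriangular matrices are products of lower elementary transvections -/
theorem sylabsl_gen (k : ℕ) : ∀ d : ℕ, 1 ≤ d → n ≤ d + k → ∀ g : Matrix.SpecialLinearGroup (Fin n) F,
    sylabsl_Pat d g.1 → g ∈ Subgroup.closure (sylabsl_S F n) := by
  induction k with
  | zero =>
    intro d hd hn g hg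
    have h1 : g = 1 := by
      apply Subtype.ext
      exact sylabsl_pat_eq_one (by omega) hg
    rw [h1]
    exact Subgroup.one_mem _
  | succ k ih =>
    intro d hd hn
    -- induction on the number of nonzero entries at distance `d`
    have key : ∀ m : ℕ, ∀ g : Matrix.SpecialLinearGroup (Fin n) F,
        sylabsl_Pat d g.1 →
        (sylabsl_supp d g.1).card = m →
        g ∈ Subgroup.closure (sylabsl_S F n) := by
      intro m
      induction m using Nat.strong_induction_on with
      | _ m ihm =>
        intro g hg hcard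
        by_cases hempty : sylabsl_supp d g.1 = ∅
        · -- pattern for `d + 1`
          apply ih (d + 1) (by omega) (by omega) g
          refine ⟨hg.1, ?_⟩
          intro i j hij hlt
          by_cases h1 : (i : ℕ) < (j : ℕ) + d
          · exact hg.2 i j hij h1
          · by_contra hne
            have : (i, j) ∈ sylabsl_supp d g.1 := by
              rw [sylabsl_mem_supp]
              exact ⟨by simp only; omega, hne⟩
            rw [hempty] at this
            exact absurd this (Finset.notMem_empty _)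
        · obtain ⟨p, hp⟩ := Finset.nonempty_iff_ne_empty.2 hempty
          have hp' := (sylabsl_mem_supp d _ p).1 hp
          obtain ⟨hp1, hp2⟩ := hp'
          set i := p.1 with hi
          set j := p.2 with hj
          have hlt : j < i := by
            rw [Fin.lt_def]
            omega
          set c := g.1 i j with hc
          obtain ⟨hpat, hsub⟩ := sylabsl_step hd g.1 hg i j hp1
          set g' : Matrix.SpecialLinearGroup (Fin n) F := sylabsl_t i j (ne_of_gt hlt) (-c) * g with hg'
          have hcoe : g'.1 = transvection i j (-c) * g.1 := by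
            rw [hg']
            rfl
          have hlt' : (sylabsl_supp d g'.1).card < m := by
            rw [hcoe, ← hcard]
            apply Finset.card_lt_card
            apply lt_of_le_of_lt hsub
            exact Finset.erase_ssubset hp
          have hmem' := ihm _ hlt' g' (by rw [hcoe]; exact hpat) rfl
          have hg_eq : g = sylabsl_t i j (ne_of_gt hlt) c * g' := by
            rw [hg', ← mul_assoc, sylabsl_t_mul, add_neg_cancel, sylabsl_t_zero, one_mul]
          rw [hg_eq]
          apply Subgroup.mul_mem _ _ hmem'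
          exact Subgroup.subset_closure ⟨i, j, hlt, c, rfl⟩
    intro g hg
    exact key _ g hg rfl

theorem sylabsl_U_eq_closure : sylabsl_U F n = Subgroup.closure (sylabsl_S F n) := by
  apply le_antisymm
  · intro g hg
    exact sylabsl_gen n 1 le_rfl (by omega) g hg
  · rw [Subgroup.closure_le]
    rintro s ⟨i, j, h, c, rfl⟩
    show sylabsl_Pat 1 (transvection i j c)
    constructor
    · intro a
      unfold transvection
      rw [Matrix.add_apply, one_apply_eq, single_apply_of_ne, add_zero]
      rintro ⟨h1, h2⟩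
      have h3 : i = j := h1.trans h2.symm
      rw [h3] at h
      exact lt_irrefl _ h
    · intro a b hab hlt
      unfold transvection
      rw [Matrix.add_apply, one_apply_ne hab, single_apply_of_ne, add_zero]
      rintro ⟨h1, h2⟩
      subst h1 h2
      rw [Fin.lt_def] at h
      omega

end sl

/-- PIECE PSL -/
theorem good_SL (F : Type*) [Field F] [Fintype F] [CharP F 2] (n : ℕ) (hn : 2 ≤ n) :
    Good (Matrix.SpecialLinearGroup (Fin n) F) := by
  classical
  have : Fact (Nat.Prime 2) := ⟨Nat.prime_two⟩
  have : Finite (Matrix.SpecialLinearGroup (Fin n) F) := by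
    unfold Matrix.SpecialLinearGroup
    infer_instance
  set q := Fintype.card F with hq
  obtain ⟨f, -, hqf⟩ := FiniteField.card F 2
  rw [← hq] at hqf
  have hq1 : 1 < q := Fintype.one_lt_card
  set N := n * (n - 1) / 2 with hN
  have hcardU : Nat.card ↥(sylabsl_U F n) = q ^ N := sylabsl_card_U
  -- the order of `SL_n`
  have hSL := Cfsg.Agent.Helper2.card_SL_mul (F := F) n (by omega)
  rw [← hq] at hSL
  have hfac : ∀ i : Fin n, q ^ n - q ^ (i : ℕ) = q ^ (i : ℕ) * (q ^ (n - (i : ℕ)) - 1) := by
    intro i
    have hi : (i : ℕ) ≤ n := i.2.le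
    rw [Nat.mul_sub, mul_one, ← pow_add, Nat.add_sub_cancel' hi]
  have hprod : ∏ i : Fin n, (q ^ n - q ^ (i : ℕ)) =
      q ^ N * ∏ i : Fin n, (q ^ (n - (i : ℕ)) - 1) := by
    simp only [hfac]
    rw [Finset.prod_mul_distrib, Finset.prod_pow_eq_pow_sum]
    congr 2
    rw [hN, ← Finset.sum_range_id, Finset.sum_range]
  have hodd : ¬ 2 ∣ ∏ i : Fin n, (q ^ (n - (i : ℕ)) - 1) := by
    rw [Prime.dvd_finsetProd_iff Nat.prime_two.prime]
    rintro ⟨i, -, hi⟩
    have hpos : 0 < n - (i : ℕ) := Nat.sub_pos_of_lt i.2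
    have hpq : 2 ∣ q ^ (n - (i : ℕ)) := by
      rw [hqf, ← pow_mul]
      exact dvd_pow_self 2 (Nat.mul_ne_zero f.ne_zero hpos.ne')
    have h1 : 1 ≤ q ^ (n - (i : ℕ)) := Nat.one_le_pow _ _ (by omega)
    have := (Nat.dvd_sub_iff_right h1 hpq).mp hi
    exact absurd (Nat.dvd_one.mp this) (by norm_num)
  -- the index
  have hidx : ¬ 2 ∣ (sylabsl_U F n).index := by
    intro h2
    apply hodd
    have h3 := (sylabsl_U F n).card_mul_index
    rw [hcardU] at h3
    rw [hprod, ← h3] at hSL
    have h4 : q ^ N * ((q - 1) * (sylabsl_U F n).index) = q ^ N * ∏ i : Fin n, (q ^ (n - (i : ℕ)) - 1) := by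
      rw [← hSL]
      ring
    have h5 := Nat.eq_of_mul_eq_mul_left (pow_pos (by omega) N) h4
    rw [← h5]
    exact Dvd.dvd.mul_left h2 _
  have h2grp : IsPGroup 2 ↥(sylabsl_U F n) := by
    apply IsPGroup.of_card (n := (f : ℕ) * N)
    rw [hcardU, hqf, pow_mul]
  rw [sylabsl_U_eq_closure] at hidx h2grp
  apply good_of_closure_invol (sylabsl_S F n) ?_ h2grp hidx
  rintro s ⟨i, j, h, c, rfl⟩
  rw [pow_two, sylabsl_t_mul, CharTwo.add_self_eq_zero, sylabsl_t_zero]

end Cfsg.Agent.Helper14.SylAb
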