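import Mathlib
import Cfsg.Prelude.Def_Blocks
import Cfsg.Agent.Lib.Helper23.BlockCount
import Cfsg.Agent.Lib.Helper23.BlockNormalP
import Cfsg.Agent.Lib.Helper23.BlockBrauer2
import Cfsg.Agent.Lib.Helper23.BlockDefectGroup2
import Cfsg.Agent.Lib.Helper5.Clifford2
import Cfsg.Agent.Lib.Helper24.CoprimeOver

/-!
# Counting the blocks of a group with a normal Sylow subgroup (helper18's library)
-/

set_option autoImplicit false

namespace Cfsg.Agent.Helper18.SylowCount

open Cfsg Cfsg.Agent.Helper24 Cfsg.Agent.Helper23.Blk
open scoped ComplexConjugate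

universe u

section GroupTheory

variable {H : Type u} [Group H] [Finite H] {p : ℕ} [Fact p.Prime]

/-- With a normal Sylow `p`-subgroup `S`, there is a normal `p'`-subgroup containing all the
`p`-regular elements of the centralizer of `S`. -/
theorem exists_normal_pprime (S : Sylow p H) [hS : (S : Subgroup H).Normal] :
    ∃ K : Subgroup H, K.Normal ∧ ¬ p ∣ Nat.card K ∧
      ∀ x ∈ Subgroup.centralizer ((S : Subgroup H) : Set H), ¬ p ∣ orderOf x → x ∈ K := by
  classical
  set C : Subgroup H := Subgroup.centralizer ((S : Subgroup H) : Set H) with hC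
  haveI hCn : C.Normal := Subgroup.normal_centralizer
  obtain ⟨Q⟩ : Nonempty (Sylow p C) := inferInstance
  -- `Q` is central in `C`
  have hQS : ∀ q : C, q ∈ (Q : Subgroup C) → (q : H) ∈ (S : Subgroup H) := by
    intro q hq
    have hpg : IsPGroup p ((Q : Subgroup C).map C.subtype) := Q.2.map _
    obtain ⟨P', hP'⟩ := hpg.exists_le_sylow
    haveI := Sylow.unique_of_normal S hS
    have hPS : P' = S := Subsingleton.elim _ _
    rw [hPS] at hP'
    exact hP' ⟨q, hq, rfl⟩
  have hcomm : ∀ q : C, q ∈ (Q : Subgroup C) → ∀ c : C, q * c = c * q := by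
    intro q hq c
    apply Subtype.ext
    have h1 : (c : H) ∈ Subgroup.centralizer ((S : Subgroup H) : Set H) := c.2
    rw [Subgroup.mem_centralizer_iff] at h1
    exact h1 (q : H) (hQS q hq)
  have hP : Subgroup.normalizer ((Q : Subgroup C) : Set C) ≤
      Subgroup.centralizer ((Q : Subgroup C) : Set C) := by
    intro c _
    rw [Subgroup.mem_centralizer_iff]
    intro q hq
    exact hcomm q hq c
  set K0 : Subgroup C := (MonoidHom.transferSylow Q hP).ker with hK0
  have hK0p : ¬ p ∣ Nat.card K0 := MonoidHom.not_dvd_card_ker_transferSylow Q hP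
  -- `p`-regular elements lie in `K0`
  have hreg : ∀ c : C, ¬ p ∣ orderOf c → c ∈ K0 := by
    intro c hc
    rw [hK0, MonoidHom.mem_ker]
    set t := MonoidHom.transferSylow Q hP c with ht
    have h1 : orderOf t ∣ orderOf c := orderOf_map_dvd _ c
    obtain ⟨k, hk⟩ := Q.2 t
    have h2 : orderOf t ∣ p ^ k := orderOf_dvd_of_pow_eq_one hk
    obtain ⟨j, -, hj⟩ := (Nat.dvd_prime_pow (Fact.out : p.Prime)).1 h2
    rcases Nat.eq_zero_or_pos j with h0 | hpos
    · rw [h0, pow_zero, orderOf_eq_one_iff] at hj
      exact hj
    · exfalso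
      apply hc
      refine dvd_trans ?_ h1
      rw [hj]
      exact dvd_pow_self p hpos.ne'
  have hregK : ∀ c : C, c ∈ K0 → ¬ p ∣ orderOf c := by
    intro c hc hdvd
    apply hK0p
    have h1 : orderOf (⟨c, hc⟩ : K0) = orderOf c := Subgroup.orderOf_mk c hc
    rw [← h1] at hdvd
    exact dvd_trans hdvd (orderOf_dvd_natCard _)
  refine ⟨K0.map C.subtype, ?_, ?_, ?_⟩
  · constructor
    rintro _ ⟨c, hc, rfl⟩ h
    have hmem : h * (c : H) * h⁻¹ ∈ C := hCn.conj_mem _ c.2 h
    refine ⟨⟨_, hmem⟩, ?_, rfl⟩
    apply hreg
    have h1 : orderOf (⟨h * (c : H) * h⁻¹, hmem⟩ : C) = orderOf (h * (c : H) * h⁻¹) :=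
      Subgroup.orderOf_mk _ hmem
    have h2 : orderOf (h * (c : H) * h⁻¹) = orderOf (c : H) := by
      have := (MulAut.conj h).orderOf_eq (c : H)
      simpa using this
    rw [h1, h2, Subgroup.orderOf_coe]
    exact hregK c hc
  · rw [Subgroup.card_map_of_injective C.subtype_injective]
    exact hK0p
  · intro x hx hxp
    refine ⟨⟨x, hx⟩, ?_, rfl⟩
    apply hreg
    rw [Subgroup.orderOf_mk]
    exact hxp

end GroupTheory

section Omega

variable {H : Type u} [Group H] [Fintype H]

/-- The central character of `χ` on a class function supported on a normal subgroup `K` equals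
that of any irreducible constituent of the restriction of `χ` to `K`. -/
theorem omega_eq_omega_constituent (K : Subgroup H) [hK : K.Normal] [Fintype K] {χ : H → ℂ}
    (hχ : IsIrrCharacter H χ) {θ : K → ℂ} (hθ : IsIrrCharacter K θ)
    (hcon : classInner (fun n : K => χ n) θ ≠ 0) {z : H → ℂ} (hzc : IsClassFunction H z)
    (hzK : ∀ x ∉ K, z x = 0) :
    omega χ z = omega θ (fun k : K => z k) := by
  classical
  have horb := Cfsg.Agent.Helper5.clifford_orbit_sum K hχ hθ hcon
  set t : ℂ := (Nat.card {x : H // Cfsg.Agent.Helper5.conjFun K x θ = θ} : ℂ) with ht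
  set e : ℂ := classInner (fun n : K => χ n) θ with he
  have ht0 : t ≠ 0 := by
    rw [ht]
    haveI : Nonempty {x : H // Cfsg.Agent.Helper5.conjFun K x θ = θ} :=
      ⟨⟨1, Cfsg.Agent.Helper5.conjFun_one K θ⟩⟩
    exact_mod_cast (Nat.card_pos (α := {x : H // Cfsg.Agent.Helper5.conjFun K x θ = θ})).ne'
  have hcard : (Fintype.card H : ℂ) ≠ 0 := by exact_mod_cast Fintype.card_ne_zero
  have hχ1 := irr_one_ne_zero hχ
  have hθ1 := irr_one_ne_zero hθ
  -- pointwise form of the orbit sum
  have hpt : ∀ k : K, t * χ k = e * ∑ x : H, Cfsg.Agent.Helper5.conjFun K x θ k := by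
    intro k
    have := congrFun horb k
    simpa [Pi.smul_apply, Finset.sum_apply, smul_eq_mul] using this
  -- the sum over `H` is a sum over `K`
  have hsumK : ∑ g : H, z g * χ g = ∑ k : K, z k * χ k := by
    apply Cfsg.Agent.Helper24.sum_eq_sum_subgroup K (fun g => z g * χ g)
    intro x hx
    show z x * χ x = 0
    rw [hzK x hx, zero_mul]
  -- invariance of `z`
  have hinv : ∀ x : H, ∑ k : K, z k * Cfsg.Agent.Helper5.conjFun K x θ k = ∑ k : K, z k * θ k := by
    intro x
    apply Fintype.sum_equiv ((MulAut.conjNormal x : MulAut K).toEquiv)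
    intro k
    rw [Cfsg.Agent.Helper5.conjFun_apply]
    have h1 : ((MulAut.conjNormal x : MulAut K).toEquiv k : H) = x * k * x⁻¹ := by
      simp
    have h2 : z (((MulAut.conjNormal x : MulAut K).toEquiv k : K) : H) = z k := by
      rw [h1]
      exact hzc (k : H) x
    rw [h2]
    congr 2
  have hA : t * ∑ k : K, z k * χ k = e * (Fintype.card H : ℂ) * ∑ k : K, z k * θ k := by
    rw [Finset.mul_sum]
    have h1 : ∀ k : K, t * (z k * χ k) = e * ∑ x : H, z k * Cfsg.Agent.Helper5.conjFun K x θ k := by
      intro k
      have h2 : ∑ x : H, z k * Cfsg.Agent.Helper5.conjFun K x θ k =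
          z k * ∑ x : H, Cfsg.Agent.Helper5.conjFun K x θ k := by
        rw [Finset.mul_sum]
      rw [h2]
      have h3 := hpt k
      calc t * (z k * χ k) = z k * (t * χ k) := by ring
        _ = z k * (e * ∑ x : H, Cfsg.Agent.Helper5.conjFun K x θ k) := by rw [h3]
        _ = e * (z k * ∑ x : H, Cfsg.Agent.Helper5.conjFun K x θ k) := by ring
    rw [Finset.sum_congr rfl (fun k _ => h1 k), ← Finset.mul_sum, Finset.sum_comm,
      Finset.sum_congr rfl (fun x _ => hinv x), Finset.sum_const, Finset.card_univ,
      nsmul_eq_mul]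
    ring
  have hone : t * χ 1 = e * (Fintype.card H : ℂ) * θ 1 := by
    have h1 := hpt 1
    have h2 : ∀ x : H, Cfsg.Agent.Helper5.conjFun K x θ 1 = θ 1 := by
      intro x
      rw [Cfsg.Agent.Helper5.conjFun_apply]
      congr 1
      apply Subtype.ext
      simp
    rw [Finset.sum_congr rfl (fun x _ => h2 x), Finset.sum_const, Finset.card_univ,
      nsmul_eq_mul] at h1
    have h3 : ((1 : K) : H) = 1 := rfl
    rw [h3] at h1
    rw [h1]
    ring
  unfold omega
  rw [hsumK]
  rw [div_eq_div_iff hχ1 hθ1]
  have he0 : e ≠ 0 := hcon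
  have h5 : t * ((∑ k : K, z k * χ k) * θ 1) = t * ((∑ k : K, z k * θ k) * χ 1) := by
    rw [← mul_assoc, hA, mul_comm (∑ k : K, z k * θ k) (χ 1), ← mul_assoc t, hone]
    ring
  exact mul_left_cancel₀ ht0 h5

variable {p : ℕ} {M : Ideal AlgInt}

/-- A class function supported on a normal `p'`-subgroup all of whose central character values
lie in the local ideal has all its values in the local ideal. -/
theorem memLocalIdeal_of_omega (hM : IsPModular p M) (K : Subgroup H) [hK : K.Normal]
    (hKp : ¬ p ∣ Nat.card K) {z : H → ℂ} (hzc : IsClassFunction H z)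
    (hzK : ∀ x ∉ K, z x = 0)
    (hω : ∀ χ : H → ℂ, IsIrrCharacter H χ → MemLocalIdeal M (omega χ z)) :
    ∀ x, MemLocalIdeal M (z x) := by
  classical
  haveI hMp : M.IsPrime := hM.2.1.isPrime
  have hne : M ≠ ⊤ := hM.2.1.ne_top
  haveI : Fintype K := Fintype.ofFinite K
  letI := irrFintype (G := K)
  intro x
  by_cases hx : x ∈ K
  · set zK : K → ℂ := fun k => z k with hzK'
    have hzKc : IsClassFunction K zK := by
      intro a b
      exact hzc (a : H) (b : H)
    have h1 := synth_omega hzKc ⟨x, hx⟩
    have h2 : z x = zK ⟨x, hx⟩ := rfl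
    rw [h2, ← h1]
    unfold synth
    apply memLocalIdeal_sum
    intro θ _
    apply memLocalIdeal_mul_right
    · obtain ⟨χ, hχ, hcon⟩ := exists_irr_over K θ.2
      have h5 := omega_eq_omega_constituent K hχ θ.2 hcon hzc hzK
      show MemLocalIdeal M (omega (θ : K → ℂ) zK)
      rw [hzK', ← h5]
      exact hω χ hχ
    · unfold idemCoeff
      apply memLocalRing_mul
      · have h3 : MemLocalRing M ((Nat.card K : ℕ) : ℂ) := memLocalRing_natCast _
        have h4 : ¬ MemLocalIdeal M ((Nat.card K : ℕ) : ℂ) := by
          rw [memLocalIdeal_natCast_iff hM]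
          exact hKp
        exact memLocalRing_inv h3 h4
      · apply memLocalRing_of_isIntegral _ hne
        apply IsIntegral.mul
        · exact isIntegral_of_isCharacter (isCharacter_of_isIrrCharacter θ.2) 1
        · have := isIntegral_of_isCharacter (isCharacter_of_isIrrCharacter θ.2) (⟨x, hx⟩ : K)
          have h6 := this.map (starRingEnd ℂ).toIntAlgHom
          exact h6
  · rw [hzK x hx]
    exact memLocalIdeal_zero hne

end Omega

section Count

variable {H : Type u} [Group H] [Finite H] {p : ℕ} [Fact p.Prime] {M : Ideal AlgInt}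

/-- the classes of `p`-regular elements centralizing `S` -/
def regClasses (p : ℕ) (S : Subgroup H) : Set (ConjClasses H) :=
  {C | ∀ n : H, ConjClasses.mk n = C → ¬ p ∣ orderOf n ∧ n ∈ Subgroup.centralizer (S : Set H)}

theorem red_eq_of_sub [hMax : M.IsMaximal] {z w : ℂ} (hz : MemLocalRing M z)
    (hw : MemLocalRing M w) (h : MemLocalIdeal M (z - w)) : red M z = red M w := by
  haveI hMp : M.IsPrime := hMax.isPrime
  have h1 : z = w + (z - w) := by ring
  have h2 : MemLocalRing M (z - w) := memLocalRing_sub hz hw
  rw [h1, red_add hw h2, (red_eq_zero_iff h2).2 h, add_zero]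

theorem card_blocks_le (hM : IsPModular p M) (S : Sylow p H) [hS : (S : Subgroup H).Normal] :
    Nat.card {B : Set (IrrCharacter H) // IsPBlock M B} ≤
      Nat.card (regClasses p (S : Subgroup H)) := by
  classical
  haveI : Fintype H := Fintype.ofFinite H
  have hne : M ≠ ⊤ := hM.2.1.ne_top
  haveI hCn : (Subgroup.centralizer ((S : Subgroup H) : Set H)).Normal :=
    Subgroup.normal_centralizer
  have h := card_blocks_le_card_classes hM {B : Set (IrrCharacter H) | IsPBlock M B}
    (fun B hB => hB) 1 (fun B _ => Nat.one_le_pow _ _ (Fact.out : p.Prime).pos)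
    (regClasses p (S : Subgroup H)) ?_
  · exact h
  · intro B hB x hx hnot
    exfalso
    apply hx
    have h0 : blockCoeff B x = 0 := by
      by_cases hxp : p ∣ orderOf x
      · exact blockCoeff_eq_zero_of_pSingular hM hB hxp
      by_cases hxC : x ∈ Subgroup.centralizer ((S : Subgroup H) : Set H)
      · exfalso
        apply hnot
        intro n hn
        rw [ConjClasses.mk_eq_mk_iff_isConj, isConj_iff] at hn
        obtain ⟨g, rfl⟩ := hn
        constructor
        · have h2 : orderOf (g * n * g⁻¹) = orderOf n := by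
            have := (MulAut.conj g).orderOf_eq n
            simpa using this
          rw [← h2]
          exact hxp
        · have h3 := hCn.conj_mem _ hxC g⁻¹
          have h4 : g⁻¹ * (g * n * g⁻¹) * g⁻¹⁻¹ = n := by group
          rw [h4] at h3
          exact h3
      · exact blockCoeff_eq_zero_of_not_mem_centralizer hM hB (S : Subgroup H) S.2 hxC
    rw [h0]
    exact memLocalIdeal_zero hne

theorem card_classes_le (hM : IsPModular p M) (S : Sylow p H) [hS : (S : Subgroup H).Normal] :
    Nat.card (regClasses p (S : Subgroup H)) ≤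
      Nat.card {B : Set (IrrCharacter H) // IsPBlock M B} := by
  classical
  haveI : Fintype H := Fintype.ofFinite H
  haveI hMax : M.IsMaximal := hM.2.1
  haveI hMp : M.IsPrime := hMax.isPrime
  have hne : M ≠ ⊤ := hMax.ne_top
  letI := irrFintype (G := H)
  haveI : Fintype {B : Set (IrrCharacter H) // IsPBlock M B} := Fintype.ofFinite _
  haveI : Fintype (regClasses p (S : Subgroup H)) := Fintype.ofFinite _
  obtain ⟨K, hKn, hKp, hKreg⟩ := exists_normal_pprime S
  choose rep hrep using fun B : {B : Set (IrrCharacter H) // IsPBlock M B} =>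
    block_nonempty hM B.2
  set v : regClasses p (S : Subgroup H) → ({B : Set (IrrCharacter H) // IsPBlock M B} →
      AlgInt ⧸ M) :=
    fun C B => red M (centralChar (rep B : H → ℂ) (Quotient.out (C : ConjClasses H))) with hv
  have hli : LinearIndependent (AlgInt ⧸ M) v := by
    rw [Fintype.linearIndependent_iff]
    intro l hl C₀
    choose c hcR hcred using fun C : regClasses p (S : Subgroup H) =>
      exists_red_eq (M := M) (l C)
    set z : H → ℂ := fun x => ∑ C : regClasses p (S : Subgroup H),
      c C * classInd (Quotient.out (C : ConjClasses H)) x with hz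
    have hzc : IsClassFunction H z := by
      intro g h
      simp only [hz]
      apply Finset.sum_congr rfl
      intro C _
      rw [isClassFunction_classInd _ g h]
    have houtK : ∀ C : regClasses p (S : Subgroup H), Quotient.out (C : ConjClasses H) ∈ K := by
      intro C
      have h1 := C.2 (Quotient.out (C : ConjClasses H)) (Quotient.out_eq _)
      exact hKreg _ h1.2 h1.1
    have hzK : ∀ x ∉ K, z x = 0 := by
      intro x hx
      simp only [hz]
      apply Finset.sum_eq_zero
      intro C _
      have h1 : classInd (Quotient.out (C : ConjClasses H)) x = 0 := by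
        unfold classInd
        rw [if_neg]
        intro hc
        apply hx
        rw [isConj_iff] at hc
        obtain ⟨g, rfl⟩ := hc
        exact hKn.conj_mem _ (houtK C) g
      rw [h1, mul_zero]
    have hω : ∀ χ : H → ℂ, IsIrrCharacter H χ → MemLocalIdeal M (omega χ z) := by
      intro χ hχ
      set χ' : IrrCharacter H := ⟨χ, hχ⟩ with hχ'
      set B : {B : Set (IrrCharacter H) // IsPBlock M B} :=
        ⟨blockOf M (χ' : H → ℂ), ⟨χ', rfl⟩⟩ with hB
      have hsame : SameBlock M (χ' : H → ℂ) (rep B : H → ℂ) := hrep B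
      have hom : omega χ z = ∑ C : regClasses p (S : Subgroup H),
          c C * centralChar (χ' : H → ℂ) (Quotient.out (C : ConjClasses H)) := by
        unfold omega
        simp only [hz]
        rw [Finset.sum_div]
        have h1 : ∀ g : H, (∑ C : regClasses p (S : Subgroup H),
            c C * classInd (Quotient.out (C : ConjClasses H)) g) * χ g / χ 1 =
            ∑ C : regClasses p (S : Subgroup H),
              c C * (classInd (Quotient.out (C : ConjClasses H)) g * χ g / χ 1) := by
          intro g
          rw [Finset.sum_mul, Finset.sum_div]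
          apply Finset.sum_congr rfl
          intro C _
          ring
        rw [Finset.sum_congr rfl (fun g _ => h1 g), Finset.sum_comm]
        apply Finset.sum_congr rfl
        intro C _
        rw [← Finset.mul_sum, ← omega_classInd χ' (Quotient.out (C : ConjClasses H))]
        unfold omega
        rw [Finset.sum_div]
      have hR1 : ∀ C : regClasses p (S : Subgroup H), MemLocalRing M
          (c C * centralChar (χ' : H → ℂ) (Quotient.out (C : ConjClasses H))) :=
        fun C => memLocalRing_mul (hcR C) (memLocalRing_centralChar χ' _)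
      rw [hom, ← red_eq_zero_iff (memLocalRing_sum _ _ fun C _ => hR1 C),
        red_sum _ _ fun C _ => hR1 C]
      have h2 := congrFun hl B
      rw [Finset.sum_apply, Pi.zero_apply] at h2
      rw [← h2]
      apply Finset.sum_congr rfl
      intro C _
      rw [red_mul (hcR C) (memLocalRing_centralChar χ' _), hcred C, Pi.smul_apply, smul_eq_mul]
      congr 1
      exact red_eq_of_sub (memLocalRing_centralChar χ' _) (memLocalRing_centralChar (rep B) _)
        (hsame _)
    have hzall := memLocalIdeal_of_omega hM K hKp hzc hzK hω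
    have hzC₀ : z (Quotient.out (C₀ : ConjClasses H)) = c C₀ := by
      simp only [hz]
      have h1 : ∀ C : regClasses p (S : Subgroup H),
          c C * classInd (Quotient.out (C : ConjClasses H)) (Quotient.out (C₀ : ConjClasses H)) =
          if C = C₀ then c C₀ else 0 := by
        intro C
        unfold classInd
        by_cases hCC : C = C₀
        · subst hCC
          rw [if_pos (IsConj.refl _), if_pos rfl, mul_one]
        · rw [if_neg hCC, if_neg, mul_zero]
          intro hc
          apply hCC
          apply Subtype.ext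
          rw [← Quotient.out_eq (C : ConjClasses H), ← Quotient.out_eq (C₀ : ConjClasses H)]
          exact ConjClasses.mk_eq_mk_iff_isConj.2 hc
      rw [Finset.sum_congr rfl (fun C _ => h1 C), Finset.sum_ite_eq', if_pos (Finset.mem_univ _)]
    rw [← hcred C₀, red_eq_zero_iff (hcR C₀), ← hzC₀]
    exact hzall _
  have h1 := hli.fintype_card_le_finrank
  rw [Module.finrank_fintype_fun_eq_card] at h1
  rw [Nat.card_eq_fintype_card, Nat.card_eq_fintype_card]
  exact h1

/-- **Blocks of a group with a normal Sylow `p`-subgroup** are counted by the `p`-regular classes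
in the centralizer of the Sylow subgroup. -/
theorem card_blocks_eq (hM : IsPModular p M) (S : Sylow p H) [hS : (S : Subgroup H).Normal] :
    Nat.card {B : Set (IrrCharacter H) // IsPBlock M B} =
      Nat.card (regClasses p (S : Subgroup H)) :=
  le_antisymm (card_blocks_le hM S) (card_classes_le hM S)

/-- every block of a group with a normal Sylow subgroup has it as defect group -/
theorem isDefectGroup_of_normal_sylow (hM : IsPModular p M) (S : Sylow p H)
    [hS : (S : Subgroup H).Normal] {B : Set (IrrCharacter H)} (hB : IsPBlock M B) :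
    IsDefectGroup p M B (S : Subgroup H) := by
  obtain ⟨D, hD⟩ := exists_isDefectGroup hM hB
  have hDp := isPGroup_of_isDefectGroup hM hD
  obtain ⟨g, hg, Q, hQ⟩ := hD
  have hle : (S : Subgroup H) ≤ D := by
    rw [hQ]
    exact normal_pgroup_le_defectGroup hM hB (S : Subgroup H) S.2 hg Q
  have hDS : D = (S : Subgroup H) := S.3 hDp hle
  rw [← hDS]
  exact ⟨g, hg, Q, hQ⟩

end Count

end Cfsg.Agent.Helper18.SylowCount
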