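import Mathlib
import Cfsg.Prelude.Def_Blocks
import Cfsg.Agent.Lib.Helper18.SylowCount
import Cfsg.Agent.S4670

/-!
# The number of blocks with a Sylow defect group (helper18's library)
-/

set_option autoImplicit false

namespace Cfsg.Agent.Helper18.SylowCount

open Cfsg Cfsg.Agent.Helper24 Cfsg.Agent.Helper23.Blk

universe u

variable {G : Type u} [Group G] [Finite G]

theorem card_eq_of_corr {α β : Type*} (R : α → β → Prop) (h1 : ∀ a, ∃! b, R a b)
    (h2 : ∀ b, ∃! a, R a b) : Nat.card α = Nat.card β := by
  choose f hf hfu using h1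
  apply Nat.card_eq_of_bijective f
  constructor
  · intro a a' haa
    obtain ⟨a₀, -, ha₀⟩ := h2 (f a)
    have e1 := ha₀ a (hf a)
    have e2 := ha₀ a' (by rw [haa]; exact hf a')
    rw [e1, e2]
  · intro b
    obtain ⟨a, ha, -⟩ := h2 b
    exact ⟨a, (hfu a b ha).symm⟩

theorem main (p : ℕ) [Fact p.Prime] (M : Ideal AlgInt) (hM : IsPModular p M) (P : Sylow p G) :
    Nat.card {B : Set (IrrCharacter G) // IsPBlock M B ∧ IsDefectGroup p M B (P : Subgroup G)} =
      Nat.card {C : ConjClasses (Subgroup.normalizer ((P : Subgroup G) : Set G)) //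
        ∀ n : Subgroup.normalizer ((P : Subgroup G) : Set G), ConjClasses.mk n = C →
          ¬ p ∣ orderOf n ∧ (n : G) ∈ Subgroup.centralizer ((P : Subgroup G) : Set G)} := by
  classical
  haveI : Fintype G := Fintype.ofFinite G
  have hPH : (P : Subgroup G) ≤ Subgroup.normalizer ((P : Subgroup G) : Set G) :=
    Subgroup.le_normalizer
  set S : Sylow p (Subgroup.normalizer ((P : Subgroup G) : Set G)) := P.subtype hPH with hSdef
  have hScoe : (S : Subgroup (Subgroup.normalizer ((P : Subgroup G) : Set G))) =
      (P : Subgroup G).subgroupOf (Subgroup.normalizer ((P : Subgroup G) : Set G)) :=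
    Sylow.coe_subtype P hPH
  haveI hSn : (S : Subgroup (Subgroup.normalizer ((P : Subgroup G) : Set G))).Normal := by
    rw [hScoe]
    exact Subgroup.normal_in_normalizer
  -- step 1: the Brauer correspondence
  have hcorr := Cfsg.Agent.S4670.result p M hM (P : Subgroup G)
    (Subgroup.normalizer ((P : Subgroup G) : Set G)) P.2 le_rfl
  have h1 : Nat.card {B : Set (IrrCharacter G) //
        IsPBlock M B ∧ IsDefectGroup p M B (P : Subgroup G)} =
      Nat.card {c : Set (IrrCharacter (Subgroup.normalizer ((P : Subgroup G) : Set G))) //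
        IsPBlock M c ∧ IsDefectGroup p M c
          ((P : Subgroup G).subgroupOf (Subgroup.normalizer ((P : Subgroup G) : Set G)))} := by
    apply card_eq_of_corr (fun (B : {B : Set (IrrCharacter G) //
        IsPBlock M B ∧ IsDefectGroup p M B (P : Subgroup G)})
      (c : {c : Set (IrrCharacter (Subgroup.normalizer ((P : Subgroup G) : Set G))) //
        IsPBlock M c ∧ IsDefectGroup p M c
          ((P : Subgroup G).subgroupOf (Subgroup.normalizer ((P : Subgroup G) : Set G)))}) =>
        ∀ x : G, x ∈ Subgroup.centralizer ((P : Subgroup G) : Set G) →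
      MemLocalIdeal M (blockCoeff (B : Set (IrrCharacter G)) x -
        subgroupBlockCoeff (Subgroup.normalizer ((P : Subgroup G) : Set G))
          (c : Set (IrrCharacter (Subgroup.normalizer ((P : Subgroup G) : Set G)))) x))
    · intro B
      obtain ⟨c, ⟨hc1, hc2, hc3⟩, hcu⟩ := hcorr.1 B.1 B.2.1 B.2.2
      refine ⟨⟨c, hc1, hc2⟩, hc3, ?_⟩
      intro c' hc'
      apply Subtype.ext
      exact hcu c'.1 ⟨c'.2.1, c'.2.2, hc'⟩
    · intro c
      obtain ⟨B, ⟨hB1, hB2, hB3⟩, hBu⟩ := hcorr.2 c.1 c.2.1 c.2.2
      refine ⟨⟨B, hB1, hB2⟩, hB3, ?_⟩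
      intro B' hB'
      apply Subtype.ext
      exact hBu B'.1 ⟨B'.2.1, B'.2.2, hB'⟩
  -- step 2: every block of the normalizer has defect group `P`
  have h2 : Nat.card {c : Set (IrrCharacter (Subgroup.normalizer ((P : Subgroup G) : Set G))) //
        IsPBlock M c ∧ IsDefectGroup p M c
          ((P : Subgroup G).subgroupOf (Subgroup.normalizer ((P : Subgroup G) : Set G)))} =
      Nat.card {c : Set (IrrCharacter (Subgroup.normalizer ((P : Subgroup G) : Set G))) //
        IsPBlock M c} := by
    apply Nat.card_congr
    apply Equiv.subtypeEquivRight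
    intro c
    constructor
    · exact fun h => h.1
    · intro h
      refine ⟨h, ?_⟩
      rw [← hScoe]
      exact isDefectGroup_of_normal_sylow hM S h
  -- step 3: counting
  have h3 := card_blocks_eq hM S
  -- step 4: the classes
  have h4 : Nat.card (regClasses p (S : Subgroup (Subgroup.normalizer ((P : Subgroup G) : Set G)))) =
      Nat.card {C : ConjClasses (Subgroup.normalizer ((P : Subgroup G) : Set G)) //
        ∀ n : Subgroup.normalizer ((P : Subgroup G) : Set G), ConjClasses.mk n = C →
          ¬ p ∣ orderOf n ∧ (n : G) ∈ Subgroup.centralizer ((P : Subgroup G) : Set G)} := by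
    apply Nat.card_congr
    apply Equiv.subtypeEquivRight
    intro C
    have hiff : ∀ n : Subgroup.normalizer ((P : Subgroup G) : Set G),
        n ∈ Subgroup.centralizer
          ((S : Subgroup (Subgroup.normalizer ((P : Subgroup G) : Set G))) : Set _) ↔
        (n : G) ∈ Subgroup.centralizer ((P : Subgroup G) : Set G) := by
      intro n
      rw [Subgroup.mem_centralizer_iff, Subgroup.mem_centralizer_iff]
      constructor
      · intro h s hs
        have hs' : (⟨s, hPH hs⟩ : Subgroup.normalizer ((P : Subgroup G) : Set G)) ∈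
            (S : Subgroup (Subgroup.normalizer ((P : Subgroup G) : Set G))) := by
          rw [hScoe, Subgroup.mem_subgroupOf]
          exact hs
        have := h _ hs'
        exact congrArg Subtype.val this
      · intro h s hs
        have hs' : (s : G) ∈ (P : Subgroup G) := by
          have : s ∈ (S : Subgroup (Subgroup.normalizer ((P : Subgroup G) : Set G))) := hs
          rw [hScoe, Subgroup.mem_subgroupOf] at this
          exact this
        apply Subtype.ext
        exact h _ hs'
    constructor
    · intro h n hn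
      obtain ⟨h1, h2⟩ := h n hn
      exact ⟨h1, (hiff n).1 h2⟩
    · intro h n hn
      obtain ⟨h1, h2⟩ := h n hn
      exact ⟨h1, (hiff n).2 h2⟩
  rw [h1, h2, h3, h4]

end Cfsg.Agent.Helper18.SylowCount
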