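import Mathlib
import Cfsg.Agent.Lib.Helper22.TIHAUTCYC
import Cfsg.Agent.Lib.Helper22.TIHAUT2
import Cfsg.Agent.Lib.Helper26.TIHQUAT

/-!
# S4118, piece AUTSOLV: automorphism groups of `p`-subgroups of a group with cyclic or quaternion Sylow subgroups
-/

set_option autoImplicit false

namespace Cfsg.Agent.Helper2.TIH

/-- solvability of the automorphism group is invariant under isomorphism -/
theorem AUTSOLV.mulAut_solvable_congr {R R' : Type*} [Group R] [Group R'] (f : R ≃* R')
    (h : Group.IsSolvable (MulAut R')) : Group.IsSolvable (MulAut R) := by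
  haveI := h
  exact Group.isSolvable_of_isSolvable_injective (f := (MulAut.congr f).toMonoidHom)
    (MulAut.congr f).injective

theorem mulAut_solvable_of_sylow {H : Type*} [Group H] [Finite H]
    (hSyl : ∀ (p : ℕ) [Fact p.Prime] (P : Sylow p H),
      IsCyclic P ∨ ∃ n : ℕ, Nonempty (P ≃* QuaternionGroup (2 ^ n)))
    (p : ℕ) [Fact p.Prime] (R : Subgroup H) (hR : IsPGroup p R) : Group.IsSolvable (MulAut R) := by
  obtain ⟨P, hRP⟩ := hR.exists_le_sylow
  have f1 : R ≃* R.subgroupOf (P : Subgroup H) := (Subgroup.subgroupOfEquivOfLe hRP).symm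
  rcases hSyl p P with hc | ⟨n, ⟨e⟩⟩
  · haveI : IsCyclic (P : Subgroup H) := hc
    haveI : IsCyclic (R.subgroupOf (P : Subgroup H)) := Subgroup.isCyclic _
    haveI : IsCyclic R := isCyclic_of_surjective f1.symm.toMonoidHom f1.symm.surjective
    exact mulAut_solvable_of_isCyclic
  · haveI : NeZero (2 ^ n) := ⟨by positivity⟩
    set R' : Subgroup (QuaternionGroup (2 ^ n)) := (R.subgroupOf (P : Subgroup H)).map e.toMonoidHom
      with hR'
    have f2 : R.subgroupOf (P : Subgroup H) ≃* R' := e.subgroupMap _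
    obtain ⟨h2, A, hA, hidx⟩ := quaternion_subgroup n R'
    have h3 := mulAut_solvable_of_cyclic_index_two h2 A hA hidx
    exact AUTSOLV.mulAut_solvable_congr (f1.trans f2) h3

end Cfsg.Agent.Helper2.TIH
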