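import Mathlib
import Cfsg.Agent.Lib.Helper2.TIHDefs

/-!
# S4118, piece SOLVMOD: calculus of "solvable modulo a subgroup"
-/

set_option autoImplicit false

namespace Cfsg.Agent.Helper2.TIH

variable {N : Type*} [Group N]

theorem solvMod_mono {A B : Subgroup N} (hA : SolvMod A) (h : A ≤ B) : SolvMod B := by
  obtain ⟨n, hn⟩ := hA
  exact ⟨n, hn.trans h⟩

theorem solvMod_inf {A B : Subgroup N} (hA : SolvMod A) (hB : SolvMod B) : SolvMod (A ⊓ B) := by
  obtain ⟨n, hn⟩ := hA
  obtain ⟨m, hm⟩ := hB
  exact ⟨max n m, le_inf ((derivedSeries_antitone N (le_max_left n m)).trans hn)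
    ((derivedSeries_antitone N (le_max_right n m)).trans hm)⟩

theorem SOLVMOD.solvMod_top : SolvMod (⊤ : Subgroup N) := ⟨0, le_top⟩

theorem solvMod_finset_inf {ι : Type*} (s : Finset ι) (f : ι → Subgroup N)
    (h : ∀ i ∈ s, SolvMod (f i)) : SolvMod (⨅ i ∈ s, f i) := by
  classical
  induction s using Finset.induction_on with
  | empty =>
    simp only [Finset.notMem_empty, iInf_false, iInf_top]
    exact SOLVMOD.solvMod_top
  | insert a s ha ih =>
    rw [Finset.iInf_insert]
    exact solvMod_inf (h a (Finset.mem_insert_self a s))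
      (ih fun i hi => h i (Finset.mem_insert_of_mem hi))

theorem solvMod_ker {X : Type*} [Group X] [Group.IsSolvable X] (f : N →* X) : SolvMod f.ker := by
  obtain ⟨n, hn⟩ := (Group.isSolvable_def X).1 inferInstance
  refine ⟨n, ?_⟩
  intro x hx
  rw [MonoidHom.mem_ker]
  have h1 : f x ∈ (derivedSeries N n).map f := Subgroup.mem_map_of_mem f hx
  have h2 := map_derivedSeries_le_derivedSeries f n h1
  rw [hn, Subgroup.mem_bot] at h2
  exact h2

theorem solvMod_of_commutator_le {A B : Subgroup N} (hA : SolvMod A) (h : ⁅A, A⁆ ≤ B) : SolvMod B := by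
  obtain ⟨n, hn⟩ := hA
  refine ⟨n + 1, ?_⟩
  rw [derivedSeries_succ]
  exact (Subgroup.commutator_mono hn hn).trans h

theorem SOLVMOD.derivedSeries_add_le {K : Subgroup N} (n : ℕ) (hn : derivedSeries N n ≤ K) (m : ℕ) :
    derivedSeries N (n + m) ≤ (derivedSeries K m).map K.subtype := by
  induction m with
  | zero =>
    rw [derivedSeries_zero, ← MonoidHom.range_eq_map, Subgroup.range_subtype]
    exact hn
  | succ m ih =>
    rw [← add_assoc, derivedSeries_succ, derivedSeries_succ, Subgroup.map_commutator]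
    exact Subgroup.commutator_mono ih ih

theorem solvable_of_solvMod {K : Subgroup N} (hK : SolvMod K) (hs : Group.IsSolvable K) :
    Group.IsSolvable N := by
  obtain ⟨n, hn⟩ := hK
  obtain ⟨m, hm⟩ := (Group.isSolvable_def K).1 hs
  rw [Group.isSolvable_def]
  refine ⟨n + m, ?_⟩
  have h1 := SOLVMOD.derivedSeries_add_le n hn m
  rw [hm, Subgroup.map_bot] at h1
  exact le_bot_iff.1 h1

end Cfsg.Agent.Helper2.TIH
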