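import Mathlib
import Cfsg.Agent.Lib.Helper2.TIHDefs
import Cfsg.Agent.Lib.Helper18.TIHSOLVMOD

/-!
# S4118, piece CENTKER: the ambient group is solvable modulo the centralizer of a normal subgroup with solvable
automorphism group
-/

set_option autoImplicit false

namespace Cfsg.Agent.Helper2.TIH

variable {N : Type*} [Group N]

theorem solvMod_centralizer (R : Subgroup N) [R.Normal] (hR : Group.IsSolvable (MulAut R)) :
    SolvMod (Subgroup.centralizer (R : Set N)) := by
  haveI := hR
  have h := solvMod_ker (MulAut.conjNormal : N →* MulAut R)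
  refine solvMod_mono h ?_
  intro x hx
  rw [MonoidHom.mem_ker] at hx
  rw [Subgroup.mem_centralizer_iff]
  intro r hr
  have h1 : (MulAut.conjNormal x : MulAut R) ⟨r, hr⟩ = ⟨r, hr⟩ := by
    rw [hx]
    rfl
  have h2 := congrArg Subtype.val h1
  rw [MulAut.conjNormal_apply] at h2
  simp only at h2
  calc r * x = (x * r * x⁻¹) * x := by rw [h2]
    _ = x * r := by group

end Cfsg.Agent.Helper2.TIH
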