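import Mathlib
import Cfsg.Agent.S0044
import Cfsg.Agent.Lib.Helper21.FittingSubgroup

/-!
# S4118, piece FITN: the Fitting subgroup of a normal solvable subgroup
-/

set_option autoImplicit false

namespace Cfsg.Agent.Helper2.TIH

open Cfsg

/-- the Fitting subgroup is characteristic -/
theorem FITN.fitting_characteristic (H : Type*) [Group H] : (Cfsg.fittingSubgroup H).Characteristic := by
  rw [Subgroup.characteristic_iff_map_le]
  intro φ
  unfold Cfsg.fittingSubgroup
  rw [Subgroup.map_le_iff_le_comap]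
  apply sSup_le
  rintro K ⟨hKn, hKnil⟩
  rw [← Subgroup.map_le_iff_le_comap]
  apply le_sSup
  refine ⟨?_, ?_⟩
  · exact Subgroup.Normal.map hKn φ.toMonoidHom φ.surjective
  · haveI := hKnil
    exact Group.nilpotent_of_mulEquiv (φ.subgroupMap K)

variable {N : Type*} [Group N]

theorem exists_fitting [Finite N] (H : Subgroup N) [H.Normal] (hHs : Group.IsSolvable H) :
    ∃ F : Subgroup N, F.Normal ∧ F ≤ H ∧ Group.IsNilpotent F ∧
      H ⊓ Subgroup.centralizer (F : Set N) ≤ F := by
  haveI := hHs
  haveI hchar : (Cfsg.fittingSubgroup H).Characteristic := FITN.fitting_characteristic H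
  refine ⟨(Cfsg.fittingSubgroup H).map H.subtype, ConjAct.normal_of_characteristic_of_normal,
    Subgroup.map_subtype_le _, ?_, ?_⟩
  · haveI := Cfsg.Agent.Helper21.fittingSubgroup_isNilpotent H
    exact Group.nilpotent_of_mulEquiv
      ((Cfsg.fittingSubgroup H).equivMapOfInjective H.subtype H.subtype_injective)
  · intro x hx
    rw [Subgroup.mem_inf] at hx
    obtain ⟨hxH, hxC⟩ := hx
    have h1 : (⟨x, hxH⟩ : H) ∈ Subgroup.centralizer (Cfsg.fittingSubgroup H : Set H) := by
      rw [Subgroup.mem_centralizer_iff]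
      intro y hy
      apply Subtype.ext
      rw [Subgroup.coe_mul, Subgroup.coe_mul]
      rw [Subgroup.mem_centralizer_iff] at hxC
      exact hxC (y : N) (Subgroup.mem_map_of_mem H.subtype hy)
    have h2 := Cfsg.Agent.S0044.result h1
    exact ⟨⟨x, hxH⟩, h2, rfl⟩

end Cfsg.Agent.Helper2.TIH
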