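import Mathlib

/-!
# S4118, piece GENSYL: an element centralizing every Sylow subgroup of `F` centralizes `F`
-/

set_option autoImplicit false

namespace Cfsg.Agent.Helper2.TIH

variable {N : Type*} [Group N]

/-- a subgroup containing a Sylow `p`-subgroup for every prime `p` is everything -/
theorem GENSYL.eq_top_of_sylow_le {F : Type*} [Group F] [Finite F] (C : Subgroup F)
    (h : ∀ (p : ℕ) [Fact p.Prime], ∃ P : Sylow p F, (P : Subgroup F) ≤ C) : C = ⊤ := by
  have hdvd : Nat.card F ∣ Nat.card C := by
    rw [← Nat.factorization_prime_le_iff_dvd Nat.card_pos.ne' Nat.card_pos.ne']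
    intro p hp
    haveI : Fact p.Prime := ⟨hp⟩
    obtain ⟨P, hP⟩ := h p
    have h1 : Nat.card P ∣ Nat.card C := Subgroup.card_dvd_of_le hP
    rw [P.card_eq_multiplicity] at h1
    exact (hp.pow_dvd_iff_le_factorization Nat.card_pos.ne').1 h1
  exact Subgroup.eq_top_of_card_eq C (Nat.dvd_antisymm (Subgroup.card_subgroup_dvd_card C) hdvd)

theorem mem_centralizer_of_sylow [Finite N] (F : Subgroup N) (x : N)
    (hx : ∀ (p : ℕ) [Fact p.Prime] (P : Sylow p F),
      x ∈ Subgroup.centralizer (((P : Subgroup F).map F.subtype : Subgroup N) : Set N)) :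
    x ∈ Subgroup.centralizer (F : Set N) := by
  have hC : (Subgroup.centralizer ({x} : Set N)).subgroupOf F = ⊤ := by
    apply GENSYL.eq_top_of_sylow_le
    intro p _
    obtain ⟨P⟩ : Nonempty (Sylow p F) := inferInstance
    refine ⟨P, ?_⟩
    intro y hy
    rw [Subgroup.mem_subgroupOf, Subgroup.mem_centralizer_iff]
    intro z hz
    rw [Set.mem_singleton_iff] at hz
    subst hz
    have h1 := hx p P
    rw [Subgroup.mem_centralizer_iff] at h1
    have h2 : (y : N) ∈ (((P : Subgroup F).map F.subtype : Subgroup N) : Set N) :=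
      Subgroup.mem_map_of_mem F.subtype hy
    exact (h1 (y : N) h2).symm
  rw [Subgroup.mem_centralizer_iff]
  intro f hf
  have h1 : (⟨f, hf⟩ : F) ∈ (Subgroup.centralizer ({x} : Set N)).subgroupOf F := by
    rw [hC]
    exact Subgroup.mem_top _
  rw [Subgroup.mem_subgroupOf, Subgroup.mem_centralizer_iff] at h1
  exact (h1 x (Set.mem_singleton x)).symm

end Cfsg.Agent.Helper2.TIH
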