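import Mathlib
import Cfsg.Agent.Lib.Helper2.TIHDefs
import Cfsg.Agent.S3359
import Cfsg.Agent.Lib.Helper15.OTTRANSPORT

/-!
# S4118, piece HSOLV: a group isomorphic to a Frobenius complement and without `SL(2,5)` subgroups is solvable
-/

set_option autoImplicit false

namespace Cfsg.Agent.Helper2.TIH

open Cfsg

universe u

theorem solvable_of_frobenius_model {H : Type*} [Group H] [Finite H] (hF : HasFrobModel.{u} H)
    (hno : ∀ K : Subgroup H, ¬ Nonempty (K ≃* Matrix.SpecialLinearGroup (Fin 2) (ZMod 5))) :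
    Group.IsSolvable H := by
  by_contra hns
  obtain ⟨F, hFg, hFf, C, hC, ⟨e⟩⟩ := hF
  obtain ⟨L, hLg, hLf, H', hH', ⟨e'⟩⟩ := Cfsg.Agent.Helper2.OT.exists_small_model C hC
  have h := Cfsg.Agent.S3359.result hns ⟨L, hLg, hLf, H', hH', ⟨e.trans e'⟩⟩
  obtain ⟨G₀, -, -, S, M, -, -, -, hS, -, -⟩ := h
  exact hno S hS

end Cfsg.Agent.Helper2.TIH
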