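import Mathlib

set_option autoImplicit false

namespace Cfsg.Agent.Helper18

open MulAction Subgroup

/-- Transfer evaluation under a control-of-fusion hypothesis: if every conjugate of a power of `x`
lying in `H` has the same image under `ϕ` as that power, the transfer of `x` is `ϕ x ^ [G : H]`. -/
theorem transfer_eq_pow_of_control {G : Type*} [Group G] {H : Subgroup G} [H.FiniteIndex]
    {A : Type*} [CommGroup A] (ϕ : H →* A) (x : H)
    (key : ∀ (k : ℕ) (g₀ : G) (hk : g₀⁻¹ * (x : G) ^ k * g₀ ∈ H),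
      ϕ ⟨g₀⁻¹ * (x : G) ^ k * g₀, hk⟩ = ϕ (x ^ k)) :
    MonoidHom.transfer ϕ (x : G) = ϕ x ^ H.index := by
  classical
  haveI : Fintype (Quotient (MulAction.orbitRel (zpowers (x : G)) (G ⧸ H))) :=
    Fintype.ofFinite _
  rw [index_eq_sum_minimalPeriod H (x : G), ← Finset.prod_pow_eq_pow_sum,
    MonoidHom.transfer_eq_prod_quotient_orbitRel_zpowers_quot]
  apply Finset.prod_congr rfl
  intro q _
  rw [key, map_pow]

end Cfsg.Agent.Helper18
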