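import Mathlib
import Cfsg.Agent.Lib.Helper22.TwoMaxDefs

/-!
Piece QUOT of helper22's farm-out of S4383: the two-classes hypothesis passes to the quotient by a normal subgroup
contained in both representatives.
-/

set_option autoImplicit false
open Pointwise

namespace Cfsg.Agent.Helper22.TwoMax

variable {G : Type*} [Group G]

theorem map_mk'_conj_smul (N : Subgroup G) [N.Normal] (H : Subgroup G) (g : G) :
    (MulAut.conj g • H).map (QuotientGroup.mk' N) =
      MulAut.conj (QuotientGroup.mk' N g) • H.map (QuotientGroup.mk' N) := by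
  ext x
  constructor
  · rintro ⟨y, hy, rfl⟩
    rw [SetLike.mem_coe, mem_conj_smul] at hy
    rw [mem_conj_smul]
    refine ⟨g⁻¹ * y * g, hy, ?_⟩
    rw [map_mul, map_mul, map_inv]
  · intro hx
    rw [mem_conj_smul] at hx
    obtain ⟨y, hy, e⟩ := hx
    refine ⟨g * y * g⁻¹, ?_, ?_⟩
    · rw [SetLike.mem_coe, mem_conj_smul]
      have : g⁻¹ * (g * y * g⁻¹) * g = y := by group
      rw [this]
      exact hy
    · rw [map_mul, map_mul, e, map_inv]
      group

theorem comap_map_mk'_of_le (N : Subgroup G) [N.Normal] {H : Subgroup G} (hN : N ≤ H) :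
    (H.map (QuotientGroup.mk' N)).comap (QuotientGroup.mk' N) = H := by
  rw [Subgroup.comap_map_eq, QuotientGroup.ker_mk', sup_eq_left.2 hN]

theorem map_comap_mk' (N : Subgroup G) [N.Normal] (K : Subgroup (G ⧸ N)) :
    (K.comap (QuotientGroup.mk' N)).map (QuotientGroup.mk' N) = K :=
  Subgroup.map_comap_eq_self_of_surjective (QuotientGroup.mk'_surjective N) K

theorem le_comap_mk' (N : Subgroup G) [N.Normal] (K : Subgroup (G ⧸ N)) :
    N ≤ K.comap (QuotientGroup.mk' N) := by
  intro x hx
  rw [Subgroup.mem_comap]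
  have : QuotientGroup.mk' N x = 1 := (QuotientGroup.eq_one_iff x).2 hx
  rw [this]
  exact K.one_mem

theorem isCoatom_map_mk' (N : Subgroup G) [N.Normal] {M : Subgroup G} (hM : IsCoatom M)
    (hN : N ≤ M) : IsCoatom (M.map (QuotientGroup.mk' N)) := by
  constructor
  · intro e
    apply hM.1
    rw [← comap_map_mk'_of_le N hN, e, Subgroup.comap_top]
  · intro K hK
    have h1 : M ≤ K.comap (QuotientGroup.mk' N) := by
      rw [← comap_map_mk'_of_le N hN]
      exact Subgroup.comap_mono hK.le
    have h2 : M ≠ K.comap (QuotientGroup.mk' N) := by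
      intro e
      apply hK.ne
      rw [e, map_comap_mk']
    have h3 : K.comap (QuotientGroup.mk' N) = ⊤ := hM.2 _ (lt_of_le_of_ne h1 h2)
    rw [← map_comap_mk' N K, h3, ← MonoidHom.range_eq_map,
      MonoidHom.range_eq_top.2 (QuotientGroup.mk'_surjective N)]

theorem isCoatom_comap_mk' (N : Subgroup G) [N.Normal] {K : Subgroup (G ⧸ N)} (hK : IsCoatom K) :
    IsCoatom (K.comap (QuotientGroup.mk' N)) := by
  constructor
  · intro e
    apply hK.1
    rw [← map_comap_mk' N K, e, ← MonoidHom.range_eq_map,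
      MonoidHom.range_eq_top.2 (QuotientGroup.mk'_surjective N)]
  · intro L hL
    have hNL : N ≤ L := le_trans (le_comap_mk' N K) hL.le
    have h1 : K ≤ L.map (QuotientGroup.mk' N) := by
      rw [← map_comap_mk' N K]
      exact Subgroup.map_mono hL.le
    have h2 : K ≠ L.map (QuotientGroup.mk' N) := by
      intro e
      apply hL.ne
      rw [e, comap_map_mk'_of_le N hNL]
    have h3 : L.map (QuotientGroup.mk' N) = ⊤ := hK.2 _ (lt_of_le_of_ne h1 h2)
    rw [← comap_map_mk'_of_le N hNL, h3, Subgroup.comap_top]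

theorem le_conj_smul_of_normal (N : Subgroup G) [N.Normal] {M : Subgroup G} (hN : N ≤ M) (g : G) :
    N ≤ MulAut.conj g • M := by
  intro x hx
  rw [mem_conj_smul]
  apply hN
  have := Subgroup.Normal.conj_mem (inferInstance : N.Normal) x hx g⁻¹
  rwa [inv_inv] at this

/-- piece QUOT -/
theorem twoCls_quot {M₁ M₂ : Subgroup G} (h : TwoCls M₁ M₂) (N : Subgroup G) [N.Normal]
    (hN1 : N ≤ M₁) (hN2 : N ≤ M₂) :
    TwoCls (M₁.map (QuotientGroup.mk' N)) (M₂.map (QuotientGroup.mk' N)) where
  h1 := isCoatom_map_mk' N h.h1 hN1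
  h2 := isCoatom_map_mk' N h.h2 hN2
  hne := by
    intro gb e
    obtain ⟨g, rfl⟩ := QuotientGroup.mk'_surjective N gb
    rw [← map_mk'_conj_smul] at e
    apply h.hne g
    have := congrArg (Subgroup.comap (QuotientGroup.mk' N)) e
    rwa [comap_map_mk'_of_le N hN2, comap_map_mk'_of_le N (le_conj_smul_of_normal N hN1 g)] at this
  hall := by
    intro K hK
    have hL := isCoatom_comap_mk' N hK
    obtain ⟨g, hg | hg⟩ := h.hall _ hL
    · refine ⟨QuotientGroup.mk' N g, Or.inl ?_⟩
      rw [← map_mk'_conj_smul, ← hg, map_comap_mk']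
    · refine ⟨QuotientGroup.mk' N g, Or.inr ?_⟩
      rw [← map_mk'_conj_smul, ← hg, map_comap_mk']

end Cfsg.Agent.Helper22.TwoMax
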