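import Mathlib
import Cfsg.Agent.Lib.Helper22.TwoMaxDefs
import Cfsg.Agent.Lib.Helper18.TwoMaxQUOT

/-!
Piece B1 of helper22's farm-out of S4383: a minimal normal subgroup contained in both representatives of the two
classes of maximal subgroups; the inductive step through the quotient.
-/

set_option autoImplicit false
open Pointwise

namespace Cfsg.Agent.Helper22.TwoMax

variable {G : Type*} [Group G] [Finite G]

/-- piece B1 -/
theorem caseB1 {M₁ M₂ : Subgroup G} (h : TwoCls M₁ M₂) (N : Subgroup G) [N.Normal] (hN : N ≠ ⊥)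
    (hmin : ∀ K : Subgroup G, K.Normal → K ≤ N → K = ⊥ ∨ K = N)
    (hN1 : N ≤ M₁) (hN2 : N ≤ M₂)
    (ih : Group.IsSolvable (G ⧸ N) ∧ (Nat.card (G ⧸ N)).primeFactors.card = 2) :
    Group.IsSolvable G ∧ (Nat.card G).primeFactors.card = 2 := by
  -- `N` lies in every coatom
  have hcoat : ∀ L : Subgroup G, IsCoatom L → N ≤ L := by
    intro L hL
    obtain ⟨g, hg | hg⟩ := h.hall L hL
    · rw [hg]; exact le_conj_smul_of_normal N hN1 g
    · rw [hg]; exact le_conj_smul_of_normal N hN2 g
  have hprop : ∀ H : Subgroup G, H ⊔ N = ⊤ → H = ⊤ := by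
    intro H hH
    rcases eq_top_or_exists_le_coatom H with e | ⟨L, hL, hle⟩
    · exact e
    · exfalso
      apply hL.1
      rw [eq_top_iff, ← hH]
      exact sup_le hle (hcoat L hL)
  have hcard1 : Nat.card N ≠ 1 := by
    intro e
    exact hN ((Subgroup.card_eq_one).1 e)
  obtain ⟨r, hr, hrN⟩ := Nat.exists_prime_and_dvd hcard1
  haveI : Fact r.Prime := ⟨hr⟩
  -- the Sylow `r`-subgroup of `N` is normal in `G`, hence equal to `N`
  obtain ⟨P⟩ : Nonempty (Sylow r N) := inferInstance
  set R : Subgroup G := (P : Subgroup N).map N.subtype with hR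
  have hRN : R ≤ N := Subgroup.map_subtype_le _
  have hRtop : Subgroup.normalizer (R : Set G) = ⊤ := hprop _ (Sylow.normalizer_sup_eq_top P)
  have hRnorm : R.Normal := Subgroup.normalizer_eq_top_iff.1 hRtop
  have hPbot : (P : Subgroup N) ≠ ⊥ := P.ne_bot_of_dvd_card hrN
  have hRbot : R ≠ ⊥ := by
    intro e
    apply hPbot
    exact (Subgroup.map_eq_bot_iff_of_injective _ N.subtype_injective).1 e
  have hReq : R = N := (hmin R hRnorm hRN).resolve_left hRbot
  have hcardR : Nat.card R = Nat.card (P : Subgroup N) :=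
    Nat.card_congr ((Subgroup.equivMapOfInjective (P : Subgroup N) N.subtype
      N.subtype_injective).symm.toEquiv)
  have hcardN : Nat.card N = r ^ (Nat.card N).factorization r := by
    rw [← P.card_eq_multiplicity, ← hcardR, hReq]
  set k := (Nat.card N).factorization r with hk
  have hk0 : k ≠ 0 := by
    intro e
    apply hcard1
    rw [hcardN, e, pow_zero]
  -- solvability
  have hpN : IsPGroup r N := IsPGroup.of_card hcardN
  haveI : Group.IsNilpotent N := hpN.isNilpotent
  haveI : Group.IsSolvable N := inferInstance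
  haveI : Group.IsSolvable (G ⧸ N) := ih.1
  have hsol : Group.IsSolvable G :=
    Group.isSolvable_of_ker_le_range N.subtype (QuotientGroup.mk' N)
      (by rw [QuotientGroup.ker_mk', Subgroup.range_subtype])
  refine ⟨hsol, ?_⟩
  -- `r` divides the order of the quotient
  have hrq : r ∣ Nat.card (G ⧸ N) := by
    by_contra hnd
    have hcop : Nat.Coprime (Nat.card N) N.index := by
      rw [hcardN, Subgroup.index_eq_card]
      exact Nat.Coprime.pow_left k ((Nat.Prime.coprime_iff_not_dvd hr).2 hnd)
    obtain ⟨H, hH⟩ := Subgroup.exists_right_complement'_of_coprime hcop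
    have h1 : H ⊔ N = ⊤ := by rw [sup_comm]; exact hH.sup_eq_top
    have h2 : H = ⊤ := hprop H h1
    have h3 := hH.card_mul_card
    rw [h2, Subgroup.card_top] at h3
    have hpos : 0 < Nat.card G := Nat.card_pos
    have : Nat.card N = 1 := by
      have h4 : Nat.card N * Nat.card G = 1 * Nat.card G := by rw [h3, one_mul]
      exact Nat.eq_of_mul_eq_mul_right hpos h4
    exact hcard1 this
  have hq0 : Nat.card (G ⧸ N) ≠ 0 := Nat.card_pos.ne'
  have hrk0 : r ^ k ≠ 0 := pow_ne_zero k hr.pos.ne'
  have hmem : r ∈ (Nat.card (G ⧸ N)).primeFactors := Nat.mem_primeFactors.2 ⟨hr, hrq, hq0⟩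
  rw [Subgroup.card_eq_card_quotient_mul_card_subgroup N, hcardN, Nat.primeFactors_mul hq0 hrk0,
    Nat.primeFactors_prime_pow hk0 hr, Finset.union_eq_left.2 (Finset.singleton_subset_iff.2 hmem)]
  exact ih.2

end Cfsg.Agent.Helper22.TwoMax
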