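import Mathlib
import Cfsg.Agent.Lib.Helper22.TwoMaxDefs

/-!
Piece PGRP of helper22's farm-out of S4383: a finite `p`-group does not have exactly two conjugacy classes of
maximal subgroups.
-/

set_option autoImplicit false
open Pointwise

namespace Cfsg.Agent.Helper22.TwoMax

variable {G : Type*} [Group G] [Finite G]

/-- in a cyclic `p`-group generated by `z`, the powers of `z` in a proper subgroup have exponent divisible by `p` -/
theorem dvd_of_pow_mem_of_ne_top {p : ℕ} [Fact p.Prime] (hp : IsPGroup p G) {z : G}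
    (hz : Subgroup.zpowers z = ⊤) {H : Subgroup G} (hH : H ≠ ⊤) {a : ℕ} (ha : z ^ a ∈ H) : p ∣ a := by
  by_contra hpa
  apply hH
  obtain ⟨j, hj⟩ := hp z
  have h1 : orderOf z ∣ p ^ j := orderOf_dvd_of_pow_eq_one hj
  obtain ⟨i, -, hi⟩ := (Nat.dvd_prime_pow (Fact.out : p.Prime)).1 h1
  have hcop : Nat.Coprime (orderOf z) a := by
    rw [hi]
    exact Nat.Coprime.pow_left i ((Nat.Prime.coprime_iff_not_dvd (Fact.out : p.Prime)).2 hpa)
  have h2 : orderOf (z ^ a) = orderOf z := hcop.orderOf_pow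
  have h3 : Subgroup.zpowers (z ^ a) = ⊤ := by
    apply Subgroup.eq_top_of_card_eq
    rw [Nat.card_zpowers, h2, ← Nat.card_zpowers, hz, Subgroup.card_top]
  rw [eq_top_iff, ← h3]
  exact (Subgroup.zpowers_le).2 ha

/-- piece PGRP -/
theorem not_pgroup {M₁ M₂ : Subgroup G} (h : TwoCls M₁ M₂) (p : ℕ) [Fact p.Prime]
    (hp : IsPGroup p G) : False := by
  haveI : Group.IsNilpotent G := hp.isNilpotent
  have hnc : NormalizerCondition G := normalizerCondition_of_isNilpotent
  have hn1 : M₁.Normal := Subgroup.NormalizerCondition.normal_of_coatom M₁ hnc h.h1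
  have hn2 : M₂.Normal := Subgroup.NormalizerCondition.normal_of_coatom M₂ hnc h.h2
  have hc1 : ∀ g : G, MulAut.conj g • M₁ = M₁ := fun g => Subgroup.Normal.conj_smul_eq_self g M₁
  have hc2 : ∀ g : G, MulAut.conj g • M₂ = M₂ := fun g => Subgroup.Normal.conj_smul_eq_self g M₂
  -- the only coatoms are `M₁` and `M₂`
  have hco : ∀ L : Subgroup G, IsCoatom L → L = M₁ ∨ L = M₂ := by
    intro L hL
    obtain ⟨g, hg | hg⟩ := h.hall L hL
    · left; rw [hg, hc1]
    · right; rw [hg, hc2]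
  have hne : M₁ ≠ M₂ := h.ne
  have h12 : ¬ M₁ ≤ M₂ := by
    intro hle
    rcases eq_or_lt_of_le hle with e | hlt
    · exact hne e
    · exact h.h2.1 (h.h1.2 _ hlt)
  have h21 : ¬ M₂ ≤ M₁ := by
    intro hle
    rcases eq_or_lt_of_le hle with e | hlt
    · exact hne e.symm
    · exact h.h1.1 (h.h2.2 _ hlt)
  obtain ⟨x, hx1, hx2⟩ := SetLike.not_le_iff_exists.1 h12
  obtain ⟨y, hy2, hy1⟩ := SetLike.not_le_iff_exists.1 h21
  set z := x * y with hz_def
  have hz1 : z ∉ M₁ := by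
    intro hz
    apply hy1
    have : x⁻¹ * z ∈ M₁ := M₁.mul_mem (M₁.inv_mem hx1) hz
    rwa [hz_def, inv_mul_cancel_left] at this
  have hz2 : z ∉ M₂ := by
    intro hz
    apply hx2
    have : z * y⁻¹ ∈ M₂ := M₂.mul_mem hz (M₂.inv_mem hy2)
    rwa [hz_def, mul_inv_cancel_right] at this
  have hz : Subgroup.zpowers z = ⊤ := by
    rcases eq_top_or_exists_le_coatom (Subgroup.zpowers z) with e | ⟨L, hL, hle⟩
    · exact e
    · exfalso
      have hzL : z ∈ L := hle (Subgroup.mem_zpowers z)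
      rcases hco L hL with e | e
      · rw [e] at hzL; exact hz1 hzL
      · rw [e] at hzL; exact hz2 hzL
  have hxz : x ∈ Subgroup.zpowers z := by rw [hz]; exact Subgroup.mem_top x
  have hyz : y ∈ Subgroup.zpowers z := by rw [hz]; exact Subgroup.mem_top y
  rw [← mem_powers_iff_mem_zpowers] at hxz hyz
  obtain ⟨a, ha⟩ := hxz
  obtain ⟨b, hb⟩ := hyz
  have ha' : z ^ a = x := ha
  have hb' : z ^ b = y := hb
  have hpa : p ∣ a := dvd_of_pow_mem_of_ne_top hp hz h.h1.1 (by rw [ha']; exact hx1)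
  have hpb : p ∣ b := dvd_of_pow_mem_of_ne_top hp hz h.h2.1 (by rw [hb']; exact hy2)
  have hzz : z ^ (a + b) = z ^ 1 := by rw [pow_add, ha', hb', pow_one]
  have hmod : a + b ≡ 1 [MOD orderOf z] := pow_eq_pow_iff_modEq.1 hzz
  -- `p` divides the order of `z`
  have hz_ne : z ≠ 1 := fun e => hz1 (by rw [e]; exact M₁.one_mem)
  have hpo : p ∣ orderOf z := by
    obtain ⟨j, hj⟩ := hp z
    have h1 : orderOf z ∣ p ^ j := orderOf_dvd_of_pow_eq_one hj
    obtain ⟨i, -, hi⟩ := (Nat.dvd_prime_pow (Fact.out : p.Prime)).1 h1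
    rw [hi]
    rcases Nat.eq_zero_or_pos i with e | hpos
    · exfalso
      rw [e, pow_zero, orderOf_eq_one_iff] at hi
      exact hz_ne hi
    · exact dvd_pow_self p hpos.ne'
  have hmod' : a + b ≡ 1 [MOD p] := hmod.of_dvd hpo
  have h0 : a + b ≡ 0 [MOD p] := (Nat.modEq_zero_iff_dvd).2 (dvd_add hpa hpb)
  have h10 : 1 ≡ 0 [MOD p] := hmod'.symm.trans h0
  have : p ∣ 1 := (Nat.modEq_zero_iff_dvd).1 h10
  exact (Fact.out : p.Prime).one_lt.ne' (Nat.dvd_one.1 this)

end Cfsg.Agent.Helper22.TwoMax
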