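import Mathlib
import Cfsg.Prelude.Def_Blocks
import Cfsg.Agent.Lib.Helper23.BlockOrtho
import Cfsg.Agent.Lib.Helper23.BlockDefect

/-!
# Blocks for two primes in groups without elements of order `pq` (helper18's library)
-/

set_option autoImplicit false

namespace Cfsg.Agent.Helper18

open Cfsg Cfsg.Agent.Helper24 Cfsg.Agent.Helper23.Blk
open scoped ComplexConjugate

universe u

section

variable {G : Type u} [Group G] [Fintype G] {p q : ℕ} {Mp Mq : Ideal AlgInt}

/-- In a group without elements of order `pq`, every `q`-singular element is `p`-regular. -/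
theorem not_dvd_orderOf_of_no_mul (hpp : p.Prime) (hqp : q.Prime) (hpq : p ≠ q)
    (hno : ∀ g : G, orderOf g ≠ p * q) (g : G) (hqg : q ∣ orderOf g) : ¬ p ∣ orderOf g := by
  intro hpg
  have hpq' : p * q ∣ orderOf g :=
    Nat.Coprime.mul_dvd_of_dvd_of_dvd ((Nat.coprime_primes hpp hqp).mpr hpq) hpg hqg
  obtain ⟨k, hk⟩ := hpq'
  have hog : orderOf g ≠ 0 := (orderOf_pos g).ne'
  have hk0 : k ≠ 0 := by
    rintro rfl
    rw [mul_zero] at hk
    exact hog hk
  apply hno (g ^ k)
  rw [orderOf_pow_of_dvd hk0 ⟨p * q, by rw [hk]; ring⟩, hk,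
    Nat.mul_div_cancel _ (Nat.pos_of_ne_zero hk0)]

/-- In a group without elements of order `pq`, the characters common to a `p`-block and a
`q`-block satisfy an orthogonality relation between `p`-singular and `q`-singular elements. -/
theorem sum_inter_blocks_eq_zero [Fintype (IrrCharacter G)] (hMp : IsPModular p Mp)
    (hMq : IsPModular q Mq) (hpq : p ≠ q)
    (hno : ∀ g : G, orderOf g ≠ p * q) {Bp Bq : Set (IrrCharacter G)}
    [DecidablePred (· ∈ Bp)] [DecidablePred (· ∈ Bq)] (hBp : IsPBlock Mp Bp)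
    (hBq : IsPBlock Mq Bq) {x u : G} (hx : p ∣ orderOf x) (hu : q ∣ orderOf u) :
    ∑ χ : IrrCharacter G, (if χ ∈ Bp ∧ χ ∈ Bq then
      conj ((χ : G → ℂ) x) * (χ : G → ℂ) u else 0) = 0 := by
  classical
  have hpp : p.Prime := hMp.1
  have hqp : q.Prime := hMq.1
  obtain ⟨c, hc⟩ : ∃ c : IrrCharacter G → ℂ,
      c = fun χ => if χ ∈ Bp then conj ((χ : G → ℂ) x) else 0 := ⟨_, rfl⟩
  obtain ⟨θ, hθ⟩ : ∃ θ : G → ℂ, θ = ∑ χ : IrrCharacter G, c χ • (χ : G → ℂ) := ⟨_, rfl⟩
  have hθapply : ∀ g : G, θ g = ∑ χ : IrrCharacter G, c χ * (χ : G → ℂ) g := by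
    intro g
    rw [hθ, Finset.sum_apply]
    refine Finset.sum_congr rfl fun χ _ => ?_
    rw [Pi.smul_apply, smul_eq_mul]
  have hA : ∀ g : G, ¬ p ∣ orderOf g → θ g = 0 := by
    intro g hg
    have h1 := weak_block_orthogonality hMp hBp (x := g) (y := x) hg hx
    rw [finsum_mem_def, finsum_eq_sum_of_fintype] at h1
    rw [hθapply, ← h1]
    refine Finset.sum_congr rfl fun χ _ => ?_
    rw [hc]
    by_cases h : χ ∈ Bp
    · rw [Set.indicator_of_mem h]
      simp only [if_pos h]
      ring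
    · rw [Set.indicator_of_notMem h]
      simp only [if_neg h]
      ring
  have hC : ∀ χ : IrrCharacter G, classInner θ (χ : G → ℂ) = c χ := by
    intro χ
    rw [hθ, classInner_sum_left]
    simp only [classInner_smul_left, irr_orthogonality']
    simp
  have hT0 : ∑ χ : IrrCharacter G, (if χ ∈ Bq then c χ * (χ : G → ℂ) u else 0) = 0 := by
    have h1 : ∀ χ : IrrCharacter G, (if χ ∈ Bq then c χ * (χ : G → ℂ) u else 0) =
        (Nat.card G : ℂ)⁻¹ * ∑ g : G, θ g *
          (if χ ∈ Bq then conj ((χ : G → ℂ) g) * (χ : G → ℂ) u else 0) := by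
      intro χ
      by_cases h : χ ∈ Bq
      · simp only [if_pos h]
        rw [← hC χ]
        unfold classInner
        rw [mul_assoc, Finset.sum_mul]
        congr 1
        refine Finset.sum_congr rfl fun g _ => ?_
        ring
      · simp only [if_neg h]
        simp
    simp only [h1]
    rw [← Finset.mul_sum, Finset.sum_comm]
    have h2 : ∀ g : G, ∑ χ : IrrCharacter G, θ g *
        (if χ ∈ Bq then conj ((χ : G → ℂ) g) * (χ : G → ℂ) u else 0) = 0 := by
      intro g
      rw [← Finset.mul_sum]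
      by_cases hg : q ∣ orderOf g
      · rw [hA g (not_dvd_orderOf_of_no_mul hpp hqp hpq hno g hg), zero_mul]
      · have h3 := weak_block_orthogonality hMq hBq (x := g) (y := u) hg hu
        rw [finsum_mem_def, finsum_eq_sum_of_fintype] at h3
        have h4 : ∑ χ : IrrCharacter G,
            (if χ ∈ Bq then conj ((χ : G → ℂ) g) * (χ : G → ℂ) u else 0) =
            conj (∑ χ : IrrCharacter G, Set.indicator Bq
              (fun χ : IrrCharacter G => (χ : G → ℂ) g * conj ((χ : G → ℂ) u)) χ) := by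
          rw [map_sum]
          refine Finset.sum_congr rfl fun χ _ => ?_
          by_cases h : χ ∈ Bq
          · rw [Set.indicator_of_mem h, if_pos h, map_mul, Complex.conj_conj]
          · rw [Set.indicator_of_notMem h, if_neg h, map_zero]
        rw [h4, h3, map_zero, mul_zero]
    rw [Finset.sum_congr rfl (fun g _ => h2 g)]
    simp
  refine Eq.trans ?_ hT0
  refine Finset.sum_congr rfl fun χ _ => ?_
  rw [hc]
  by_cases h1 : χ ∈ Bp
  · by_cases h2 : χ ∈ Bq
    · simp only [if_pos h2, if_pos h1, if_pos (And.intro h1 h2)]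
    · simp only [if_neg h2, if_neg (fun h : χ ∈ Bp ∧ χ ∈ Bq => h2 h.2)]
  · by_cases h2 : χ ∈ Bq
    · simp only [if_pos h2, if_neg h1, if_neg (fun h : χ ∈ Bp ∧ χ ∈ Bq => h1 h.1), zero_mul]
    · simp only [if_neg h2, if_neg (fun h : χ ∈ Bp ∧ χ ∈ Bq => h2 h.2)]

end

end Cfsg.Agent.Helper18
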