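import Mathlib
import Cfsg.Agent.Lib.Helper1.Coprime

/-!
# Frattini-type lemmas for the two-prime principal block theorem (helper18's shared library)
-/

set_option autoImplicit false
set_option linter.unusedVariables false
set_option linter.unusedSectionVars false

namespace Cfsg.Agent.Helper18.TwoPrime

open Subgroup
open scoped Pointwise

variable {H : Type*} [Group H]

/-- A normal subgroup contained in the Frattini subgroup of some subgroup lies in the Frattini
subgroup of the whole group. -/
theorem le_frattini_of_le_map_frattini [Finite H] (N U : Subgroup H) [hN : N.Normal]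
    (hNU : N ≤ (frattini ↥U).map U.subtype) : N ≤ frattini H := by
  intro n hn
  rw [frattini, Order.radical, Subgroup.mem_iInf]
  intro X
  rw [Subgroup.mem_iInf]
  intro hX
  have hX' : IsCoatom (X : Subgroup H) := hX
  by_contra hnX
  have hlt : X < N ⊔ X := by
    refine lt_of_le_of_ne le_sup_right ?_
    intro h
    apply hnX
    rw [h]
    exact Subgroup.mem_sup_left hn
  have htop : N ⊔ X = ⊤ := hX'.2 _ hlt
  have hNle : N ≤ U := hNU.trans (Subgroup.map_subtype_le _)
  -- the trace of `X` on `U` together with the Frattini subgroup generates `U`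
  have hgen : X.subgroupOf U ⊔ frattini ↥U = ⊤ := by
    rw [eq_top_iff]
    intro u _
    have hu : (u : H) ∈ N ⊔ X := by rw [htop]; exact Subgroup.mem_top _
    have hmul : (u : H) ∈ ((N ⊔ X : Subgroup H) : Set H) := hu
    rw [Subgroup.normal_mul] at hmul
    obtain ⟨m, hm, x, hx, hmx⟩ := Set.mem_mul.1 hmul
    obtain ⟨f, hf, hfm⟩ := hNU hm
    have hfm' : (f : H) = m := hfm
    have hx' : f⁻¹ * u ∈ X.subgroupOf U := by
      rw [Subgroup.mem_subgroupOf]
      have : ((f⁻¹ * u : ↥U) : H) = x := by
        push_cast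
        rw [hfm', ← hmx]
        group
      rw [this]
      exact hx
    have : u = f * (f⁻¹ * u) := by group
    rw [this]
    exact Subgroup.mul_mem _ (Subgroup.mem_sup_right hf) (Subgroup.mem_sup_left hx')
  have hK := frattini_nongenerating hgen
  have hUX : U ≤ X := by
    intro u hu
    have : (⟨u, hu⟩ : ↥U) ∈ X.subgroupOf U := by rw [hK]; exact Subgroup.mem_top _
    exact Subgroup.mem_subgroupOf.1 this
  exact hnX (hUX (hNle hn))

/-- Frattini argument for a Hall complement of a normal `p`-subgroup. -/
theorem sup_normalizer_eq_top [Finite H] {p : ℕ} [Fact p.Prime]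
    (Q E : Subgroup H) [hQn : Q.Normal] (hQ : IsPGroup p Q)
    (hcop : (Nat.card E).Coprime (Nat.card Q)) (hY : (Q ⊔ E).Normal) :
    Q ⊔ Subgroup.normalizer (E : Set H) = ⊤ := by
  rw [eq_top_iff]
  intro h _
  have hB : MulAut.conj h • E ≤ Q ⊔ E := by
    intro x hx
    rw [Subgroup.mem_pointwise_smul_iff_inv_smul_mem] at hx
    have h1 : (MulAut.conj h)⁻¹ • x ∈ Q ⊔ E := Subgroup.mem_sup_right hx
    have h2 := hY.conj_mem _ h1 h
    have h3 : h * ((MulAut.conj h)⁻¹ • x) * h⁻¹ = x := by
      simp only [MulAut.smul_def, MulAut.inv_apply, MulAut.conj_symm_apply]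
      group
    rwa [h3] at h2
  have hcard : Nat.card ↥(MulAut.conj h • E) = Nat.card E :=
    Nat.card_congr (Subgroup.equivSMul (MulAut.conj h) E).toEquiv.symm
  have : Group.IsNilpotent Q := hQ.isNilpotent
  obtain ⟨n, hn, hnE⟩ := Cfsg.Agent.Helper1.sz_internal Q E (MulAut.conj h • E)
    (by rw [Subgroup.normalizer_eq_top]; exact le_top) hcop (Or.inr inferInstance) hB hcard
  have hnh : n * h ∈ Subgroup.normalizer (E : Set H) := by
    rw [Subgroup.mem_normalizer_iff_map_conj_eq]
    have : MulAut.conj (n * h) • E = MulAut.conj n • MulAut.conj h • E := by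
      rw [map_mul, mul_smul]
    rw [hnE] at this
    exact this
  have : h = n⁻¹ * (n * h) := by group
  rw [this]
  exact Subgroup.mul_mem_sup (Q.inv_mem hn) hnh

end Cfsg.Agent.Helper18.TwoPrime
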