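import Mathlib
import Cfsg.Prelude.Def_Solvable
import Cfsg.Prelude.Def_Local
import Cfsg.Prelude.Def_Transfer
import Cfsg.Agent.Lib.Helper1.Tate
import Cfsg.Agent.Lib.Helper1.TwoGenSylC
import Cfsg.Agent.Lib.Helper4.HHDual
import Cfsg.Agent.Lib.Helper10.SecFusion
import Cfsg.Agent.Lib.Helper10.Cores
import Cfsg.Agent.Lib.Helper22.PPrimeCore
import Cfsg.Agent.Lib.Helper23.PSolvable
import Cfsg.Agent.Lib.Helper18.TwoPrimeGT1

/-!
# Group theory for the two-prime principal block theorem, II (helper18's shared library)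
-/

set_option autoImplicit false
set_option linter.unusedVariables false
set_option linter.unusedSectionVars false
set_option linter.style.haveILetI false

namespace Cfsg.Agent.Helper18.TwoPrime

open Cfsg Subgroup
open scoped Pointwise

variable {H : Type*} [Group H]

/-- A finite group generated by no nontrivial `p'`-elements is a `p`-group. -/
theorem isPGroup_of_pResidual_eq_bot [Finite H] {p : ℕ} [hp : Fact p.Prime]
    (h : pResidual p H = ⊥) : IsPGroup p H := by
  intro g
  have hn0 : orderOf g ≠ 0 := (orderOf_pos g).ne'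
  obtain ⟨k, m, hm, hn⟩ := Nat.exists_eq_pow_mul_and_not_dvd hn0 p hp.out.ne_one
  refine ⟨k, ?_⟩
  have h1 : (g ^ p ^ k) ^ m = 1 := by
    rw [← pow_mul, ← hn]
    exact pow_orderOf_eq_one g
  have h2 : orderOf (g ^ p ^ k) ∣ m := orderOf_dvd_of_pow_eq_one h1
  have h3 : Nat.Coprime (orderOf (g ^ p ^ k)) p :=
    Nat.Coprime.coprime_dvd_left h2 ((Nat.Prime.coprime_iff_not_dvd hp.out).2 hm).symm
  have h4 : g ^ p ^ k ∈ pResidual p H := Subgroup.subset_closure h3
  rw [h, Subgroup.mem_bot] at h4
  exact h4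

/-- **Tate's theorem for groups with trivial `p'`-core**: a normal subgroup meeting a Sylow
`p`-subgroup inside its derived subgroup is a `p`-group. -/
theorem isPGroup_of_inf_sylow_le_commutator [Finite H] {p : ℕ} [hp : Fact p.Prime]
    (hO : pPrimeCore p H = ⊥) (R : Subgroup H) [hR : R.Normal] (P : Sylow p H)
    (h : R ⊓ (P : Subgroup H) ≤ ⁅(P : Subgroup H), (P : Subgroup H)⁆) : IsPGroup p R := by
  have h1 := Cfsg.Agent.Helper1.tate_pResidual P R
    (h.trans (Cfsg.Agent.Helper1.TwoGenSyl.commutator_le_map_frattini P))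
  haveI hMn : ((pResidual p R).map R.subtype).Normal :=
    Cfsg.Agent.Helper1.map_pResidual_normal (p := p) R
  have hcard : Nat.card ((pResidual p R).map R.subtype) = Nat.card (pResidual p R) :=
    Subgroup.card_map_of_injective (Subgroup.subtype_injective R)
  have hM : (pResidual p R).map R.subtype ≤ pPrimeCore p H := by
    apply Cfsg.Agent.Helper22.le_pPrimeCore p _ hMn
    rw [hcard]
    exact ((Nat.Prime.coprime_iff_not_dvd hp.out).2 h1).symm
  rw [hO, le_bot_iff, Subgroup.map_eq_bot_iff_of_injective _ (Subgroup.subtype_injective R)] at hM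
  exact isPGroup_of_pResidual_eq_bot hM

/-- A `p`-solvable group with trivial `p'`-core whose `p`-core lies in the Frattini subgroup is
trivial. -/
theorem subsingleton_of_pCore_le_frattini [Finite H] {p : ℕ} [hp : Fact p.Prime]
    (hsolv : IsPSolvable p H) (hO : pPrimeCore p H = ⊥) (hQΦ : pCore p H ≤ frattini H) :
    Subsingleton H := by
  haveI hQn : (pCore p H).Normal := Cfsg.Agent.Helper10.pCore_normal p
  have hQp : IsPGroup p (pCore p H) := Cfsg.Agent.Helper10.pCore_isPGroup p
  set Q := pCore p H with hQdef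
  have hX1 : pCore p (H ⧸ Q) = ⊥ := Cfsg.Agent.Helper10.pCore_quotient_pCore p H
  have hX2 : IsPSolvable p (H ⧸ Q) := Cfsg.Agent.Helper23.PSolv.isPSolvable_quotient Q hsolv
  have hX3 := Cfsg.Agent.Helper4.HHD.centralizer_pPrimeCore_le hX2 hX1
  set Kb := pPrimeCore p (H ⧸ Q) with hKb
  haveI hKbn : Kb.Normal := Cfsg.Agent.Helper22.pPrimeCore_normal p
  set π := QuotientGroup.mk' Q with hπ
  have hπs : Function.Surjective π := QuotientGroup.mk'_surjective Q
  set Y := Kb.comap π with hY
  haveI hYn : Y.Normal := hKbn.comap π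
  have hQY : Q ≤ Y := by
    intro x hx
    show π x ∈ Kb
    have : π x = 1 := (QuotientGroup.eq_one_iff x).2 hx
    rw [this]
    exact Subgroup.one_mem _
  have hKbcop : (Nat.card Kb).Coprime p := Cfsg.Agent.Helper22.card_pPrimeCore_coprime p
  have hrel : Q.relIndex Y = Nat.card Kb := by
    have h1 : Q = (⊥ : Subgroup (H ⧸ Q)).comap π := by
      rw [MonoidHom.comap_bot, hπ, QuotientGroup.ker_mk']
    have h2 : Y.map π = Kb := Subgroup.map_comap_eq_self_of_surjective hπs Kb
    conv_lhs => rw [h1]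
    rw [Subgroup.relIndex_comap, h2, Subgroup.relIndex_bot_left]
  -- Schur–Zassenhaus in `Y`
  haveI hNn : (Q.subgroupOf Y).Normal := Subgroup.Normal.subgroupOf hQn Y
  obtain ⟨a, ha⟩ := IsPGroup.iff_card.1 hQp
  have hcardN : Nat.card (Q.subgroupOf Y) = Nat.card Q :=
    Nat.card_congr (Subgroup.subgroupOfEquivOfLe hQY).toEquiv
  have hcopN : Nat.Coprime (Nat.card (Q.subgroupOf Y)) (Q.subgroupOf Y).index := by
    rw [hcardN, ha]
    apply Nat.Coprime.pow_left
    show Nat.Coprime p (Q.relIndex Y)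
    rw [hrel]
    exact hKbcop.symm
  obtain ⟨E', hE'⟩ := Subgroup.exists_right_complement'_of_coprime hcopN
  set E := E'.map Y.subtype with hE
  have hcardE : Nat.card E = Nat.card Kb := by
    rw [hE, Subgroup.card_map_of_injective (Subgroup.subtype_injective Y)]
    have := hE'.symm.index_eq_card
    rw [← this]
    exact hrel
  have hsup : Q ⊔ E = Y := by
    have h1 : Q.subgroupOf Y ⊔ E' = ⊤ := hE'.sup_eq_top
    have h2 := congrArg (Subgroup.map Y.subtype) h1
    rw [Subgroup.map_sup, Subgroup.subgroupOf_map_subtype, ← MonoidHom.range_eq_map,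
      Subgroup.range_subtype, inf_eq_left.2 hQY] at h2
    exact h2
  have hcopE : (Nat.card E).Coprime (Nat.card Q) := by
    rw [hcardE, ha]
    exact Nat.Coprime.pow_right _ hKbcop
  have hfr := sup_normalizer_eq_top Q E hQp hcopE (by rw [hsup]; exact hYn)
  have hnorm : Subgroup.normalizer (E : Set H) = ⊤ := by
    have hle : Q ⊔ Subgroup.normalizer (E : Set H) ≤
        Subgroup.normalizer (E : Set H) ⊔ frattini H :=
      sup_le (hQΦ.trans le_sup_right) le_sup_left
    have htop : Subgroup.normalizer (E : Set H) ⊔ frattini H = ⊤ := by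
      apply top_le_iff.1
      rw [← hfr]
      exact hle
    exact frattini_nongenerating htop
  have hEn : E.Normal := Subgroup.normalizer_eq_top_iff.1 hnorm
  have hEbot : E = ⊥ := by
    have : E ≤ pPrimeCore p H := Cfsg.Agent.Helper22.le_pPrimeCore p E hEn (by
      rw [hcardE]; exact hKbcop)
    rwa [hO, le_bot_iff] at this
  have hYQ : Y = Q := by rw [← hsup, hEbot, sup_bot_eq]
  have hKbbot : Kb = ⊥ := by
    have h2 : Y.map π = Kb := Subgroup.map_comap_eq_self_of_surjective hπs Kb
    rw [← h2, hYQ, hπ, QuotientGroup.map_mk'_self]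
  have hXtriv : ∀ x : H ⧸ Q, x = 1 := by
    intro x
    have : x ∈ Subgroup.centralizer ((Kb : Subgroup (H ⧸ Q)) : Set (H ⧸ Q)) := by
      rw [hKbbot]
      rw [Subgroup.mem_centralizer_iff]
      intro y hy
      have : y = 1 := hy
      rw [this, one_mul, mul_one]
    have := hX3 this
    rw [hKbbot, Subgroup.mem_bot] at this
    exact this
  have hQtop : Q = ⊤ := by
    rw [eq_top_iff]
    intro x _
    exact (QuotientGroup.eq_one_iff x).1 (hXtriv (π x))
  have hΦtop : frattini H = ⊤ := top_le_iff.1 (hQtop ▸ hQΦ)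
  have hbt : (⊥ : Subgroup H) = ⊤ := by
    apply frattini_nongenerating
    rw [hΦtop, bot_sup_eq]
  refine ⟨fun x y => ?_⟩
  have hx : x ∈ (⊥ : Subgroup H) := by rw [hbt]; exact Subgroup.mem_top x
  have hy : y ∈ (⊥ : Subgroup H) := by rw [hbt]; exact Subgroup.mem_top y
  rw [Subgroup.mem_bot] at hx hy
  rw [hx, hy]

end Cfsg.Agent.Helper18.TwoPrime
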