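import Mathlib
import Cfsg.Agent.Lib.Helper18.TwoPrimeGT2

/-!
# Group theory for the two-prime principal block theorem, III (helper18's shared library)
-/

set_option autoImplicit false
set_option linter.unusedVariables false
set_option linter.unusedSectionVars false
set_option linter.style.haveILetI false

namespace Cfsg.Agent.Helper18.TwoPrime

open Cfsg Subgroup
open scoped Pointwise

variable {G : Type*} [Group G]

/-- A normal subgroup of a group with trivial `p'`-core that meets every Sylow `p`-subgroup inside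
its derived subgroup lies in the `p`-core and in the Frattini subgroup. -/
theorem le_pCore_and_le_frattini [Finite G] {p : ℕ} [hp : Fact p.Prime]
    (hO : pPrimeCore p G = ⊥) (R : Subgroup G) [hR : R.Normal]
    (h : ∀ P : Sylow p G, R ⊓ (P : Subgroup G) ≤ ⁅(P : Subgroup G), (P : Subgroup G)⁆) :
    IsPGroup p R ∧ R ≤ frattini G := by
  obtain ⟨P⟩ := (inferInstance : Nonempty (Sylow p G))
  have hRp : IsPGroup p R := isPGroup_of_inf_sylow_le_commutator hO R P (h P)
  refine ⟨hRp, ?_⟩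
  have hRP : R ≤ (P : Subgroup G) := Cfsg.Agent.Helper23.PSolv.normal_pGroup_le_sylow R hRp P
  have h1 : R ≤ ⁅(P : Subgroup G), (P : Subgroup G)⁆ := by
    have := h P
    rwa [inf_eq_left.2 hRP] at this
  exact le_frattini_of_le_map_frattini R (P : Subgroup G)
    (h1.trans (Cfsg.Agent.Helper1.TwoGenSyl.commutator_le_map_frattini P))

/-- **The group-theoretic core**: the two derived-subgroup conditions are incompatible with
`p` dividing the order. -/
theorem false_of_two_primes [Finite G] {p q : ℕ} [hp : Fact p.Prime] [hq : Fact q.Prime]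
    (hpq : p ≠ q) (hpG : p ∣ Nat.card G) (hps : IsPSolvable p G) (hqs : IsPSolvable q G)
    [hKpn : (pPrimeCore p G).Normal] [hKqn : (pPrimeCore q G).Normal]
    (hA : ∀ P : Sylow p (G ⧸ pPrimeCore p G),
      (pPrimeCore q G).map (QuotientGroup.mk' (pPrimeCore p G)) ⊓ (P : Subgroup _) ≤
        ⁅(P : Subgroup (G ⧸ pPrimeCore p G)), (P : Subgroup (G ⧸ pPrimeCore p G))⁆)
    (hB : ∀ Q : Sylow q (G ⧸ pPrimeCore q G),
      (pPrimeCore p G).map (QuotientGroup.mk' (pPrimeCore q G)) ⊓ (Q : Subgroup _) ≤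
        ⁅(Q : Subgroup (G ⧸ pPrimeCore q G)), (Q : Subgroup (G ⧸ pPrimeCore q G))⁆) : False := by
  set Kp := pPrimeCore p G with hKp
  set Kq := pPrimeCore q G with hKq
  set πp := QuotientGroup.mk' Kp with hπp
  set πq := QuotientGroup.mk' Kq with hπq
  have hπps : Function.Surjective πp := QuotientGroup.mk'_surjective Kp
  have hπqs : Function.Surjective πq := QuotientGroup.mk'_surjective Kq
  have hOp : pPrimeCore p (G ⧸ Kp) = ⊥ :=
    Cfsg.Agent.Helper23.PSolv.pPrimeCore_quotient_pPrimeCore p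
  have hOq : pPrimeCore q (G ⧸ Kq) = ⊥ :=
    Cfsg.Agent.Helper23.PSolv.pPrimeCore_quotient_pPrimeCore q
  have hps' : IsPSolvable p (G ⧸ Kp) := Cfsg.Agent.Helper23.PSolv.isPSolvable_quotient Kp hps
  set Rp := Kq.map πp with hRp
  set Rq := Kp.map πq with hRq
  haveI hRpn : Rp.Normal := Subgroup.Normal.map hKqn πp hπps
  haveI hRqn : Rq.Normal := Subgroup.Normal.map hKpn πq hπqs
  obtain ⟨hRpp, hRpΦ⟩ := le_pCore_and_le_frattini hOp Rp hA
  obtain ⟨hRqq, hRqΦ⟩ := le_pCore_and_le_frattini hOq Rq hB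
  -- the subgroup `O_{p',p}(G)`
  haveI hQn : (pCore p (G ⧸ Kp)).Normal := Cfsg.Agent.Helper10.pCore_normal p
  set Mp := (pCore p (G ⧸ Kp)).comap πp with hMp
  haveI hMpn : Mp.Normal := hQn.comap πp
  obtain ⟨P⟩ := (inferInstance : Nonempty (Sylow p G))
  set S := (P : Subgroup G) ⊓ Mp with hS
  have hSp : IsPGroup p S := P.2.to_le inf_le_left
  have hKpMp : Kp ≤ Mp := by
    intro x hx
    show πp x ∈ pCore p (G ⧸ Kp)
    have : πp x = 1 := (QuotientGroup.eq_one_iff x).2 hx
    rw [this]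
    exact Subgroup.one_mem _
  have hMpsup : Kp ⊔ S = Mp := by
    apply le_antisymm (sup_le hKpMp inf_le_right)
    intro m hm
    have hm' : πp m ∈ pCore p (G ⧸ Kp) := hm
    have h1 : πp m ∈ ((P.mapSurjective hπps : Sylow p (G ⧸ Kp)) : Subgroup (G ⧸ Kp)) :=
      Cfsg.Agent.Helper23.PSolv.pCore_le_sylow _ hm'
    rw [Sylow.coe_mapSurjective] at h1
    obtain ⟨y, hy, hym⟩ := h1
    have hyM : y ∈ Mp := by
      show πp y ∈ pCore p (G ⧸ Kp)
      rw [hym]
      exact hm'
    have hk : y⁻¹ * m ∈ Kp := by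
      apply (QuotientGroup.eq_one_iff (y⁻¹ * m)).1
      show πp (y⁻¹ * m) = 1
      rw [map_mul, map_inv, hym, inv_mul_cancel]
    have : m = y * (y⁻¹ * m) := by group
    rw [this]
    exact Subgroup.mul_mem _ (Subgroup.mem_sup_right ⟨hy, hyM⟩) (Subgroup.mem_sup_left hk)
  -- the image of `S` in `G / O_{q'}(G)` is normal
  set Sb := S.map πq with hSb
  have hSbp : IsPGroup p Sb := hSp.map πq
  have hsupn : (Rq ⊔ Sb).Normal := by
    have : Rq ⊔ Sb = Mp.map πq := by rw [hRq, hSb, ← Subgroup.map_sup, hMpsup]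
    rw [this]
    exact Subgroup.Normal.map hMpn πq hπqs
  obtain ⟨a, ha⟩ := IsPGroup.iff_card.1 hSbp
  obtain ⟨b, hb⟩ := IsPGroup.iff_card.1 hRqq
  have hpqc : Nat.Coprime p q := (Nat.coprime_primes hp.out hq.out).2 hpq
  have hcop : (Nat.card Sb).Coprime (Nat.card Rq) := by
    rw [ha, hb]
    exact Nat.Coprime.pow _ _ hpqc
  have hfr := sup_normalizer_eq_top Rq Sb hRqq hcop hsupn
  have hnorm : Subgroup.normalizer (Sb : Set (G ⧸ Kq)) = ⊤ := by
    have hle : Rq ⊔ Subgroup.normalizer (Sb : Set (G ⧸ Kq)) ≤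
        Subgroup.normalizer (Sb : Set (G ⧸ Kq)) ⊔ frattini (G ⧸ Kq) :=
      sup_le (hRqΦ.trans le_sup_right) le_sup_left
    have htop : Subgroup.normalizer (Sb : Set (G ⧸ Kq)) ⊔ frattini (G ⧸ Kq) = ⊤ := by
      apply top_le_iff.1
      rw [← hfr]
      exact hle
    exact frattini_nongenerating htop
  have hSbn : Sb.Normal := Subgroup.normalizer_eq_top_iff.1 hnorm
  have hSbbot : Sb = ⊥ := by
    have : Sb ≤ pPrimeCore q (G ⧸ Kq) := Cfsg.Agent.Helper22.le_pPrimeCore q Sb hSbn (by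
      rw [ha]; exact Nat.Coprime.pow_left _ hpqc)
    rwa [hOq, le_bot_iff] at this
  have hSKq : S ≤ Kq := by
    intro s hs
    have : πq s ∈ Sb := Subgroup.mem_map_of_mem πq hs
    rw [hSbbot, Subgroup.mem_bot] at this
    exact (QuotientGroup.eq_one_iff s).1 this
  -- hence `O_p(G / O_{p'}(G))` lies in the Frattini subgroup
  have hQle : pCore p (G ⧸ Kp) ≤ Rp := by
    have h1 : Mp.map πp = pCore p (G ⧸ Kp) := Subgroup.map_comap_eq_self_of_surjective hπps _
    rw [← h1, ← hMpsup, Subgroup.map_sup]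
    apply sup_le
    · rw [hπp, QuotientGroup.map_mk'_self]
      exact bot_le
    · exact Subgroup.map_mono hSKq
  have hsub := subsingleton_of_pCore_le_frattini hps' hOp (hQle.trans hRpΦ)
  have hKptop : Kp = ⊤ := by
    rw [eq_top_iff]
    intro x _
    exact (QuotientGroup.eq_one_iff x).1 (Subsingleton.elim _ _)
  have hcop' : (Nat.card Kp).Coprime p := Cfsg.Agent.Helper22.card_pPrimeCore_coprime p
  rw [hKptop, Subgroup.card_top] at hcop'
  exact (Nat.Prime.coprime_iff_not_dvd hp.out).1 hcop'.symm hpG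

end Cfsg.Agent.Helper18.TwoPrime
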