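import Mathlib
import Cfsg.Prelude.Def_Solvable
import Cfsg.Agent.Lib.Helper20.W3Defs

/-!
# S3300 piece W3-STEP1 (helper18): if some `a ∈ C_E(u)` does not centralize `k`, translation by `[k,a]`
is a fixed-point-free involution of `Xset`, which therefore has even cardinality.
-/

set_option autoImplicit false

namespace Cfsg.Agent.Helper20.W3

open Cfsg.Agent.Helper8.XS

/-- a finite set with a fixed-point-free involution has even cardinality -/
theorem w3step1_even_of_invol {α : Type*} [Finite α] (S : Set α) (f : α → α)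
    (hS : ∀ x ∈ S, f x ∈ S) (hff : ∀ x ∈ S, f (f x) = x) (hne : ∀ x ∈ S, f x ≠ x) :
    Even (Set.ncard S) := by
  classical
  have : Fintype ↥S := Fintype.ofFinite _
  have : Fact (Nat.Prime 2) := ⟨Nat.prime_two⟩
  let g : Function.End ↥S := fun x => ⟨f x.1, hS x.1 x.2⟩
  have hg : g ^ 2 ^ 1 = 1 := by
    funext x
    apply Subtype.ext
    show f (f x.1) = x.1
    exact hff x.1 x.2
  have h := Equiv.Perm.card_fixedPoints_modEq (p := 2) (n := 1) hg
  have hfix : Fintype.card ↥(Function.fixedPoints g) = 0 := by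
    rw [Fintype.card_eq_zero_iff]
    constructor
    rintro ⟨x, hx⟩
    have := congrArg Subtype.val (Function.IsFixedPt.eq hx)
    exact hne x.1 x.2 this
  rw [hfix] at h
  have h2 : Set.ncard S = Fintype.card ↥S := by
    rw [← Nat.card_coe_set_eq, Nat.card_eq_fintype_card]
  rw [h2]
  exact Nat.even_iff.mpr h

section tri

variable {G : Type*} [Group G] [Finite G] {z : G} {E : Subgroup G} {u k : G} {ν : G → ℤˣ} {n : ℕ}

/-- PIECE W3-STEP1 -/
theorem even_X_step1 (t : Tri z E u k ν n) (a : G) (ha : a ∈ E) (hau : a * u = u * a)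
    (hak : a * k ≠ k * a) : Even (Set.ncard (Xset E u ν k)) := by
  -- commutation with `u` passes to inverses and products
  have inv_u : ∀ x : G, x * u = u * x → x⁻¹ * u = u * x⁻¹ := by
    intro x hx
    calc x⁻¹ * u = x⁻¹ * (u * x) * x⁻¹ := by group
      _ = x⁻¹ * (x * u) * x⁻¹ := by rw [hx]
      _ = u * x⁻¹ := by group
  have mul_u : ∀ x y : G, x * u = u * x → y * u = u * y → (x * y) * u = u * (x * y) := by
    intro x y hx hy
    calc (x * y) * u = x * (y * u) := by group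
      _ = x * (u * y) := by rw [hy]
      _ = (x * u) * y := by group
      _ = (u * x) * y := by rw [hx]
      _ = u * (x * y) := by group
  have hν1 : ν 1 = 1 := by
    have h := t.hνmul 1 1 (by group) (by group)
    rw [mul_one] at h
    have h2 : ν 1 * 1 = ν 1 * ν 1 := by rw [mul_one]; exact h
    exact (mul_left_cancel h2).symm
  have hνinv : ∀ x : G, x * u = u * x → ν x⁻¹ * ν x = 1 := by
    intro x hx
    rw [← t.hνmul x⁻¹ x (inv_u x hx) hx, inv_mul_cancel, hν1]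
  -- the element `c = [k,a]`
  have hku' : k⁻¹ * u = u * k⁻¹ := inv_u k t.hku
  have hau' : a⁻¹ * u = u * a⁻¹ := inv_u a hau
  have hcE : k⁻¹ * a⁻¹ * k * a ∈ E := E.mul_mem (t.hkE a⁻¹ (E.inv_mem ha)) ha
  have hcu : (k⁻¹ * a⁻¹ * k * a) * u = u * (k⁻¹ * a⁻¹ * k * a) :=
    mul_u _ _ (mul_u _ _ (mul_u _ _ hku' hau') t.hku) hau
  have hνc : ν (k⁻¹ * a⁻¹ * k * a) = 1 := by
    rw [t.hνmul _ _ (mul_u _ _ (mul_u _ _ hku' hau') t.hku) hau,
      t.hνmul _ _ (mul_u _ _ hku' hau') t.hku, t.hνmul _ _ hku' hau']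
    calc ν k⁻¹ * ν a⁻¹ * ν k * ν a = (ν k⁻¹ * ν k) * (ν a⁻¹ * ν a) := by
          rw [mul_assoc (ν k⁻¹ * ν a⁻¹), mul_mul_mul_comm]
      _ = 1 := by rw [hνinv k t.hku, hνinv a hau, one_mul]
  have hc1 : k⁻¹ * a⁻¹ * k * a ≠ 1 := by
    intro h
    apply hak
    calc a * k = k * a * (k⁻¹ * a⁻¹ * k * a)⁻¹ := by group
      _ = k * a := by rw [h, inv_one, mul_one]
  have hcc : (k⁻¹ * a⁻¹ * k * a) * (k⁻¹ * a⁻¹ * k * a) = 1 := t.hAu2 _ hcE hcu
  -- translation by `c`
  apply w3step1_even_of_invol (Xset E u ν k) (fun x => (k⁻¹ * a⁻¹ * k * a) * x)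
  · rintro x ⟨hxE, hxu, hνx, e, he, hxe⟩
    refine ⟨E.mul_mem hcE hxE, mul_u _ _ hcu hxu, ?_, e * a, E.mul_mem he ha, ?_⟩
    · rw [t.hνmul _ _ hcu hxu, hνc, hνx, one_mul]
    · -- `a` commutes with `x`
      have hax : a * x = x * a := t.hAu a ha hau x hxE hxu
      calc (k⁻¹ * a⁻¹ * k * a) * x = k⁻¹ * a⁻¹ * k * (a * x) := by group
        _ = k⁻¹ * a⁻¹ * k * (x * a) := by rw [hax]
        _ = k⁻¹ * a⁻¹ * k * (k⁻¹ * e⁻¹ * k * e * a) := by rw [hxe]
        _ = k⁻¹ * (e * a)⁻¹ * k * (e * a) := by group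
  · intro x _
    show (k⁻¹ * a⁻¹ * k * a) * ((k⁻¹ * a⁻¹ * k * a) * x) = x
    rw [← mul_assoc, hcc, one_mul]
  · intro x _ h
    apply hc1
    have h' : (k⁻¹ * a⁻¹ * k * a) * x = x := h
    calc k⁻¹ * a⁻¹ * k * a = ((k⁻¹ * a⁻¹ * k * a) * x) * x⁻¹ := by group
      _ = x * x⁻¹ := by rw [h']
      _ = 1 := by group

end tri

end Cfsg.Agent.Helper20.W3
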