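import Mathlib
import Cfsg.Agent.Lib.Helper18.WCAbsDefs
import Cfsg.Agent.Lib.Helper20.WCELIMBASE
import Cfsg.Agent.Lib.Helper20.WCELIMSTEP
import Cfsg.Agent.Lib.Helper27.WCNIL

/-!
# S2244: the abstract core (assembly of WC-ELIMBASE, WC-ELIMSTEP, WC-NIL)
-/

set_option autoImplicit false
set_option linter.unusedSectionVars false
set_option linter.unusedVariables false

namespace Cfsg.Agent.Helper18.WC

open scoped commutatorElement

section Abs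

variable {G ι τ F : Type*} [Group G] [Field F] [Finite F] [DecidableEq ι]
  (U X M M' : Subgroup G) (K : Finset ι) (x : ι → F → G) (tor : τ → G) (χ : ι → τ → F)

/-- assembly of the elimination (helper18) -/
theorem elim
    (hXM : X ≤ M) (hMU : M ≤ U) (hM'M : M' ≤ M)
    (hXn : ∀ u ∈ U, ∀ y ∈ X, u * y * u⁻¹ ∈ X)
    (hcomm : ∀ u ∈ U, ∀ y ∈ M, ⁅u, y⁆ ∈ M')
    (hxadd : ∀ a ∈ K, ∀ s t, x a (s + t) = x a s * x a t)
    (hxM : ∀ a ∈ K, ∀ t, x a t ∈ M)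
    (hgen : M ≤ ES M' x K)
    (hTX : ∀ h, ∀ y ∈ X, tor h * y * (tor h)⁻¹ ∈ X)
    (hTM' : ∀ h, ∀ y ∈ M', tor h * y * (tor h)⁻¹ ∈ M')
    (hTx : ∀ h, ∀ a ∈ K, ∀ t, tor h * x a t * (tor h)⁻¹ = x a (χ a h * t))
    (hsq : ∀ a ∈ K, ∀ l : F, l ≠ 0 → ∃ h, χ a h = l ^ 2)
    (hsep : ∀ a ∈ K, ∀ b ∈ K, a ≠ b → ∃ h, χ b h = 1 ∧ χ a h ≠ 1)
    (hnd : ∀ a ∈ K, ¬ X ≤ ES M' x (K.erase a)) :
    ∀ a ∈ K, ∀ t, x a t ∈ X ⊔ M' := by
  intro a ha
  have key : ∀ n : ℕ, ∀ S : Finset ι, S ⊆ K.erase a → (K.erase a).card - S.card = n →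
      ∀ t, x a t ∈ X ⊔ ES M' x S := by
    intro n
    induction n with
    | zero =>
      intro S hS hn
      have hle : (K.erase a).card ≤ S.card := Nat.sub_eq_zero_iff_le.1 hn
      have hSK : S = K.erase a := Finset.eq_of_subset_of_card_le hS hle
      rw [hSK]
      exact elim_base U X M M' K x tor χ hXM hMU hM'M hXn hcomm hxadd hxM hgen hTX hTM' hTx hsq a ha
        (hnd a ha)
    | succ n ih =>
      intro S hS hn
      have hne : S ≠ K.erase a := by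
        rintro rfl
        simp at hn
      have hss : S ⊂ K.erase a := lt_of_le_of_ne hS hne
      obtain ⟨b, hbK, hbS⟩ := Finset.exists_of_ssubset hss
      have hS' : insert b S ⊆ K.erase a := Finset.insert_subset hbK hS
      have hcard : (K.erase a).card - (insert b S).card = n := by
        rw [Finset.card_insert_of_notMem hbS]
        omega
      have h1 := ih (insert b S) hS' hcard
      have h2 := elim_step U X M M' K x tor χ hXM hMU hM'M hXn hcomm hxadd hxM hTX hTM' hTx hsq hsep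
        a ha (insert b S) hS' b (Finset.mem_insert_self b S) h1
      rwa [Finset.erase_insert hbS] at h2
  have h0 := key _ ∅ (Finset.empty_subset _) rfl
  intro t
  have := h0 t
  unfold ES at this
  simpa using this

/-- abstract core (helper18) -/
theorem core (hnil : Group.IsNilpotent U)
    (hXM : X ≤ M) (hMU : M ≤ U) (hM'M : M' ≤ M)
    (hXn : ∀ u ∈ U, ∀ y ∈ X, u * y * u⁻¹ ∈ X)
    (hMn : ∀ u ∈ U, ∀ y ∈ M, u * y * u⁻¹ ∈ M)
    (hcomm : ∀ u ∈ U, ∀ y ∈ M, ⁅u, y⁆ ∈ M')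
    (hC : M' ≤ ⁅M, U⁆)
    (hxadd : ∀ a ∈ K, ∀ s t, x a (s + t) = x a s * x a t)
    (hxM : ∀ a ∈ K, ∀ t, x a t ∈ M)
    (hgen : M ≤ ES M' x K)
    (hTX : ∀ h, ∀ y ∈ X, tor h * y * (tor h)⁻¹ ∈ X)
    (hTM' : ∀ h, ∀ y ∈ M', tor h * y * (tor h)⁻¹ ∈ M')
    (hTx : ∀ h, ∀ a ∈ K, ∀ t, tor h * x a t * (tor h)⁻¹ = x a (χ a h * t))
    (hsq : ∀ a ∈ K, ∀ l : F, l ≠ 0 → ∃ h, χ a h = l ^ 2)
    (hsep : ∀ a ∈ K, ∀ b ∈ K, a ≠ b → ∃ h, χ b h = 1 ∧ χ a h ≠ 1)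
    (hnd : ∀ a ∈ K, ¬ X ≤ ES M' x (K.erase a)) :
    M ≤ X := by
  have h1 := elim U X M M' K x tor χ hXM hMU hM'M hXn hcomm hxadd hxM hgen hTX hTM' hTx hsq hsep hnd
  apply le_of_le_sup_commutator U X M hnil (hXM.trans hMU) hMU hXn hMn
  refine hgen.trans ?_
  unfold ES
  refine sup_le ?_ (le_trans hC le_sup_right)
  rw [Subgroup.closure_le]
  rintro g ⟨b, hb, t, rfl⟩
  exact (sup_le_sup_left hC X) (h1 b hb t)

end Abs

end Cfsg.Agent.Helper18.WC
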