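import Mathlib
import Cfsg.Agent.Lib.Helper18.WCDefs

/-!
# S2244, piece WC-NEXC: for `j ∉ JX`, `X` is not contained in `U_{α_j}`
-/

set_option autoImplicit false
set_option linter.unusedSectionVars false
set_option linter.unusedVariables false

namespace Cfsg.Agent.Helper18.WC

open Cfsg Cfsg.Lie Cfsg.Agent.Lead.Chev Cfsg.Agent.Helper6.ChevL Cfsg.Agent.Helper6.Uni
open scoped commutatorElement

section Chev

variable {F : Type*} [Field F] {D : ChevalleyDatum} (hF : ChevFacts D F)

include hF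

/-- `n_j` normalises `U_{α_j}` -/
theorem wc_nexc_nGL_mem_normalizer (j : ℕ) (hj : j < D.rank) :
    nGL D hF.xadd (D.simple j) ∈
      Subgroup.normalizer (posExcept D F (D.simple j) : Set (GL D.Idx F)) := by
  have hlt := hF.simple_lt j hj
  have hnn : D.neg (D.neg (D.simple j)) = D.simple j := hF.sign.neg_neg _ hlt
  have h1 := rootSubgroup_le_normalizer_posExcept D hF.xadd hF.comm j (hF.up j hj) hnn (D.simple j)
    (Or.inl rfl) hlt
  have h2 := rootSubgroup_le_normalizer_posExcept D hF.xadd hF.comm j (hF.up j hj) hnn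
    (D.neg (D.simple j)) (Or.inr rfl) (hF.sign.neg_lt _ hlt)
  have hx : ∀ (a : ℕ) (t : F), xGL D hF.xadd a t ∈ D.rootSubgroup F a := by
    intro a t
    exact Subgroup.subset_closure ⟨t, rfl⟩
  rw [nGL_eq_nGLt, nGLt_eq]
  exact mul_mem (mul_mem (h1 (hx _ _)) (h2 (hx _ _))) (h1 (hx _ _))

/-- WC-NEXC: for `j ∉ JX`, `X` is not contained in `U_{α_j}` -/
theorem not_le_posExcept (X : Subgroup (GL D.Idx F))
    (hwc : ∀ g ∈ D.group F, X.map (MulAut.conj g).toMonoidHom ≤ D.posUnipotent F →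
      X.map (MulAut.conj g).toMonoidHom = X)
    (j : ℕ) (hj : j < D.rank) (hjJ : j ∉ JX hF.xadd X) :
    ¬ X ≤ posExcept D F (D.simple j) := by
  intro hle
  apply hjJ
  refine ⟨hj, hwc _ (nGL_mem_group D hF.xadd _) ?_⟩
  have hn := wc_nexc_nGL_mem_normalizer hF j hj
  rw [Subgroup.mem_normalizer_iff] at hn
  have hUp : posExcept D F (D.simple j) ≤ D.posUnipotent F := by
    unfold posExcept ChevalleyDatum.posUnipotent
    apply Subgroup.closure_mono
    rintro g ⟨s, t, hs, -, hg⟩
    exact ⟨s, t, hs, hg⟩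
  rintro g ⟨x, hx, rfl⟩
  apply hUp
  have := (hn x).1 (hle hx)
  simpa using this

end Chev

end Cfsg.Agent.Helper18.WC
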