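import Mathlib
import Cfsg.Agent.Lib.Helper18.WCDefs
import Cfsg.Agent.S1027

/-!
# S2244, piece WC-NILU: `U` is nilpotent
-/

set_option autoImplicit false
set_option linter.unusedSectionVars false
set_option linter.unusedVariables false

namespace Cfsg.Agent.Helper18.WC

open Cfsg Cfsg.Lie Cfsg.Agent.Lead.Chev Cfsg.Agent.Helper6.ChevL Cfsg.Agent.Helper6.Uni
open scoped commutatorElement

section Chev

variable {F : Type*} [Field F] {D : ChevalleyDatum}

/-- WC-NILU: `U` is nilpotent -/
theorem posUnipotent_nilpotent [Finite F] (hD : D ∈ [chevG2, chevB2, chevD4, chevF4, chevE6, chevE7, chevE8]) :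
    Group.IsNilpotent ↥(D.posUnipotent F) := by
  classical
  have : Fintype F := Fintype.ofFinite F
  obtain ⟨p, hp⟩ := CharP.exists F
  have := hp
  have hpp : Fact p.Prime := ⟨CharP.char_is_prime F p⟩
  obtain ⟨n, hn⟩ := FiniteField.card F p
  have hcard : Nat.card ↥(D.posUnipotent F) = p ^ ((n : ℕ) * (D.nroots / 2)) := by
    rw [Cfsg.Agent.S1027.result D hD, hn.2, pow_mul]
  have hP : IsPGroup p ↥(D.posUnipotent F) := IsPGroup.of_card hcard
  have : Finite ↥(D.posUnipotent F) := Nat.finite_of_card_ne_zero (by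
    rw [hcard]
    exact (pow_pos hpp.out.pos _).ne')
  exact hP.isNilpotent

end Chev

end Cfsg.Agent.Helper18.WC
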