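import Mathlib
import Cfsg.Agent.Lib.Helper18.WCDefs

/-!
# S2244, piece WC-PATCH21: the `(2,1)`-patch of Claim C
-/

set_option autoImplicit false
set_option linter.unusedSectionVars false
set_option linter.unusedVariables false

namespace Cfsg.Agent.Helper18.WC

open Cfsg Cfsg.Lie Cfsg.Agent.Lead.Chev Cfsg.Agent.Helper6.ChevL Cfsg.Agent.Helper6.Uni
open scoped commutatorElement

section Chev

variable {F : Type*} [Field F] {D : ChevalleyDatum} (hF : ChevFacts D F)

include hF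

/-- a word all of whose letters lie in a subgroup lies in the subgroup -/
theorem wc_patch21_wordGL_mem (C : Subgroup (GL D.Idx F)) (w : List (ℕ × F))
    (hw : ∀ q ∈ w, xGL D hF.xadd q.1 q.2 ∈ C) : wordGL D hF.xadd w ∈ C := by
  induction w with
  | nil => rw [wordGL_nil]; exact one_mem _
  | cons q w ih =>
    rw [wordGL_cons]
    exact mul_mem (hw q List.mem_cons_self) (ih fun q' hq' => hw q' (List.mem_cons_of_mem _ hq'))

/-- the commutator word of two positive roots, one of them outside `Φ_J`, lies in `[U_J, U]` -/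
theorem wc_patch21_word_mem (J : Set ℕ) (a b : ℕ) (ha : D.IsPosRoot a) (hb : D.IsPosRoot b) (hab : a ≠ b)
    (hJ : ¬ D.InRootSub J a ∨ ¬ D.InRootSub J b) (t u : F) :
    wordGL D hF.xadd (D.commWord F a b t u) ∈ ⁅D.unipotentRadical F J, D.posUnipotent F⁆ := by
  have hbna : b ≠ D.neg a := by
    intro h
    rw [h] at hb
    exact hF.sign.not_both _ hb (hF.sign.neg_of_pos a ha)
  have hc : CommOK D F a b := hF.comm a ha.1 b hb.1 (Ne.symm hab) hbna
  rw [← comm_GL D hF.xadd a b hc t u]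
  have haU : (xGL D hF.xadd a t)⁻¹ ∈ D.posUnipotent F :=
    inv_mem (Subgroup.subset_closure ⟨a, t, ha, rfl⟩)
  have hbU : (xGL D hF.xadd b u)⁻¹ ∈ D.posUnipotent F :=
    inv_mem (Subgroup.subset_closure ⟨b, u, hb, rfl⟩)
  rcases hJ with hJa | hJb
  · have haM : (xGL D hF.xadd a t)⁻¹ ∈ D.unipotentRadical F J :=
      inv_mem (Subgroup.subset_closure ⟨a, t, ha, hJa, rfl⟩)
    rw [Subgroup.commutator_comm]
    exact Subgroup.commutator_mem_commutator hbU haM
  · have hbM : (xGL D hF.xadd b u)⁻¹ ∈ D.unipotentRadical F J :=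
      inv_mem (Subgroup.subset_closure ⟨b, u, hb, hJb, rfl⟩)
    exact Subgroup.commutator_mem_commutator hbM haU

/-- WC-PATCH21: the `(2,1)`-patch (characteristic 2 in types `B₂`, `F₄`, `G₂`) -/
theorem cc_patch21 (hC : CommJ D) (J : Set ℕ) (r a b m : ℕ) (e1 e2 : ℤ)
    (hp : Patch21OK D r a b m e1 e2) (he2 : (e2 : F) ≠ 0) (hc : ∃ c : F, c ≠ 0 ∧ c ≠ 1)
    (hr : QJns D J r)
    (ih : ∀ r', r < r' → QJns D J r' → ∀ t : F,
      xGL D hF.xadd r' t ∈ ⁅D.unipotentRadical F J, D.posUnipotent F⁆) :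
    ∀ t : F, xGL D hF.xadd r t ∈ ⁅D.unipotentRadical F J, D.posUnipotent F⁆ := by
  obtain ⟨ha, hb, hab, hh1, hh2, hrest, hsupp⟩ := hp
  set C := ⁅D.unipotentRadical F J, D.posUnipotent F⁆ with hCdef
  -- the shape of the terms
  obtain ⟨rest, hT⟩ : ∃ rest, D.commTerms a b = (m, e1, 1, 1) :: (r, e2, 2, 1) :: rest := by
    cases hT : D.commTerms a b with
    | nil => rw [hT] at hh1; simp at hh1
    | cons x xs =>
      rw [hT] at hh1 hh2
      simp only [List.head?_cons, Option.some.injEq] at hh1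
      simp only [List.tail_cons] at hh2
      cases hxs : xs with
      | nil => rw [hxs] at hh2; simp at hh2
      | cons y ys =>
        rw [hxs] at hh2
        simp only [List.head?_cons, Option.some.injEq] at hh2
        exact ⟨ys, by rw [hh1, hh2]⟩
  have hrest' : ∀ c ∈ rest, r < c.1 ∧ D.IsPosRoot c.1 ∧ NonSimple D c.1 ∧
      ∀ k < D.rank, cc D r k ≠ 0 → cc D c.1 k ≠ 0 := by
    intro c hc'
    apply hrest c
    rw [hT]
    simpa using hc'
  -- one of `a`, `b` is outside `Φ_J`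
  obtain ⟨i, hi, hiJ, hne⟩ := (not_inRootSub_iff J r hr.1.1).1 hr.2.1
  have hJ : ¬ D.InRootSub J a ∨ ¬ D.InRootSub J b := by
    rcases hsupp i hi hne with h | h
    · left
      rw [not_inRootSub_iff J a ha.1]
      exact ⟨i, hi, hiJ, h⟩
    · right
      rw [not_inRootSub_iff J b hb.1]
      exact ⟨i, hi, hiJ, h⟩
  -- the words
  have hword : ∀ t u : F, wordGL D hF.xadd (D.commWord F a b t u) ∈ C :=
    fun t u => wc_patch21_word_mem hF J a b ha hb hab hJ t u
  -- the tail of the word lies in `C`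
  have htail : ∀ t u : F, wordGL D hF.xadd
      (rest.map fun c => (c.1, (c.2.1 : F) * (-t) ^ c.2.2.1 * u ^ c.2.2.2)) ∈ C := by
    intro t u
    apply wc_patch21_wordGL_mem hF C
    intro q hq
    obtain ⟨c, hc', rfl⟩ := List.mem_map.1 hq
    obtain ⟨h1, h2, h3, h4⟩ := hrest' c hc'
    refine ih c.1 h1 ⟨h2, ?_, h3⟩ _
    rw [not_inRootSub_iff J c.1 h2.1]
    exact ⟨i, hi, hiJ, h4 i hi hne⟩
  -- `g(t,u) = x_m(-e1 t u) x_r(e2 t² u) ∈ C`
  have hg : ∀ t u : F, xGL D hF.xadd m ((e1 : F) * (-t) * u) * xGL D hF.xadd r ((e2 : F) * t ^ 2 * u) ∈ C := by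
    intro t u
    have h1 := hword t u
    unfold ChevalleyDatum.commWord at h1
    rw [hT, List.map_cons, List.map_cons, wordGL_cons, wordGL_cons] at h1
    have h2 := mul_mem h1 (inv_mem (htail t u))
    have e : xGL D hF.xadd m ((e1 : F) * (-t) ^ 1 * u ^ 1) *
        (xGL D hF.xadd r ((e2 : F) * (-t) ^ 2 * u ^ 1) *
          wordGL D hF.xadd (rest.map fun c => (c.1, (c.2.1 : F) * (-t) ^ c.2.2.1 * u ^ c.2.2.2))) *
        (wordGL D hF.xadd (rest.map fun c => (c.1, (c.2.1 : F) * (-t) ^ c.2.2.1 * u ^ c.2.2.2)))⁻¹ =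
        xGL D hF.xadd m ((e1 : F) * (-t) * u) * xGL D hF.xadd r ((e2 : F) * t ^ 2 * u) := by
      rw [pow_one, pow_one, neg_sq]
      group
    rw [← e]
    exact h2
  -- conclusion
  obtain ⟨c, hc0, hc1⟩ := hc
  intro z
  have hc1' : c - 1 ≠ 0 := sub_ne_zero.2 hc1
  set u : F := z / ((e2 : F) * (c - 1)) with hu
  have h1 := hg 1 u
  have h2 := hg c (u / c)
  have h3 := mul_mem (inv_mem h1) h2
  have e : (xGL D hF.xadd m ((e1 : F) * (-1) * u) * xGL D hF.xadd r ((e2 : F) * 1 ^ 2 * u))⁻¹ *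
      (xGL D hF.xadd m ((e1 : F) * (-c) * (u / c)) * xGL D hF.xadd r ((e2 : F) * c ^ 2 * (u / c))) =
      xGL D hF.xadd r z := by
    rw [mul_inv_rev, xGL_inv, xGL_inv, mul_assoc, ← mul_assoc (xGL D hF.xadd m _), xGL_mul]
    have e1' : -((e1 : F) * (-1) * u) + (e1 : F) * (-c) * (u / c) = 0 := by
      field_simp
      ring
    rw [e1', xGL_zero, one_mul, xGL_mul]
    congr 1
    rw [hu]
    field_simp
    ring
  rw [← e]
  exact h3

end Chev

end Cfsg.Agent.Helper18.WC
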