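import Mathlib
import Cfsg.Agent.Lib.Helper18.WCPATCH21

/-!
# S2244, piece WC-PATCHG23: the patch of Claim C for the root `3a+b` (index 10) of `G₂` in characteristic 3
-/

set_option autoImplicit false
set_option linter.unusedSectionVars false
set_option linter.unusedVariables false

namespace Cfsg.Agent.Helper18.WC

open Cfsg Cfsg.Lie Cfsg.Agent.Lead.Chev Cfsg.Agent.Helper6.ChevL Cfsg.Agent.Helper6.Uni
open scoped commutatorElement

section G23

variable {F : Type*} [Field F]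

/-- product of two elements `A a B b E e` for pairwise commuting additive families -/
theorem wc_patchg23_mul3 {G : Type*} [Group G] (A B E : F → G)
    (hA : ∀ s t, A s * A t = A (s + t)) (hB : ∀ s t, B s * B t = B (s + t))
    (hE : ∀ s t, E s * E t = E (s + t))
    (hAB : ∀ s t, B t * A s = A s * B t) (hAE : ∀ s t, E t * A s = A s * E t)
    (hBE : ∀ s t, E t * B s = B s * E t) (a1 b1 e1 a2 b2 e2 : F) :
    (A a1 * B b1 * E e1) * (A a2 * B b2 * E e2) = A (a1 + a2) * B (b1 + b2) * E (e1 + e2) := by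
  calc (A a1 * B b1 * E e1) * (A a2 * B b2 * E e2)
      = A a1 * B b1 * (E e1 * A a2) * B b2 * E e2 := by group
    _ = A a1 * B b1 * (A a2 * E e1) * B b2 * E e2 := by rw [hAE]
    _ = A a1 * (B b1 * A a2) * (E e1 * B b2) * E e2 := by group
    _ = A a1 * (A a2 * B b1) * (B b2 * E e1) * E e2 := by rw [hAB, hBE]
    _ = (A a1 * A a2) * (B b1 * B b2) * (E e1 * E e2) := by group
    _ = A (a1 + a2) * B (b1 + b2) * E (e1 + e2) := by rw [hA, hB, hE]

theorem wc_patchg23_terms76 :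
    chevG2.commTerms 7 6 = [(8, -1, 1, 1), (9, 1, 2, 1), (10, 1, 3, 1), (11, 1, 3, 2)] := by decide +kernel

theorem wc_patchg23_terms89 : chevG2.commTerms 8 9 = [(11, 3, 1, 1)] := by decide +kernel

theorem wc_patchg23_terms810 : chevG2.commTerms 8 10 = [] := by decide +kernel

theorem wc_patchg23_terms910 : chevG2.commTerms 9 10 = [] := by decide +kernel

theorem wc_patchg23_pos : ∀ r, 6 ≤ r → r < 12 → chevG2.IsPosRoot r := by decide +kernel

theorem wc_patchg23_ns11 : NonSimple chevG2 11 := by decide +kernel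

theorem wc_patchg23_supp : ∀ k < chevG2.rank, cc chevG2 10 k ≠ 0 →
    (cc chevG2 7 k ≠ 0 ∨ cc chevG2 6 k ≠ 0) ∧ cc chevG2 11 k ≠ 0 := by decide +kernel

/-- two root groups commute when the commutator word is trivial -/
theorem wc_patchg23_commute (hF : ChevFacts chevG2 F) (a b : ℕ) (ha : chevG2.IsPosRoot a)
    (hb : chevG2.IsPosRoot b) (hab : a ≠ b)
    (hw : ∀ t u : F, wordGL chevG2 hF.xadd (chevG2.commWord F a b t u) = 1) (t u : F) :
    xGL chevG2 hF.xadd b u * xGL chevG2 hF.xadd a t = xGL chevG2 hF.xadd a t * xGL chevG2 hF.xadd b u := by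
  have hbna : b ≠ chevG2.neg a := by
    intro h
    rw [h] at hb
    exact hF.sign.not_both _ hb (hF.sign.neg_of_pos a ha)
  have hc : CommOK chevG2 F a b := hF.comm a ha.1 b hb.1 (Ne.symm hab) hbna
  have e : xGL chevG2 hF.xadd b u * xGL chevG2 hF.xadd a t =
      xGL chevG2 hF.xadd a t * xGL chevG2 hF.xadd b u * wordGL chevG2 hF.xadd (chevG2.commWord F a b t u) := by
    apply Units.ext
    rw [Units.val_mul, Units.val_mul, Units.val_mul, wordGL_val, xGL_val, xGL_val]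
    exact hc t u
  rw [e, hw, mul_one]

/-- WC-PATCHG23: the patch for the root `3a+b` (index 10) of `G₂` in characteristic 3 -/
theorem cc_patch_G2_3 (hF : ChevFacts chevG2 F) [CharP F 3] (hc : ∃ c : F, c ≠ 0 ∧ c ≠ 1 ∧ c ≠ -1)
    (J : Set ℕ) (hr : QJns chevG2 J 10)
    (ih : ∀ r', 10 < r' → QJns chevG2 J r' → ∀ t : F,
      xGL chevG2 hF.xadd r' t ∈ ⁅chevG2.unipotentRadical F J, chevG2.posUnipotent F⁆) :
    ∀ t : F, xGL chevG2 hF.xadd 10 t ∈ ⁅chevG2.unipotentRadical F J, chevG2.posUnipotent F⁆ := by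
  set C := ⁅chevG2.unipotentRadical F J, chevG2.posUnipotent F⁆ with hCdef
  have h3 : ((3 : ℤ) : F) = 0 := by
    have := CharP.cast_eq_zero F 3
    exact_mod_cast this
  have p6 := wc_patchg23_pos 6 (by norm_num) (by norm_num)
  have p7 := wc_patchg23_pos 7 (by norm_num) (by norm_num)
  have p8 := wc_patchg23_pos 8 (by norm_num) (by norm_num)
  have p9 := wc_patchg23_pos 9 (by norm_num) (by norm_num)
  have p10 := wc_patchg23_pos 10 (by norm_num) (by norm_num)
  have p11 := wc_patchg23_pos 11 (by norm_num) (by norm_num)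
  obtain ⟨i, hi, hiJ, hne⟩ := (not_inRootSub_iff J 10 p10.1).1 hr.2.1
  obtain ⟨hs76, hs11⟩ := wc_patchg23_supp i hi hne
  -- `X_11 ≤ C`
  have h11 : ∀ z : F, xGL chevG2 hF.xadd 11 z ∈ C := by
    intro z
    refine ih 11 (by norm_num) ⟨p11, ?_, wc_patchg23_ns11⟩ z
    rw [not_inRootSub_iff J 11 p11.1]
    exact ⟨i, hi, hiJ, hs11⟩
  -- the words of `(7,6)`
  have hJ : ¬ chevG2.InRootSub J 7 ∨ ¬ chevG2.InRootSub J 6 := by
    rcases hs76 with h | h
    · left
      rw [not_inRootSub_iff J 7 p7.1]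
      exact ⟨i, hi, hiJ, h⟩
    · right
      rw [not_inRootSub_iff J 6 p6.1]
      exact ⟨i, hi, hiJ, h⟩
  have hword : ∀ t u : F, wordGL chevG2 hF.xadd (chevG2.commWord F 7 6 t u) ∈ C :=
    fun t u => wc_patch21_word_mem hF J 7 6 p7 p6 (by norm_num) hJ t u
  -- `w'(t,u) = x_8(t u) x_9(t² u) x_10(-t³ u) ∈ C`
  have hw' : ∀ t u : F, xGL chevG2 hF.xadd 8 (t * u) * xGL chevG2 hF.xadd 9 (t ^ 2 * u) *
      xGL chevG2 hF.xadd 10 (-(t ^ 3 * u)) ∈ C := by
    intro t u
    have h1 := hword t u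
    unfold ChevalleyDatum.commWord at h1
    rw [wc_patchg23_terms76] at h1
    simp only [List.map_cons, List.map_nil] at h1
    rw [wordGL_cons, wordGL_cons, wordGL_cons, wordGL_singleton] at h1
    have h2 := mul_mem h1 (inv_mem (h11 (((1 : ℤ) : F) * (-t) ^ 3 * u ^ 2)))
    have e : xGL chevG2 hF.xadd 8 (((-1 : ℤ) : F) * (-t) ^ 1 * u ^ 1) *
        (xGL chevG2 hF.xadd 9 (((1 : ℤ) : F) * (-t) ^ 2 * u ^ 1) *
          (xGL chevG2 hF.xadd 10 (((1 : ℤ) : F) * (-t) ^ 3 * u ^ 1) *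
            xGL chevG2 hF.xadd 11 (((1 : ℤ) : F) * (-t) ^ 3 * u ^ 2))) *
        (xGL chevG2 hF.xadd 11 (((1 : ℤ) : F) * (-t) ^ 3 * u ^ 2))⁻¹ =
        xGL chevG2 hF.xadd 8 (t * u) * xGL chevG2 hF.xadd 9 (t ^ 2 * u) *
          xGL chevG2 hF.xadd 10 (-(t ^ 3 * u)) := by
      have e8 : ((-1 : ℤ) : F) * (-t) ^ 1 * u ^ 1 = t * u := by push_cast; ring
      have e9 : ((1 : ℤ) : F) * (-t) ^ 2 * u ^ 1 = t ^ 2 * u := by push_cast; ring
      have e10 : ((1 : ℤ) : F) * (-t) ^ 3 * u ^ 1 = -(t ^ 3 * u) := by push_cast; ring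
      rw [e8, e9, e10]
      group
    rw [← e]
    exact h2
  -- commutation in characteristic 3
  have c89 : ∀ s t : F, xGL chevG2 hF.xadd 9 t * xGL chevG2 hF.xadd 8 s =
      xGL chevG2 hF.xadd 8 s * xGL chevG2 hF.xadd 9 t := by
    intro s t
    apply wc_patchg23_commute hF 8 9 p8 p9 (by norm_num)
    intro t u
    unfold ChevalleyDatum.commWord
    rw [wc_patchg23_terms89]
    simp only [List.map_cons, List.map_nil]
    rw [wordGL_singleton]
    show xGL chevG2 hF.xadd 11 (((3 : ℤ) : F) * (-t) ^ 1 * u ^ 1) = 1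
    rw [h3, zero_mul, zero_mul, xGL_zero]
  have c810 : ∀ s t : F, xGL chevG2 hF.xadd 10 t * xGL chevG2 hF.xadd 8 s =
      xGL chevG2 hF.xadd 8 s * xGL chevG2 hF.xadd 10 t := by
    intro s t
    apply wc_patchg23_commute hF 8 10 p8 p10 (by norm_num)
    intro t u
    unfold ChevalleyDatum.commWord
    rw [wc_patchg23_terms810]
    rfl
  have c910 : ∀ s t : F, xGL chevG2 hF.xadd 10 t * xGL chevG2 hF.xadd 9 s =
      xGL chevG2 hF.xadd 9 s * xGL chevG2 hF.xadd 10 t := by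
    intro s t
    apply wc_patchg23_commute hF 9 10 p9 p10 (by norm_num)
    intro t u
    unfold ChevalleyDatum.commWord
    rw [wc_patchg23_terms910]
    rfl
  -- `v(c,u) = x_8(u) x_9(c u) x_10(-c² u) ∈ C` for `c ≠ 0`
  have hv : ∀ c u : F, c ≠ 0 → xGL chevG2 hF.xadd 8 u * xGL chevG2 hF.xadd 9 (c * u) *
      xGL chevG2 hF.xadd 10 (-(c ^ 2 * u)) ∈ C := by
    intro c u hc0
    have h1 := hw' c (u / c)
    have e1 : c * (u / c) = u := by field_simp
    have e2 : c ^ 2 * (u / c) = c * u := by field_simp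
    have e3 : c ^ 3 * (u / c) = c ^ 2 * u := by field_simp
    rw [e1, e2, e3] at h1
    exact h1
  obtain ⟨c, hc0, hc1, hcm1⟩ := hc
  have h2F : (2 : F) ≠ 0 := by
    intro h
    have h3' : (3 : F) = 0 := by exact_mod_cast h3
    have : (1 : F) = 0 := by linear_combination h3' - h
    exact one_ne_zero this
  have hm1 : (-1 : F) ≠ 0 := neg_ne_zero.2 one_ne_zero
  have h1c : (1 : F) - c ≠ 0 := sub_ne_zero.2 (Ne.symm hc1)
  have h1c' : (1 : F) + c ≠ 0 := by
    intro h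
    exact hcm1 (eq_neg_of_add_eq_zero_right h)
  intro z
  -- the three points `1, -1, c`
  set u1 : F := -z / (2 * (1 - c)) with hu1
  set u2 : F := -z / (2 * (1 + c)) with hu2
  set u3 : F := z / ((1 - c) * (1 + c)) with hu3
  have g1 := hv 1 u1 one_ne_zero
  have g2 := hv (-1) u2 hm1
  have g3 := hv c u3 hc0
  have hprod := mul_mem (mul_mem g1 g2) g3
  have hxA : ∀ s t : F, xGL chevG2 hF.xadd 8 s * xGL chevG2 hF.xadd 8 t = xGL chevG2 hF.xadd 8 (s + t) :=
    fun s t => xGL_mul _ _ _ s t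
  have hxB : ∀ s t : F, xGL chevG2 hF.xadd 9 s * xGL chevG2 hF.xadd 9 t = xGL chevG2 hF.xadd 9 (s + t) :=
    fun s t => xGL_mul _ _ _ s t
  have hxE : ∀ s t : F, xGL chevG2 hF.xadd 10 s * xGL chevG2 hF.xadd 10 t = xGL chevG2 hF.xadd 10 (s + t) :=
    fun s t => xGL_mul _ _ _ s t
  rw [wc_patchg23_mul3 _ _ _ hxA hxB hxE c89 c810 c910, wc_patchg23_mul3 _ _ _ hxA hxB hxE c89 c810 c910] at hprod
  have s1 : u1 + u2 + u3 = 0 := by
    rw [hu1, hu2, hu3]
    field_simp
    ring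
  have s2 : 1 * u1 + (-1) * u2 + c * u3 = 0 := by
    rw [hu1, hu2, hu3]
    field_simp
    ring
  have s3 : -(1 ^ 2 * u1) + -((-1) ^ 2 * u2) + -(c ^ 2 * u3) = z := by
    rw [hu1, hu2, hu3]
    field_simp
    ring
  rw [s1, s2, s3, xGL_zero, xGL_zero, one_mul, one_mul] at hprod
  exact hprod

end G23

end Cfsg.Agent.Helper18.WC
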