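import Mathlib
import Cfsg.Agent.Lib.Helper18.WCDefs
import Cfsg.Agent.Lib.Helper18.WCAbs
import Cfsg.Agent.Lib.Helper18.WCPATCH21
import Cfsg.Agent.Lib.Helper18.WCPATCHG23
import Cfsg.Agent.Lib.Helper18.WCNILU
import Cfsg.Agent.Lib.Helper18.WCNEXC
import Cfsg.Agent.Lib.Helper1.WCBNORM
import Cfsg.Agent.Lib.Helper1.WCCCSTEP
import Cfsg.Agent.Lib.Helper1.WCSEPT
import Cfsg.Agent.Lib.Helper6.WCLEJ
import Cfsg.Agent.Lib.Helper6.WCNSCOMM
import Cfsg.Agent.Lib.Helper9.WCTOR
import Cfsg.Agent.Lib.Helper9.WCDECD4E6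
import Cfsg.Agent.Lib.Helper9.WCDECE8
import Cfsg.Agent.Lib.Helper19.WCDECE7
import Cfsg.Agent.Lib.Helper23.WCDECBFG
import Cfsg.Agent.Lib.Helper27.WCGEN
import Cfsg.Agent.Lib.Helper28.WCCOMMNS

/-!
# S2244: weakly closed subgroups of `U` in Chevalley groups are unipotent radicals (assembly)
-/

set_option autoImplicit false
set_option linter.unusedSectionVars false
set_option linter.unusedVariables false

namespace Cfsg.Agent.Helper18.WC

open Cfsg Cfsg.Lie Cfsg.Agent.Lead.Chev Cfsg.Agent.Helper6.ChevL Cfsg.Agent.Helper6.Uni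
open scoped commutatorElement

section ClaimC

variable {F : Type*} [Field F] {D : ChevalleyDatum} (hF : ChevFacts D F)

include hF

/-- Claim C from the steps (helper18) -/
theorem claimC_of_step (hstep : StepOK hF) (J : Set ℕ) :
    rootGen D F (QJns D J) ≤ ⁅D.unipotentRadical F J, D.posUnipotent F⁆ := by
  have key : ∀ n : ℕ, ∀ r, D.nroots - r = n → QJns D J r → ∀ t : F,
      xGL D hF.xadd r t ∈ ⁅D.unipotentRadical F J, D.posUnipotent F⁆ := by
    intro n
    induction n using Nat.strong_induction_on with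
    | _ n ih =>
      intro r hn hr
      apply hstep J r hr
      intro r' hrr' hr'
      have hlt : r' < D.nroots := hr'.1.1
      exact ih (D.nroots - r') (by omega) r' rfl hr'
  unfold rootGen
  rw [Subgroup.closure_le]
  rintro g ⟨r, t, hr, hg⟩
  have : g = xGL D hF.xadd r t := Units.ext (by rw [hg, xGL_val])
  rw [this]
  exact key _ r rfl hr t

end ClaimC

section Main

variable {F : Type*} [Field F] [Fintype F] {D : ChevalleyDatum}

/-- existence of field elements -/
theorem exists_ne_zero_one (h2 : Fintype.card F ≠ 2) : ∃ c : F, c ≠ 0 ∧ c ≠ 1 := by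
  classical
  by_contra hcon
  push Not at hcon
  have : Fintype.card F ≤ 2 := by
    have hsub : (Finset.univ : Finset F) ⊆ {0, 1} := by
      intro c _
      by_cases hc : c = 0
      · simp [hc]
      · simp [hcon c hc]
    calc Fintype.card F = (Finset.univ : Finset F).card := rfl
      _ ≤ ({0, 1} : Finset F).card := Finset.card_le_card hsub
      _ ≤ 2 := Finset.card_le_two
  have h1 : 1 < Fintype.card F := Fintype.one_lt_card
  omega

theorem exists_ne_three (h2 : Fintype.card F ≠ 2) (h3 : Fintype.card F ≠ 3) :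
    ∃ c : F, c ≠ 0 ∧ c ≠ 1 ∧ c ≠ -1 := by
  classical
  by_contra hcon
  push Not at hcon
  have : Fintype.card F ≤ 3 := by
    have hsub : (Finset.univ : Finset F) ⊆ {0, 1, -1} := by
      intro c _
      by_cases hc : c = 0
      · simp [hc]
      · by_cases hc1 : c = 1
        · simp [hc1]
        · simp [hcon c hc hc1]
    calc Fintype.card F = (Finset.univ : Finset F).card := rfl
      _ ≤ ({0, 1, -1} : Finset F).card := Finset.card_le_card hsub
      _ ≤ 3 := Finset.card_le_three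
  have h1 : 1 < Fintype.card F := Fintype.one_lt_card
  -- a field has prime power order, so card ≥ 2, and card ∉ {2, 3} gives card ≥ 4
  omega



theorem cast_pm_one_ne_zero {N : ℤ} (h : N = 1 ∨ N = -1) : ((N : ℤ) : F) ≠ 0 := by
  rcases h with rfl | rfl <;> simp

theorem cast_pm_two_ne_zero {N : ℤ} (h : N = 2 ∨ N = -2) (h2 : (2 : F) ≠ 0) : ((N : ℤ) : F) ≠ 0 := by
  rcases h with rfl | rfl
  · simpa using h2
  · simpa using h2

theorem cast_pm_three_ne_zero {N : ℤ} (h : N = 3 ∨ N = -3) (h3 : (3 : F) ≠ 0) : ((N : ℤ) : F) ≠ 0 := by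
  rcases h with rfl | rfl
  · simpa using h3
  · simpa using h3

theorem exists_dec_SL (hD : D ∈ [chevD4, chevE6, chevE7, chevE8]) (r : ℕ)
    (hr : D.IsPosRoot r) (hns : NonSimple D r) :
    ∃ a s N N', DecOK D r a s N N' ∧ (N = 1 ∨ N = -1) ∧ (N' = 1 ∨ N' = -1) := by
  simp only [List.mem_cons, List.not_mem_nil, or_false] at hD
  rcases hD with rfl | rfl | rfl | rfl
  · exact exists_dec_D4 r hr hns
  · exact exists_dec_E6 r hr hns
  · exact exists_dec_E7 r hr hns
  · exact exists_dec_E8 r hr hns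

theorem stepOK_SL (hD : D ∈ [chevD4, chevE6, chevE7, chevE8]) (hF : ChevFacts D F) : StepOK hF := by
  have hD' : D ∈ [chevG2, chevB2, chevD4, chevF4, chevE6, chevE7, chevE8] := by
    simp only [List.mem_cons, List.not_mem_nil, or_false] at hD ⊢
    tauto
  have hC := commJ_of_mem D hD'
  have hNS := commNS_of_mem D hD'
  intro J r hr ih
  obtain ⟨a, s, N, N', hdec, hN, hN'⟩ := exists_dec_SL hD r hr.1 hr.2.2
  exact cc_step hF hC hNS J r a s N N' hdec (cast_pm_one_ne_zero hN) (cast_pm_one_ne_zero hN') hr ih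

theorem stepOK_B2 (hF : ChevFacts chevB2 F) (h2 : Fintype.card F ≠ 2) : StepOK hF := by
  have hD' : chevB2 ∈ [chevG2, chevB2, chevD4, chevF4, chevE6, chevE7, chevE8] := by simp
  have hC := commJ_of_mem _ hD'
  have hNS := commNS_of_mem _ hD'
  intro J r hr ih
  rcases exists_dec_B2 r hr.1 hr.2.2 with ⟨a, s, N, N', hdec, hN, hN'⟩ |
    ⟨-, ⟨a, s, N, N', hdec, hN, hN'⟩, ⟨a', b', m, e1, e2, hp, he2⟩⟩
  · exact cc_step hF hC hNS J r a s N N' hdec (cast_pm_one_ne_zero hN) (cast_pm_one_ne_zero hN') hr ih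
  · by_cases h : (2 : F) = 0
    · exact cc_patch21 hF hC J r a' b' m e1 e2 hp (cast_pm_one_ne_zero he2) (exists_ne_zero_one h2) hr ih
    · exact cc_step hF hC hNS J r a s N N' hdec (cast_pm_two_ne_zero hN h) (cast_pm_two_ne_zero hN' h) hr ih

theorem stepOK_F4 (hF : ChevFacts chevF4 F) (h2 : Fintype.card F ≠ 2) : StepOK hF := by
  have hD' : chevF4 ∈ [chevG2, chevB2, chevD4, chevF4, chevE6, chevE7, chevE8] := by simp
  have hC := commJ_of_mem _ hD'
  have hNS := commNS_of_mem _ hD'
  intro J r hr ih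
  rcases exists_dec_F4 r hr.1 hr.2.2 with ⟨a, s, N, N', hdec, hN, hN'⟩ |
    ⟨-, ⟨a, s, N, N', hdec, hN, hN'⟩, ⟨a', b', m, e1, e2, hp, he2⟩⟩
  · exact cc_step hF hC hNS J r a s N N' hdec (cast_pm_one_ne_zero hN) (cast_pm_one_ne_zero hN') hr ih
  · by_cases h : (2 : F) = 0
    · exact cc_patch21 hF hC J r a' b' m e1 e2 hp (cast_pm_one_ne_zero he2) (exists_ne_zero_one h2) hr ih
    · exact cc_step hF hC hNS J r a s N N' hdec (cast_pm_two_ne_zero hN h) (cast_pm_two_ne_zero hN' h) hr ih

theorem stepOK_G2 (hF : ChevFacts chevG2 F) (h2 : Fintype.card F ≠ 2) (h3 : Fintype.card F ≠ 3) :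
    StepOK hF := by
  have hD' : chevG2 ∈ [chevG2, chevB2, chevD4, chevF4, chevE6, chevE7, chevE8] := by simp
  have hC := commJ_of_mem _ hD'
  have hNS := commNS_of_mem _ hD'
  intro J r hr ih
  rcases exists_dec_G2 r hr.1 hr.2.2 with ⟨a, s, N, N', hdec, hN, hN'⟩ |
    ⟨-, ⟨a, s, N, N', hdec, hN, hN'⟩, ⟨a', b', m, e1, e2, hp, he2⟩⟩ | ⟨rfl, a, s, N, N', hdec, hN, hN'⟩
  · exact cc_step hF hC hNS J r a s N N' hdec (cast_pm_one_ne_zero hN) (cast_pm_one_ne_zero hN') hr ih
  · by_cases h : (2 : F) = 0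
    · exact cc_patch21 hF hC J r a' b' m e1 e2 hp (cast_pm_one_ne_zero he2) (exists_ne_zero_one h2) hr ih
    · exact cc_step hF hC hNS J r a s N N' hdec (cast_pm_two_ne_zero hN h) (cast_pm_two_ne_zero hN' h) hr ih
  · by_cases h : (3 : F) = 0
    · have : CharP F 3 := (CharP.charP_iff_prime_eq_zero Nat.prime_three).2 (by exact_mod_cast h)
      exact cc_patch_G2_3 hF (exists_ne_three h2 h3) J hr ih
    · exact cc_step hF hC hNS J 10 a s N N' hdec (cast_pm_three_ne_zero hN h) (cast_pm_three_ne_zero hN' h) hr ih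

/-- the main theorem, given Claim C and the separation tables -/
theorem main_of (hD : D ∈ [chevG2, chevB2, chevD4, chevF4, chevE6, chevE7, chevE8])
    (hF : ChevFacts D F) (hstep : StepOK hF) (two : Bool) (hsep : SepOK D two)
    (h2 : Fintype.card F ≠ 2) (h3 : two = true → Fintype.card F ≠ 3)
    (X : Subgroup (GL D.Idx F)) (hXU : X ≤ D.posUnipotent F)
    (hwc : ∀ g ∈ D.group F, X.map (MulAut.conj g).toMonoidHom ≤ D.posUnipotent F →
      X.map (MulAut.conj g).toMonoidHom = X) :
    X = D.unipotentRadical F (JX hF.xadd X) := by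
  have hP := parFacts_of_mem D hD
  have hC := commJ_of_mem D hD
  have hS := corSize_of_mem D hD
  have hNS := commNS_of_mem D hD
  have hSq := sqOK_of_mem D hD
  set J := JX hF.xadd X with hJ
  have hXM : X ≤ D.unipotentRadical F J := le_radical_JX hF hP hC hS X hXU
  apply le_antisymm hXM
  have hMU : D.unipotentRadical F J ≤ D.posUnipotent F := radical_le_posUnipotent hF J
  have hQ : ∀ r, QJns D J r → r < D.nroots := fun r hr => hr.1.1
  have hM'M : rootGen D F (QJns D J) ≤ D.unipotentRadical F J := by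
    rw [unipotentRadical_eq]
    unfold rootGen
    apply Subgroup.closure_mono
    rintro g ⟨r, t, hr, hg⟩
    exact ⟨r, t, ⟨hr.1, hr.2.1⟩, hg⟩
  refine core (D.posUnipotent F) X (D.unipotentRadical F J) (rootGen D F (QJns D J)) (KJ D J)
    (fun j t => xGL D hF.xadd (D.simple j) t)
    (fun p : TorIdx D F => hGLt D hF.xadd p.1.1 p.1.2)
    (fun j (p : TorIdx D F) => p.1.2 ^ corSum D p.1.1 (D.simple j))
    (posUnipotent_nilpotent (F := F) hD) hXM hMU hM'M ?_ ?_ ?_ ?_ ?_ ?_ ?_ ?_ ?_ ?_ ?_ ?_ ?_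
  · -- hXn
    intro u hu y hy
    exact conj_mem_of_borel hF X hXU hwc u (posUnipotent_le_borel D hu) y hy
  · -- hMn
    intro u hu y hy
    have h1 := posUnipotent_le_normalizer_radical hF hC J hu
    have h1' : u ∈ Subgroup.normalizer ((D.unipotentRadical F J : Subgroup (GL D.Idx F)) : Set (GL D.Idx F)) := by
      rw [unipotentRadical_eq]; exact h1
    rw [Subgroup.mem_normalizer_iff] at h1'
    exact (h1' y).1 hy
  · -- hcomm
    intro u hu y hy
    exact commutator_mem_ns hF hC hNS J u hu y hy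
  · -- hC
    exact claimC_of_step hF hstep J
  · -- hxadd
    intro a _ s t
    exact (xGL_mul D hF.xadd _ s t).symm
  · -- hxM
    intro a ha t
    rw [mem_KJ] at ha
    rw [unipotentRadical_eq]
    exact xGL_mem_rootGen hF.xadd _ _
      ⟨hF.simple_pos a ha.1, fun h => ha.2 (mem_of_inRootSub_simple hF J a ha.1 h)⟩ t
  · -- hgen
    exact radical_le_ES hF J
  · -- hTX
    intro p y hy
    exact conj_mem_of_borel hF X hXU hwc _
      (diagonal_le_borel D (hGLt_mem_diagonal D hF.xadd p.1.1 p.2.1 p.1.2 p.2.2)) y hy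
  · -- hTM'
    intro p y hy
    exact diag_conj_rootGen hF (QJns D J) hQ _ (hGLt_mem_diagonal D hF.xadd p.1.1 p.2.1 p.1.2 p.2.2) y hy
  · -- hTx
    intro p a ha t
    rw [mem_KJ] at ha
    exact hGLt_conj_xGL hF p.1.1 p.2.1 p.1.2 p.2.2 (D.simple a) (hF.simple_lt a ha.1) t
  · -- hsq
    intro a ha l hl
    rw [mem_KJ] at ha
    refine ⟨⟨(D.simple a, l), hF.simple_lt a ha.1, hl⟩, ?_⟩
    show l ^ corSum D (D.simple a) (D.simple a) = l ^ 2
    rw [hSq a ha.1]
    exact zpow_ofNat l 2
  · -- hsep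
    intro a ha b hb hab
    rw [mem_KJ] at ha hb
    obtain ⟨r, hr, h0, he⟩ := hsep a ha.1 b hb.1 hab
    obtain ⟨c, hc0, hc1⟩ := exists_ne_zero_one (F := F) h2
    rcases he with he | he | ⟨htwo, he⟩
    · refine ⟨⟨(r, c), hr, hc0⟩, ?_, ?_⟩
      · show c ^ corSum D r (D.simple b) = 1
        rw [h0, zpow_zero]
      · show c ^ corSum D r (D.simple a) ≠ 1
        rw [he, zpow_one]
        exact hc1
    · refine ⟨⟨(r, c), hr, hc0⟩, ?_, ?_⟩
      · show c ^ corSum D r (D.simple b) = 1
        rw [h0, zpow_zero]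
      · show c ^ corSum D r (D.simple a) ≠ 1
        rw [he, zpow_neg, zpow_one]
        intro h
        exact hc1 (inv_eq_one.1 h)
    · obtain ⟨d, hd0, hd1, hd2⟩ := exists_ne_three (F := F) h2 (h3 htwo)
      have hsq1 : d ^ 2 ≠ 1 := by
        intro h
        have : (d - 1) * (d + 1) = 0 := by ring_nf; rw [h]; ring
        rcases mul_eq_zero.1 this with h' | h'
        · exact hd1 (sub_eq_zero.1 h')
        · exact hd2 (eq_neg_of_add_eq_zero_left h')
      refine ⟨⟨(r, d), hr, hd0⟩, ?_, ?_⟩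
      · show d ^ corSum D r (D.simple b) = 1
        rw [h0, zpow_zero]
      · show d ^ corSum D r (D.simple a) ≠ 1
        rcases he with he | he
        · rw [he]
          exact_mod_cast hsq1
        · rw [he, zpow_neg]
          intro h
          apply hsq1
          have := inv_eq_one.1 h
          exact_mod_cast this
  · -- hnd
    intro a ha hle
    have ha' := (mem_KJ D J a).1 ha
    exact not_le_posExcept hF X hwc a ha'.1 ha'.2 (hle.trans (ES_le_posExcept hF J a ha'.1))


/-- S2244 -/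
theorem s2244 (D : ChevalleyDatum) (hD : D ∈ [chevG2, chevB2, chevD4, chevF4, chevE6, chevE7, chevE8])
    (h2 : Fintype.card F ≠ 2) (h3 : D ∈ [chevG2, chevB2, chevD4, chevF4] → Fintype.card F ≠ 3)
    (X : Subgroup (GL D.Idx F)) (hXU : X ≤ D.posUnipotent F)
    (hwc : ∀ g ∈ D.group F, X.map (MulAut.conj g).toMonoidHom ≤ D.posUnipotent F →
      X.map (MulAut.conj g).toMonoidHom = X) :
    ∃ J : Set ℕ, (∀ j ∈ J, j < D.rank) ∧ X = D.unipotentRadical F J := by
  have hF : ChevFacts D F := chevFacts_of_mem D hD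
  refine ⟨JX hF.xadd X, fun j hj => hj.1, ?_⟩
  have hD0 := hD
  simp only [List.mem_cons, List.not_mem_nil, or_false] at hD
  rcases hD with rfl | rfl | rfl | rfl | rfl | rfl | rfl
  · exact main_of hD0 hF (stepOK_G2 hF h2 (h3 (by simp))) false (sepOK_of_mem _ (by simp)) h2
      (fun h => absurd h (by simp)) X hXU hwc
  · exact main_of hD0 hF (stepOK_B2 hF h2) true (sepOK_two_of_mem _ (by simp)) h2
      (fun _ => h3 (by simp)) X hXU hwc
  · exact main_of hD0 hF (stepOK_SL (by simp) hF) true (sepOK_two_of_mem _ (by simp)) h2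
      (fun _ => h3 (by simp)) X hXU hwc
  · exact main_of hD0 hF (stepOK_F4 hF h2) false (sepOK_of_mem _ (by simp)) h2
      (fun h => absurd h (by simp)) X hXU hwc
  · exact main_of hD0 hF (stepOK_SL (by simp) hF) false (sepOK_of_mem _ (by simp)) h2
      (fun h => absurd h (by simp)) X hXU hwc
  · exact main_of hD0 hF (stepOK_SL (by simp) hF) false (sepOK_of_mem _ (by simp)) h2
      (fun h => absurd h (by simp)) X hXU hwc
  · exact main_of hD0 hF (stepOK_SL (by simp) hF) false (sepOK_of_mem _ (by simp)) h2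
      (fun h => absurd h (by simp)) X hXU hwc

end Main


end Cfsg.Agent.Helper18.WC
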