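import Mathlib
import Cfsg.Prelude.Def_Blocks
import Cfsg.Prelude.Def_BrauerPairs
import Cfsg.Agent.Lib.Helper18.BlockQuot3
import Cfsg.Agent.Lib.Helper18.BlockQuotP
import Cfsg.Agent.Lib.Helper23.BlockDefectZero
import Cfsg.Agent.Lib.Helper23.BlockRank
import Cfsg.Agent.Lib.Helper5.RelDegree

/-!
# Brauer pairs carrying a weight (helper18's shared library)
-/

set_option autoImplicit false
set_option linter.unusedSectionVars false
set_option linter.style.haveILetI false

namespace Cfsg.Agent.Helper18.WeightPair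

open Cfsg Cfsg.Agent.Helper24 Cfsg.Agent.Helper23.Blk Cfsg.Agent.Helper5 Cfsg.Agent.Helper18
open scoped ComplexConjugate

universe u

section Central

variable {G : Type u} [Group G] [Finite G] {p : ℕ} {M : Ideal AlgInt}

/-- A character that is of defect zero modulo a central `p`-subgroup `Z` lies in a block with
defect group `Z`. -/
theorem isDefectGroup_of_central_defectZero (hM : IsPModular p M) (Z : Subgroup G) [Z.Normal]
    (hZp : IsPGroup p Z) (hZc : Z ≤ Subgroup.center G) (ζ : IrrCharacter G)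
    (hker : ∀ z ∈ Z, (ζ : G → ℂ) z = (ζ : G → ℂ) 1)
    (hdeg : (charDegree (ζ : G → ℂ)).factorization p + (Nat.card Z).factorization p =
      (Nat.card G).factorization p) :
    IsDefectGroup p M (blockOf M (ζ : G → ℂ)) Z := by
  classical
  haveI : Fintype G := Fintype.ofFinite G
  haveI hMp : M.IsPrime := hM.2.1.isPrime
  have hp : p.Prime := hM.1
  haveI : Fact p.Prime := ⟨hp⟩
  set B := blockOf M (ζ : G → ℂ) with hBdef
  have hB : IsPBlock M B := ⟨ζ, rfl⟩
  obtain ⟨Bbar, hBbar, hsub, hdef⟩ := exists_block_quot_defectGroup_iff hM Z hZp hB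
  obtain ⟨ψ, hψ, hζψ⟩ := exists_deflate Z ζ.2 hker
  set ζbar : IrrCharacter (G ⧸ Z) := ⟨ψ, hψ⟩ with hζbar
  -- `ζbar` lies in `Bbar`
  obtain ⟨χ₁, hχ₁⟩ := block_nonempty hM hBbar
  have hχ₁B : (⟨(χ₁ : G ⧸ Z → ℂ) ∘ QuotientGroup.mk, isIrrCharacter_inflate Z χ₁.2⟩ :
      IrrCharacter G) ∈ B := hsub χ₁ hχ₁ _ rfl
  have hsame : SameBlock M (χ₁ : G ⧸ Z → ℂ) (ζbar : G ⧸ Z → ℂ) := by
    apply sameBlock_of_congr_on_pRegular hM
    intro y hy
    obtain ⟨g, hg, rfl⟩ := exists_pRegular_lift Z hp y hy
    have hgZ : g ∈ Subgroup.centralizer (Z : Set G) := by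
      rw [Subgroup.mem_centralizer_iff]
      intro z hz
      exact (Subgroup.mem_center_iff.mp (hZc hz) g).symm
    rw [← centralChar_comp_mk_eq Z hp hZp (χ₁ : G ⧸ Z → ℂ) hg hgZ,
      ← centralChar_comp_mk_eq Z hp hZp (ζbar : G ⧸ Z → ℂ) hg hgZ]
    have h1 : SameBlock M (ζ : G → ℂ) ((χ₁ : G ⧸ Z → ℂ) ∘ QuotientGroup.mk) := hχ₁B
    have h2 := sameBlock_symm h1 g
    have e : (ζbar : G ⧸ Z → ℂ) ∘ (QuotientGroup.mk : G → G ⧸ Z) = (ζ : G → ℂ) := hζψ.symm
    rw [e]
    exact h2
  have hζbarB : ζbar ∈ Bbar := by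
    obtain ⟨χ₀, rfl⟩ := hBbar
    exact sameBlock_trans hχ₁ hsame
  -- `ζbar` has defect zero
  have hcardq : Nat.card G = Nat.card (G ⧸ Z) * Nat.card Z :=
    Subgroup.card_eq_card_quotient_mul_card_subgroup Z
  have hdegbar : charDegree (ζbar : G ⧸ Z → ℂ) = charDegree (ζ : G → ℂ) := by
    unfold charDegree
    rw [hζψ]
    rfl
  have hq0 : Nat.card (G ⧸ Z) ≠ 0 := Nat.card_pos.ne'
  have hZ0 : Nat.card Z ≠ 0 := Nat.card_pos.ne'
  have hfac : (Nat.card G).factorization p =
      (Nat.card (G ⧸ Z)).factorization p + (Nat.card Z).factorization p := by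
    rw [hcardq, Nat.factorization_mul hq0 hZ0]
    rfl
  have hnd : ¬ p ∣ Nat.card (G ⧸ Z) / charDegree (ζbar : G ⧸ Z → ℂ) := by
    rw [not_dvd_card_div_iff p hp, hdegbar]
    omega
  have hsing : blockOf M (ζbar : G ⧸ Z → ℂ) = {ζbar} :=
    (not_dvd_iff_blockOf_eq_singleton hM ζbar).mp hnd
  have hBbar_eq : Bbar = {ζbar} := by
    obtain ⟨χ₀, rfl⟩ := hBbar
    rw [← blockOf_eq_of_mem hζbarB, hsing]
  have hdef0 : blockDefect p Bbar = 0 := by
    rw [blockDefect_eq_zero_iff p hp ⟨ζbar, hζbarB⟩]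
    intro χ hχ
    rw [hBbar_eq] at hχ
    rw [Set.mem_singleton_iff.mp hχ]
    exact hnd
  -- the defect groups
  obtain ⟨D, hD⟩ := exists_isDefectGroup hM hB
  have hDbar : IsDefectGroup p M Bbar (D.map (QuotientGroup.mk' Z)) :=
    (hdef _).mpr ⟨D, hD, rfl⟩
  have hcard1 : Nat.card (D.map (QuotientGroup.mk' Z)) = 1 := by
    rw [card_defectGroup hM hBbar hDbar, hdef0, pow_zero]
  have hDle : D ≤ Z := by
    intro d hd
    have h1 : (QuotientGroup.mk' Z d) ∈ D.map (QuotientGroup.mk' Z) := ⟨d, hd, rfl⟩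
    have h2 : D.map (QuotientGroup.mk' Z) = ⊥ := Subgroup.card_eq_one.mp hcard1
    rw [h2, Subgroup.mem_bot] at h1
    exact (QuotientGroup.eq_one_iff d).mp h1
  have hZle : Z ≤ D := by
    obtain ⟨g, hg, Psyl, rfl⟩ := hD
    exact normal_pgroup_le_defectGroup hM hB Z hZp hg Psyl
  have : D = Z := le_antisymm hDle hZle
  rw [← this]
  exact hD

end Central

section Surj

variable {H K : Type u} [Group H] [Group K] [Fintype H] [Fintype K]

/-- summing along a surjective homomorphism -/
theorem sum_comp_surjective (f : H →* K) (hf : Function.Surjective f) :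
    ∃ c : ℕ, c ≠ 0 ∧ ∀ F : K → ℂ, ∑ h : H, F (f h) = (c : ℂ) * ∑ k : K, F k := by
  classical
  refine ⟨(Finset.univ.filter (fun h : H => f h = 1)).card, ?_, ?_⟩
  · apply Finset.card_ne_zero.mpr
    exact ⟨1, by simp⟩
  intro F
  have h1 : ∑ h : H, F (f h) =
      ∑ k : K, ∑ h ∈ Finset.univ.filter (fun h => f h = k), F (f h) :=
    (Finset.sum_fiberwise Finset.univ f (fun h => F (f h))).symm
  rw [h1, Finset.mul_sum]
  apply Finset.sum_congr rfl
  intro k _
  have h2 : ∑ h ∈ Finset.univ.filter (fun h => f h = k), F (f h) =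
      ∑ h ∈ Finset.univ.filter (fun h => f h = k), F k :=
    Finset.sum_congr rfl (fun h hh => by rw [(Finset.mem_filter.mp hh).2])
  rw [h2, Finset.sum_const, nsmul_eq_mul]
  congr 2
  exact MonoidHom.card_fiber_eq_of_mem_range f (hf k) (hf 1)

/-- inner products are preserved by pulling back along a surjective homomorphism -/
theorem classInner_comp_surjective (f : H →* K) (hf : Function.Surjective f) (α β : K → ℂ) :
    classInner (fun h => α (f h)) (fun h => β (f h)) = classInner α β := by
  classical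
  obtain ⟨c, hc0, hc⟩ := sum_comp_surjective f hf
  unfold classInner
  have e1 := hc (fun k => α k * conj (β k))
  have e2 := hc (fun _ => (1 : ℂ))
  simp only [Finset.sum_const, Finset.card_univ, nsmul_eq_mul, mul_one] at e2
  rw [e1, Nat.card_eq_fintype_card, Nat.card_eq_fintype_card, e2]
  have hK : (Fintype.card K : ℂ) ≠ 0 := by
    exact_mod_cast Fintype.card_ne_zero
  have hc' : (c : ℂ) ≠ 0 := by exact_mod_cast hc0
  field_simp

end Surj

section Weight

variable {T : Type u} [Group T] [Finite T] {p : ℕ}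

/-- **Restriction of a weight character.** If `χ ∈ Irr(T)` is trivial on `Q' ⊴ T` and has defect
zero as a character of `T ⧸ Q'`, then along any homomorphism `ι : H → T` with normal image the
pull-back of `χ` has an irreducible constituent trivial on `ι⁻¹(Q')` of defect zero modulo it. -/
theorem exists_defectZero_constituent (hp : p.Prime) (Q' : Subgroup T) [Q'.Normal] {χ : T → ℂ}
    (hχ : IsIrrCharacter T χ) (hker : ∀ q ∈ Q', χ q = χ 1)
    (hdeg : (charDegree χ).factorization p + (Nat.card Q').factorization p =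
      (Nat.card T).factorization p)
    {H : Type u} [Group H] [Fintype H] (ι : H →* T) (hn : ι.range.Normal) :
    ∃ ζ : H → ℂ, IsIrrCharacter H ζ ∧ classInner (fun h => χ (ι h)) ζ ≠ 0 ∧
      (∀ h : H, ι h ∈ Q' → ζ h = ζ 1) ∧
      (charDegree ζ).factorization p + (Nat.card (Q'.comap ι)).factorization p =
        (Nat.card H).factorization p := by
  classical
  haveI : Fintype T := Fintype.ofFinite T
  haveI : Fintype (T ⧸ Q') := Fintype.ofFinite _
  obtain ⟨χb, hχb, hχeq⟩ := exists_deflate Q' hχ hker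
  set ψ : H →* T ⧸ Q' := (QuotientGroup.mk' Q').comp ι with hψ
  set K : Subgroup (T ⧸ Q') := ψ.range with hK
  haveI hKn : K.Normal := by
    have : K = ι.range.map (QuotientGroup.mk' Q') := by
      rw [hK, hψ, MonoidHom.range_comp]
    rw [this]
    exact hn.map _ (QuotientGroup.mk'_surjective Q')
  haveI : Fintype K := Fintype.ofFinite K
  have hresK : IsCharacter K (fun k : K => χb k) :=
    isCharacter_restrict K (isCharacter_of_isIrrCharacter hχb)
  have hne : (fun k : K => χb k) ≠ 0 := by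
    intro h0
    have := congrFun h0 1
    simp only [Pi.zero_apply] at this
    exact irr_one_ne_zero hχb this
  obtain ⟨ζb, hζb, hcon⟩ := exists_constituent hresK hne
  obtain ⟨k, hk1, hk2⟩ := degree_eq_mul_of_constituent K hχb hζb hcon
  set ψ' : H →* K := ψ.rangeRestrict with hψ'
  have hsurj : Function.Surjective ψ' := ψ.rangeRestrict_surjective
  refine ⟨fun h => ζb (ψ' h), isIrrCharacter_comp_of_surjective ψ' hsurj hζb, ?_, ?_, ?_⟩
  · have e : (fun h : H => χ (ι h)) = fun h => (fun k : K => χb k) (ψ' h) := by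
      funext h
      rw [hχeq]
      rfl
    rw [e]
    have := classInner_comp_surjective ψ' hsurj (fun k : K => χb k) ζb
    rw [this]
    exact hcon
  · intro h hh
    have h1 : ψ' h = 1 := by
      apply Subtype.ext
      show (QuotientGroup.mk' Q') (ι h) = 1
      exact (QuotientGroup.eq_one_iff _).mpr hh
    show ζb (ψ' h) = ζb (ψ' 1)
    rw [h1, map_one]
  · -- the degree computation
    have hdζ : charDegree (fun h => ζb (ψ' h)) = charDegree ζb := by
      unfold charDegree
      show ⌊(ζb (ψ' 1)).re⌋₊ = ⌊(ζb 1).re⌋₊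
      rw [map_one]
    rw [hdζ]
    have hdχ : charDegree χb = charDegree χ := by
      unfold charDegree
      rw [hχeq]
      rfl
    have hnat : charDegree χb = k * charDegree ζb := by
      have h1 := irr_one_eq_charDegree hχb
      have h2 := irr_one_eq_charDegree hζb
      rw [h1, h2] at hk1
      exact_mod_cast hk1
    have hζpos : charDegree ζb ≠ 0 := (charDegree_pos hζb).ne'
    have hkpos : k ≠ 0 := by
      rintro rfl
      rw [zero_mul] at hnat
      exact (charDegree_pos hχb).ne' hnat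
    have hζdvd : charDegree ζb ∣ Nat.card K := charDegree_dvd_card hζb
    -- cardinalities
    have hcT : Nat.card T = Nat.card (T ⧸ Q') * Nat.card Q' :=
      Subgroup.card_eq_card_quotient_mul_card_subgroup Q'
    have hcK : Nat.card K * K.index = Nat.card (T ⧸ Q') := K.card_mul_index
    have hker' : ψ.ker = Q'.comap ι := by
      rw [hψ, ← MonoidHom.comap_ker, QuotientGroup.ker_mk']
    have hcH : Nat.card H = Nat.card K * Nat.card (Q'.comap ι) := by
      rw [← hker', Subgroup.card_eq_card_quotient_mul_card_subgroup ψ.ker]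
      congr 1
      exact Nat.card_congr (QuotientGroup.quotientKerEquivRange ψ).toEquiv
    have hK0 : Nat.card K ≠ 0 := Nat.card_pos.ne'
    have hi0 : K.index ≠ 0 := Subgroup.index_ne_zero_of_finite
    have hq0 : Nat.card (T ⧸ Q') ≠ 0 := Nat.card_pos.ne'
    have hQ0 : Nat.card Q' ≠ 0 := Nat.card_pos.ne'
    have hc0 : Nat.card (Q'.comap ι) ≠ 0 := Nat.card_pos.ne'
    have f1 : (Nat.card T).factorization p =
        (Nat.card (T ⧸ Q')).factorization p + (Nat.card Q').factorization p := by
      rw [hcT, Nat.factorization_mul hq0 hQ0]; rfl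
    have f2 : (Nat.card (T ⧸ Q')).factorization p =
        (Nat.card K).factorization p + K.index.factorization p := by
      rw [← hcK, Nat.factorization_mul hK0 hi0]; rfl
    have f3 : (Nat.card H).factorization p =
        (Nat.card K).factorization p + (Nat.card (Q'.comap ι)).factorization p := by
      rw [hcH, Nat.factorization_mul hK0 hc0]; rfl
    have f4 : (charDegree χb).factorization p =
        k.factorization p + (charDegree ζb).factorization p := by
      rw [hnat, Nat.factorization_mul hkpos hζpos]; rfl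
    have f5 : k.factorization p ≤ K.index.factorization p :=
      (Nat.factorization_le_iff_dvd hkpos hi0).mpr hk2 p
    have f6 : (charDegree ζb).factorization p ≤ (Nat.card K).factorization p :=
      (Nat.factorization_le_iff_dvd hζpos hK0).mpr hζdvd p
    rw [hdχ] at f4
    omega

end Weight

section Radical

variable {T : Type u} [Group T] [Finite T] {p : ℕ}

/-- **A weight forces `Q' = O_p(T)`**: every normal `p`-subgroup lies in `Q'`. -/
theorem le_of_normal_pGroup (hp : p.Prime) (Q' : Subgroup T) [Q'.Normal] {χ : T → ℂ}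
    (hχ : IsIrrCharacter T χ) (hker : ∀ q ∈ Q', χ q = χ 1)
    (hdeg : (charDegree χ).factorization p + (Nat.card Q').factorization p =
      (Nat.card T).factorization p)
    (R : Subgroup T) [hR : R.Normal] (hRp : IsPGroup p R) : R ≤ Q' := by
  classical
  haveI : Fact p.Prime := ⟨hp⟩
  haveI : Fintype T := Fintype.ofFinite T
  haveI : Fintype R := Fintype.ofFinite R
  have hn : R.subtype.range.Normal := by
    rw [Subgroup.range_subtype]; exact hR
  obtain ⟨ζ, hζ, -, hζker, hζdeg⟩ :=
    exists_defectZero_constituent hp Q' hχ hker hdeg R.subtype hn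
  set N' : Subgroup R := Q'.comap R.subtype with hN'
  haveI : N'.Normal := by
    rw [hN']
    exact Subgroup.Normal.comap inferInstance _
  -- everything is a power of `p`
  obtain ⟨n, hn'⟩ := (IsPGroup.iff_card).mp hRp
  have hN'p : IsPGroup p N' := hRp.to_subgroup N'
  obtain ⟨m, hm⟩ := (IsPGroup.iff_card).mp hN'p
  have hdvd : charDegree ζ ∣ Nat.card R := charDegree_dvd_card hζ
  rw [hn'] at hdvd
  obtain ⟨j, -, hj⟩ := (Nat.dvd_prime_pow hp).mp hdvd
  rw [hj, hm, hn', Nat.factorization_pow, Nat.factorization_pow, Nat.factorization_pow] at hζdeg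
  simp only [Finsupp.smul_apply, smul_eq_mul, hp.factorization_self, mul_one] at hζdeg
  -- the sum of squares over the characters trivial on `N'`
  letI : Fintype (IrrCharacter R) := irrFintype
  have hsum := sum_charDegree_sq_of_le_ker N'
  let ζ' : {χ : IrrCharacter R // ∀ n ∈ N', (χ : R → ℂ) n = (χ : R → ℂ) 1} :=
    ⟨⟨ζ, hζ⟩, fun n hn => hζker n hn⟩
  have hle : charDegree ζ ^ 2 ≤ Nat.card (R ⧸ N') := by
    rw [← hsum]
    exact Finset.single_le_sum (f := fun χ : {χ : IrrCharacter R //
      ∀ n ∈ N', (χ : R → ℂ) n = (χ : R → ℂ) 1} => charDegree ((χ.1 : IrrCharacter R) : R → ℂ) ^ 2)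
      (fun _ _ => Nat.zero_le _) (Finset.mem_univ ζ')
  have hq : Nat.card R = Nat.card (R ⧸ N') * Nat.card N' :=
    Subgroup.card_eq_card_quotient_mul_card_subgroup N'
  have hquot : Nat.card (R ⧸ N') = p ^ j := by
    have h1 : p ^ n = Nat.card (R ⧸ N') * p ^ m := by rw [← hn', ← hm]; exact hq
    have h2 : p ^ n = p ^ j * p ^ m := by rw [← pow_add, hζdeg]
    have hpm : 0 < p ^ m := pow_pos hp.pos m
    exact Nat.eq_of_mul_eq_mul_right hpm (h1.symm.trans h2)
  rw [hj, hquot, ← pow_mul] at hle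
  have hj0 : j = 0 := by
    by_contra hne
    have : j * 2 ≤ j := (Nat.pow_le_pow_iff_right hp.one_lt).mp hle
    omega
  have hmn : m = n := by omega
  have hcard : Nat.card N' = Nat.card R := by rw [hm, hn', hmn]
  have htop : N' = ⊤ := Subgroup.eq_top_of_card_eq N' hcard
  intro r hr
  have : (⟨r, hr⟩ : R) ∈ N' := by rw [htop]; trivial
  exact this

end Radical

section Cover

variable {G : Type u} [Group G] [Fintype G]

theorem sbc_of_mem (H : Subgroup G) (e : Set (IrrCharacter H)) {g : G} (h : g ∈ H) :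
    subgroupBlockCoeff H e g = blockCoeff e ⟨g, h⟩ := by
  unfold subgroupBlockCoeff
  exact dif_pos h

theorem sbc_of_not_mem (H : Subgroup G) (e : Set (IrrCharacter H)) {g : G} (h : g ∉ H) :
    subgroupBlockCoeff H e g = 0 := by
  unfold subgroupBlockCoeff
  exact dif_neg h

/-- If the idempotent of the set `F'` of characters of `T` is the idempotent of the set `e` of
characters of `C ≤ T`, the constituents on `C` of the members of `F'` lie in `e`. -/
theorem mem_of_blockCoeff_eq {T C : Subgroup G} [Fintype T] [Fintype C] (hCT : C ≤ T)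
    (e : Set (IrrCharacter C))
    (F' : Set (IrrCharacter T))
    (hF'e : ∀ t : T, blockCoeff F' t = subgroupBlockCoeff C e (t : G))
    {χ : IrrCharacter T} (hχ : χ ∈ F') (ζ : IrrCharacter C)
    (hcon : classInner (fun c : C => (χ : T → ℂ) (Subgroup.inclusion hCT c)) (ζ : C → ℂ) ≠ 0) :
    ζ ∈ e := by
  classical
  letI : Fintype (IrrCharacter T) := irrFintype
  letI : Fintype (IrrCharacter C) := irrFintype
  set φ : C → ℂ := fun c => (χ : T → ℂ) (Subgroup.inclusion hCT c) with hφ
  have hφchar : IsCharacter C φ :=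
    isCharacter_comp (Subgroup.inclusion hCT) (isCharacter_of_isIrrCharacter χ.2)
  obtain ⟨hnat, hdec⟩ := isCharacter_decomp hφchar
  choose m hm using hnat
  -- evaluate the idempotent
  have h1 : omega (χ : T → ℂ) (blockCoeff F') = 1 := by
    rw [omega_blockCoeff, if_pos hχ]
  have hχ1 : (χ : T → ℂ) 1 ≠ 0 := irr_one_ne_zero χ.2
  have h2 : ∑ t : T, blockCoeff F' t * (χ : T → ℂ) t = (χ : T → ℂ) 1 := by
    unfold omega at h1
    field_simp at h1
    exact h1
  have h3 : ∑ t : T, blockCoeff F' t * (χ : T → ℂ) t = ∑ c : C, blockCoeff e c * φ c := by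
    symm
    apply Fintype.sum_of_injective (Subgroup.inclusion hCT) (Subgroup.inclusion_injective hCT)
    · intro t ht
      have : (t : G) ∉ C := by
        intro hc
        apply ht
        exact ⟨⟨(t : G), hc⟩, Subtype.ext rfl⟩
      rw [hF'e, sbc_of_not_mem C e this, zero_mul]
    · intro c
      rw [hF'e, sbc_of_mem C e (show ((Subgroup.inclusion hCT c : T) : G) ∈ C from c.2)]
      rfl
  have h4 : ∀ ζ' : IrrCharacter C, ∑ c : C, blockCoeff e c * (ζ' : C → ℂ) c =
      if ζ' ∈ e then (ζ' : C → ℂ) 1 else 0 := by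
    intro ζ'
    have := omega_blockCoeff ζ' e
    unfold omega at this
    have h1' : (ζ' : C → ℂ) 1 ≠ 0 := irr_one_ne_zero ζ'.2
    have h2' := (div_eq_iff h1').mp this
    rw [h2']
    by_cases hz : ζ' ∈ e
    · rw [if_pos hz, if_pos hz, one_mul]
    · rw [if_neg hz, if_neg hz, zero_mul]
  have h5 : ∑ c : C, blockCoeff e c * φ c =
      ∑ ζ' : IrrCharacter C, (m ζ' : ℂ) * (if ζ' ∈ e then (ζ' : C → ℂ) 1 else 0) := by
    have : ∀ c : C, φ c = ∑ ζ' : IrrCharacter C, (m ζ' : ℂ) * (ζ' : C → ℂ) c := by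
      intro c
      have := congrFun hdec c
      rw [this]
      simp only [Finset.sum_apply, Pi.smul_apply, smul_eq_mul]
      apply Finset.sum_congr rfl
      intro ζ' _
      rw [hm ζ']
    calc ∑ c : C, blockCoeff e c * φ c
        = ∑ c : C, ∑ ζ' : IrrCharacter C, (m ζ' : ℂ) * (blockCoeff e c * (ζ' : C → ℂ) c) := by
          apply Finset.sum_congr rfl
          intro c _
          rw [this c, Finset.mul_sum]
          apply Finset.sum_congr rfl
          intro ζ' _
          ring
      _ = ∑ ζ' : IrrCharacter C, (m ζ' : ℂ) * ∑ c : C, blockCoeff e c * (ζ' : C → ℂ) c := by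
          rw [Finset.sum_comm]
          apply Finset.sum_congr rfl
          intro ζ' _
          rw [Finset.mul_sum]
      _ = _ := by
          apply Finset.sum_congr rfl
          intro ζ' _
          rw [h4 ζ']
  have h6 : (χ : T → ℂ) 1 = ∑ ζ' : IrrCharacter C, (m ζ' : ℂ) * (ζ' : C → ℂ) 1 := by
    have := congrFun hdec 1
    have e1 : φ 1 = (χ : T → ℂ) 1 := by
      show (χ : T → ℂ) (Subgroup.inclusion hCT 1) = _
      rw [map_one]
    rw [← e1, this]
    simp only [Finset.sum_apply, Pi.smul_apply, smul_eq_mul]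
    apply Finset.sum_congr rfl
    intro ζ' _
    rw [hm ζ']
  -- pass to natural numbers
  have hd : ∀ ζ' : IrrCharacter C, (ζ' : C → ℂ) 1 = (charDegree (ζ' : C → ℂ) : ℂ) :=
    fun ζ' => irr_one_eq_charDegree ζ'.2
  have hnat : ∑ ζ' : IrrCharacter C, (if ζ' ∈ e then m ζ' * charDegree (ζ' : C → ℂ) else 0) =
      ∑ ζ' : IrrCharacter C, m ζ' * charDegree (ζ' : C → ℂ) := by
    have hc : ((∑ ζ' : IrrCharacter C,
        (if ζ' ∈ e then m ζ' * charDegree (ζ' : C → ℂ) else 0) : ℕ) : ℂ) =
        ((∑ ζ' : IrrCharacter C, m ζ' * charDegree (ζ' : C → ℂ) : ℕ) : ℂ) := by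
      push_cast
      rw [← h2, h3, h5] at h6
      simp only [hd] at h6
      rw [← h6]
      apply Finset.sum_congr rfl
      intro ζ' _
      by_cases hz : ζ' ∈ e
      · rw [if_pos hz, if_pos hz]
      · rw [if_neg hz, if_neg hz, mul_zero]
    exact_mod_cast hc
  by_contra hζe
  have hle : ∀ ζ' ∈ (Finset.univ : Finset (IrrCharacter C)),
      (if ζ' ∈ e then m ζ' * charDegree (ζ' : C → ℂ) else 0) ≤
        m ζ' * charDegree (ζ' : C → ℂ) := by
    intro ζ' _
    split_ifs
    · exact le_refl _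
    · exact Nat.zero_le _
  have hall := (Finset.sum_eq_sum_iff_of_le hle).mp hnat ζ (Finset.mem_univ ζ)
  rw [if_neg hζe] at hall
  have hm0 : m ζ ≠ 0 := by
    intro h0
    apply hcon
    rw [hm ζ, h0]
    simp
  have hd0 : charDegree (ζ : C → ℂ) ≠ 0 := (charDegree_pos ζ.2).ne'
  exact mul_ne_zero hm0 hd0 hall.symm

end Cover

section Main

variable {G : Type u} [Group G] [Fintype G]

/-- auxiliary form with the centralizer abstracted -/
theorem weight_aux (p : ℕ) [Fact p.Prime] (M : Ideal AlgInt) (hM : IsPModular p M)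
    (Q C : Subgroup G) (hCdef : C = Subgroup.centralizer (Q : Set G))
    (e : Set (IrrCharacter C)) (hQp : IsPGroup p Q) (heB : IsPBlock M e) (T : Subgroup G)
    (hT : ∀ y : G, y ∈ T ↔ y ∈ Subgroup.normalizer (Q : Set G) ∧ StabilizesBlock C e y)
    (F' : Set (IrrCharacter T))
    (hF'e : ∀ t : T, blockCoeff F' t = subgroupBlockCoeff C e (t : G))
    (χ : IrrCharacter T) (hχ : χ ∈ F')
    (hχQ : ∀ q : G, q ∈ Q → ∀ t : T, ∀ t' : T, (t' : G) = q * (t : G) →
      (χ : T → ℂ) t' = (χ : T → ℂ) t)
    (hdeg : (charDegree (χ : T → ℂ)).factorization p + (Nat.card Q).factorization p =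
      (Nat.card T).factorization p) :
    IsDefectGroup p M e ((Q ⊓ C).subgroupOf C) ∧
      ∀ R : Subgroup G, R ≤ T → IsPGroup p R →
        (∀ t ∈ T, t ∈ Subgroup.normalizer (R : Set G)) → R ≤ Q := by
  classical
  have hp : p.Prime := hM.1
  haveI hMp : M.IsPrime := hM.2.1.isPrime
  haveI : Fintype T := Fintype.ofFinite T
  haveI : Fintype C := Fintype.ofFinite C
  have hcomm : ∀ c ∈ C, ∀ q ∈ Q, q * c = c * q := by
    intro c hc q hq
    rw [hCdef] at hc
    exact Subgroup.mem_centralizer_iff.mp hc q hq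
  -- `C ≤ T` and `Q ≤ T`
  have hCT : C ≤ T := by
    intro c hc
    rw [hT]
    refine ⟨?_, Subgroup.le_normalizer hc, ?_⟩
    · have : c ∈ Subgroup.centralizer (Q : Set G) := by rw [← hCdef]; exact hc
      exact Subgroup.centralizer_le_normalizer _ this
    · intro ξ hξ
      refine ⟨ξ, hξ, ?_⟩
      intro k k' hk
      have : k' = ⟨c, hc⟩ * k * ⟨c, hc⟩⁻¹ := Subtype.ext (by push_cast; exact hk)
      rw [this]
      exact isClassFunction_of_isIrrCharacter ξ.2 k ⟨c, hc⟩
  have hconjC : ∀ q ∈ Q, ∀ c : G, q * c * q⁻¹ ∈ C ↔ c ∈ C := by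
    intro q hq c
    rw [hCdef]
    constructor
    · intro hc
      rw [Subgroup.mem_centralizer_iff] at hc ⊢
      intro x hx
      have h1 : q * x * q⁻¹ ∈ (Q : Set G) :=
        Q.mul_mem (Q.mul_mem hq hx) (Q.inv_mem hq)
      have h2 := hc _ h1
      have e1 : q * x * q⁻¹ * (q * c * q⁻¹) = q * (x * c) * q⁻¹ := by group
      have e2 : q * c * q⁻¹ * (q * x * q⁻¹) = q * (c * x) * q⁻¹ := by group
      rw [e1, e2] at h2
      exact mul_left_cancel (mul_right_cancel h2)
    · intro hc
      rw [Subgroup.mem_centralizer_iff] at hc ⊢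
      intro x hx
      have h1 : q⁻¹ * x * q ∈ (Q : Set G) :=
        Q.mul_mem (Q.mul_mem (Q.inv_mem hq) hx) hq
      have h2 := hc _ h1
      calc x * (q * c * q⁻¹) = q * ((q⁻¹ * x * q) * c) * q⁻¹ := by group
        _ = q * (c * (q⁻¹ * x * q)) * q⁻¹ := by rw [h2]
        _ = q * c * q⁻¹ * x := by group
  have hQT : Q ≤ T := by
    intro q hq
    rw [hT]
    refine ⟨Subgroup.le_normalizer hq, ?_, ?_⟩
    · rw [Subgroup.mem_normalizer_iff]
      intro c
      exact (hconjC q hq c).symm
    · intro ξ hξ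
      refine ⟨ξ, hξ, ?_⟩
      intro k k' hk
      have hkq : q * (k : G) * q⁻¹ = (k : G) := by
        rw [hcomm k k.2 q hq]; group
      have : k' = k := Subtype.ext (by rw [hk, hkq])
      rw [this]
  -- the normal subgroup `Q' = Q` of `T`
  have hTN : T ≤ Subgroup.normalizer (Q : Set G) := fun t ht => ((hT t).mp ht).1
  haveI hQ'n : (Q.subgroupOf T).Normal := Subgroup.normal_subgroupOf_of_le_normalizer hTN
  have hker' : ∀ q ∈ Q.subgroupOf T, (χ : T → ℂ) q = (χ : T → ℂ) 1 := by
    intro q hq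
    apply hχQ (q : G) (Subgroup.mem_subgroupOf.mp hq) 1 q
    simp
  have hcardQ' : Nat.card (Q.subgroupOf T) = Nat.card Q :=
    Nat.card_congr (Subgroup.subgroupOfEquivOfLe hQT).toEquiv
  have hdeg' : (charDegree (χ : T → ℂ)).factorization p +
      (Nat.card (Q.subgroupOf T)).factorization p = (Nat.card T).factorization p := by
    rw [hcardQ']; exact hdeg
  refine ⟨?_, ?_⟩
  · -- the defect group of `e`
    have hTC : T ≤ Subgroup.normalizer (C : Set G) := fun t ht => ((hT t).mp ht).2.1
    have hn : (Subgroup.inclusion hCT).range.Normal := by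
      rw [Subgroup.inclusion_range]
      exact Subgroup.normal_subgroupOf_of_le_normalizer hTC
    obtain ⟨ζ, hζ, hcon, hζker, hζdeg⟩ :=
      exists_defectZero_constituent hp (Q.subgroupOf T) χ.2 hker' hdeg'
        (Subgroup.inclusion hCT) hn
    have hζe : (⟨ζ, hζ⟩ : IrrCharacter C) ∈ e :=
      mem_of_blockCoeff_eq hCT e F' hF'e hχ ⟨ζ, hζ⟩ hcon
    set Z : Subgroup C := (Q ⊓ C).subgroupOf C with hZ
    have hZeq : Z = (Q.subgroupOf T).comap (Subgroup.inclusion hCT) := by
      ext c
      rw [hZ, Subgroup.mem_subgroupOf, Subgroup.mem_comap, Subgroup.mem_subgroupOf]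
      constructor
      · intro h; exact h.1
      · intro h; exact ⟨h, c.2⟩
    have hZc : Z ≤ Subgroup.center C := by
      intro z hz
      rw [Subgroup.mem_center_iff]
      intro c
      have hzQ : (z : G) ∈ Q := (Subgroup.mem_subgroupOf.mp hz).1
      have := hcomm c c.2 (z : G) hzQ
      apply Subtype.ext
      push_cast
      exact this.symm
    haveI hZn : Z.Normal := by
      constructor
      intro z hz c
      have h1 := Subgroup.mem_center_iff.mp (hZc hz) c
      have h2 : c * z * c⁻¹ = z := by rw [h1, mul_inv_cancel_right]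
      rw [h2]
      exact hz
    have hZp : IsPGroup p Z := by
      rw [hZ]
      have h1 : IsPGroup p (Q ⊓ C : Subgroup G) := hQp.to_le inf_le_left
      exact h1.comap_subtype
    have hkerZ : ∀ z ∈ Z, ζ z = ζ 1 := by
      intro z hz
      rw [hZeq] at hz
      exact hζker z hz
    have hdegZ : (charDegree ζ).factorization p + (Nat.card Z).factorization p =
        (Nat.card C).factorization p := by
      rw [hZeq]; exact hζdeg
    have key := isDefectGroup_of_central_defectZero hM Z hZp hZc ⟨ζ, hζ⟩ hkerZ hdegZ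
    have hblock : blockOf M ζ = e := by
      obtain ⟨ξ₀, rfl⟩ := heB
      exact blockOf_eq_of_mem hζe
    rw [← hblock]
    exact key
  · intro R hRT hRp hRn
    haveI hR'n : (R.subgroupOf T).Normal := Subgroup.normal_subgroupOf_of_le_normalizer hRn
    have hR'p : IsPGroup p (R.subgroupOf T) := hRp.comap_subtype
    have hle := le_of_normal_pGroup hp (Q.subgroupOf T) χ.2 hker' hdeg' (R.subgroupOf T) hR'p
    intro r hr
    have : (⟨r, hRT hr⟩ : T) ∈ R.subgroupOf T := Subgroup.mem_subgroupOf.mpr hr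
    exact Subgroup.mem_subgroupOf.mp (hle this)

/-- **Brauer pairs carrying a weight.** -/
theorem weight_main (p : ℕ) [Fact p.Prime] (M : Ideal AlgInt) (hM : IsPModular p M)
    (B : Set (IrrCharacter G)) (Q : Subgroup G)
    (e : Set (IrrCharacter (Subgroup.centralizer (Q : Set G))))
    (hQe : IsBrauerPairOf p M B Q e) (T : Subgroup G)
    (hT : ∀ y : G, y ∈ T ↔ y ∈ Subgroup.normalizer (Q : Set G) ∧
      StabilizesBlock (Subgroup.centralizer (Q : Set G)) e y)
    (F' : Set (IrrCharacter T))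
    (hF'e : ∀ t : T, blockCoeff F' t =
      subgroupBlockCoeff (Subgroup.centralizer (Q : Set G)) e (t : G))
    (χ : IrrCharacter T) (hχ : χ ∈ F')
    (hχQ : ∀ q : G, q ∈ Q → ∀ t : T, ∀ t' : T, (t' : G) = q * (t : G) →
      (χ : T → ℂ) t' = (χ : T → ℂ) t)
    (hdeg : (charDegree (χ : T → ℂ)).factorization p + (Nat.card Q).factorization p =
      (Nat.card T).factorization p) :
    IsDefectGroup p M e ((Q ⊓ Subgroup.centralizer (Q : Set G)).subgroupOf
        (Subgroup.centralizer (Q : Set G))) ∧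
      ∀ R : Subgroup G, R ≤ T → IsPGroup p R →
        (∀ t ∈ T, t ∈ Subgroup.normalizer (R : Set G)) → R ≤ Q :=
  weight_aux p M hM Q (Subgroup.centralizer (Q : Set G)) rfl e hQe.1.1 hQe.1.2 T hT F' hF'e
    χ hχ hχQ hdeg

end Main

end Cfsg.Agent.Helper18.WeightPair
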