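import Mathlib
import Cfsg.Agent.Lib.Helper18.Winter1
import Cfsg.Agent.Lib.Helper18.CliffordCorr
import Cfsg.Agent.Lib.Helper24.CharHom
import Cfsg.Agent.Lib.Helper24.CharAlgebra

/-!
# Winter's theorem on solvable linear groups: the imprimitive case and the reduction to the case
where the Sylow subgroup lies in no proper normal subgroup (helper18)
-/

set_option autoImplicit false
set_option linter.unusedSectionVars false
set_option linter.unusedVariables false
set_option linter.style.haveILetI false

namespace Cfsg.Agent.Helper18.Winter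

open Cfsg Cfsg.Agent.Helper24 Cfsg.Agent.Helper5 Cfsg.Agent.Helper18

universe u

section Index

variable {G : Type u} [Group G] [Finite G] [Group.IsSolvable G]

theorem good_of_index_aux {p : ℕ} (hp : p.Prime) (P : Subgroup G) (hPp : IsPGroup p P)
    (hTop : ∀ M : Subgroup G, M.Normal → P ≤ M → M = ⊤) (H : Subgroup G) (hH : IsCoatom H)
    (N₀ : Subgroup G) [hN₀n : N₀.Normal] (hN₀H : N₀ ≤ H)
    (hcore : ∀ K : Subgroup G, K.Normal → K ≤ H → K ≤ N₀) :
    Good p H.index := by
  let f := QuotientGroup.mk' N₀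
  have hf : Function.Surjective f := QuotientGroup.mk'_surjective N₀
  have hker : f.ker = N₀ := QuotientGroup.ker_mk' N₀
  have hkerH : f.ker ≤ H := by rw [hker]; exact hN₀H
  have hcomap : (H.map f).comap f = H := by
    rw [Subgroup.comap_map_eq, hker]
    exact sup_eq_left.mpr hN₀H
  have hidx : (H.map f).index = H.index := Subgroup.index_map_eq H hf hkerH
  have hcf : ∀ K : Subgroup (G ⧸ N₀), K.Normal → K ≤ H.map f → K = ⊥ := by
    intro K hKn hK
    have h1 : K.comap f ≤ H := by
      rw [← hcomap]; exact Subgroup.comap_mono hK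
    have h2 : K.comap f ≤ N₀ := hcore _ (hKn.comap f) h1
    have h3 : K = (K.comap f).map f := (Subgroup.map_comap_eq_self_of_surjective hf K).symm
    rw [h3, eq_bot_iff]
    calc (K.comap f).map f ≤ N₀.map f := Subgroup.map_mono h2
      _ = ⊥ := QuotientGroup.map_mk'_self N₀
  have hmax : ∀ K : Subgroup (G ⧸ N₀), H.map f ≤ K → K = H.map f ∨ K = ⊤ := by
    intro K hK
    have h1 : H ≤ K.comap f := Subgroup.map_le_iff_le_comap.mp hK
    have h3 : K = (K.comap f).map f := (Subgroup.map_comap_eq_self_of_surjective hf K).symm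
    rcases hH.le_iff.mp h1 with h | h
    · right
      rw [h3, h]
      exact Subgroup.map_top_of_surjective f hf
    · left
      rw [h3, h]
  have hQ : IsPGroup p (P.map f) := hPp.map f
  have hQ1 : P.map f ≠ ⊥ := by
    intro h
    have h1 : P ≤ N₀ := by
      rw [← hker]; exact (Subgroup.map_eq_bot_iff P).mp h
    have h2 := hTop N₀ hN₀n h1
    have h3 : H = ⊤ := top_le_iff.mp (h2 ▸ hN₀H)
    exact hH.1 h3
  have hgood := good_index_of_primitive hp (H.map f) hcf hmax (P.map f) hQ hQ1
  rw [hidx] at hgood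
  exact hgood

/-- If the `p`-subgroup `P` lies in no proper normal subgroup of the solvable group `G`, then the
index of every proper subgroup is good. -/
theorem good_of_index {p : ℕ} (hp : p.Prime) (P : Subgroup G) (hPp : IsPGroup p P)
    (hTop : ∀ M : Subgroup G, M.Normal → P ≤ M → M = ⊤) (T : Subgroup G) (hT : T ≠ ⊤) :
    Good p T.index := by
  rcases eq_top_or_exists_le_coatom T with h | ⟨H, hH, hTH⟩
  · exact absurd h hT
  haveI := Subgroup.normalCore_normal H
  have hgood := good_of_index_aux hp P hPp hTop H hH H.normalCore (Subgroup.normalCore_le H)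
    (fun K hK hKH => (Subgroup.normal_le_normalCore (H := H) (N := K) (hN := hK)).mpr hKH)
  exact hgood.of_dvd (Subgroup.index_dvd_of_le hTH)

end Index

section NotInvariant

variable {G : Type u} [Group G] [Fintype G]

/-- The degree of an irreducible constituent of the restriction to a normal subgroup, and the
index of its inertia group, divide the degree. -/
theorem index_mul_degree_dvd (N : Subgroup G) [hN : N.Normal] [Fintype N] {χ : G → ℂ}
    (hχ : IsIrrCharacter G χ) {ϑ : N → ℂ} (hϑ : IsIrrCharacter N ϑ)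
    (hcon : classInner (fun n : N => χ n) ϑ ≠ 0) :
    (inertia N ϑ).index * charDegree ϑ ∣ charDegree χ := by
  letI := irrFintype (G := N)
  have h1 := degree_eq_of_constituent N hχ hϑ hcon
  obtain ⟨e, he⟩ := classInner_char_nat
    (isCharacter_restrict N (isCharacter_of_isIrrCharacter hχ)) (isCharacter_of_isIrrCharacter hϑ)
  rw [he, irr_one_eq_charDegree hχ, irr_one_eq_charDegree hϑ] at h1
  have h2 : charDegree χ = e * (inertia N ϑ).index * charDegree ϑ := by
    exact_mod_cast h1
  rw [h2, mul_assoc]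
  exact dvd_mul_left _ _

/-- The imprimitive case of Winter's theorem. -/
theorem good_of_not_invariant [Group.IsSolvable G] {p : ℕ} (hp : p.Prime) (P : Subgroup G)
    (hPp : IsPGroup p P) (hTop : ∀ M : Subgroup G, M.Normal → P ≤ M → M = ⊤)
    (N : Subgroup G) [hN : N.Normal] [Fintype N] {χ : G → ℂ}
    (hχ : IsIrrCharacter G χ) {ϑ : N → ℂ} (hϑ : IsIrrCharacter N ϑ)
    (hcon : classInner (fun n : N => χ n) ϑ ≠ 0) (hT : inertia N ϑ ≠ ⊤) :
    Good p (charDegree χ) := by
  have h1 := good_of_index hp P hPp hTop (inertia N ϑ) hT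
  exact h1.of_dvd ((dvd_mul_right _ _).trans (index_mul_degree_dvd N hχ hϑ hcon))

end NotInvariant

/-- Winter's statement for a fixed group. -/
def WinterFor (p : ℕ) (H : Type u) [Group H] : Prop :=
  ∀ ψ : H → ℂ, IsIrrCharacter H ψ → (∀ g : H, ψ g = ψ 1 → g = 1) →
    ∀ Q : Sylow p H, ¬ (Q : Subgroup H).Normal → Good p (charDegree ψ)

section Quotient

variable {M : Type u} [Group M] [Finite M]

/-- Reduction to the faithful case by factoring out the kernel. -/
theorem good_of_sup_ker_not_normal {p : ℕ} [Fact p.Prime] {θ : M → ℂ}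
    (hθ : IsIrrCharacter M θ) (K : Subgroup M) [hKn : K.Normal] (hK : ∀ m, m ∈ K ↔ θ m = θ 1)
    (hW : WinterFor p (M ⧸ K)) (Q : Sylow p M) (hQ : ¬ ((Q : Subgroup M) ⊔ K).Normal) :
    Good p (charDegree θ) := by
  obtain ⟨ψ, hψ, hθψ⟩ := exists_deflate K hθ (fun n hn => (hK n).mp hn)
  have hval : ∀ m : M, ψ (QuotientGroup.mk m) = θ m := fun m => by rw [hθψ]; rfl
  have hfaith : ∀ x : M ⧸ K, ψ x = ψ 1 → x = 1 := by
    intro x hx
    induction x using QuotientGroup.induction_on with
    | H m =>
      have h1 : ψ (1 : M ⧸ K) = θ 1 := by rw [← hval 1]; rfl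
      rw [hval, h1] at hx
      exact (QuotientGroup.eq_one_iff m).mpr ((hK m).mpr hx)
  have hf : Function.Surjective (QuotientGroup.mk' K) := QuotientGroup.mk'_surjective K
  have hnn : ¬ ((Q.mapSurjective hf : Sylow p (M ⧸ K)) : Subgroup (M ⧸ K)).Normal := by
    intro hn
    apply hQ
    have h1 := hn.comap (QuotientGroup.mk' K)
    rw [Sylow.coe_mapSurjective, Subgroup.comap_map_eq, QuotientGroup.ker_mk'] at h1
    exact h1
  have h2 := hW ψ hψ hfaith (Q.mapSurjective hf) hnn
  have h3 : charDegree ψ = charDegree θ := by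
    unfold charDegree
    have : ψ 1 = θ 1 := by rw [← hval 1]; rfl
    rw [this]
  rw [h3] at h2
  exact h2

end Quotient

section ProperNormal

variable {G : Type u} [Group G] [Fintype G]

/-- The case of Winter's theorem where the Sylow subgroup lies in a proper normal subgroup,
assuming the theorem for all quotients of that subgroup. -/
theorem good_of_le_normal {p : ℕ} [hpf : Fact p.Prime] {χ : G → ℂ} (hχ : IsIrrCharacter G χ)
    (hfaith : ∀ g : G, χ g = χ 1 → g = 1) (P : Sylow p G) (hP : ¬ (P : Subgroup G).Normal)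
    (M : Subgroup G) [hM : M.Normal] (hPM : (P : Subgroup G) ≤ M)
    (hIH : ∀ (K : Subgroup M) [K.Normal], WinterFor p (M ⧸ K)) :
    Good p (charDegree χ) := by
  classical
  letI : Fintype M := Fintype.ofFinite M
  letI := irrFintype (G := M)
  by_contra hbad
  obtain ⟨PM, hPMdef⟩ : ∃ PM : Sylow p M, PM = P.subtype hPM := ⟨_, rfl⟩
  have hχM : IsCharacter M (fun m : M => χ m) :=
    isCharacter_restrict M (isCharacter_of_isIrrCharacter hχ)
  obtain ⟨hm, hdec⟩ := isCharacter_decomp hχM
  have key : ∀ θ : IrrCharacter M, classInner (fun m : M => χ m) (θ : M → ℂ) ≠ 0 →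
      ((PM : Subgroup M) ⊔ charKer (isCharacter_of_isIrrCharacter θ.2)).Normal := by
    intro θ hcon
    by_contra hnn
    haveI := charKer_normal (isCharacter_of_isIrrCharacter θ.2)
    have h1 := good_of_sup_ker_not_normal θ.2 (charKer (isCharacter_of_isIrrCharacter θ.2))
      (fun m => Iff.rfl) (hIH _) PM hnn
    have h2 := index_mul_degree_dvd M hχ θ.2 hcon
    exact hbad (h1.of_dvd ((dvd_mul_left _ _).trans h2))
  let S : Set (IrrCharacter M) := {θ | classInner (fun m : M => χ m) (θ : M → ℂ) ≠ 0}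
  obtain ⟨L, hLdef⟩ : ∃ L : Subgroup M, L = ⨅ θ : S,
      (PM : Subgroup M) ⊔ charKer (isCharacter_of_isIrrCharacter θ.1.2) := ⟨_, rfl⟩
  have hLn : L.Normal := by
    rw [hLdef]
    exact Subgroup.normal_iInf_normal (fun θ => key θ.1 θ.2)
  have hPL : (PM : Subgroup M) ≤ L := by
    rw [hLdef]
    exact le_iInf (fun θ => le_sup_left)
  obtain ⟨a, ha⟩ := PM.2.exists_card_eq
  have hLp : IsPGroup p L := by
    intro ℓ
    refine ⟨a, ?_⟩
    have hℓ : ∀ θ : S, (ℓ : M) ^ (p ^ a) ∈ charKer (isCharacter_of_isIrrCharacter θ.1.2) := by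
      intro θ
      haveI := charKer_normal (isCharacter_of_isIrrCharacter θ.1.2)
      have h1 : (ℓ : M) ∈ (PM : Subgroup M) ⊔ charKer (isCharacter_of_isIrrCharacter θ.1.2) := by
        have h0 : (ℓ : M) ∈ L := ℓ.2
        have hle : L ≤ (PM : Subgroup M) ⊔ charKer (isCharacter_of_isIrrCharacter θ.1.2) := by
          rw [hLdef]; exact iInf_le _ θ
        exact hle h0
      have h2 : (ℓ : M) ∈
          (↑((PM : Subgroup M) ⊔ charKer (isCharacter_of_isIrrCharacter θ.1.2)) : Set M) := h1
      rw [Subgroup.mul_normal] at h2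
      obtain ⟨b, hb, k, hk, hbk⟩ := Set.mem_mul.mp h2
      have hb1 : b ^ (p ^ a) = 1 := by
        have h3 : (⟨b, hb⟩ : (PM : Subgroup M)) ^ Nat.card (PM : Subgroup M) = 1 :=
          pow_card_eq_one'
        rw [ha] at h3
        exact congrArg Subtype.val h3
      rw [← QuotientGroup.eq_one_iff, QuotientGroup.mk_pow, ← hbk, QuotientGroup.mk_mul,
        (QuotientGroup.eq_one_iff k).mpr hk, mul_one, ← QuotientGroup.mk_pow, hb1]
      rfl
    apply Subtype.ext
    apply Subtype.ext
    apply hfaith
    show χ (((ℓ : M) ^ (p ^ a) : M) : G) = χ 1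
    have e1 := congrFun hdec ((ℓ : M) ^ (p ^ a))
    have e2 := congrFun hdec 1
    simp only [Finset.sum_apply, Pi.smul_apply, smul_eq_mul] at e1 e2
    have e3 : χ 1 = χ ((1 : M) : G) := rfl
    rw [e3, e1, e2]
    apply Finset.sum_congr rfl
    intro θ _
    by_cases hθ : classInner (fun m : M => χ m) (θ : M → ℂ) = 0
    · rw [hθ, zero_mul, zero_mul]
    · congr 1
      exact hℓ ⟨θ, hθ⟩
  have hLeq : L = PM := PM.is_maximal' hLp hPL
  have hPMn : (PM : Subgroup M).Normal := hLeq ▸ hLn
  apply hP
  haveI := PM.characteristic_of_normal hPMn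
  have h5 : ((PM : Subgroup M).map M.subtype).Normal := inferInstance
  have h6 : (PM : Subgroup M).map M.subtype = (P : Subgroup G) := by
    rw [hPMdef, Sylow.coe_subtype]
    exact Subgroup.map_subgroupOf_eq_of_le hPM
  rw [h6] at h5
  exact h5

end ProperNormal

end Cfsg.Agent.Helper18.Winter
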