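import Mathlib
import Cfsg.Agent.Lib.Helper18.Winter2
import Cfsg.Agent.Lib.Helper5.CharCenter
import Cfsg.Agent.Lib.Helper23.Schur

/-!
# Winter's theorem on solvable linear groups: the quasi-primitive case (helper18)
-/

set_option autoImplicit false
set_option linter.unusedSectionVars false
set_option linter.unusedVariables false
set_option linter.style.haveILetI false

namespace Cfsg.Agent.Helper18.Winter

open Cfsg Cfsg.Agent.Helper24 Cfsg.Agent.Helper5 Cfsg.Agent.Helper18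
open scoped ComplexConjugate

universe u

section Commutators

variable {G : Type*} [Group G]

theorem comm_mul (u a b : G) (hb : u * b * u⁻¹ * b⁻¹ ∈ Subgroup.center G) :
    u * (a * b) * u⁻¹ * (a * b)⁻¹ = (u * a * u⁻¹ * a⁻¹) * (u * b * u⁻¹ * b⁻¹) := by
  obtain ⟨c, hc⟩ : ∃ c, c = u * b * u⁻¹ * b⁻¹ := ⟨_, rfl⟩
  rw [← hc] at hb ⊢
  have h1 := Subgroup.mem_center_iff.mp hb a⁻¹
  calc u * (a * b) * u⁻¹ * (a * b)⁻¹ = u * a * u⁻¹ * ((u * b * u⁻¹ * b⁻¹) * a⁻¹) := by group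
    _ = u * a * u⁻¹ * (c * a⁻¹) := by rw [hc]
    _ = u * a * u⁻¹ * (a⁻¹ * c) := by rw [h1]
    _ = (u * a * u⁻¹ * a⁻¹) * c := by group

theorem comm_pow_right (u e : G) (he : u * e * u⁻¹ * e⁻¹ ∈ Subgroup.center G) (k : ℕ) :
    u * e ^ k * u⁻¹ * (e ^ k)⁻¹ = (u * e * u⁻¹ * e⁻¹) ^ k := by
  induction k with
  | zero => simp
  | succ k ih =>
    rw [pow_succ, comm_mul u (e ^ k) e he, ih, pow_succ]

theorem comm_pow_left (x e : G) (he : x * e * x⁻¹ * e⁻¹ ∈ Subgroup.center G) (k : ℕ) :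
    x ^ k * e * (x ^ k)⁻¹ * e⁻¹ = (x * e * x⁻¹ * e⁻¹) ^ k := by
  obtain ⟨c, hc⟩ : ∃ c, c = x * e * x⁻¹ * e⁻¹ := ⟨_, rfl⟩
  rw [← hc] at he ⊢
  have h0 : x * e * x⁻¹ = c * e := by rw [hc]; group
  induction k with
  | zero => simp
  | succ k ih =>
    have h1 : x ^ k * e * (x ^ k)⁻¹ = c ^ k * e := by rw [← ih]; group
    have h2 := Subgroup.mem_center_iff.mp (Subgroup.pow_mem _ he k) x
    calc x ^ (k + 1) * e * (x ^ (k + 1))⁻¹ * e⁻¹
        = x * (x ^ k * e * (x ^ k)⁻¹) * x⁻¹ * e⁻¹ := by rw [pow_succ']; group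
      _ = x * (c ^ k * e) * x⁻¹ * e⁻¹ := by rw [h1]
      _ = (x * c ^ k) * e * x⁻¹ * e⁻¹ := by group
      _ = (c ^ k * x) * e * x⁻¹ * e⁻¹ := by rw [h2]
      _ = c ^ k * (x * e * x⁻¹) * e⁻¹ := by group
      _ = c ^ k * (c * e) * e⁻¹ := by rw [h0]
      _ = c ^ (k + 1) := by rw [pow_succ]; group

/-- If the commutator of `x` with `e` is central, is killed by `r`, and `x` has order prime to
`r`, then `x` and `e` commute. -/
theorem comm_eq_one_of_coprime (x e : G) (he : x * e * x⁻¹ * e⁻¹ ∈ Subgroup.center G) (r : ℕ)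
    (hr : (x * e * x⁻¹ * e⁻¹) ^ r = 1) (hcop : Nat.Coprime (orderOf x) r) :
    x * e * x⁻¹ * e⁻¹ = 1 := by
  have h1 := comm_pow_left x e he (orderOf x)
  rw [pow_orderOf_eq_one] at h1
  have h2 : (x * e * x⁻¹ * e⁻¹) ^ orderOf x = 1 := by
    rw [← h1]; group
  have h3 : orderOf (x * e * x⁻¹ * e⁻¹) ∣ orderOf x := orderOf_dvd_of_pow_eq_one h2
  have h4 : orderOf (x * e * x⁻¹ * e⁻¹) ∣ r := orderOf_dvd_of_pow_eq_one hr
  exact orderOf_eq_one_iff.mp (Nat.eq_one_of_dvd_coprimes hcop h3 h4)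

end Commutators

section FittingCenter

variable {G : Type*} [Group G]

/-- The key step for the nondegeneracy of the fixed-point subspace: an element `u` of the
preimage `E₀` of `C_W(x)` which centralizes `E₀` centralizes the whole preimage `E` of `W`. -/
theorem commute_of_fitting (W : Subgroup (G ⧸ Subgroup.center G)) [Finite W] [hWn : W.Normal]
    (hWc : ∀ a ∈ W, ∀ b ∈ W, a * b = b * a) (x : G)
    (hcop : Nat.Coprime (orderOf (QuotientGroup.mk x : G ⧸ Subgroup.center G)) (Nat.card W))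
    (u : G) (hu : (QuotientGroup.mk u : G ⧸ Subgroup.center G) ∈ W)
    (hux : x * u * x⁻¹ * u⁻¹ ∈ Subgroup.center G)
    (hu0 : ∀ e : G, (QuotientGroup.mk e : G ⧸ Subgroup.center G) ∈ W →
      x * e * x⁻¹ * e⁻¹ ∈ Subgroup.center G → u * e = e * u)
    (e : G) (he : (QuotientGroup.mk e : G ⧸ Subgroup.center G) ∈ W) : u * e = e * u := by
  have hfZ : ∀ g : G, (QuotientGroup.mk g : G ⧸ Subgroup.center G) = 1 ↔ g ∈ Subgroup.center G :=
    fun g => QuotientGroup.eq_one_iff g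
  have hcommE : ∀ a b : G, (QuotientGroup.mk a : G ⧸ Subgroup.center G) ∈ W →
      (QuotientGroup.mk b : G ⧸ Subgroup.center G) ∈ W →
      a * b * a⁻¹ * b⁻¹ ∈ Subgroup.center G := by
    intro a b ha hb
    rw [← hfZ, QuotientGroup.mk_mul, QuotientGroup.mk_mul, QuotientGroup.mk_mul,
      QuotientGroup.mk_inv, QuotientGroup.mk_inv, hWc _ ha _ hb]
    group
  have hnorm : ∀ w ∈ W, (QuotientGroup.mk x : G ⧸ Subgroup.center G) * w *
      (QuotientGroup.mk x : G ⧸ Subgroup.center G)⁻¹ ∈ W := fun w hw => hWn.conj_mem w hw _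
  obtain ⟨w₀, hw₀, v, hv, hfix, hdec⟩ := fitting_decomp W hWc _ hnorm hcop _ he
  obtain ⟨e₀, rfl⟩ := QuotientGroup.mk_surjective w₀
  obtain ⟨g, rfl⟩ := QuotientGroup.mk_surjective v
  have he₀x : x * e₀ * x⁻¹ * e₀⁻¹ ∈ Subgroup.center G := by
    rw [← hfZ, QuotientGroup.mk_mul, QuotientGroup.mk_mul, QuotientGroup.mk_mul,
      QuotientGroup.mk_inv, QuotientGroup.mk_inv, hfix, mul_inv_cancel]
  have h1 : u * e₀ = e₀ * u := hu0 e₀ hw₀ he₀x
  -- the remaining central factor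
  have hz : (e₀ * (x * g * x⁻¹ * g⁻¹))⁻¹ * e ∈ Subgroup.center G := by
    rw [← QuotientGroup.eq, hdec]
    simp only [QuotientGroup.mk_mul, QuotientGroup.mk_inv]
  obtain ⟨z, hzdef⟩ : ∃ z, z = (e₀ * (x * g * x⁻¹ * g⁻¹))⁻¹ * e := ⟨_, rfl⟩
  rw [← hzdef] at hz
  have hez : e = e₀ * (x * g * x⁻¹ * g⁻¹) * z := by rw [hzdef]; group
  have h2 : u * z = z * u := Subgroup.mem_center_iff.mp hz u
  -- invariance under `x`
  have hxg : (QuotientGroup.mk (x * g * x⁻¹) : G ⧸ Subgroup.center G) ∈ W := by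
    rw [QuotientGroup.mk_mul, QuotientGroup.mk_mul, QuotientGroup.mk_inv]
    exact hnorm _ hv
  have hA : u * (x * g * x⁻¹) * u⁻¹ * (x * g * x⁻¹)⁻¹ ∈ Subgroup.center G :=
    hcommE u (x * g * x⁻¹) hu hxg
  have hB : u * g * u⁻¹ * g⁻¹ ∈ Subgroup.center G := hcommE u g hu hv
  obtain ⟨c₁, hc₁⟩ : ∃ c₁, c₁ = x * u * x⁻¹ * u⁻¹ := ⟨_, rfl⟩
  rw [← hc₁] at hux
  have hc₁inv : c₁⁻¹ ∈ Subgroup.center G := Subgroup.inv_mem _ hux
  have h3 : x⁻¹ * u * x = c₁⁻¹ * u := by
    have hc := Subgroup.mem_center_iff.mp hc₁inv x⁻¹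
    calc x⁻¹ * u * x = (x⁻¹ * c₁⁻¹) * (x * u * x⁻¹ * u⁻¹) * u * x := by rw [← hc₁]; group
      _ = (c₁⁻¹ * x⁻¹) * (x * u * x⁻¹ * u⁻¹) * u * x := by rw [hc]
      _ = c₁⁻¹ * u := by group
  have hAB : u * (x * g * x⁻¹) * u⁻¹ * (x * g * x⁻¹)⁻¹ = u * g * u⁻¹ * g⁻¹ := by
    obtain ⟨A, hAdef⟩ : ∃ A, A = u * (x * g * x⁻¹) * u⁻¹ * (x * g * x⁻¹)⁻¹ := ⟨_, rfl⟩
    rw [← hAdef] at hA ⊢
    have h4 : x⁻¹ * A * x = A := by
      have := Subgroup.mem_center_iff.mp hA x
      calc x⁻¹ * A * x = x⁻¹ * (A * x) := by group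
        _ = x⁻¹ * (x * A) := by rw [this]
        _ = A := by group
    have h5 : x⁻¹ * A * x = (x⁻¹ * u * x) * g * (x⁻¹ * u * x)⁻¹ * g⁻¹ := by
      rw [hAdef]; group
    rw [h3] at h5
    have hc := Subgroup.mem_center_iff.mp hc₁inv (u * g * u⁻¹)
    calc A = c₁⁻¹ * u * g * (c₁⁻¹ * u)⁻¹ * g⁻¹ := by rw [← h4, h5]
      _ = (c₁⁻¹ * (u * g * u⁻¹)) * c₁ * g⁻¹ := by group
      _ = ((u * g * u⁻¹) * c₁⁻¹) * c₁ * g⁻¹ := by rw [hc]
      _ = u * g * u⁻¹ * g⁻¹ := by group
  -- `u` commutes with the commutator `x g x⁻¹ g⁻¹`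
  have h6 : u * (x * g * x⁻¹ * g⁻¹) = (x * g * x⁻¹ * g⁻¹) * u := by
    obtain ⟨c, hcdef⟩ : ∃ c, c = u * g * u⁻¹ * g⁻¹ := ⟨_, rfl⟩
    rw [← hcdef] at hB hAB
    have e1 : u * (x * g * x⁻¹) = c * (x * g * x⁻¹) * u := by rw [← hAB]; group
    have e2 : u * g⁻¹ = g⁻¹ * c⁻¹ * u := by rw [hcdef]; group
    have hc := Subgroup.mem_center_iff.mp (Subgroup.inv_mem _ hB) (c * (x * g * x⁻¹) * g⁻¹)
    calc u * (x * g * x⁻¹ * g⁻¹) = (u * (x * g * x⁻¹)) * g⁻¹ := by group
      _ = c * (x * g * x⁻¹) * (u * g⁻¹) := by rw [e1]; group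
      _ = c * (x * g * x⁻¹) * (g⁻¹ * c⁻¹ * u) := by rw [e2]
      _ = (c * (x * g * x⁻¹) * g⁻¹ * c⁻¹) * u := by group
      _ = (c⁻¹ * (c * (x * g * x⁻¹) * g⁻¹)) * u := by rw [hc]
      _ = (x * g * x⁻¹ * g⁻¹) * u := by group
  rw [hez]
  calc u * (e₀ * (x * g * x⁻¹ * g⁻¹) * z) = (u * e₀) * (x * g * x⁻¹ * g⁻¹) * z := by group
    _ = e₀ * (u * (x * g * x⁻¹ * g⁻¹)) * z := by rw [h1]; group
    _ = e₀ * (x * g * x⁻¹ * g⁻¹) * (u * z) := by rw [h6]; group
    _ = e₀ * (x * g * x⁻¹ * g⁻¹) * z * u := by rw [h2]; group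

end FittingCenter

section Central

variable {G : Type u} [Group G] [Fintype G]

/-- In a quasi-primitive faithful situation every normal abelian subgroup is central. -/
theorem le_center_of_normal_abelian {χ : G → ℂ} (hχ : IsIrrCharacter G χ)
    (hfaith : ∀ g : G, χ g = χ 1 → g = 1)
    (hQP : ∀ (N : Subgroup G) [N.Normal] [Fintype N] (ϑ : N → ℂ), IsIrrCharacter N ϑ →
      classInner (fun n : N => χ n) ϑ ≠ 0 → inertia N ϑ = ⊤)
    (A : Subgroup G) [hAn : A.Normal] (hA : ∀ a ∈ A, ∀ b ∈ A, a * b = b * a) :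
    A ≤ Subgroup.center G := by
  classical
  letI : Fintype A := Fintype.ofFinite A
  letI := irrFintype (G := A)
  have hχA : IsCharacter A (fun a : A => χ a) :=
    isCharacter_restrict A (isCharacter_of_isIrrCharacter hχ)
  have hne : (fun a : A => χ a) ≠ 0 := fun h =>
    Cfsg.Agent.Helper23.irr_one_ne_zero χ hχ (congrFun h 1)
  obtain ⟨lam, hlam, hcon⟩ := exists_constituent hχA hne
  have hT := hQP A lam hlam hcon
  have hinv : ∀ g : G, Cfsg.Agent.Helper5.conjFun A g lam = lam := fun g =>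
    (mem_inertia A lam g).mp (hT ▸ Subgroup.mem_top g)
  obtain ⟨e, he0, hee, he⟩ := restrict_eq_smul_of_invariant A hχ hlam hinv hcon
  have hcomm : ∀ a b : A, a * b = b * a := fun a b => Subtype.ext (hA a a.2 b b.2)
  have hlam1 : lam 1 = 1 := by
    rw [irr_one_eq_charDegree hlam, charDegree_eq_one_of_comm hcomm hlam]
    simp
  have hmul : ∀ a b : A, lam (a * b) = lam a * lam b := by
    intro a b
    have ha : a ∈ Subgroup.center A := by
      rw [Subgroup.mem_center_iff]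
      intro g
      exact hcomm g a
    have := Cfsg.Agent.Helper23.irr_central_mul lam hlam a ha b
    rw [this, hlam1, div_one]
  intro a ha
  rw [Subgroup.mem_center_iff]
  intro g
  obtain ⟨a', ha'⟩ : ∃ a' : A, a' = ⟨a, ha⟩ := ⟨_, rfl⟩
  obtain ⟨ga, hga⟩ : ∃ ga : A, ga = ⟨g * a * g⁻¹, hAn.conj_mem a ha g⟩ := ⟨_, rfl⟩
  have h1 : lam ga = lam a' := by
    have := congrFun (hinv g) a'
    rw [Cfsg.Agent.Helper5.conjFun_apply] at this
    rw [hga, ← this, ha']
  have hb : lam (ga * a'⁻¹) = 1 := by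
    rw [hmul, h1, ← hmul, mul_inv_cancel, hlam1]
  have hχb : χ ((ga * a'⁻¹ : A) : G) = χ 1 := by
    have e1 := congrFun he (ga * a'⁻¹)
    have e2 := congrFun he 1
    simp only [Pi.smul_apply, smul_eq_mul] at e1 e2
    have e3 : χ 1 = χ ((1 : A) : G) := rfl
    rw [e3, e1, e2, hb, hlam1]
  have h2 := hfaith _ hχb
  have h3 : ((ga * a'⁻¹ : A) : G) = g * a * g⁻¹ * a⁻¹ := by
    rw [hga, ha']; rfl
  rw [h3] at h2
  calc g * a = (g * a * g⁻¹ * a⁻¹) * a * g := by group
    _ = a * g := by rw [h2, one_mul]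

/-- Central type: if `H ≥ Z(G)` has `[H,H] ≤ Z(G)` and centre `Z(G)`, then every irreducible
constituent of the restriction of a faithful irreducible character to `H` has degree squared equal
to `|H : Z(G)|`. -/
theorem sq_degree_eq_relIndex {χ : G → ℂ} (hχ : IsIrrCharacter G χ)
    (hfaith : ∀ g : G, χ g = χ 1 → g = 1) (H : Subgroup G) [Fintype H]
    (hcomm : ∀ a ∈ H, ∀ b ∈ H, a * b * a⁻¹ * b⁻¹ ∈ Subgroup.center G)
    (hcen : ∀ u ∈ H, (∀ e ∈ H, u * e = e * u) → u ∈ Subgroup.center G)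
    {φ : H → ℂ} (hφ : IsIrrCharacter H φ) (hcon : classInner (fun h : H => χ h) φ ≠ 0) :
    charDegree φ ^ 2 = (Subgroup.center G).relIndex H := by
  classical
  have hφ1 : φ 1 ≠ 0 := Cfsg.Agent.Helper23.irr_one_ne_zero φ hφ
  have hχ1 : χ 1 ≠ 0 := Cfsg.Agent.Helper23.irr_one_ne_zero χ hχ
  have hcenH : ∀ c : H, (c : G) ∈ Subgroup.center G → c ∈ Subgroup.center H := by
    intro c hc
    rw [Subgroup.mem_center_iff]
    intro g
    apply Subtype.ext
    exact Subgroup.mem_center_iff.mp hc g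
  have hK : ∀ c : H, (c : G) ∈ Subgroup.center G → c ≠ 1 → φ c ≠ φ 1 := by
    intro c hc hc1 heq
    have h1 : ∀ h : H, φ (c * h) = φ h := by
      intro h
      rw [Cfsg.Agent.Helper23.irr_central_mul φ hφ c (hcenH c hc) h, heq, div_self hφ1, one_mul]
    have h2 : ∀ h : H, χ ((c * h : H) : G) = χ c / χ 1 * χ h := by
      intro h
      exact Cfsg.Agent.Helper23.irr_central_mul χ hχ c hc h
    have h3 : ∑ h : H, χ h * conj (φ h) = (χ c / χ 1) * ∑ h : H, χ h * conj (φ h) := by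
      rw [Finset.mul_sum]
      rw [← Equiv.sum_comp (Equiv.mulLeft c) (fun h : H => χ h * conj (φ h))]
      apply Finset.sum_congr rfl
      intro h _
      simp only [Equiv.coe_mulLeft]
      rw [h1, h2]; ring
    have hS : ∑ h : H, χ h * conj (φ h) ≠ 0 := by
      intro h0
      apply hcon
      unfold classInner
      rw [h0, mul_zero]
    have h4 : (χ c / χ 1 - 1) * ∑ h : H, χ h * conj (φ h) = 0 := by
      linear_combination -h3
    rcases mul_eq_zero.mp h4 with h | h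
    · have h5 : χ c = χ 1 := (div_eq_one_iff_eq hχ1).mp (sub_eq_zero.mp h)
      exact hc1 (Subtype.ext (hfaith c h5))
    · exact hS h
  have hv : ∀ y : H, y ∉ (Subgroup.center G).subgroupOf H → φ y = 0 := by
    intro y hy
    have hy' : (y : G) ∉ Subgroup.center G := fun h => hy (Subgroup.mem_subgroupOf.mpr h)
    have hex : ∃ e ∈ H, (y : G) * e ≠ e * y := by
      by_contra hcon'
      push Not at hcon'
      exact hy' (hcen y y.2 hcon')
    obtain ⟨e, he, hne⟩ := hex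
    obtain ⟨e', he'⟩ : ∃ e' : H, e' = ⟨e, he⟩ := ⟨_, rfl⟩
    obtain ⟨c, hcdef⟩ : ∃ c : H, c = e' * y * e'⁻¹ * y⁻¹ := ⟨_, rfl⟩
    have hcval : (c : G) = e * y * e⁻¹ * (y : G)⁻¹ := by rw [hcdef, he']; rfl
    have hcZ : (c : G) ∈ Subgroup.center G := by rw [hcval]; exact hcomm e he y y.2
    have hc1 : c ≠ 1 := by
      intro h
      apply hne
      have h5 : e * (y : G) * e⁻¹ * (y : G)⁻¹ = 1 := by rw [← hcval, h]; rfl
      calc (y : G) * e = (e * (y : G) * e⁻¹ * (y : G)⁻¹)⁻¹ * e * y := by group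
        _ = e * y := by rw [h5, inv_one, one_mul]
    have h1 : φ (e' * y * e'⁻¹) = φ y := isClassFunction_of_isIrrCharacter hφ y e'
    have h2 : e' * y * e'⁻¹ = c * y := by rw [hcdef]; group
    rw [h2, Cfsg.Agent.Helper23.irr_central_mul φ hφ c (hcenH c hcZ) y] at h1
    have h3 : φ c / φ 1 ≠ 1 := fun h => hK c hcZ hc1 ((div_eq_one_iff_eq hφ1).mp h)
    have h4 : (φ c / φ 1 - 1) * φ y = 0 := by linear_combination h1
    rcases mul_eq_zero.mp h4 with h | h
    · exact absurd (sub_eq_zero.mp h) h3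
    · exact h
  letI : Fintype ((Subgroup.center G).subgroupOf H) := Fintype.ofFinite _
  have hle : (Subgroup.center G).subgroupOf H ≤ Subgroup.center H := by
    intro z hz
    exact hcenH z (Subgroup.mem_subgroupOf.mp hz)
  exact sq_degree_of_vanish_off_central _ hle hφ hv

/-- The quasi-primitive case of Winter's theorem. -/
theorem good_of_quasiPrimitive [Group.IsSolvable G] {p : ℕ} [hpf : Fact p.Prime] {χ : G → ℂ}
    (hχ : IsIrrCharacter G χ) (hfaith : ∀ g : G, χ g = χ 1 → g = 1) (P : Sylow p G)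
    (hP : ¬ (P : Subgroup G).Normal)
    (hTop : ∀ M : Subgroup G, M.Normal → (P : Subgroup G) ≤ M → M = ⊤)
    (hQP : ∀ (N : Subgroup G) [N.Normal] [Fintype N] (ϑ : N → ℂ), IsIrrCharacter N ϑ →
      classInner (fun n : N => χ n) ϑ ≠ 0 → inertia N ϑ = ⊤) :
    Good p (charDegree χ) := by
  classical
  have hp := hpf.out
  have hZtop : Subgroup.center G ≠ ⊤ := by
    intro h
    apply hP
    constructor
    intro n hn g
    have h1 : g * n = n * g := Subgroup.mem_center_iff.mp (h ▸ Subgroup.mem_top n) g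
    rw [h1]
    simpa using hn
  haveI : Nontrivial (G ⧸ Subgroup.center G) := by
    obtain ⟨g, hg⟩ : ∃ g : G, g ∉ Subgroup.center G := by
      by_contra h
      push Not at h
      exact hZtop (eq_top_iff.mpr (fun g _ => h g))
    exact ⟨⟨QuotientGroup.mk g, 1, fun h => hg ((QuotientGroup.eq_one_iff g).mp h)⟩⟩
  obtain ⟨W, hWn, hW1, hWmin⟩ :=
    Cfsg.Agent.Helper3.exists_minimal_normal (G := G ⧸ Subgroup.center G)
  haveI := hWn
  have hWc := Cfsg.Agent.Helper3.commute_of_minimal_normal W hW1 hWmin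
  obtain ⟨r, d, hr, hd, hcard, hexp⟩ :=
    Cfsg.Agent.Helper3.card_eq_prime_pow_of_minimal_normal W hW1 hWmin hWc
  obtain ⟨f, hfdef⟩ : ∃ f : G →* G ⧸ Subgroup.center G, f = QuotientGroup.mk' (Subgroup.center G) :=
    ⟨_, rfl⟩
  have hf : Function.Surjective f := by rw [hfdef]; exact QuotientGroup.mk'_surjective _
  have hker : f.ker = Subgroup.center G := by rw [hfdef]; exact QuotientGroup.ker_mk' _
  have hfmk : ∀ g : G, f g = (QuotientGroup.mk g : G ⧸ Subgroup.center G) := fun g => by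
    rw [hfdef]; rfl
  have hfZ : ∀ g : G, f g = 1 ↔ g ∈ Subgroup.center G := fun g => by
    rw [hfmk]; exact QuotientGroup.eq_one_iff g
  obtain ⟨E, hEdef⟩ : ∃ E : Subgroup G, E = W.comap f := ⟨_, rfl⟩
  have hEmem : ∀ e : G, e ∈ E ↔ f e ∈ W := fun e => by rw [hEdef]; rfl
  haveI hEn : E.Normal := by rw [hEdef]; exact hWn.comap f
  have hcommE : ∀ a ∈ E, ∀ b ∈ E, a * b * a⁻¹ * b⁻¹ ∈ Subgroup.center G := by
    intro a ha b hb
    rw [← hfZ, map_mul, map_mul, map_mul, map_inv, map_inv,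
      hWc (f a) ((hEmem a).mp ha) (f b) ((hEmem b).mp hb)]
    group
  have hcenE : ∀ u ∈ E, (∀ e ∈ E, u * e = e * u) → u ∈ Subgroup.center G := by
    intro u hu hue
    have hAc : ∀ a ∈ E ⊓ Subgroup.centralizer (E : Set G),
        ∀ b ∈ E ⊓ Subgroup.centralizer (E : Set G), a * b = b * a := by
      intro a ha b hb
      exact Subgroup.mem_centralizer_iff.mp hb.2 a ha.1
    have h1 := le_center_of_normal_abelian hχ hfaith hQP
      (E ⊓ Subgroup.centralizer (E : Set G)) hAc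
    have h2 : u ∈ Subgroup.centralizer (E : Set G) :=
      Subgroup.mem_centralizer_iff.mpr (fun e he => (hue e he).symm)
    exact h1 ⟨hu, h2⟩
  have hrel : ∀ W' : Subgroup (G ⧸ Subgroup.center G),
      (Subgroup.center G).relIndex (W'.comap f) = Nat.card W' := by
    intro W'
    have h1 : Subgroup.center G = (⊥ : Subgroup (G ⧸ Subgroup.center G)).comap f :=
      hker.symm.trans (MonoidHom.comap_bot f).symm
    have h2 := congrArg (fun K : Subgroup G => K.relIndex (Subgroup.comap f W')) h1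
    refine h2.trans ?_
    show ((⊥ : Subgroup (G ⧸ Subgroup.center G)).comap f).relIndex (Subgroup.comap f W') = _
    rw [Subgroup.relIndex_comap, Subgroup.map_comap_eq_self_of_surjective hf,
      Subgroup.relIndex_bot_left]
  have hrelE : (Subgroup.center G).relIndex E = r ^ d := by rw [hEdef, hrel W, hcard]
  have hχ1 : χ 1 ≠ 0 := Cfsg.Agent.Helper23.irr_one_ne_zero χ hχ
  -- a constituent of the restriction to `E`
  letI : Fintype E := Fintype.ofFinite E
  letI := irrFintype (G := E)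
  have hχE : IsCharacter E (fun e : E => χ e) :=
    isCharacter_restrict E (isCharacter_of_isIrrCharacter hχ)
  have hneE : (fun e : E => χ e) ≠ 0 := fun h => hχ1 (congrFun h 1)
  obtain ⟨φ, hφ, hconφ⟩ := exists_constituent hχE hneE
  have hdvdφ : charDegree φ ∣ charDegree χ :=
    (dvd_mul_left _ _).trans (index_mul_degree_dvd E hχ hφ hconφ)
  have hsq : charDegree φ ^ 2 = r ^ d :=
    (sq_degree_eq_relIndex hχ hfaith E hcommE hcenE hφ hconφ).trans hrelE
  obtain ⟨m, hm, hφm⟩ := (Nat.dvd_prime_pow hr).mp (Dvd.intro_left (charDegree φ) (by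
    rw [← hsq]; ring) : charDegree φ ∣ r ^ d)
  have hd2 : d = 2 * m := by
    rw [hφm, ← pow_mul] at hsq
    have := Nat.pow_right_injective hr.two_le hsq
    omega
  have hm0 : 0 < m := by omega
  have hrm : r ^ m ∣ charDegree χ := hφm ▸ hdvdφ
  by_cases hrp : r = p
  · exact good_of_prime_dvd hp (hrp ▸ (dvd_pow_self r hm0.ne').trans hrm)
  -- elements of `P` have order prime to `r`
  have hcopx : ∀ x ∈ (P : Subgroup G), ∀ j : ℕ, Nat.Coprime (orderOf x) (r ^ j) := by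
    intro x hx j
    obtain ⟨k, hk⟩ := P.2 ⟨x, hx⟩
    have h1 : x ^ (p ^ k) = 1 := congrArg Subtype.val hk
    have h2 : orderOf x ∣ p ^ k := orderOf_dvd_of_pow_eq_one h1
    have h3 : Nat.Coprime (p ^ k) (r ^ j) :=
      Nat.Coprime.pow k j ((Nat.coprime_primes hp hr).mpr (Ne.symm hrp))
    exact Nat.Coprime.coprime_dvd_left h2 h3
  have hex : ∃ x ∈ (P : Subgroup G), ∃ e ∈ E, x * e * x⁻¹ * e⁻¹ ∉ Subgroup.center G := by
    by_contra hcon
    push Not at hcon
    have hPC : (P : Subgroup G) ≤ Subgroup.centralizer (E : Set G) := by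
      intro x hx
      rw [Subgroup.mem_centralizer_iff]
      intro e he
      have hc := hcon x hx e he
      have hr1 : (x * e * x⁻¹ * e⁻¹) ^ r = 1 := by
        rw [← comm_pow_right x e hc r]
        have her : e ^ r ∈ Subgroup.center G := by
          rw [← hfZ, map_pow]
          exact hexp (f e) ((hEmem e).mp he)
        have h5 := Subgroup.mem_center_iff.mp her x
        rw [h5]; group
      have hcop : Nat.Coprime (orderOf x) r := by
        have := hcopx x hx 1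
        rwa [pow_one] at this
      have h1 := comm_eq_one_of_coprime x e hc r hr1 hcop
      calc e * x = (x * e * x⁻¹ * e⁻¹)⁻¹ * x * e := by group
        _ = x * e := by rw [h1, inv_one, one_mul]
    have hCtop := hTop _ inferInstance hPC
    have hEZ : E ≤ Subgroup.center G := by
      intro e he
      rw [Subgroup.mem_center_iff]
      intro g
      have hg : g ∈ Subgroup.centralizer (E : Set G) := hCtop ▸ Subgroup.mem_top g
      exact (Subgroup.mem_centralizer_iff.mp hg e he).symm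
    apply hW1
    rw [eq_bot_iff]
    intro w hw
    obtain ⟨e, rfl⟩ := hf w
    rw [Subgroup.mem_bot, hfZ]
    exact hEZ ((hEmem e).mpr hw)
  obtain ⟨x, hxP, e₁, he₁, hxe⟩ := hex
  obtain ⟨W₀, hW₀def⟩ : ∃ W₀ : Subgroup (G ⧸ Subgroup.center G),
      W₀ = W ⊓ Subgroup.centralizer {f x} := ⟨_, rfl⟩
  obtain ⟨E₀, hE₀def⟩ : ∃ E₀ : Subgroup G, E₀ = W₀.comap f := ⟨_, rfl⟩
  have hE₀mem : ∀ e : G, e ∈ E₀ ↔ (e ∈ E ∧ x * e * x⁻¹ * e⁻¹ ∈ Subgroup.center G) := by
    intro e
    rw [hE₀def, hW₀def, Subgroup.mem_comap, Subgroup.mem_inf, ← hEmem,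
      Subgroup.mem_centralizer_iff, ← hfZ]
    simp only [Set.mem_singleton_iff, forall_eq, map_mul, map_inv]
    rw [mul_inv_eq_one, mul_inv_eq_iff_eq_mul]
  have hW₀W : W₀ ≤ W := by rw [hW₀def]; exact inf_le_left
  have hW₀ne : W₀ ≠ W := by
    intro h
    have h1 : f e₁ ∈ W₀ := h ▸ (hEmem e₁).mp he₁
    have h2 : e₁ ∈ E₀ := by rw [hE₀def]; exact h1
    exact hxe ((hE₀mem e₁).mp h2).2
  have hW₀dvd : Nat.card W₀ ∣ r ^ d := hcard ▸ Subgroup.card_dvd_of_le hW₀W
  obtain ⟨j, hjd, hj⟩ := (Nat.dvd_prime_pow hr).mp hW₀dvd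
  have hjlt : j < d := by
    rcases lt_or_eq_of_le hjd with h | h
    · exact h
    · exact absurd (Subgroup.eq_of_le_of_card_ge hW₀W (by rw [hj, hcard, h])) hW₀ne
  have hE₀E : E₀ ≤ E := fun e he => ((hE₀mem e).mp he).1
  have hcommE₀ : ∀ a ∈ E₀, ∀ b ∈ E₀, a * b * a⁻¹ * b⁻¹ ∈ Subgroup.center G :=
    fun a ha b hb => hcommE a (hE₀E ha) b (hE₀E hb)
  have hordfx : orderOf (f x) ∣ orderOf x := orderOf_map_dvd f x
  have hcopfx : Nat.Coprime (orderOf (QuotientGroup.mk x : G ⧸ Subgroup.center G))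
      (Nat.card W) := by
    rw [← hfmk, hcard]
    exact Nat.Coprime.coprime_dvd_left hordfx (hcopx x hxP d)
  have hcenE₀ : ∀ u ∈ E₀, (∀ e ∈ E₀, u * e = e * u) → u ∈ Subgroup.center G := by
    intro u hu hue
    apply hcenE u (hE₀E hu)
    intro e he
    refine commute_of_fitting W hWc x hcopfx u ?_ ((hE₀mem u).mp hu).2 ?_ e ?_
    · rw [← hfmk]; exact (hEmem u).mp (hE₀E hu)
    · intro e' he' hxe'
      apply hue e'
      rw [hE₀mem]
      refine ⟨?_, hxe'⟩
      rw [hEmem, hfmk]; exact he'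
    · rw [← hfmk]; exact (hEmem e).mp he
  -- a constituent of the restriction to `E₀`
  letI : Fintype E₀ := Fintype.ofFinite E₀
  letI := irrFintype (G := E₀)
  have hχE₀ : IsCharacter E₀ (fun e : E₀ => χ e) :=
    isCharacter_restrict E₀ (isCharacter_of_isIrrCharacter hχ)
  have hneE₀ : (fun e : E₀ => χ e) ≠ 0 := fun h => hχ1 (congrFun h 1)
  obtain ⟨φ₀, hφ₀, hconφ₀⟩ := exists_constituent hχE₀ hneE₀
  have hrelE₀ : (Subgroup.center G).relIndex E₀ = r ^ j := by rw [hE₀def, hrel W₀, hj]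
  have hsq₀ : charDegree φ₀ ^ 2 = r ^ j :=
    (sq_degree_eq_relIndex hχ hfaith E₀ hcommE₀ hcenE₀ hφ₀ hconφ₀).trans hrelE₀
  obtain ⟨c, hc, hφc⟩ := (Nat.dvd_prime_pow hr).mp (Dvd.intro_left (charDegree φ₀) (by
    rw [← hsq₀]; ring) : charDegree φ₀ ∣ r ^ j)
  have hj2 : j = 2 * c := by
    rw [hφc, ← pow_mul] at hsq₀
    have := Nat.pow_right_injective hr.two_le hsq₀
    omega
  have hcm : c < m := by omega
  -- fixed-point counting
  have hQp : IsPGroup p (Subgroup.zpowers (f x)) := by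
    have h1 : IsPGroup p (Subgroup.zpowers x) :=
      P.2.to_le ((Subgroup.zpowers_le).mpr hxP)
    have h2 := h1.map f
    rwa [MonoidHom.map_zpowers] at h2
  have hmod := card_modEq_card_inf_centralizer (p := p) W (Subgroup.zpowers (f x)) hQp
  have hcz : Subgroup.centralizer ((Subgroup.zpowers (f x) : Subgroup _) : Set _) =
      Subgroup.centralizer {f x} := by
    rw [Subgroup.zpowers_eq_closure, Subgroup.centralizer_closure]
  rw [hcz, ← hW₀def, hcard, hj, hd2, hj2] at hmod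
  exact good_of_sq_pow_modEq hp hr hrp hcm hmod hrm

end Central

section Main

/-- **Winter's theorem**: a finite solvable group with a faithful irreducible character of degree
`n` and a non-normal Sylow `p`-subgroup has `n` divisible by a prime power `q ≡ 0, ±1 (mod p)`. -/
theorem winter_main (p : ℕ) [hpf : Fact p.Prime] : ∀ (k : ℕ) (G : Type u) [Group G] [Finite G],
    Nat.card G = k → Group.IsSolvable G → WinterFor p G := by
  intro k
  induction k using Nat.strong_induction_on with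
  | _ k IH =>
    intro G _ _ hk hsolv ψ hψ hfaith P hP
    haveI := hsolv
    letI : Fintype G := Fintype.ofFinite G
    by_cases h1 : ∃ M : Subgroup G, M.Normal ∧ M ≠ ⊤ ∧ (P : Subgroup G) ≤ M
    · obtain ⟨M, hMn, hMtop, hPM⟩ := h1
      haveI := hMn
      apply good_of_le_normal hψ hfaith P hP M hPM
      intro K _
      have hlt : Nat.card (M ⧸ K) < k := by
        have h1 : Nat.card (M ⧸ K) ≤ Nat.card M :=
          Nat.le_of_dvd Nat.card_pos (Subgroup.card_quotient_dvd_card K)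
        have h2 : Nat.card M < Nat.card G := by
          by_contra h
          push Not at h
          exact hMtop (Subgroup.eq_top_of_le_card M h)
        omega
      exact IH _ hlt (M ⧸ K) rfl inferInstance
    · push Not at h1
      have hTop : ∀ M : Subgroup G, M.Normal → (P : Subgroup G) ≤ M → M = ⊤ :=
        fun M hM hPM => by_contra (fun h => h1 M hM h hPM)
      by_cases h2 : ∃ (N : Subgroup G) (hN : N.Normal) (ϑ : N → ℂ), IsIrrCharacter N ϑ ∧
          @classInner N _ (Fintype.ofFinite N) (fun n : N => ψ n) ϑ ≠ 0 ∧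
          @inertia G _ N hN ϑ ≠ ⊤
      · obtain ⟨N, hN, ϑ, hϑ, hcon, hT⟩ := h2
        haveI := hN
        letI : Fintype N := Fintype.ofFinite N
        exact good_of_not_invariant hpf.out P P.2 hTop N hψ hϑ hcon hT
      · push Not at h2
        apply good_of_quasiPrimitive hψ hfaith P hP hTop
        intro N hN instN ϑ hϑ hcon
        have hinst := Subsingleton.elim instN (Fintype.ofFinite N)
        subst hinst
        exact h2 N hN ϑ hϑ hcon

end Main

end Cfsg.Agent.Helper18.Winter
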